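import Cfsg.Agent.Mrg.Omega.NSix.Match
import Cfsg.Agent.Mrg.Omega.S5.Def
import Cfsg.Agent.Mrg.Omega.S5.Syl
import Cfsg.Agent.Lib.SylowNormalInf
import Mathlib
import Cfsg.Agent.MinSimple.Basic
import Cfsg.Agent.Mrg.Omega.Assembly

section


/-!
# The matching lemma inside a group (OMEGA N6, bb #14103, APPLICATION)

`V` is the even-subset module of degree `2 ^ m + 1 ≥ 9` of `P ≥ S` (labels `ε`, `S` fixes the label 0), `Y ≥ V` is
elementary abelian and normal in `P`, `S ∩ C(V)` centralises `Y` and `C_Y(S) = ⟨z_0⟩`.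

* `cen` : `C_P(V)` centralises `Y`;
* `mem` : an element of `Y` which commutes with all elements of `P` fixing the sets `A` (`|A| = 2 ^ (m - 1)`) and
  `e` (a pair disjoint from `A`) lies in `V`.
-/

set_option autoImplicit false
set_option linter.dupNamespace false

namespace Cfsg.Agent.Omega.NSix.MatchApp

open Subgroup Pointwise Cfsg.Agent Cfsg.Agent.Omega.S5.Def Cfsg.Agent.Omega.S5.Syl Cfsg.Agent.Omega.NSix.Match

universe u

/-! ### An odd group normalised by a 2-group -/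

section coprime

variable {Y : Type u} [CommGroup Y] [Finite Y]

/-- `R ≤ Aut(Y)` of odd order is normalised by the 2-group `T`, and the fixed points of `T` are fixed by `R`:
then `R = 1`. -/
theorem fix_all (hsq : ∀ y : Y, y * y = 1) (R T : Subgroup (MulAut Y)) (hR : ¬ 2 ∣ Nat.card R) (hT : IsPGroup 2 T)
    (hn : ∀ t ∈ T, ∀ r ∈ R, t * r * t⁻¹ ∈ R)
    (hfix : ∀ y : Y, (∀ t ∈ T, t y = y) → ∀ r ∈ R, r y = y) : ∀ r ∈ R, ∀ y : Y, r y = y := by
  classical
  have hf : Fact (Nat.Prime 2) := ⟨Nat.prime_two⟩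
  have : Fintype Y := Fintype.ofFinite Y
  have : Finite (MulAut Y) := Finite.of_injective (fun f : MulAut Y => (f : Y → Y)) fun f g h =>
    MulEquiv.ext fun y => congrFun h y
  have : Fintype R := Fintype.ofFinite R
  let ν : Y →* Y :=
    { toFun := fun y => ∏ r : R, (r : MulAut Y) y
      map_one' := by simp
      map_mul' := fun x y => by simp [Finset.prod_mul_distrib] }
  have hνR : ∀ y : Y, ∀ r ∈ R, r (ν y) = ν y := by
    intro y r hr
    change r (∏ s : R, (s : MulAut Y) y) = ∏ s : R, (s : MulAut Y) y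
    rw [map_prod]
    exact Fintype.prod_equiv (Equiv.mulLeft (⟨r, hr⟩ : R)) _ _ fun s => rfl
  have hνfix : ∀ y : Y, (∀ r ∈ R, r y = y) → ν y = y := by
    intro y hy
    change ∏ r : R, (r : MulAut Y) y = y
    rw [Finset.prod_congr rfl (fun (r : R) _ => hy (r : MulAut Y) r.2), Finset.prod_const, Finset.card_univ,
      ← Nat.card_eq_fintype_card]
    obtain ⟨k, hk⟩ := Nat.odd_iff.mpr (Nat.two_dvd_ne_zero.mp hR)
    rw [hk, pow_succ, pow_mul, pow_two, hsq, one_pow, one_mul]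
  have hνT : ∀ t ∈ T, ∀ y : Y, ν (t y) = t (ν y) := by
    intro t ht y
    change ∏ r : R, (r : MulAut Y) (t y) = t (∏ r : R, (r : MulAut Y) y)
    rw [map_prod]
    have hn' : ∀ r ∈ R, t⁻¹ * r * t ∈ R := by
      intro r hr
      have := hn t⁻¹ (T.inv_mem ht) r hr
      rwa [inv_inv] at this
    refine Fintype.prod_equiv
      { toFun := fun r : R => (⟨t⁻¹ * r * t, hn' r r.2⟩ : R)
        invFun := fun r : R => (⟨t * r * t⁻¹, hn t ht r r.2⟩ : R)
        left_inv := fun r => Subtype.ext (by simp [mul_assoc])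
        right_inv := fun r => Subtype.ext (by simp [mul_assoc]) } _ _ fun r => ?_
    change (r : MulAut Y) (t y) = t ((t⁻¹ * r * t) y)
    rw [← MulAut.mul_apply, ← MulAut.mul_apply]
    congr 1
    group
  have hinj : Function.Injective ν := by
    rw [injective_iff_map_eq_one]
    by_contra h0
    push Not at h0
    obtain ⟨y0, hy0, hy01⟩ := h0
    let act : MulAction T ν.ker :=
      { smul := fun t y => ⟨(t : MulAut Y) y, by
          rw [MonoidHom.mem_ker, hνT t t.2]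
          have h1 : ν y = 1 := y.2
          rw [h1, map_one]⟩
        one_smul := fun y => rfl
        mul_smul := fun s t y => rfl }
    have hker : 2 ∣ Nat.card ν.ker := by
      have h1 : orderOf (⟨y0, hy0⟩ : ν.ker) ∣ Nat.card ν.ker := orderOf_dvd_natCard _
      have h2 : orderOf (⟨y0, hy0⟩ : ν.ker) = 2 := by
        apply orderOf_eq_prime
        · rw [pow_two]
          exact Subtype.ext (hsq y0)
        · intro h
          exact hy01 (congrArg Subtype.val h)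
      rwa [h2] at h1
    have h1 : (1 : ν.ker) ∈ MulAction.fixedPoints T ν.ker := by
      intro t
      exact Subtype.ext (map_one (t : MulAut Y))
    obtain ⟨w, hw, hw1⟩ := hT.exists_fixed_point_of_prime_dvd_card_of_fixed_point ν.ker hker h1
    have h2 : ∀ t ∈ T, t (w : Y) = w := fun t ht => congrArg Subtype.val (hw ⟨t, ht⟩)
    have h3 := hνfix w (hfix w h2)
    have h4 : ν w = 1 := w.2
    exact hw1 (Subtype.ext (h4.symm.trans h3))
  have hsurj : Function.Surjective ν := Finite.surjective_of_injective hinj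
  intro r hr y
  obtain ⟨x, rfl⟩ := hsurj y
  exact hνR x r hr

end coprime

variable {G : Type u} [Group G]

/-- `Y` for `P`, `S`, `V`, `ε`. -/
structure Big (S P V Y : Subgroup G) {m : ℕ} (ε : (Fin (2 ^ m + 1) → ZMod 2) → G) : Prop where
  ev : EvenSet (2 ^ m + 1) V P ε
  fix0 : Fix0 ε S
  le : S ≤ P
  comm : ∀ y ∈ Y, ∀ y' ∈ Y, y * y' = y' * y
  sq : ∀ y ∈ Y, y * y = 1
  ge : V ≤ Y
  nrm : ∀ g ∈ P, ∀ y ∈ Y, g * y * g⁻¹ ∈ Y
  syl : ∀ s ∈ S, s ∈ centralizer (V : Set G) → s ∈ centralizer (Y : Set G)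
  fixed : ∀ y ∈ Y, (∀ s ∈ S, s * y = y * s) → y = 1 ∨ y = ε (Pi.single 0 1)

namespace Big

variable {S P V Y : Subgroup G} {m : ℕ} {ε : (Fin (2 ^ m + 1) → ZMod 2) → G} (h : Big S P V Y ε)
include h

theorem inv_nrm {g : G} (hg : g ∈ P) {y : G} (hy : y ∈ Y) : g⁻¹ * y * g ∈ Y := by
  have h1 := h.nrm g⁻¹ (P.inv_mem hg) y hy
  rwa [inv_inv] at h1

/-- `P` acts on `Y`. -/
noncomputable def cjY : P →* MulAut Y where
  toFun g :=
    { toFun := fun y => ⟨g * y * (g : G)⁻¹, h.nrm g g.2 y y.2⟩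
      invFun := fun y => ⟨(g : G)⁻¹ * y * g, h.inv_nrm g.2 y.2⟩
      left_inv := fun y => Subtype.ext (by simp [mul_assoc])
      right_inv := fun y => Subtype.ext (by simp [mul_assoc])
      map_mul' := fun x y => Subtype.ext (by simp [mul_assoc]) }
  map_one' := MulEquiv.ext fun y => Subtype.ext (by simp)
  map_mul' a b := MulEquiv.ext fun y => Subtype.ext (by simp [mul_assoc])

theorem cjY_apply (g : P) (y : Y) : ((h.cjY g y : Y) : G) = g * y * (g : G)⁻¹ := rfl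

/-- `C_P(V)` centralises `Y`. -/
theorem cen [Finite G] (hS2 : ¬ 2 ∣ S.relIndex P) (hS : IsPGroup 2 S) {g : G} (hg : g ∈ P)
    (hgV : g ∈ centralizer (V : Set G)) : g ∈ centralizer (Y : Set G) := by
  have hf : Fact (Nat.Prime 2) := ⟨Nat.prime_two⟩
  letI : CommGroup Y := { (inferInstance : Group Y) with mul_comm := fun a b => Subtype.ext (h.comm a a.2 b b.2) }
  have hVn : P ≤ normalizer (V : Set G) := h.ev.le_normalizer
  let K : Subgroup P := (P ⊓ centralizer (V : Set G)).subgroupOf P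
  have hKn : K.Normal := by
    constructor
    rintro k ⟨-, hk⟩ g
    refine ⟨(g * k * g⁻¹).2, ?_⟩
    replace hk : ∀ v ∈ V, v * (k : G) = k * v := mem_centralizer_iff.mp hk
    change ((g * k * g⁻¹ : P) : G) ∈ centralizer (V : Set G)
    rw [mem_centralizer_iff]
    intro v hv
    have h1 : (g : G)⁻¹ * v * g ∈ V := by
      have := (mem_normalizer_iff.mp (hVn (P.inv_mem g.2)) v).mp hv
      rwa [inv_inv] at this
    have h2 := hk _ h1
    change v * (g * k * (g : G)⁻¹) = g * k * (g : G)⁻¹ * v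
    calc v * (g * k * (g : G)⁻¹) = g * ((g : G)⁻¹ * v * g * k) * (g : G)⁻¹ := by group
      _ = g * (k * ((g : G)⁻¹ * v * g)) * (g : G)⁻¹ := by rw [h2]
      _ = _ := by group
  have hS' : IsPGroup 2 (S.subgroupOf P) := hS.comap_of_injective _ P.subtype_injective
  have hSi : ¬ 2 ∣ (S.subgroupOf P).index := hS2
  have h1 : ¬ 2 ∣ (S.subgroupOf P).relIndex K :=
    Lib.SylowNormalInf.not_dvd_relIndex (hS'.toSylow hSi) K
  have hker : S.subgroupOf P ⊓ K ≤ h.cjY.ker := by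
    rintro s ⟨hs, -, hk⟩
    rw [MonoidHom.mem_ker]
    refine MulEquiv.ext fun y => Subtype.ext ?_
    have h2 := h.syl s hs hk
    rw [mem_centralizer_iff] at h2
    rw [h.cjY_apply, ← h2 y y.2, mul_inv_cancel_right]
    rfl
  have hR : ¬ 2 ∣ Nat.card (K.map h.cjY) := by
    rw [← relIndex_ker]
    intro h2
    apply h1
    rw [← inf_relIndex_right]
    exact h2.trans (relIndex_dvd_of_le_left K hker)
  have key := fix_all (Y := Y) (fun y => Subtype.ext (h.sq y y.2)) (K.map h.cjY)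
    ((S.subgroupOf P).map h.cjY) hR (hS'.map _) (by
      rintro _ ⟨t, -, rfl⟩ _ ⟨r, hr, rfl⟩
      rw [← map_inv, ← map_mul, ← map_mul]
      exact ⟨_, hKn.conj_mem r hr t, rfl⟩) (by
      rintro y hy _ ⟨r, ⟨-, hr⟩, rfl⟩
      have h2 : ∀ s ∈ S, s * (y : G) = y * s := by
        intro s hs
        have h3 := congrArg Subtype.val (hy _ ⟨⟨s, h.le hs⟩, hs, rfl⟩)
        rw [h.cjY_apply] at h3
        change s * (y : G) * s⁻¹ = y at h3
        rw [mul_inv_eq_iff_eq_mul] at h3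
        exact h3
      have h3 : (y : G) ∈ V := by
        rcases h.fixed y y.2 h2 with h4 | h4
        · rw [h4]
          exact V.one_mem
        · rw [h4]
          exact h.ev.mem _
      replace hr : ∀ v ∈ V, v * (r : G) = r * v := mem_centralizer_iff.mp hr
      refine Subtype.ext ?_
      have h5 := hr _ h3
      rw [h.cjY_apply, ← h5, mul_inv_cancel_right])
  rw [mem_centralizer_iff]
  intro y hy
  have h2 := congrArg Subtype.val (key _ ⟨⟨g, hg⟩, ⟨hg, hgV⟩, rfl⟩ ⟨y, hy⟩)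
  rw [h.cjY_apply] at h2
  change g * y * g⁻¹ = y at h2
  rw [mul_inv_eq_iff_eq_mul] at h2
  exact h2.symm

/-- `x` and `y` induce the same permutation: they act in the same way on `Y`. -/
theorem act_eq [Finite G] (hS2 : ¬ 2 ∣ S.relIndex P) (hS : IsPGroup 2 S) {g k : G} (hg : g ∈ P) (hk : k ∈ P)
    {σ : Equiv.Perm (Fin (2 ^ m + 1))} (hgσ : Acts ε g σ) (hkσ : Acts ε k σ) {y : G} (hy : y ∈ Y) :
    g * y * g⁻¹ = k * y * k⁻¹ := by
  have h1 := h.cen hS2 hS (P.mul_mem (P.inv_mem hk) hg) (h.ev.mem_centralizer_of_acts hgσ hkσ)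
  have h2 := mem_centralizer_iff.mp h1 y hy
  calc g * y * g⁻¹ = k * (k⁻¹ * g * y) * g⁻¹ := by group
    _ = k * (y * (k⁻¹ * g)) * g⁻¹ := by rw [h2]
    _ = _ := by group

/-- The matching lemma for `Y`. -/
theorem mem [Finite G] (hm : 3 ≤ m) (hS2 : ¬ 2 ∣ S.relIndex P) (hS : IsPGroup 2 S)
    {A e : Finset (Fin (2 ^ m + 1))} (hA : A.card = 2 ^ (m - 1)) (he : e.card = 2) (hd : Disjoint e A)
    {x : G} (hxY : x ∈ Y)
    (hx : ∀ g ∈ P, ∀ σ : Equiv.Perm (Fin (2 ^ m + 1)), Acts ε g σ → σ • A = A → σ • e = e → g * x * g⁻¹ = x) :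
    x = 1 ∨ x = ε (ind A) ∨ x = ε (ind e) ∨ x = ε (ind A) * ε (ind e) := by
  have hf : Fact (Nat.Prime 2) := ⟨Nat.prime_two⟩
  have hn : 3 ≤ 2 ^ m + 1 := three_le (by omega)
  letI : CommGroup Y := { (inferInstance : Group Y) with mul_comm := fun a b => Subtype.ext (h.comm a a.2 b b.2) }
  -- the action of the symmetric group
  choose f hfP hfA using h.ev.full
  let act : DistribMulAction (Equiv.Perm (Fin (2 ^ m + 1))) (Additive Y) :=
    { smul := fun σ y => Additive.ofMul ⟨f σ * (y.toMul : G) * (f σ)⁻¹, h.nrm _ (hfP σ) _ y.toMul.2⟩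
      one_smul := fun y => by
        refine congrArg Additive.ofMul (Subtype.ext ?_)
        have h1 := h.act_eq hS2 hS (hfP 1) P.one_mem (hfA 1) Acts.one y.toMul.2
        rw [one_mul, inv_one, mul_one] at h1
        exact h1
      mul_smul := fun σ τ y => by
        refine congrArg Additive.ofMul (Subtype.ext ?_)
        have h1 := h.act_eq hS2 hS (hfP (σ * τ)) (P.mul_mem (hfP σ) (hfP τ)) (hfA (σ * τ))
          ((hfA σ).mul (hfA τ)) y.toMul.2
        refine h1.trans ?_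
        change f σ * f τ * (y.toMul : G) * (f σ * f τ)⁻¹ = f σ * (f τ * (y.toMul : G) * (f τ)⁻¹) * (f σ)⁻¹
        group
      smul_zero := fun σ => by
        refine congrArg Additive.ofMul (Subtype.ext ?_)
        change f σ * (1 : G) * (f σ)⁻¹ = 1
        group
      smul_add := fun σ x y => by
        refine congrArg Additive.ofMul (Subtype.ext ?_)
        change f σ * ((x.toMul : G) * (y.toMul : G)) * (f σ)⁻¹ =
          f σ * (x.toMul : G) * (f σ)⁻¹ * (f σ * (y.toMul : G) * (f σ)⁻¹)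
        group }
  have hact : ∀ (σ : Equiv.Perm (Fin (2 ^ m + 1))) (y : Additive Y),
      (((σ • y).toMul : Y) : G) = f σ * (y.toMul : G) * (f σ)⁻¹ := fun _ _ => rfl
  let ι : (Fin (2 ^ m + 1) → ZMod 2) → Additive Y := fun v => Additive.ofMul ⟨ε v, h.ge (h.ev.mem v)⟩
  have hι : ∀ v, (((ι v).toMul : Y) : G) = ε v := fun _ => rfl
  have hext : ∀ {x y : Additive Y}, ((x.toMul : Y) : G) = ((y.toMul : Y) : G) → x = y := by
    intro x y hxy
    exact congrArg Additive.ofMul (Subtype.ext hxy)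
  have hM : Mod ι :=
    { two := fun y => hext (h.sq _ y.toMul.2)
      add := fun u v => hext (h.ev.add u v)
      act := fun σ v => hext ((hfA σ) v)
      ker := fun v => by
        rw [← h.ev.ker v]
        exact ⟨fun h1 => congrArg (fun w : Additive Y => (w.toMul : G)) h1, fun h1 => hext h1⟩ }
  -- the Sylow 2-subgroup
  let π := h.ev.hom hn
  have hS' : IsPGroup 2 ((S.subgroupOf P).map π) := (hS.comap_of_injective _ P.subtype_injective).map _
  have hSi : ¬ 2 ∣ ((S.subgroupOf P).map π).index :=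
    fun h2 => hS2 (h2.trans (index_map_dvd _ (h.ev.hom_surjective hn)))
  have hmain := matching_lemma hM hm (by rw [Fintype.card_fin]) (hS'.toSylow hSi) (by
    intro o ho y hy
    have ho0 : o = 0 := by
      by_contra hne
      have hcard : ({0, o} : Finset (Fin (2 ^ m + 1))).card < (Finset.univ : Finset (Fin (2 ^ m + 1))).card := by
        rw [Finset.card_univ, Fintype.card_fin]
        exact lt_of_le_of_lt Finset.card_le_two (by omega)
      obtain ⟨j, -, hj⟩ := Finset.exists_mem_notMem_of_card_lt_card hcard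
      simp only [Finset.mem_insert, Finset.mem_singleton, not_or] at hj
      obtain ⟨s, hs, σ, hσ, hσo⟩ := trans (by omega) h.ev h.le hS2 h.fix0 hne hj.1
      have h4 : σ ∈ (((hS'.toSylow hSi : Sylow 2 _)) : Subgroup (Equiv.Perm (Fin (2 ^ m + 1)))) :=
        ⟨⟨s, h.le hs⟩, hs, h.ev.hom_eq hn hσ⟩
      rw [ho σ h4] at hσo
      exact hj.2 hσo.symm
    subst ho0
    have h1 : ∀ s ∈ S, s * ((y.toMul : Y) : G) = (y.toMul : Y) * s := by
      intro s hs
      obtain ⟨σ, hσ⟩ := h.ev.perm s (h.le hs)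
      have h4 : σ ∈ (((hS'.toSylow hSi : Sylow 2 _)) : Subgroup (Equiv.Perm (Fin (2 ^ m + 1)))) :=
        ⟨⟨s, h.le hs⟩, hs, h.ev.hom_eq hn hσ⟩
      have h5 := congrArg (fun w : Additive Y => (w.toMul : G)) (hy σ h4)
      change f σ * ((y.toMul : Y) : G) * (f σ)⁻¹ = _ at h5
      rw [h.act_eq hS2 hS (hfP σ) (h.le hs) (hfA σ) hσ y.toMul.2, mul_inv_eq_iff_eq_mul] at h5
      exact h5
    have hind : (ind ({0} : Finset (Fin (2 ^ m + 1)))) = Pi.single 0 1 := by
      funext i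
      by_cases hi : i = 0
      · subst hi
        simp [ind]
      · simp [ind, hi]
    rcases h.fixed _ y.toMul.2 h1 with h2 | h2
    · left
      exact hext h2
    · right
      rw [hind]
      exact hext h2) hA he hd (x := Additive.ofMul ⟨x, hxY⟩) (by
    intro σ h1 h2
    exact hext (hx _ (hfP σ) σ (hfA σ) h1 h2))
  have hval : ∀ {w : Additive Y}, Additive.ofMul (⟨x, hxY⟩ : Y) = w → x = ((w.toMul : Y) : G) :=
    fun {w} hw => congrArg (fun w : Additive Y => (w.toMul : G)) hw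
  rcases hmain with h1 | h1 | h1 | h1
  · left
    exact hval h1
  · right; left
    exact hval h1
  · right; right; left
    exact hval h1
  · right; right; right
    exact hval h1

end Big

end Cfsg.Agent.Omega.NSix.MatchApp

end

section


/-!
# OMEGA N6, bb #13864 (A3): an equivariant homomorphism fixed by `W` and `T`

`V_n ≤ A`, `A` abelian, `V_n` of exponent 2 and not trivial; the 2-groups `W`, `T` and the group `E` act on `A` by
conjugation, `E` and `T` normalise `V_n`, `T` normalises `E` and `W`, and `W` commutes with `E` on `A`.  Then there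
is a non-trivial homomorphism `φ : V_n → A` which commutes with `E` and `T` and whose image is centralised by `W`.
-/

set_option autoImplicit false

namespace Cfsg.Agent.Omega.NSix.FixHom

open Subgroup

universe u

variable {G : Type u} [Group G]

/-- The homomorphisms `V_n → A` which commute with `E`, as functions on `G` which are 1 outside `V_n`. -/
def homs (Vn A E : Subgroup G) (hA : ∀ a ∈ A, ∀ b ∈ A, a * b = b * a) : Subgroup (G → G) where
  carrier := {f | (∀ v ∈ Vn, f v ∈ A) ∧ (∀ v, v ∉ Vn → f v = 1) ∧ (∀ v ∈ Vn, ∀ w ∈ Vn, f (v * w) = f v * f w) ∧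
    ∀ e ∈ E, ∀ v ∈ Vn, f (e * v * e⁻¹) = e * f v * e⁻¹}
  one_mem' := by
    refine ⟨fun v _ => A.one_mem, fun v _ => rfl, fun v _ w _ => ?_, fun e _ v _ => ?_⟩
    · exact (one_mul (1 : G)).symm
    · change (1 : G) = e * 1 * e⁻¹
      group
  mul_mem' := by
    rintro f g ⟨f1, f2, f3, f4⟩ ⟨g1, g2, g3, g4⟩
    refine ⟨fun v hv => A.mul_mem (f1 v hv) (g1 v hv), fun v hv => ?_, fun v hv w hw => ?_, fun e he v hv => ?_⟩
    · change f v * g v = 1
      rw [f2 v hv, g2 v hv, one_mul]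
    · change f (v * w) * g (v * w) = f v * g v * (f w * g w)
      rw [f3 v hv w hw, g3 v hv w hw]
      calc f v * f w * (g v * g w) = f v * (f w * g v) * g w := by group
        _ = f v * (g v * f w) * g w := by rw [hA _ (f1 w hw) _ (g1 v hv)]
        _ = _ := by group
    · change f (e * v * e⁻¹) * g (e * v * e⁻¹) = e * (f v * g v) * e⁻¹
      rw [f4 e he v hv, g4 e he v hv]
      group
  inv_mem' := by
    rintro f ⟨f1, f2, f3, f4⟩
    refine ⟨fun v hv => A.inv_mem (f1 v hv), fun v hv => ?_, fun v hv w hw => ?_, fun e he v hv => ?_⟩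
    · change (f v)⁻¹ = 1
      rw [f2 v hv, inv_one]
    · change (f (v * w))⁻¹ = (f v)⁻¹ * (f w)⁻¹
      rw [f3 v hv w hw, hA _ (f1 v hv) _ (f1 w hw), mul_inv_rev]
    · change (f (e * v * e⁻¹))⁻¹ = e * (f v)⁻¹ * e⁻¹
      rw [f4 e he v hv]
      group

/-- A 2-group acting on a group of even order, by maps fixing 1, has a fixed point different from 1. -/
theorem exists_fixed {X : Type u} [Group X] [Finite X] {T : Type u} [Group T] (hT : IsPGroup 2 T)
    (act : MulAction T X) (h1 : ∀ t : T, t • (1 : X) = 1) (h2 : 2 ∣ Nat.card X) :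
    ∃ x : X, x ≠ 1 ∧ ∀ t : T, t • x = x := by
  have hf : Fact (Nat.Prime 2) := ⟨Nat.prime_two⟩
  obtain ⟨w, hw, hw1⟩ := hT.exists_fixed_point_of_prime_dvd_card_of_fixed_point X h2 (a := (1 : X)) h1
  exact ⟨w, fun h => hw1 h.symm, hw⟩

theorem two_dvd {X : Type u} [Group X] [Finite X] {x : X} (hx : x ≠ 1) (hx2 : x * x = 1) : 2 ∣ Nat.card X := by
  have hf : Fact (Nat.Prime 2) := ⟨Nat.prime_two⟩
  have h1 : orderOf x ∣ Nat.card X := orderOf_dvd_natCard _
  have h2 : orderOf x = 2 := by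
    apply orderOf_eq_prime
    · rwa [pow_two]
    · exact hx
  rwa [h2] at h1

variable [Finite G]

theorem exists_hom {Vn A E W T : Subgroup G} (hVA : Vn ≤ A) (hne : Vn ≠ ⊥)
    (hA : ∀ a ∈ A, ∀ b ∈ A, a * b = b * a) (hsq : ∀ a ∈ A, a * a = 1)
    (hW : IsPGroup 2 W) (hT : IsPGroup 2 T)
    (hEV : ∀ e ∈ E, ∀ v ∈ Vn, e * v * e⁻¹ ∈ Vn) (hTV : ∀ t ∈ T, ∀ v ∈ Vn, t * v * t⁻¹ ∈ Vn)
    (hWA : ∀ w ∈ W, ∀ a ∈ A, w * a * w⁻¹ ∈ A)
    (hTA : ∀ t ∈ T, ∀ a ∈ A, t * a * t⁻¹ ∈ A) (hTW : ∀ t ∈ T, ∀ w ∈ W, t * w * t⁻¹ ∈ W)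
    (hTE : ∀ t ∈ T, ∀ e ∈ E, t * e * t⁻¹ ∈ E)
    (hWE : ∀ w ∈ W, ∀ e ∈ E, ∀ a ∈ A, w * (e * a * e⁻¹) * w⁻¹ = e * (w * a * w⁻¹) * e⁻¹) :
    ∃ φ : G → G, (∀ v ∈ Vn, φ v ∈ A) ∧ (∀ v ∈ Vn, ∀ w ∈ Vn, φ (v * w) = φ v * φ w) ∧
      (∃ v ∈ Vn, φ v ≠ 1) ∧ (∀ w ∈ W, ∀ v ∈ Vn, w * φ v * w⁻¹ = φ v) ∧
      ∀ g ∈ E ⊔ T, ∀ v ∈ Vn, g * v * g⁻¹ ∈ Vn ∧ φ (g * v * g⁻¹) = g * φ v * g⁻¹ := by
  classical
  have hf : Fact (Nat.Prime 2) := ⟨Nat.prime_two⟩
  let H := homs Vn A E hA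
  have hfin : Finite (G → G) := inferInstance
  -- the inclusion
  let ι : G → G := fun v => if v ∈ Vn then v else 1
  have hι : ∀ v ∈ Vn, ι v = v := fun v hv => if_pos hv
  have hιH : ι ∈ H := by
    refine ⟨fun v hv => ?_, fun v hv => if_neg hv, fun v hv w hw => ?_, fun e he v hv => ?_⟩
    · rw [hι v hv]
      exact hVA hv
    · rw [hι v hv, hι w hw, hι _ (Vn.mul_mem hv hw)]
    · rw [hι v hv, hι _ (hEV e he v hv)]
  have hι1 : ι ≠ 1 := by
    intro h0
    apply hne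
    rw [eq_bot_iff]
    intro v hv
    rw [mem_bot, ← hι v hv, h0]
    rfl
  have hsqH : ∀ f ∈ H, f * f = 1 := by
    rintro f ⟨f1, f2, -, -⟩
    funext v
    change f v * f v = 1
    by_cases hv : v ∈ Vn
    · exact hsq _ (f1 v hv)
    · rw [f2 v hv, one_mul]
  have hcard : 2 ∣ Nat.card H := two_dvd (x := (⟨ι, hιH⟩ : H)) (fun h => hι1 (congrArg Subtype.val h))
    (Subtype.ext (hsqH ι hιH))
  -- the action of `W`
  have hWH : ∀ w ∈ W, ∀ f ∈ H, (fun v => w * f v * w⁻¹) ∈ H := by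
    rintro w hw f ⟨f1, f2, f3, f4⟩
    refine ⟨fun v hv => hWA w hw _ (f1 v hv), fun v hv => ?_, fun v hv v' hv' => ?_, fun e he v hv => ?_⟩
    · change w * f v * w⁻¹ = 1
      rw [f2 v hv]
      group
    · change w * f (v * v') * w⁻¹ = w * f v * w⁻¹ * (w * f v' * w⁻¹)
      rw [f3 v hv v' hv']
      group
    · change w * f (e * v * e⁻¹) * w⁻¹ = e * (w * f v * w⁻¹) * e⁻¹
      rw [f4 e he v hv]
      exact hWE w hw e he _ (f1 v hv)
  let actW : MulAction W H :=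
    { smul := fun w f => ⟨fun v => w * (f : G → G) v * (w : G)⁻¹, hWH w w.2 f f.2⟩
      one_smul := fun f => Subtype.ext (funext fun v => by
        change (1 : G) * (f : G → G) v * (1 : G)⁻¹ = (f : G → G) v
        group)
      mul_smul := fun w w' f => Subtype.ext (funext fun v => by
        change ((w : G) * w') * (f : G → G) v * ((w : G) * w')⁻¹ = w * (w' * (f : G → G) v * (w' : G)⁻¹) * (w : G)⁻¹
        group) }
  obtain ⟨f0, hf01, hf0W⟩ := exists_fixed hW actW (fun w => Subtype.ext (funext fun v => by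
        change (w : G) * (1 : G) * (w : G)⁻¹ = 1
        group)) hcard
  -- the fixed points of `W`
  let H1 : Subgroup (G → G) :=
    { carrier := {f | f ∈ H ∧ ∀ w ∈ W, ∀ v, w * f v * w⁻¹ = f v}
      one_mem' := ⟨H.one_mem, fun w _ v => by
        change w * (1 : G) * w⁻¹ = 1
        group⟩
      mul_mem' := fun {f g} hf hg => ⟨H.mul_mem hf.1 hg.1, fun w hw v => by
        change w * (f v * g v) * w⁻¹ = f v * g v
        calc w * (f v * g v) * w⁻¹ = w * f v * w⁻¹ * (w * g v * w⁻¹) := by group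
          _ = _ := by rw [hf.2 w hw v, hg.2 w hw v]⟩
      inv_mem' := fun {f} hf => ⟨H.inv_mem hf.1, fun w hw v => by
        change w * (f v)⁻¹ * w⁻¹ = (f v)⁻¹
        calc w * (f v)⁻¹ * w⁻¹ = (w * f v * w⁻¹)⁻¹ := by group
          _ = _ := by rw [hf.2 w hw v]⟩ }
  have hf0 : (f0 : G → G) ∈ H1 := ⟨f0.2, fun w hw v => congrFun (congrArg Subtype.val (hf0W ⟨w, hw⟩)) v⟩
  have hcard1 : 2 ∣ Nat.card H1 := two_dvd (x := (⟨f0, hf0⟩ : H1))
    (fun h => hf01 (Subtype.ext (congrArg (fun x : H1 => (x : G → G)) h))) (Subtype.ext (hsqH f0 f0.2))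
  have hTV' : ∀ t ∈ T, ∀ v, v ∉ Vn → t * v * t⁻¹ ∉ Vn := by
    intro t ht v hv h1
    apply hv
    have h2 := hTV t⁻¹ (T.inv_mem ht) _ h1
    have h3 : t⁻¹ * (t * v * t⁻¹) * t⁻¹⁻¹ = v := by group
    rwa [h3] at h2
  have hTH : ∀ t ∈ T, ∀ f ∈ H1, (fun v => t * f (t⁻¹ * v * t) * t⁻¹) ∈ H1 := by
    rintro t ht f ⟨⟨f1, f2, f3, f4⟩, f5⟩
    have hti : ∀ v ∈ Vn, t⁻¹ * v * t ∈ Vn := by
      intro v hv
      have := hTV t⁻¹ (T.inv_mem ht) v hv
      rwa [inv_inv] at this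
    refine ⟨⟨fun v hv => hTA t ht _ (f1 _ (hti v hv)), fun v hv => ?_, fun v hv v' hv' => ?_, fun e he v hv => ?_⟩,
      fun w hw v => ?_⟩
    · change t * f (t⁻¹ * v * t) * t⁻¹ = 1
      have h1 := hTV' t⁻¹ (T.inv_mem ht) v hv
      rw [inv_inv] at h1
      rw [f2 _ h1]
      group
    · change t * f (t⁻¹ * (v * v') * t) * t⁻¹ = t * f (t⁻¹ * v * t) * t⁻¹ * (t * f (t⁻¹ * v' * t) * t⁻¹)
      have h1 : t⁻¹ * (v * v') * t = (t⁻¹ * v * t) * (t⁻¹ * v' * t) := by group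
      rw [h1, f3 _ (hti v hv) _ (hti v' hv')]
      group
    · change t * f (t⁻¹ * (e * v * e⁻¹) * t) * t⁻¹ = e * (t * f (t⁻¹ * v * t) * t⁻¹) * e⁻¹
      have h1 : t⁻¹ * (e * v * e⁻¹) * t = (t⁻¹ * e * t) * (t⁻¹ * v * t) * (t⁻¹ * e * t)⁻¹ := by group
      have h2 : t⁻¹ * e * t ∈ E := by
        have := hTE t⁻¹ (T.inv_mem ht) e he
        rwa [inv_inv] at this
      rw [h1, f4 _ h2 _ (hti v hv)]
      group
    · change w * (t * f (t⁻¹ * v * t) * t⁻¹) * w⁻¹ = t * f (t⁻¹ * v * t) * t⁻¹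
      have h2 : t⁻¹ * w * t ∈ W := by
        have := hTW t⁻¹ (T.inv_mem ht) w hw
        rwa [inv_inv] at this
      calc w * (t * f (t⁻¹ * v * t) * t⁻¹) * w⁻¹
          = t * ((t⁻¹ * w * t) * f (t⁻¹ * v * t) * (t⁻¹ * w * t)⁻¹) * t⁻¹ := by group
        _ = _ := by rw [f5 _ h2]
  let actT : MulAction T H1 :=
    { smul := fun t f => ⟨fun v => t * (f : G → G) ((t : G)⁻¹ * v * t) * (t : G)⁻¹, hTH t t.2 f f.2⟩
      one_smul := fun f => Subtype.ext (funext fun v => by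
        change (1 : G) * (f : G → G) ((1 : G)⁻¹ * v * 1) * (1 : G)⁻¹ = (f : G → G) v
        rw [inv_one, one_mul, mul_one, one_mul, mul_one])
      mul_smul := fun t t' f => Subtype.ext (funext fun v => by
        change ((t : G) * t') * (f : G → G) (((t : G) * t')⁻¹ * v * ((t : G) * t')) * ((t : G) * t')⁻¹ =
          t * (t' * (f : G → G) ((t' : G)⁻¹ * ((t : G)⁻¹ * v * t) * t') * (t' : G)⁻¹) * (t : G)⁻¹
        have h1 : ((t : G) * t')⁻¹ * v * ((t : G) * t') = (t' : G)⁻¹ * ((t : G)⁻¹ * v * t) * t' := by group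
        rw [h1]
        group) }
  obtain ⟨f, hf1, hfT⟩ := exists_fixed hT actT (fun t => Subtype.ext (funext fun v => by
        change (t : G) * (1 : G) * (t : G)⁻¹ = 1
        group)) hcard1
  obtain ⟨⟨f, ⟨f1, f2, f3, f4⟩, f5⟩, rfl⟩ : ∃ f' : H1, f' = f := ⟨f, rfl⟩
  have hfT' : ∀ t ∈ T, ∀ v, t * f (t⁻¹ * v * t) * t⁻¹ = f v :=
    fun t ht v => congrFun (congrArg Subtype.val (hfT ⟨t, ht⟩)) v
  refine ⟨f, f1, f3, ?_, fun w hw v _ => f5 w hw v, ?_⟩
  · by_contra h0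
    push Not at h0
    apply hf1
    refine Subtype.ext (funext fun v => ?_)
    change f v = 1
    by_cases hv : v ∈ Vn
    · exact h0 v hv
    · exact f2 v hv
  · -- the elements which commute with `f`
    have hnor : ∀ {K : Subgroup G}, (∀ g ∈ K, ∀ v ∈ Vn, g * v * g⁻¹ ∈ Vn) → K ≤ normalizer (Vn : Set G) := by
      intro K hK g hg
      rw [mem_normalizer_iff]
      refine fun v => ⟨hK g hg v, fun hv => ?_⟩
      have h1 := hK g⁻¹ (K.inv_mem hg) _ hv
      have h2 : g⁻¹ * (g * v * g⁻¹) * g⁻¹⁻¹ = v := by group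
      rwa [h2] at h1
    let Q : Subgroup G :=
      { carrier := {g | g ∈ normalizer (Vn : Set G) ∧ ∀ v ∈ Vn, f (g * v * g⁻¹) = g * f v * g⁻¹}
        one_mem' := ⟨one_mem _, fun v _ => by rw [one_mul, inv_one, mul_one, one_mul, mul_one]⟩
        mul_mem' := by
          rintro a b ⟨ha, ha'⟩ ⟨hb, hb'⟩
          refine ⟨mul_mem ha hb, fun v hv => ?_⟩
          have h1 : a * b * v * (a * b)⁻¹ = a * (b * v * b⁻¹) * a⁻¹ := by group
          rw [h1, ha' _ ((mem_normalizer_iff.mp hb v).mp hv), hb' v hv]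
          group
        inv_mem' := by
          rintro a ⟨ha, ha'⟩
          refine ⟨inv_mem ha, fun v hv => ?_⟩
          have h1 := ha' _ ((mem_normalizer_iff.mp (inv_mem ha) v).mp hv)
          have h2 : a * (a⁻¹ * v * a⁻¹⁻¹) * a⁻¹ = v := by group
          rw [h2] at h1
          rw [h1]
          group }
    have hEQ : E ≤ Q := fun e he => ⟨hnor hEV he, f4 e he⟩
    have hTQ : T ≤ Q := by
      intro t ht
      refine ⟨hnor hTV ht, fun v _ => ?_⟩
      have h1 := hfT' t ht (t * v * t⁻¹)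
      have h2 : t⁻¹ * (t * v * t⁻¹) * t = v := by group
      rw [h2] at h1
      exact h1.symm
    intro g hg v hv
    obtain ⟨h1, h2⟩ := sup_le hEQ hTQ hg
    exact ⟨(mem_normalizer_iff.mp h1 v).mp hv, h2 v hv⟩

end Cfsg.Agent.Omega.NSix.FixHom

end

section


/-!
# OMEGA N6, (A3) of #13864: the stabiliser of a pair in the symmetric group

A subgroup of odd index of the stabiliser of `{i, j}` containing all 3-cycles off `{i, j}` is the whole stabiliser.
-/

set_option autoImplicit false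

namespace Cfsg.Agent.Omega.NSix.StabPerm

open Equiv

variable {Ω : Type} [DecidableEq Ω]

/-- The stabiliser of the set `{i, j}`. -/
def St (i j : Ω) : Subgroup (Perm Ω) where
  carrier := {σ | (σ i = i ∧ σ j = j) ∨ (σ i = j ∧ σ j = i)}
  one_mem' := Or.inl ⟨rfl, rfl⟩
  mul_mem' := by
    rintro a b (⟨ha, ha'⟩ | ⟨ha, ha'⟩) (⟨hb, hb'⟩ | ⟨hb, hb'⟩)
    · left
      rw [Perm.mul_apply, Perm.mul_apply, hb, hb']
      exact ⟨ha, ha'⟩
    · right
      rw [Perm.mul_apply, Perm.mul_apply, hb, hb']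
      exact ⟨ha', ha⟩
    · right
      rw [Perm.mul_apply, Perm.mul_apply, hb, hb']
      exact ⟨ha, ha'⟩
    · left
      rw [Perm.mul_apply, Perm.mul_apply, hb, hb']
      exact ⟨ha', ha⟩
  inv_mem' := by
    rintro a (⟨ha, ha'⟩ | ⟨ha, ha'⟩)
    · left
      rw [Perm.inv_eq_iff_eq, Perm.inv_eq_iff_eq]
      exact ⟨ha.symm, ha'.symm⟩
    · right
      rw [Perm.inv_eq_iff_eq, Perm.inv_eq_iff_eq]
      exact ⟨ha'.symm, ha.symm⟩

omit [DecidableEq Ω] in
theorem mem_St {i j : Ω} {σ : Perm Ω} : σ ∈ St i j ↔ (σ i = i ∧ σ j = j) ∨ (σ i = j ∧ σ j = i) := Iff.rfl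

omit [DecidableEq Ω] in
theorem ne_of_mem {i j : Ω} {σ : Perm Ω} (h : σ ∈ St i j) {k : Ω} (hk : k ≠ i ∧ k ≠ j) : σ k ≠ i ∧ σ k ≠ j := by
  rcases h with ⟨h1, h2⟩ | ⟨h1, h2⟩
  · exact ⟨fun h0 => hk.1 (σ.injective (h0.trans h1.symm)), fun h0 => hk.2 (σ.injective (h0.trans h2.symm))⟩
  · exact ⟨fun h0 => hk.2 (σ.injective (h0.trans h2.symm)), fun h0 => hk.1 (σ.injective (h0.trans h1.symm))⟩

/-- A permutation fixing `i` and `j` is a product of transpositions off `{i, j}`. -/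
theorem mem_of_swaps [Finite Ω] {i j : Ω} {H : Subgroup (Perm Ω)}
    (h : ∀ a b, (a ≠ i ∧ a ≠ j) → (b ≠ i ∧ b ≠ j) → a ≠ b → swap a b ∈ H) {σ : Perm Ω} (h1 : σ i = i)
    (h2 : σ j = j) : σ ∈ H := by
  have key : ∀ τ : Perm {x : Ω // x ≠ i ∧ x ≠ j}, Perm.ofSubtype τ ∈ H := by
    intro τ
    induction τ using Perm.swap_induction_on with
    | one =>
      rw [map_one]
      exact H.one_mem
    | swap_mul f x y hxy hf =>
      rw [map_mul, Perm.ofSubtype_swap_eq]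
      exact H.mul_mem (h x y x.2 y.2 fun h0 => hxy (Subtype.ext h0)) hf
  have h3 : ∀ x, x ≠ i ∧ x ≠ j ↔ σ x ≠ i ∧ σ x ≠ j := by
    intro x
    constructor
    · exact fun hx => ne_of_mem (Or.inl ⟨h1, h2⟩) hx
    · rintro ⟨h4, h5⟩
      exact ⟨fun h0 => h4 (by rw [h0, h1]), fun h0 => h5 (by rw [h0, h2])⟩
  have h4 := key (σ.subtypePerm fun x => (h3 x).symm)
  rwa [Perm.ofSubtype_subtypePerm] at h4
  intro x hx
  exact ⟨fun h0 => hx (by rw [h0, h1]), fun h0 => hx (by rw [h0, h2])⟩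

omit [DecidableEq Ω] in
theorem exists_conj [Finite Ω] {K H : Subgroup (Perm Ω)} (hodd : ¬ 2 ∣ H.relIndex K) {τ : Perm Ω}
    (hτ : τ ∈ K) (h2 : τ * τ = 1) : ∃ g ∈ K, g⁻¹ * τ * g ∈ H := by
  have hf : Fact (Nat.Prime 2) := ⟨Nat.prime_two⟩
  have hp : IsPGroup 2 (Subgroup.zpowers (⟨τ, hτ⟩ : K)) := by
    have h1 : (⟨τ, hτ⟩ : K) ^ 2 = 1 := Subtype.ext (by rw [pow_two]; exact h2)
    rintro ⟨x, k, rfl⟩
    refine ⟨1, Subtype.ext ?_⟩
    change ((⟨τ, hτ⟩ : K) ^ k) ^ (2 ^ 1) = 1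
    rw [pow_one, ← zpow_natCast, ← zpow_mul, mul_comm, zpow_mul, zpow_natCast, h1, one_zpow]
  obtain ⟨x, hx⟩ := hp.nonempty_fixed_point_of_prime_not_dvd_card (K ⧸ H.subgroupOf K) (by
    intro h0
    exact hodd h0)
  obtain ⟨g, rfl⟩ := QuotientGroup.mk_surjective x
  refine ⟨g, g.2, ?_⟩
  have h3 := hx ⟨⟨τ, hτ⟩, Subgroup.mem_zpowers _⟩
  change ((((⟨τ, hτ⟩ : K) * g : K)) : K ⧸ H.subgroupOf K) = (g : K ⧸ H.subgroupOf K) at h3
  have h4 := (QuotientGroup.eq.mp h3.symm)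
  rw [Subgroup.mem_subgroupOf] at h4
  have h5 : (((g⁻¹ * (⟨τ, hτ⟩ * g) : K)) : Perm Ω) = (g : Perm Ω)⁻¹ * τ * g := by
    change (g : Perm Ω)⁻¹ * (τ * g) = _
    group
  rwa [h5] at h4

theorem swap_mem_St {i j a b : Ω} (ha : a ≠ i ∧ a ≠ j) (hb : b ≠ i ∧ b ≠ j) : swap a b ∈ St i j :=
  Or.inl ⟨swap_apply_of_ne_of_ne ha.1.symm hb.1.symm, swap_apply_of_ne_of_ne ha.2.symm hb.2.symm⟩

theorem conj_swap (g : Perm Ω) (a b : Ω) : g⁻¹ * swap a b * g = swap (g⁻¹ a) (g⁻¹ b) := by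
  have h1 := Equiv.swap_apply_apply g⁻¹ a b
  rw [h1, inv_inv]

/-- A subgroup of odd index of the stabiliser of `{i, j}` containing all 3-cycles off `{i, j}` is everything. -/
theorem St_le [Finite Ω] {i j k l : Ω} (hk : k ≠ i ∧ k ≠ j) (hl : l ≠ i ∧ l ≠ j) (hkl : k ≠ l)
    {H : Subgroup (Perm Ω)} (hodd : ¬ 2 ∣ H.relIndex (St i j))
    (h3 : ∀ a b c, (a ≠ i ∧ a ≠ j) → (b ≠ i ∧ b ≠ j) → (c ≠ i ∧ c ≠ j) → a ≠ b → b ≠ c → a ≠ c →
      swap a b * swap b c ∈ H) : St i j ≤ H := by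
  have hij : swap i j ∈ H := by
    obtain ⟨g, hg, h1⟩ := exists_conj (K := St i j) (H := H) hodd (τ := swap i j)
      (Or.inr ⟨swap_apply_left i j, swap_apply_right i j⟩) (swap_mul_self i j)
    rw [conj_swap] at h1
    rcases (St i j).inv_mem hg with ⟨h2, h4⟩ | ⟨h2, h4⟩
    · rwa [h2, h4] at h1
    · rwa [h2, h4, swap_comm] at h1
  obtain ⟨g, hg, h1⟩ := exists_conj (K := St i j) (H := H) hodd (swap_mem_St hk hl) (swap_mul_self k l)
  rw [conj_swap] at h1
  have hk' := ne_of_mem ((St i j).inv_mem hg) hk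
  have hl' := ne_of_mem ((St i j).inv_mem hg) hl
  have hkl' : g⁻¹ k ≠ g⁻¹ l := fun h0 => hkl (g⁻¹.injective h0)
  generalize g⁻¹ k = k' at h1 hk' hkl'
  generalize g⁻¹ l = l' at h1 hl' hkl'
  have step : ∀ a b c, (a ≠ i ∧ a ≠ j) → (b ≠ i ∧ b ≠ j) → (c ≠ i ∧ c ≠ j) → a ≠ b → b ≠ c → a ≠ c →
      swap a b ∈ H → swap b c ∈ H := by
    intro a b c ha hb hc hab hbc hac h4
    have h5 := H.mul_mem h4 (h3 a b c ha hb hc hab hbc hac)
    rwa [← mul_assoc, swap_mul_self, one_mul] at h5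
  have hA : ∀ p, (p ≠ i ∧ p ≠ j) → p ≠ k' → swap k' p ∈ H := by
    intro p hp hpk
    by_cases hpl : p = l'
    · rwa [hpl]
    · exact step l' k' p hl' hk' hp hkl'.symm hpk.symm (Ne.symm hpl) (by rwa [swap_comm])
  have hB : ∀ a b, (a ≠ i ∧ a ≠ j) → (b ≠ i ∧ b ≠ j) → a ≠ b → swap a b ∈ H := by
    intro a b ha hb hab
    by_cases hak : a = k'
    · subst hak
      exact hA b hb hab.symm
    by_cases hbk : b = k'
    · subst hbk
      rw [swap_comm]
      exact hA a ha hab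
    exact step k' a b hk' ha hb (Ne.symm hak) hab (Ne.symm hbk) (hA a ha hak)
  intro σ hσ
  rcases hσ with ⟨h4, h5⟩ | ⟨h4, h5⟩
  · exact mem_of_swaps hB h4 h5
  · have h6 : swap i j * σ ∈ H := by
      refine mem_of_swaps hB ?_ ?_
      · rw [Perm.mul_apply, h4, swap_apply_right]
      · rw [Perm.mul_apply, h5, swap_apply_left]
    have h7 := H.mul_mem hij h6
    rwa [← mul_assoc, swap_mul_self, one_mul] at h7

end Cfsg.Agent.Omega.NSix.StabPerm

end

section


/-!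
# OMEGA N6, the action of `C_P(r_ij)` on `O₂(C_G(r_ij))` (#13864 (A1), (A2))

`Hyp V P S W ε i j` : `V` is the even-subset module of degree `2^m + 1`, `m ≥ 2`, for `P ≥ S`, `S` a Sylow
2-subgroup of `G` which fixes the label `0` and induces the transposition `(i j)`; `W` is a 2-subgroup of
`C_G(r_ij)` normalised by `C_G(r_ij)`.

* `relIndex_le` : `|W : W ∩ P| ≤ 2^(m-1)`;
* `exists_cycle` : every 3-cycle of the labels `≠ i, j` is induced by some `e ∈ C_P(r_ij)` with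
  `[W, e] ≤ C_G(V)`;
* `p1` : `[W, v] ≤ C_G(V)` for `v ∈ V0 = ⟨z_k, k ≠ i, j⟩`;
* `p2` : `w ∈ W` commuting with one `r_kl`, `k, l ≠ i, j`, centralises `V0`.
-/

set_option autoImplicit false
set_option linter.dupNamespace false

namespace Cfsg.Agent.Omega.NSix.CosetAct

open Subgroup Cfsg.Agent.Omega.S5.Def Cfsg.Agent.Omega.S5.Syl Cfsg.Agent.Omega.NSix.Base
open Cfsg.Agent.Omega.NSix.Basic

universe u

/-! ### Permutations -/

/-- A group inducing `Sym(Λ)`, `|Λ| = 2^m - 1`, on `Λ` and acting on a set with at most `2^(m-1)` elements: every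
3-cycle on `Λ` is induced by an element acting trivially on the small set. -/
theorem exists_threeCycle {Λ : Type*} [Fintype Λ] [DecidableEq Λ] {A : Type*} [Group A]
    (ψ : A →* Equiv.Perm Λ) (hψ : Function.Surjective ψ) (X : Type*) [Finite X] [MulAction A X] {m : ℕ}
    (hm : 2 ≤ m) (hΛ : Fintype.card Λ = 2 ^ m - 1) (hX : Nat.card X ≤ 2 ^ (m - 1)) {c : Equiv.Perm Λ}
    (hc : c.IsThreeCycle) : ∃ e : A, (∀ x : X, e • x = x) ∧ ψ e = c := by
  classical
  have : Fintype X := Fintype.ofFinite X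
  set K : Subgroup A := (MulAction.toPermHom A X).ker with hK
  set N : Subgroup (Equiv.Perm Λ) := K.map ψ with hN
  have hNn : N.Normal := Subgroup.Normal.map (MonoidHom.normal_ker _) ψ hψ
  have hKi : K.index ∣ (Nat.card X).factorial := by
    rw [hK, Subgroup.index_ker]
    have h1 := Subgroup.card_subgroup_dvd_card (MulAction.toPermHom A X).range
    rwa [Nat.card_eq_fintype_card (α := Equiv.Perm X), Fintype.card_perm, ← Nat.card_eq_fintype_card] at h1
  have hNi : N.index ∣ (Nat.card X).factorial := by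
    have h1 : N.index = (K ⊔ ψ.ker).index := by
      rw [hN, Subgroup.index_map, MonoidHom.range_eq_top.mpr hψ, Subgroup.index_top, mul_one]
    rw [h1]
    exact (Subgroup.index_dvd_of_le le_sup_left).trans hKi
  have hcN : c ∈ N := by
    by_cases h2 : m = 2
    · subst h2
      have h3 : N.index ∣ 2 := by
        refine hNi.trans ?_
        have h4 : Nat.card X ≤ 2 := by simpa using hX
        have h5 := Nat.factorial_dvd_factorial h4
        simpa using h5
      have h4 : c * c ∈ N := by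
        rcases (Nat.dvd_prime Nat.prime_two).mp h3 with h5 | h5
        · rw [Subgroup.index_eq_one.mp h5]
          exact mem_top _
        · have h6 := Subgroup.sq_mem_of_index_two h5 c
          rwa [pow_two] at h6
      have h5 : c = c * c * (c * c) := by
        have h6 : c ^ 3 = 1 := by rw [← hc.orderOf]; exact pow_orderOf_eq_one c
        calc c = c ^ 3 * c := by rw [h6, one_mul]
          _ = c * c * (c * c) := by rw [pow_succ, pow_two]; simp only [mul_assoc]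
      rw [h5]
      exact N.mul_mem h4 h4
    · have h3 : 3 ≤ m := by omega
      have h8 : 2 ^ 3 ≤ 2 ^ m := Nat.pow_le_pow_right (by norm_num) h3
      have hcard : 5 ≤ Nat.card Λ := by rw [Nat.card_eq_fintype_card, hΛ]; omega
      have hnt : Nontrivial N := by
        rw [Subgroup.nontrivial_iff_ne_bot]
        intro h0
        rw [h0, Subgroup.index_bot, Nat.card_eq_fintype_card, Fintype.card_perm, hΛ] at hNi
        have h4 := Nat.le_of_dvd (Nat.factorial_pos _) hNi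
        have h5 := Nat.factorial_le hX
        have h6 : (2 : ℕ) ^ m = 2 * 2 ^ (m - 1) := by
          rw [← pow_succ']; congr 1; omega
        have h7 : 2 ^ (m - 1) < 2 ^ m - 1 := by omega
        have h9 : (2 ^ (m - 1)).factorial < (2 ^ m - 1).factorial :=
          (Nat.factorial_lt (by positivity)).mpr h7
        omega
      exact Equiv.Perm.alternatingGroup_le_of_normal hcard hnt
        (Equiv.Perm.mem_alternatingGroup.mpr hc.sign)
  obtain ⟨e, he, hec⟩ := hcN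
  refine ⟨e, fun x => ?_, hec⟩
  have h1 : MulAction.toPermHom A X e = 1 := he
  have h2 := congrArg (fun f : Equiv.Perm X => f x) h1
  simpa using h2

/-! ### The setting -/

variable {G : Type u} [Group G]

structure Hyp {m : ℕ} (V P S W : Subgroup G) (ε : (Fin (2 ^ m + 1) → ZMod 2) → G)
    (i j : Fin (2 ^ m + 1)) : Prop where
  even : EvenSet (2 ^ m + 1) V P ε
  VP : V ≤ P
  two_le : 2 ≤ m
  le : S ≤ P
  isP : IsPGroup 2 S
  max : ∀ T : Subgroup G, IsPGroup 2 T → Nat.card T ≤ Nat.card S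
  fix0 : Fix0 ε S
  ne : i ≠ j
  swap : ∃ a ∈ S, Acts ε a (Equiv.swap i j)
  isPW : IsPGroup 2 W
  leW : W ≤ centralizer ({rr ε i j} : Set G)
  norm : centralizer ({rr ε i j} : Set G) ≤ normalizer (W : Set G)

/-- `⟨z_k : k ≠ i, j⟩` -/
def V0 {n : ℕ} (ε : (Fin n → ZMod 2) → G) (i j : Fin n) : Subgroup G :=
  closure {x | ∃ k, k ≠ i ∧ k ≠ j ∧ x = zz ε k}

/-- `C_P(r_ij)` -/
def A {n : ℕ} (P : Subgroup G) (ε : (Fin n → ZMod 2) → G) (i j : Fin n) : Subgroup G :=
  P ⊓ centralizer ({rr ε i j} : Set G)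

theorem conj_cent {V : Subgroup G} {a c : G} (ha : a ∈ normalizer (V : Set G))
    (hc : c ∈ centralizer (V : Set G)) : a * c * a⁻¹ ∈ centralizer (V : Set G) := by
  rw [mem_centralizer_iff] at hc ⊢
  intro v hv
  have h1 : a⁻¹ * v * a ∈ V := by
    have h2 := (mem_normalizer_iff.mp (inv_mem ha) v).mp hv
    rwa [inv_inv] at h2
  have h2 := hc _ h1
  calc v * (a * c * a⁻¹) = a * ((a⁻¹ * v * a) * c) * a⁻¹ := by group
    _ = a * (c * (a⁻¹ * v * a)) * a⁻¹ := by rw [h2]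
    _ = a * c * a⁻¹ * v := by group

namespace Hyp

variable {m : ℕ} {V P S W : Subgroup G} {ε : (Fin (2 ^ m + 1) → ZMod 2) → G} {i j : Fin (2 ^ m + 1)}
  (h : Hyp V P S W ε i j)
include h

theorem five : 5 ≤ 2 ^ m + 1 := five_le h.two_le

theorem three : 3 ≤ 2 ^ m + 1 := three_le (by have := h.two_le; omega)

theorem conjW {g w : G} (hg : g ∈ centralizer ({rr ε i j} : Set G)) (hw : w ∈ W) : g * w * g⁻¹ ∈ W :=
  (mem_normalizer_iff.mp (h.norm hg) w).mp hw

/-! ### The pair -/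

omit h in
theorem mem_A {g : G} : g ∈ A P ε i j ↔ g ∈ P ∧ g * rr ε i j = rr ε i j * g := by
  unfold A
  rw [mem_inf, mem_centralizer_singleton_iff]

/-- Elements of `C(r_ij)` preserve the pair `{i, j}`. -/
theorem pair_of_acts {g : G} {σ : Equiv.Perm (Fin (2 ^ m + 1))} (hσ : Acts ε g σ)
    (hg : g * rr ε i j = rr ε i j * g) : (σ i = i ∧ σ j = j) ∨ (σ i = j ∧ σ j = i) := by
  have hev := h.even
  have h1 := rr_conj hσ i j
  rw [hg, mul_inv_cancel_right] at h1
  -- `single i + single j = single (σ i) + single (σ j)` or the complement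
  have h2 : ε (Pi.single i 1 + Pi.single j 1) = ε (Pi.single (σ i) 1 + Pi.single (σ j) 1) := by
    rw [hev.add, hev.add]
    exact h1
  have hne : σ i ≠ σ j := fun h0 => h.ne (σ.injective h0)
  have hcount : ∃ k, k ≠ i ∧ k ≠ j ∧ k ≠ σ i ∧ k ≠ σ j := by
    have hcard : ({i, j, σ i, σ j} : Finset (Fin (2 ^ m + 1))).card <
        (Finset.univ : Finset (Fin (2 ^ m + 1))).card := by
      rw [Finset.card_univ, Fintype.card_fin]
      exact lt_of_le_of_lt Finset.card_le_four (by have := h.five; omega)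
    obtain ⟨k, -, hk⟩ := Finset.exists_mem_notMem_of_card_lt_card hcard
    simp only [Finset.mem_insert, Finset.mem_singleton, not_or] at hk
    exact ⟨k, hk.1, hk.2.1, hk.2.2.1, hk.2.2.2⟩
  obtain ⟨k, k1, k2, k3, k4⟩ := hcount
  have h3 : (Pi.single i 1 + Pi.single j 1 : Fin (2 ^ m + 1) → ZMod 2) =
      Pi.single (σ i) 1 + Pi.single (σ j) 1 := by
    rcases hev.eq_iff.mp h2 with h4 | h4
    · exact h4
    · exfalso
      have h5 := congrFun h4 k
      simp only [Pi.add_apply, Pi.single_eq_of_ne k1, Pi.single_eq_of_ne k2, Pi.single_eq_of_ne k3,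
        Pi.single_eq_of_ne k4, Pi.one_apply, add_zero, zero_add] at h5
      exact zero_ne_one h5
  have h4 := congrFun h3 (σ i)
  have h5 := congrFun h3 (σ j)
  simp only [Pi.add_apply, Pi.single_eq_same, Pi.single_eq_of_ne hne, Pi.single_eq_of_ne hne.symm, add_zero,
    zero_add] at h4 h5
  have key : ∀ x : Fin (2 ^ m + 1), (Pi.single i 1 : Fin (2 ^ m + 1) → ZMod 2) x +
      (Pi.single j 1 : Fin (2 ^ m + 1) → ZMod 2) x = 1 → x = i ∨ x = j := by
    intro x hx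
    by_contra hcon
    push Not at hcon
    rw [Pi.single_eq_of_ne hcon.1, Pi.single_eq_of_ne hcon.2, add_zero] at hx
    exact zero_ne_one hx
  rcases key _ h4 with e1 | e1 <;> rcases key _ h5 with e2 | e2
  · exact absurd (e1.trans e2.symm) hne
  · exact Or.inl ⟨e1, e2⟩
  · exact Or.inr ⟨e1, e2⟩
  · exact absurd (e1.trans e2.symm) hne

/-- The action of `C_P(r_ij)` on the labels. -/
noncomputable def phi : A P ε i j →* Equiv.Perm (Fin (2 ^ m + 1)) :=
  (h.even.hom h.three).comp (Subgroup.inclusion inf_le_left)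

theorem acts_phi (g : A P ε i j) : Acts ε (g : G) (h.phi g) :=
  h.even.acts_hom h.three (Subgroup.inclusion inf_le_left g)

theorem phi_pair (g : A P ε i j) :
    (h.phi g i = i ∧ h.phi g j = j) ∨ (h.phi g i = j ∧ h.phi g j = i) :=
  h.pair_of_acts (h.acts_phi g) (mem_A.mp g.2).2

theorem phi_Lam (g : A P ε i j) (k : Fin (2 ^ m + 1)) :
    (h.phi g k ≠ i ∧ h.phi g k ≠ j) ↔ (k ≠ i ∧ k ≠ j) := by
  rcases h.phi_pair g with ⟨h1, h2⟩ | ⟨h1, h2⟩
  · constructor
    · rintro ⟨h3, h4⟩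
      exact ⟨fun h0 => h3 (by rw [h0, h1]), fun h0 => h4 (by rw [h0, h2])⟩
    · rintro ⟨h3, h4⟩
      exact ⟨fun h0 => h3 ((h.phi g).injective (h0.trans h1.symm)),
        fun h0 => h4 ((h.phi g).injective (h0.trans h2.symm))⟩
  · constructor
    · rintro ⟨h3, h4⟩
      exact ⟨fun h0 => h4 (by rw [h0, h1]), fun h0 => h3 (by rw [h0, h2])⟩
    · rintro ⟨h3, h4⟩
      exact ⟨fun h0 => h4 ((h.phi g).injective (h0.trans h2.symm)),
        fun h0 => h3 ((h.phi g).injective (h0.trans h1.symm))⟩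

/-- The action of `C_P(r_ij)` on the labels `≠ i, j`. -/
noncomputable def psi : A P ε i j →* Equiv.Perm {k : Fin (2 ^ m + 1) // k ≠ i ∧ k ≠ j} where
  toFun g := (h.phi g).subtypePerm fun k => h.phi_Lam g k
  map_one' := by
    ext k
    simp
  map_mul' a b := by
    ext k
    simp
    rfl

theorem psi_apply (g : A P ε i j) (k : {k : Fin (2 ^ m + 1) // k ≠ i ∧ k ≠ j}) :
    ((h.psi g k : {k : Fin (2 ^ m + 1) // k ≠ i ∧ k ≠ j}) : Fin (2 ^ m + 1)) = h.phi g k := rfl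

theorem psi_surj : Function.Surjective h.psi := by
  intro τ
  obtain ⟨g, hg, hσ⟩ := h.even.full (Equiv.Perm.ofSubtype τ)
  have h1 : Equiv.Perm.ofSubtype τ i = i :=
    Equiv.Perm.ofSubtype_apply_of_not_mem τ (by simp)
  have h2 : Equiv.Perm.ofSubtype τ j = j :=
    Equiv.Perm.ofSubtype_apply_of_not_mem τ (by simp)
  have hA : g ∈ A P ε i j := by
    rw [mem_A]
    refine ⟨hg, ?_⟩
    have h3 := rr_conj hσ i j
    rw [h1, h2] at h3
    rw [← h3]
    simp only [inv_mul_cancel_right]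
    rw [h3]
  refine ⟨⟨g, hA⟩, ?_⟩
  ext k
  rw [psi_apply]
  have h4 : h.phi ⟨g, hA⟩ = Equiv.Perm.ofSubtype τ :=
    h.even.acts_unique h.three (h.acts_phi ⟨g, hA⟩) hσ
  rw [h4, Equiv.Perm.ofSubtype_apply_coe]

theorem card_Lam : Fintype.card {k : Fin (2 ^ m + 1) // k ≠ i ∧ k ≠ j} = 2 ^ m - 1 := by
  classical
  rw [Fintype.card_subtype]
  have h1 : (Finset.univ.filter fun k : Fin (2 ^ m + 1) => k ≠ i ∧ k ≠ j) = ({i, j} : Finset _)ᶜ := by
    ext k
    simp
  rw [h1, Finset.card_compl, Fintype.card_fin, Finset.card_pair h.ne]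
  omega

/-! ### `W ∩ P` -/

theorem WP_le : W ⊓ P ≤ A P ε i j := fun _ hx => ⟨hx.2, h.leW hx.1⟩

/-- `W ∩ P` fixes the labels `≠ i, j`. -/
theorem fix_of_mem [Finite G] {w : G} (hw : w ∈ W ⊓ P) {k : Fin (2 ^ m + 1)} (hk : k ≠ i ∧ k ≠ j) :
    h.phi ⟨w, h.WP_le hw⟩ k = k := by
  classical
  have h2 : Fact (Nat.Prime 2) := ⟨Nat.prime_two⟩
  let f : ↥(W ⊓ P) →* Equiv.Perm {k : Fin (2 ^ m + 1) // k ≠ i ∧ k ≠ j} :=
    h.psi.comp (Subgroup.inclusion h.WP_le)
  let act : MulAction ↥(W ⊓ P) {k : Fin (2 ^ m + 1) // k ≠ i ∧ k ≠ j} := MulAction.compHom _ f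
  have hp : IsPGroup 2 ↥(W ⊓ P) := h.isPW.to_le inf_le_left
  have hcard : ¬ 2 ∣ Nat.card {k : Fin (2 ^ m + 1) // k ≠ i ∧ k ≠ j} := by
    rw [Nat.card_eq_fintype_card, h.card_Lam]
    have h3 := h.two_le
    have h4 : 2 ∣ 2 ^ m := dvd_pow_self 2 (by omega)
    have h5 : 0 < 2 ^ m := by positivity
    omega
  obtain ⟨x₀, hx₀⟩ := hp.nonempty_fixed_point_of_prime_not_dvd_card _ hcard
  -- every label is a conjugate of `x₀`
  obtain ⟨g, hg⟩ := h.psi_surj (Equiv.swap x₀ ⟨k, hk⟩)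
  have hgx : h.psi g x₀ = ⟨k, hk⟩ := by rw [hg, Equiv.swap_apply_left]
  have hgP : (g : G) ∈ P := (mem_A.mp g.2).1
  have hgC : (g : G) ∈ centralizer ({rr ε i j} : Set G) := g.2.2
  have hw' : (g : G)⁻¹ * w * (g : G) ∈ W ⊓ P := by
    refine ⟨?_, P.mul_mem (P.mul_mem (P.inv_mem hgP) hw.2) hgP⟩
    have h3 := h.conjW (inv_mem hgC) hw.1
    rwa [inv_inv] at h3
  have h3 : f ⟨_, hw'⟩ x₀ = x₀ := hx₀ ⟨_, hw'⟩
  have h4 : h.psi ⟨w, h.WP_le hw⟩ ⟨k, hk⟩ = ⟨k, hk⟩ := by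
    have h5 : (⟨w, h.WP_le hw⟩ : A P ε i j) = g * ⟨(g : G)⁻¹ * w * (g : G), h.WP_le hw'⟩ * g⁻¹ := by
      apply Subtype.ext
      change w = (g : G) * ((g : G)⁻¹ * w * (g : G)) * (g : G)⁻¹
      group
    have h6 : h.psi ⟨(g : G)⁻¹ * w * (g : G), h.WP_le hw'⟩ x₀ = x₀ := h3
    have h7 : (h.psi g)⁻¹ ⟨k, hk⟩ = x₀ := by
      rw [Equiv.Perm.inv_eq_iff_eq]
      exact hgx.symm
    rw [h5, map_mul, map_mul, map_inv, Equiv.Perm.mul_apply, Equiv.Perm.mul_apply, h7, h6, hgx]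
  have h5 := congrArg Subtype.val h4
  exact h5

theorem acts_WP [Finite G] {w : G} (hw : w ∈ W ⊓ P) : Acts ε w 1 ∨ Acts ε w (Equiv.swap i j) := by
  have h1 := h.acts_phi ⟨w, h.WP_le hw⟩
  rcases h.phi_pair ⟨w, h.WP_le hw⟩ with ⟨h2, h3⟩ | ⟨h2, h3⟩
  · left
    have h4 : h.phi ⟨w, h.WP_le hw⟩ = 1 := by
      ext k
      congr 1
      by_cases hi : k = i
      · rw [hi, h2]; rfl
      · by_cases hj : k = j
        · rw [hj, h3]; rfl
        · exact h.fix_of_mem hw ⟨hi, hj⟩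
    rwa [h4] at h1
  · right
    have h4 : h.phi ⟨w, h.WP_le hw⟩ = Equiv.swap i j := by
      ext k
      congr 1
      by_cases hi : k = i
      · rw [hi, h2, Equiv.swap_apply_left]
      · by_cases hj : k = j
        · rw [hj, h3, Equiv.swap_apply_right]
        · rw [Equiv.swap_apply_of_ne_of_ne hi hj]
          exact h.fix_of_mem hw ⟨hi, hj⟩
    rwa [h4] at h1

/-! ### The cosets -/

/-- `C_P(r_ij)` acts on `W / (W ∩ P)`. -/
@[instance_reducible]
noncomputable def act : MulAction (A P ε i j) (W ⧸ P.subgroupOf W) where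
  smul g := Quotient.map' (fun w : W => (⟨(g : G) * w * (g : G)⁻¹, h.conjW g.2.2 w.2⟩ : W)) (by
    intro a b hab
    rw [QuotientGroup.leftRel_apply, mem_subgroupOf] at hab ⊢
    have h1 := P.mul_mem (P.mul_mem g.2.1 hab) (P.inv_mem g.2.1)
    have h2 : (((⟨(g : G) * a * (g : G)⁻¹, h.conjW g.2.2 a.2⟩ : W)⁻¹ *
        (⟨(g : G) * b * (g : G)⁻¹, h.conjW g.2.2 b.2⟩ : W) : W) : G) =
        (g : G) * ((a⁻¹ * b : W) : G) * (g : G)⁻¹ := by
      push_cast
      group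
    rw [h2]
    exact h1)
  one_smul := by
    intro x
    refine Quotient.inductionOn' x fun w => ?_
    change (Quotient.mk'' _ : W ⧸ P.subgroupOf W) = _
    congr 1
    apply Subtype.ext
    simp
  mul_smul := by
    intro a b x
    refine Quotient.inductionOn' x fun w => ?_
    change (Quotient.mk'' _ : W ⧸ P.subgroupOf W) = Quotient.mk'' _
    congr 1
    apply Subtype.ext
    simp [mul_assoc]

/-- `e` acts trivially on `V` up to `W`: `[W, e] ≤ C_G(V)`. -/
def Good (V W : Subgroup G) (e : G) : Prop := ∀ w ∈ W, w⁻¹ * e * w * e⁻¹ ∈ centralizer (V : Set G)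

theorem exists_good [Finite G] (hidx : P.relIndex W ≤ 2 ^ (m - 1))
    {c : Equiv.Perm {k : Fin (2 ^ m + 1) // k ≠ i ∧ k ≠ j}} (hc : c.IsThreeCycle) :
    ∃ e : A P ε i j, h.psi e = c ∧ Good V W (e : G) := by
  classical
  let _ := h.act
  have hX : Nat.card (W ⧸ P.subgroupOf W) ≤ 2 ^ (m - 1) := hidx
  obtain ⟨e, he1, he2⟩ := exists_threeCycle h.psi h.psi_surj (W ⧸ P.subgroupOf W) h.two_le h.card_Lam hX
    hc.inv
  refine ⟨e * e, ?_, ?_⟩
  · rw [map_mul, he2]
    have h6 : c ^ 3 = 1 := by rw [← hc.orderOf]; exact pow_orderOf_eq_one c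
    have h7 : c * (c * c) = 1 := by
      rw [← h6, pow_succ, pow_two]; simp only [mul_assoc]
    have h8 : c⁻¹ = c * c := (eq_inv_of_mul_eq_one_right h7).symm
    calc c⁻¹ * c⁻¹ = c * (c * (c * c)) := by rw [h8]; simp only [mul_assoc]
      _ = c := by rw [h7, mul_one]
  · intro w hw
    have ha : w⁻¹ * (e : G) * w * (e : G)⁻¹ ∈ W ⊓ P := by
      constructor
      · have h1 := W.mul_mem (W.inv_mem hw) (h.conjW e.2.2 hw)
        have h2 : w⁻¹ * ((e : G) * w * (e : G)⁻¹) = w⁻¹ * (e : G) * w * (e : G)⁻¹ := by group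
        rwa [h2] at h1
      · have h1 := he1 (Quotient.mk'' ⟨w, hw⟩)
        have h2 : (Quotient.mk'' (⟨(e : G) * w * (e : G)⁻¹, h.conjW e.2.2 hw⟩ : W) : W ⧸ P.subgroupOf W) =
            Quotient.mk'' ⟨w, hw⟩ := h1
        have h3 := Quotient.exact' h2.symm
        rw [QuotientGroup.leftRel_apply, mem_subgroupOf] at h3
        have h4 : (((⟨w, hw⟩ : W)⁻¹ * (⟨(e : G) * w * (e : G)⁻¹, h.conjW e.2.2 hw⟩ : W) : W) : G) =
            w⁻¹ * (e : G) * w * (e : G)⁻¹ := by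
          push_cast
          group
        rwa [h4] at h3
    set a := w⁻¹ * (e : G) * w * (e : G)⁻¹ with ha'
    have hk : w⁻¹ * ((e * e : A P ε i j) : G) * w * ((e * e : A P ε i j) : G)⁻¹ =
        a * ((e : G) * a * (e : G)⁻¹) := by
      rw [ha']
      push_cast
      group
    rw [hk, ← h.even.acts_one_iff]
    have hσ := h.acts_phi e
    rcases h.acts_WP ha with h1 | h1
    · have h2 := h1.mul (hσ.conj h1)
      simpa using h2
    · have h2 := h1.mul (hσ.conj h1)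
      have h3 : Equiv.swap i j * (h.phi e * Equiv.swap i j * (h.phi e)⁻¹) = 1 := by
        have h4 : h.phi e * Equiv.swap i j * (h.phi e)⁻¹ = Equiv.swap i j := by
          rw [← Equiv.swap_apply_apply]
          rcases h.phi_pair e with ⟨h5, h6⟩ | ⟨h5, h6⟩
          · rw [h5, h6]
          · rw [h5, h6, Equiv.swap_comm]
        rw [h4, Equiv.swap_mul_self]
      rwa [h3] at h2

/-- A 3-cycle `k → l → a → k` of labels `≠ i, j`. -/
theorem exists_cycle [Finite G] (hidx : P.relIndex W ≤ 2 ^ (m - 1)) {k l a : Fin (2 ^ m + 1)}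
    (hk : k ≠ i ∧ k ≠ j) (hl : l ≠ i ∧ l ≠ j) (ha : a ≠ i ∧ a ≠ j) (hkl : k ≠ l) (hka : k ≠ a)
    (hla : l ≠ a) : ∃ e ∈ A P ε i j, Good V W e ∧ e * zz ε k * e⁻¹ = zz ε l ∧ e * zz ε l * e⁻¹ = zz ε a ∧
      e * zz ε a * e⁻¹ = zz ε k := by
  classical
  have hc := Equiv.Perm.isThreeCycle_swap_mul_swap_same (a := (⟨l, hl⟩ : {k // k ≠ i ∧ k ≠ j}))
    (b := ⟨k, hk⟩) (c := ⟨a, ha⟩) (fun h0 => hkl (congrArg Subtype.val h0).symm)
    (fun h0 => hla (congrArg Subtype.val h0)) (fun h0 => hka (congrArg Subtype.val h0))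
  obtain ⟨e, he, hg⟩ := h.exists_good hidx hc
  have key : ∀ x y : {k : Fin (2 ^ m + 1) // k ≠ i ∧ k ≠ j}, h.psi e x = y →
      (e : G) * zz ε x * (e : G)⁻¹ = zz ε y := by
    intro x y hxy
    rw [zz_conj (h.acts_phi e), ← h.psi_apply, hxy]
  refine ⟨e, e.2, hg, key ⟨k, hk⟩ ⟨l, hl⟩ ?_, key ⟨l, hl⟩ ⟨a, ha⟩ ?_, key ⟨a, ha⟩ ⟨k, hk⟩ ?_⟩
  · have h1 : Equiv.swap (⟨l, hl⟩ : {k // k ≠ i ∧ k ≠ j}) ⟨a, ha⟩ ⟨k, hk⟩ = ⟨k, hk⟩ :=
      Equiv.swap_apply_of_ne_of_ne (fun h0 => hkl (congrArg Subtype.val h0))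
        (fun h0 => hka (congrArg Subtype.val h0))
    rw [he, Equiv.Perm.mul_apply, h1, Equiv.swap_apply_right]
  · have h1 : Equiv.swap (⟨l, hl⟩ : {k // k ≠ i ∧ k ≠ j}) ⟨k, hk⟩ ⟨a, ha⟩ = ⟨a, ha⟩ :=
      Equiv.swap_apply_of_ne_of_ne (fun h0 => hla (congrArg Subtype.val h0).symm)
        (fun h0 => hka (congrArg Subtype.val h0).symm)
    rw [he, Equiv.Perm.mul_apply, Equiv.swap_apply_left, h1]
  · rw [he, Equiv.Perm.mul_apply, Equiv.swap_apply_right, Equiv.swap_apply_left]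

/-! ### `V0` -/

/-- `{e ∈ C_P(r_ij) : [W, e] ≤ C_G(V)}` -/
def E : Subgroup G where
  carrier := {e | e ∈ A P ε i j ∧ Good V W e}
  mul_mem' := by
    rintro a b ⟨ha, ha'⟩ ⟨hb, hb'⟩
    refine ⟨mul_mem ha hb, fun w hw => ?_⟩
    have h1 : w⁻¹ * (a * b) * w * (a * b)⁻¹ = (w⁻¹ * a * w * a⁻¹) * (a * (w⁻¹ * b * w * b⁻¹) * a⁻¹) := by
      group
    rw [h1]
    exact mul_mem (ha' w hw) (conj_cent (h.even.le_normalizer ha.1) (hb' w hw))
  one_mem' := by
    refine ⟨one_mem _, fun w _ => ?_⟩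
    have h1 : w⁻¹ * 1 * w * (1 : G)⁻¹ = 1 := by group
    rw [h1]
    exact one_mem _
  inv_mem' := by
    rintro a ⟨ha, ha'⟩
    refine ⟨inv_mem ha, fun w hw => ?_⟩
    have h1 : w⁻¹ * a⁻¹ * w * a⁻¹⁻¹ = a⁻¹ * (w⁻¹ * a * w * a⁻¹)⁻¹ * a⁻¹⁻¹ := by
      group
    rw [h1]
    exact conj_cent (inv_mem (h.even.le_normalizer ha.1)) (inv_mem (ha' w hw))

theorem mem_E {e : G} : e ∈ h.E ↔ e ∈ A P ε i j ∧ Good V W e := Iff.rfl

theorem V_le_A : V ≤ A P ε i j := fun _ hv =>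
  mem_A.mpr ⟨h.VP hv, h.even.comm_mem hv (rr_mem h.even i j)⟩

theorem conj_E {v e : G} (hv : v ∈ A P ε i j) (he : e ∈ h.E) : v * e * v⁻¹ ∈ h.E := by
  refine ⟨mul_mem (mul_mem hv he.1) (inv_mem hv), fun w hw => ?_⟩
  have h1 : w⁻¹ * (v * e * v⁻¹) * w * (v * e * v⁻¹)⁻¹ =
      v * ((v⁻¹ * w * v)⁻¹ * e * (v⁻¹ * w * v) * e⁻¹) * v⁻¹ := by
    group
  rw [h1]
  have h2 := h.conjW (inv_mem hv.2) hw
  rw [inv_inv] at h2
  exact conj_cent (h.even.le_normalizer hv.1) (he.2 _ h2)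

theorem rr_mem_E : rr ε i j ∈ h.E := by
  refine ⟨h.V_le_A (rr_mem h.even i j), fun w hw => ?_⟩
  have h1 : w * rr ε i j = rr ε i j * w := mem_centralizer_singleton_iff.mp (h.leW hw)
  have h2 : w⁻¹ * rr ε i j * w * (rr ε i j)⁻¹ = 1 := by
    rw [mul_assoc w⁻¹, ← h1]
    group
  rw [h2]
  exact one_mem _

/-- a third label `≠ i, j` -/
theorem exists_third (a b : Fin (2 ^ m + 1)) : ∃ k, (k ≠ i ∧ k ≠ j) ∧ k ≠ a ∧ k ≠ b := by
  have hcard : ({i, j, a, b} : Finset (Fin (2 ^ m + 1))).card <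
      (Finset.univ : Finset (Fin (2 ^ m + 1))).card := by
    rw [Finset.card_univ, Fintype.card_fin]
    exact lt_of_le_of_lt Finset.card_le_four (by have := h.five; omega)
  obtain ⟨k, -, hk⟩ := Finset.exists_mem_notMem_of_card_lt_card hcard
  simp only [Finset.mem_insert, Finset.mem_singleton, not_or] at hk
  exact ⟨k, ⟨hk.1, hk.2.1⟩, hk.2.2.1, hk.2.2.2⟩

theorem rr_mem_E' [Finite G] (hidx : P.relIndex W ≤ 2 ^ (m - 1)) {a b : Fin (2 ^ m + 1)}
    (ha : a ≠ i ∧ a ≠ j) (hb : b ≠ i ∧ b ≠ j) (hab : a ≠ b) : rr ε a b ∈ h.E := by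
  obtain ⟨c, hc, hca, hcb⟩ := h.exists_third a b
  obtain ⟨e, he1, he2, he3, -, -⟩ := h.exists_cycle hidx ha hb hc hab hca.symm hcb.symm
  have heE : e ∈ h.E := ⟨he1, he2⟩
  have h1 := h.conj_E (h.V_le_A (zz_mem h.even a)) heE
  have h2 := mul_mem h1 (inv_mem heE)
  have h3 : zz ε a * e * (zz ε a)⁻¹ * e⁻¹ = rr ε a b := by
    unfold rr
    rw [← he3, zz_inv h.even a]
    group
  rwa [h3] at h2

end Hyp

/-! ### Labels in a subgroup -/

section labels

variable {n : ℕ} {V P : Subgroup G} {ε : (Fin n → ZMod 2) → G}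

/-- the vectors with `ε x ∈ K` -/
def pre (h : EvenSet n V P ε) (K : Subgroup G) : AddSubgroup (Fin n → ZMod 2) where
  carrier := {x | ε x ∈ K}
  add_mem' {a b} ha hb := by
    change ε (a + b) ∈ K
    rw [h.add]
    exact K.mul_mem ha hb
  zero_mem' := by
    change ε 0 ∈ K
    rw [h.zero]
    exact K.one_mem
  neg_mem' {a} ha := by
    have h1 : -a = a := by
      funext k
      exact CharTwo.neg_eq _
    rw [h1]
    exact ha

theorem mem_pre (h : EvenSet n V P ε) {K : Subgroup G} {x : Fin n → ZMod 2} : x ∈ pre h K ↔ ε x ∈ K :=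
  Iff.rfl

/-- `z_k` is a product of `r_ij` and of some `r_kb`. -/
theorem zz_mem_of_rr (h : EvenSet n V P ε) (hn : Odd n) {K : Subgroup G} {i j k : Fin n} (hij : i ≠ j)
    (hk : k ≠ i ∧ k ≠ j) (h1 : rr ε i j ∈ K) (h2 : ∀ b, b ≠ i → b ≠ j → b ≠ k → rr ε k b ∈ K) :
    zz ε k ∈ K := by
  classical
  have e1 : (Pi.single i 1 + Pi.single j 1 : Fin n → ZMod 2) ∈ pre h K := by
    rw [mem_pre, h.add]
    exact h1
  have e2 : ∀ b ∈ (Finset.univ.filter fun b : Fin n => b ≠ i ∧ b ≠ j ∧ b ≠ k),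
      (Pi.single k 1 + Pi.single b 1 : Fin n → ZMod 2) ∈ pre h K := by
    intro b hb
    rw [Finset.mem_filter] at hb
    rw [mem_pre, h.add]
    exact h2 b hb.2.1 hb.2.2.1 hb.2.2.2
  have e3 : (1 : Fin n → ZMod 2) ∈ pre h K := by
    rw [mem_pre, h.one]
    exact K.one_mem
  have e4 := add_mem (add_mem e1 (sum_mem e2)) e3
  have hcard : ((Finset.univ.filter fun b : Fin n => b ≠ i ∧ b ≠ j ∧ b ≠ k).card : ZMod 2) = 0 := by
    have h3 : (Finset.univ.filter fun b : Fin n => b ≠ i ∧ b ≠ j ∧ b ≠ k) = ({i, j, k} : Finset _)ᶜ := by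
      ext b
      simp
    have h4 : ({i, j, k} : Finset (Fin n)).card = 3 :=
      Finset.card_eq_three.mpr ⟨i, j, k, hij, hk.1.symm, hk.2.symm, rfl⟩
    have h5 : 3 ≤ n := by
      have := Finset.card_le_univ ({i, j, k} : Finset (Fin n))
      rw [h4, Fintype.card_fin] at this
      exact this
    rw [h3, Finset.card_compl, Fintype.card_fin, h4]
    obtain ⟨r, rfl⟩ := hn
    have h6 : 2 * r + 1 - 3 = 2 * (r - 1) := by omega
    rw [h6]
    push_cast
    have h7 : (2 : ZMod 2) = 0 := by decide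
    rw [h7, zero_mul]
  have e5 : (Pi.single i 1 + Pi.single j 1 + ∑ b ∈ (Finset.univ.filter fun b : Fin n => b ≠ i ∧ b ≠ j ∧ b ≠ k),
      (Pi.single k 1 + Pi.single b 1) + 1 : Fin n → ZMod 2) = Pi.single k 1 := by
    rw [Finset.sum_add_distrib, Finset.sum_const, ← Nat.cast_smul_eq_nsmul (ZMod 2), hcard, zero_smul,
      zero_add]
    funext b
    simp only [Pi.add_apply, Finset.sum_apply, Pi.one_apply]
    have h11 : (1 : ZMod 2) + 1 = 0 := by decide
    by_cases hbi : b = i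
    · subst hbi
      rw [Pi.single_eq_same, Pi.single_eq_of_ne hij, Pi.single_eq_of_ne hk.1.symm, Finset.sum_eq_zero]
      · rw [add_zero, add_zero, h11]
      · intro c hc
        rw [Finset.mem_filter] at hc
        exact Pi.single_eq_of_ne hc.2.1.symm _
    · by_cases hbj : b = j
      · subst hbj
        rw [Pi.single_eq_same, Pi.single_eq_of_ne hij.symm, Pi.single_eq_of_ne hk.2.symm, Finset.sum_eq_zero]
        · rw [zero_add, add_zero, h11]
        · intro c hc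
          rw [Finset.mem_filter] at hc
          exact Pi.single_eq_of_ne hc.2.2.1.symm _
      · by_cases hbk : b = k
        · subst hbk
          rw [Pi.single_eq_same, Pi.single_eq_of_ne hbi, Pi.single_eq_of_ne hbj, Finset.sum_eq_zero]
          · rw [add_zero, zero_add, zero_add]
          · intro c hc
            rw [Finset.mem_filter] at hc
            exact Pi.single_eq_of_ne hc.2.2.2.symm _
        · rw [Pi.single_eq_of_ne hbi, Pi.single_eq_of_ne hbj, Pi.single_eq_of_ne hbk, Finset.sum_eq_single b]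
          · rw [Pi.single_eq_same, add_zero, zero_add, h11]
          · intro c _ hcb
            exact Pi.single_eq_of_ne hcb.symm _
          · intro hb
            exact absurd (Finset.mem_filter.mpr ⟨Finset.mem_univ _, hbi, hbj, hbk⟩) hb
  rw [e5] at e4
  exact e4

/-- `x i = x j` implies `ε x ∈ V0`. -/
theorem mem_V0 (h : EvenSet n V P ε) {i j : Fin n} {x : Fin n → ZMod 2} (hx : x i = x j) :
    ε x ∈ V0 ε i j := by
  classical
  have key : ∀ y : Fin n → ZMod 2, y i = 0 → y j = 0 → ε y ∈ V0 ε i j := by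
    intro y hi hj
    have h1 : y = ∑ k : Fin n, y k • (Pi.single k 1 : Fin n → ZMod 2) := by
      funext b
      simp only [Finset.sum_apply, Pi.smul_apply, smul_eq_mul]
      rw [Finset.sum_eq_single b]
      · rw [Pi.single_eq_same, mul_one]
      · intro c _ hcb
        rw [Pi.single_eq_of_ne hcb.symm, mul_zero]
      · intro hb
        exact absurd (Finset.mem_univ b) hb
    change y ∈ pre h (V0 ε i j)
    rw [h1]
    refine sum_mem fun k _ => ?_
    have h01 : ∀ a : ZMod 2, a = 0 ∨ a = 1 := by decide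
    rcases h01 (y k) with h2 | h2
    · rw [h2, zero_smul]
      exact zero_mem _
    · rw [h2, one_smul]
      refine subset_closure ⟨k, ?_, ?_, rfl⟩
      · rintro rfl
        rw [hi] at h2
        exact zero_ne_one h2
      · rintro rfl
        rw [hj] at h2
        exact zero_ne_one h2
  have h01 : ∀ a : ZMod 2, a = 0 ∨ a = 1 := by decide
  rcases h01 (x i) with h1 | h1
  · exact key x h1 (hx ▸ h1)
  · have h2 := key (x + 1) (by rw [Pi.add_apply, h1, Pi.one_apply]; decide)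
      (by rw [Pi.add_apply, ← hx, h1, Pi.one_apply]; decide)
    rwa [h.add, h.one, mul_one] at h2

end labels

theorem odd_n {m : ℕ} (hm : 1 ≤ m) : Odd (2 ^ m + 1) := by
  have h1 : Even (2 ^ m) := (Nat.even_pow.mpr ⟨even_two, by omega⟩)
  exact h1.add_one

namespace Hyp

variable {m : ℕ} {V P S W : Subgroup G} {ε : (Fin (2 ^ m + 1) → ZMod 2) → G} {i j : Fin (2 ^ m + 1)}
  (h : Hyp V P S W ε i j)
include h

/-! ### (A1), (A2) from the index bound -/

theorem V0_le_E [Finite G] (hidx : P.relIndex W ≤ 2 ^ (m - 1)) : V0 ε i j ≤ h.E := by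
  unfold V0
  rw [closure_le]
  rintro x ⟨k, hki, hkj, rfl⟩
  have hm := h.two_le
  exact zz_mem_of_rr h.even (odd_n (by omega)) h.ne ⟨hki, hkj⟩ h.rr_mem_E fun b hbi hbj hbk =>
    h.rr_mem_E' hidx ⟨hki, hkj⟩ ⟨hbi, hbj⟩ hbk.symm

/-- `[W, v] ≤ C_G(V)` for `v ∈ V0`. -/
theorem p1_of [Finite G] (hidx : P.relIndex W ≤ 2 ^ (m - 1)) {u w : G} (hu : u ∈ V0 ε i j) (hw : w ∈ W) :
    w⁻¹ * u * w * u⁻¹ ∈ centralizer (V : Set G) := (h.V0_le_E hidx hu).2 w hw

/-- `E` commutes with the conjugation by `W` on `V`. -/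
theorem equiv [Finite G] {e w v : G} (he : e ∈ h.E) (hw : w ∈ W) (hv : v ∈ V) :
    e * (w * v * w⁻¹) * e⁻¹ = w * (e * v * e⁻¹) * w⁻¹ := by
  have hκ := he.2 w hw
  rw [mem_centralizer_iff] at hκ
  have h1 := hκ _ ((mem_normalizer_iff.mp (h.even.le_normalizer he.1.1) v).mp hv)
  set κ := w⁻¹ * e * w * e⁻¹ with hκ'
  have h2 : e * w = w * κ * e := by rw [hκ']; group
  calc e * (w * v * w⁻¹) * e⁻¹ = (e * w) * v * (e * w)⁻¹ := by group
    _ = w * (κ * (e * v * e⁻¹)) * κ⁻¹ * w⁻¹ := by rw [h2]; group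
    _ = w * (e * v * e⁻¹ * κ) * κ⁻¹ * w⁻¹ := by rw [h1]
    _ = w * (e * v * e⁻¹) * w⁻¹ := by group

/-- If `w` commutes with `v ∈ V`, it commutes with `v ^ e`, `e ∈ E`. -/
theorem comm_conj [Finite G] {e w v : G} (he : e ∈ h.E) (hw : w ∈ W) (hv : v ∈ V) (hc : w * v = v * w) :
    w * (e * v * e⁻¹) = e * v * e⁻¹ * w := by
  have h1 := h.equiv he hw hv
  have h2 : w * v * w⁻¹ = v := by rw [hc, mul_inv_cancel_right]
  rw [h2] at h1
  calc w * (e * v * e⁻¹) = w * (e * v * e⁻¹) * w⁻¹ * w := by group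
    _ = e * v * e⁻¹ * w := by rw [← h1]

/-- `w ∈ W` commuting with one `r_kl` centralises `V0`. -/
theorem p2_of [Finite G] (hidx : P.relIndex W ≤ 2 ^ (m - 1)) {w : G} (hw : w ∈ W) {k l : Fin (2 ^ m + 1)}
    (hk : k ≠ i ∧ k ≠ j) (hl : l ≠ i ∧ l ≠ j) (hkl : k ≠ l) (hc : w * rr ε k l = rr ε k l * w) :
    ∀ u ∈ V0 ε i j, w * u = u * w := by
  have hev := h.even
  -- `w` commutes with all `r_la`
  have h1 : ∀ a, a ≠ i ∧ a ≠ j → rr ε l a ∈ centralizer ({w} : Set G) := by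
    intro a ha
    rw [mem_centralizer_singleton_iff]
    by_cases hal : a = l
    · subst hal
      have h0 : rr ε a a = 1 := zz_sq hev a
      rw [h0, one_mul, mul_one]
    · by_cases hak : a = k
      · subst hak
        rw [rr_symm hev l a]
        exact hc.symm
      · obtain ⟨e, he1, he2, he3, he4, -⟩ := h.exists_cycle hidx hk hl ha hkl (Ne.symm hak) (Ne.symm hal)
        have h2 := h.comm_conj (e := e) ⟨he1, he2⟩ hw (rr_mem hev k l) hc
        have h3 : e * rr ε k l * e⁻¹ = rr ε l a := by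
          unfold rr
          rw [← he4]
          nth_rewrite 2 [← he3]
          group
        rw [h3] at h2
        exact h2.symm
  have h2 : ∀ a b, a ≠ i ∧ a ≠ j → b ≠ i ∧ b ≠ j → rr ε a b ∈ centralizer ({w} : Set G) := by
    intro a b ha hb
    rw [← rr_add hev a l b, rr_symm hev a l]
    exact mul_mem (h1 a ha) (h1 b hb)
  have hij : rr ε i j ∈ centralizer ({w} : Set G) := by
    rw [mem_centralizer_singleton_iff]
    exact (mem_centralizer_singleton_iff.mp (h.leW hw)).symm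
  have h3 : V0 ε i j ≤ centralizer ({w} : Set G) := by
    unfold V0
    rw [closure_le]
    rintro x ⟨c, hci, hcj, rfl⟩
    have hm := h.two_le
    exact zz_mem_of_rr hev (odd_n (by omega)) h.ne ⟨hci, hcj⟩ hij fun b hbi hbj _ =>
      h2 c b ⟨hci, hcj⟩ ⟨hbi, hbj⟩
  intro u hu
  exact (mem_centralizer_singleton_iff.mp (h3 hu)).symm

/-! ### The index bound -/

omit h in
theorem card_mul_relIndex' {H K : Subgroup G} (h : H ≤ K) : Nat.card H * H.relIndex K = Nat.card K := by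
  rw [Subgroup.relIndex, ← Nat.card_congr (Subgroup.subgroupOfEquivOfLe h).toEquiv]
  exact Subgroup.card_mul_index _

omit h in
theorem card_sup_mul' {K H : Subgroup G} (h' : H ≤ normalizer (K : Set G)) :
    Nat.card (K ⊔ H : Subgroup G) * Nat.card (K ⊓ H : Subgroup G) = Nat.card K * Nat.card H := by
  have hKn : (K.subgroupOf (K ⊔ H)).Normal :=
    normal_subgroupOf_of_le_normalizer (sup_le le_normalizer h')
  have h1 := relIndex_sup_left (H.subgroupOf (K ⊔ H)) (K.subgroupOf (K ⊔ H))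
  rw [← Subgroup.subgroupOf_sup le_sup_left le_sup_right, Subgroup.subgroupOf_self,
    Subgroup.relIndex_subgroupOf le_sup_right, relIndex_top_right] at h1
  have h2 : Nat.card K * K.relIndex H = Nat.card (K ⊔ H : Subgroup G) := by
    rw [← h1]
    exact card_mul_relIndex' le_sup_left
  have h3 : Nat.card (K ⊓ H : Subgroup G) * K.relIndex H = Nat.card H := by
    rw [← inf_relIndex_right]
    exact card_mul_relIndex' inf_le_right
  rw [← h2, ← h3]
  ring

theorem i_ne_zero : i ≠ 0 := by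
  obtain ⟨a, ha, hσ⟩ := h.swap
  have h1 := h.fix0 a ha _ hσ
  rintro rfl
  rw [Equiv.swap_apply_left] at h1
  exact h.ne h1.symm

theorem j_ne_zero : j ≠ 0 := by
  obtain ⟨a, ha, hσ⟩ := h.swap
  have h1 := h.fix0 a ha _ hσ
  rintro rfl
  rw [Equiv.swap_apply_right] at h1
  exact h.ne h1

/-- an element of `S` fixing `i` fixes `j` -/
theorem fix_j {s : G} (hs : s ∈ S) {σ : Equiv.Perm (Fin (2 ^ m + 1))} (hσ : Acts ε s σ) (hi : σ i = i) :
    σ j = j := by
  classical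
  by_contra hj
  have hji : σ j ≠ i := fun h0 => h.ne (σ.injective (hi.trans h0.symm))
  obtain ⟨a, ha, hτ⟩ := h.swap
  have h1 : a * (s * a * s⁻¹) ∈ S := mul_mem ha (mul_mem (mul_mem hs ha) (inv_mem hs))
  have h2 := hτ.mul (hσ.conj hτ)
  have h3 : σ * Equiv.swap i j * σ⁻¹ = Equiv.swap i (σ j) := by
    rw [← Equiv.swap_apply_apply, hi]
  rw [h3] at h2
  have h4 : (Equiv.swap i j * Equiv.swap i (σ j)).IsThreeCycle :=
    Equiv.Perm.isThreeCycle_swap_mul_swap_same h.ne hji.symm (Ne.symm hj)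
  obtain ⟨k, hk⟩ := h.isP ⟨_, h1⟩
  have h5 : (a * (s * a * s⁻¹)) ^ 2 ^ k = 1 := congrArg Subtype.val hk
  have h6 : ∀ N : ℕ, Acts ε ((a * (s * a * s⁻¹)) ^ N) ((Equiv.swap i j * Equiv.swap i (σ j)) ^ N) := by
    intro N
    induction N with
    | zero =>
      rw [pow_zero, pow_zero]
      exact Acts.one
    | succ N ih =>
      rw [pow_succ, pow_succ]
      exact ih.mul h2
  have h7 := h6 (2 ^ k)
  rw [h5] at h7
  have h8 := h.even.acts_unique h.three h7 Acts.one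
  have h9 := orderOf_dvd_of_pow_eq_one h8
  rw [h4.orderOf] at h9
  have h10 := Nat.Prime.dvd_of_dvd_pow Nat.prime_three h9
  omega

theorem swap_mem_cent {a : G} (hσ : Acts ε a (Equiv.swap i j)) :
    a ∈ centralizer ({rr ε i j} : Set G) := by
  rw [mem_centralizer_singleton_iff]
  have h1 := rr_conj hσ i j
  rw [Equiv.swap_apply_left, Equiv.swap_apply_right, rr_symm h.even j i] at h1
  calc a * rr ε i j = a * rr ε i j * a⁻¹ * a := by group
    _ = rr ε i j * a := by rw [h1]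

/-- `|S : C_S(r_ij)| ≤ 2^(m-1)` -/
theorem relIndex_S_le [Finite G] : (S ⊓ centralizer ({rr ε i j} : Set G)).relIndex S ≤ 2 ^ (m - 1) := by
  classical
  set T := S ⊓ centralizer ({rr ε i j} : Set G) with hT
  let f : S →* Equiv.Perm (Fin (2 ^ m + 1)) := (h.even.hom h.three).comp (Subgroup.inclusion h.le)
  have hf : ∀ s : S, Acts ε (s : G) (f s) := fun s => h.even.acts_hom h.three (Subgroup.inclusion h.le s)
  let act : MulAction S (Fin (2 ^ m + 1)) := MulAction.compHom _ f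
  have hact : ∀ (s : S) (k : Fin (2 ^ m + 1)), s • k = f s k := fun s k => rfl
  let Si : Subgroup S := MulAction.stabilizer S i
  have h1 : Si.index ≤ 2 ^ m := by
    have h2 : Si.index = (MulAction.orbit S i).ncard := by
      rw [← MulAction.index_stabilizer (G := S) (x := i)]
    have hsub : MulAction.orbit S i ⊆ {0}ᶜ := by
      rintro k ⟨s, rfl⟩ hk
      have h3 : f s i = 0 := hk
      have h4 : f s 0 = 0 := h.fix0 s s.2 _ (hf s)
      exact h.i_ne_zero ((f s).injective (h3.trans h4.symm))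
    rw [h2]
    refine (Set.ncard_le_ncard hsub (Set.toFinite _)).trans ?_
    rw [Set.ncard_compl, Set.ncard_singleton, Nat.card_fin]
    simp
  have h2 : Si ≤ T.subgroupOf S := by
    intro s hs
    have h3 : f s i = i := hs
    have h4 := h.fix_j s.2 (hf s) h3
    rw [mem_subgroupOf, hT]
    refine ⟨s.2, mem_centralizer_singleton_iff.mpr ?_⟩
    have h5 := rr_conj (hf s) i j
    rw [h3, h4] at h5
    calc (s : G) * rr ε i j = s * rr ε i j * (s : G)⁻¹ * s := by group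
      _ = rr ε i j * s := by rw [h5]
  have h3 : Si.relIndex (T.subgroupOf S) * (T.subgroupOf S).index = Si.index := relIndex_mul_index h2
  have h4 : 2 ≤ Si.relIndex (T.subgroupOf S) := by
    by_contra hcon
    push Not at hcon
    have h5 : Si.relIndex (T.subgroupOf S) ≠ 0 := by
      rw [relIndex]
      exact FiniteIndex.index_ne_zero
    have h6 : Si.relIndex (T.subgroupOf S) = 1 := by omega
    have h7 := relIndex_eq_one.mp h6
    obtain ⟨a, ha, hσ⟩ := h.swap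
    have h8 : (⟨a, ha⟩ : S) ∈ T.subgroupOf S := by
      rw [mem_subgroupOf, hT]
      exact ⟨ha, h.swap_mem_cent hσ⟩
    have h9 : f ⟨a, ha⟩ i = i := h7 h8
    have h10 : f ⟨a, ha⟩ = Equiv.swap i j := h.even.acts_unique h.three (hf ⟨a, ha⟩) hσ
    rw [h10, Equiv.swap_apply_left] at h9
    exact h.ne h9.symm
  have h5 : 2 * T.relIndex S ≤ 2 ^ m := by
    calc 2 * T.relIndex S ≤ Si.relIndex (T.subgroupOf S) * (T.subgroupOf S).index :=
          Nat.mul_le_mul_right _ h4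
      _ = Si.index := h3
      _ ≤ 2 ^ m := h1
  have h6 : (2 : ℕ) ^ m = 2 * 2 ^ (m - 1) := by
    rw [← pow_succ']
    congr 1
    have := h.two_le
    omega
  omega

/-- `|W : W ∩ P| ≤ 2^(m-1)` -/
theorem relIndex_le [Finite G] : P.relIndex W ≤ 2 ^ (m - 1) := by
  have h2 : Fact (Nat.Prime 2) := ⟨Nat.prime_two⟩
  set T := S ⊓ centralizer ({rr ε i j} : Set G) with hT
  have hTW : T ≤ normalizer (W : Set G) := inf_le_right.trans h.norm
  have hTp : IsPGroup 2 T := h.isP.to_le inf_le_left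
  have h1 : IsPGroup 2 (W ⊔ T : Subgroup G) := by
    have := h.isPW.to_sup_of_normal_left' hTp hTW
    exact this
  have h3 := h.max _ h1
  have h4 := card_sup_mul' hTW
  have h5 : Nat.card T * T.relIndex S = Nat.card S := card_mul_relIndex' inf_le_left
  have h6 : Nat.card (W ⊓ T : Subgroup G) * (W ⊓ T).relIndex W = Nat.card W :=
    card_mul_relIndex' inf_le_left
  rw [inf_relIndex_left] at h6
  have h7 : T.relIndex W ≤ T.relIndex S := by
    have hTpos : 0 < Nat.card T := Nat.card_pos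
    have hWpos : 0 < Nat.card (W ⊓ T : Subgroup G) := Nat.card_pos
    have h8 : Nat.card T * T.relIndex W * Nat.card (W ⊓ T : Subgroup G) ≤
        Nat.card T * T.relIndex S * Nat.card (W ⊓ T : Subgroup G) := by
      calc Nat.card T * T.relIndex W * Nat.card (W ⊓ T : Subgroup G)
          = Nat.card (W ⊓ T : Subgroup G) * T.relIndex W * Nat.card T := by ring
        _ = Nat.card (W ⊔ T : Subgroup G) * Nat.card (W ⊓ T : Subgroup G) := by rw [h6, h4]
        _ ≤ Nat.card S * Nat.card (W ⊓ T : Subgroup G) := Nat.mul_le_mul_right _ h3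
        _ = _ := by rw [← h5]
    have h9 := Nat.le_of_mul_le_mul_right h8 hWpos
    exact Nat.le_of_mul_le_mul_left h9 hTpos
  have h8 : P.relIndex W ≤ T.relIndex W := by
    refine relIndex_le_of_le_left (inf_le_left.trans h.le) ?_
    rw [relIndex]
    exact FiniteIndex.index_ne_zero
  exact (h8.trans h7).trans h.relIndex_S_le

/-! ### (A1), (A2) -/

/-- `[W, v] ≤ C_G(V)` for `v ∈ V0`. -/
theorem p1 [Finite G] {u w : G} (hu : u ∈ V0 ε i j) (hw : w ∈ W) :
    w⁻¹ * u * w * u⁻¹ ∈ centralizer (V : Set G) := h.p1_of h.relIndex_le hu hw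

/-- `w ∈ W` commuting with one `r_kl` centralises `V0`. -/
theorem p2 [Finite G] {w : G} (hw : w ∈ W) {k l : Fin (2 ^ m + 1)}
    (hk : k ≠ i ∧ k ≠ j) (hl : l ≠ i ∧ l ≠ j) (hkl : k ≠ l) (hc : w * rr ε k l = rr ε k l * w) :
    ∀ u ∈ V0 ε i j, w * u = u * w := h.p2_of h.relIndex_le hw hk hl hkl hc

/-- `w v w⁻¹` commutes with `V` for `v ∈ V0`, `w ∈ W`. -/
theorem comm_V [Finite G] {u v w : G} (hu : u ∈ V) (hv : v ∈ V0 ε i j) (hw : w ∈ W) :
    u * (w * v * w⁻¹) = w * v * w⁻¹ * u := by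
  have h1 := h.p1 hv (inv_mem hw)
  rw [inv_inv, mem_centralizer_iff] at h1
  have hvV : v ∈ V := by
    have h2 : V0 ε i j ≤ V := by
      unfold V0
      rw [closure_le]
      rintro x ⟨k, -, -, rfl⟩
      exact zz_mem h.even k
    exact h2 hv
  have h2 := h1 u hu
  calc u * (w * v * w⁻¹) = u * (w * v * w⁻¹ * v⁻¹) * v := by group
    _ = w * v * w⁻¹ * v⁻¹ * (u * v) := by rw [h2]; group
    _ = w * v * w⁻¹ * v⁻¹ * (v * u) := by rw [h.even.comm_mem hu hvV]
    _ = w * v * w⁻¹ * u := by group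

/-- `E = {e ∈ C_P(r_ij) : [W, e] ≤ C_G(V)}` induces every 3-cycle off `{i, j}`. -/
theorem cycle_mem_E [Finite G] {k l a : Fin (2 ^ m + 1)}
    (hk : k ≠ i ∧ k ≠ j) (hl : l ≠ i ∧ l ≠ j) (ha : a ≠ i ∧ a ≠ j) (hkl : k ≠ l) (hka : k ≠ a)
    (hla : l ≠ a) : ∃ e ∈ h.E, e * zz ε k * e⁻¹ = zz ε l ∧ e * zz ε l * e⁻¹ = zz ε a ∧
      e * zz ε a * e⁻¹ = zz ε k := by
  obtain ⟨e, h1, h2, h3⟩ := h.exists_cycle h.relIndex_le hk hl ha hkl hka hla
  exact ⟨e, ⟨h1, h2⟩, h3⟩

end Hyp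

end Cfsg.Agent.Omega.NSix.CosetAct

end

section


/-!
# OMEGA N6, bb #13864 (A3), inside a group

`V` is the even-subset module of `P` of degree `2 ^ m + 1 ≥ 5`, `r_ij` the pair `{i, j}`, `V_n = ⟨r_kl ; k, l ∉ {i, j}⟩`,
`W` a normal 2-subgroup of `C_G(r_ij)` containing its centraliser, `E` normal in `C_P(r_ij)`, inducing all 3-cycles
off `{i, j}`, with `[W, E] ≤ C(V)` and `⟨V_n ^ W⟩` abelian.  Then there is an injective homomorphism
`φ : V_n → Z(W) ∩ Z(Q)` (`Q` a normal self-centralising 2-subgroup of `P`), which commutes with elements of `P`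
inducing all permutations preserving `{i, j}`.
-/

set_option autoImplicit false

namespace Cfsg.Agent.Omega.NSix.FixApp

open Subgroup Cfsg.Agent.Omega.S5.Def Cfsg.Agent.Omega.S5.Syl Cfsg.Agent.Omega.NSix.Base
  Cfsg.Agent.Omega.NSix.Basic Cfsg.Agent.Omega.NSix.FixHom Cfsg.Agent.Omega.NSix.CosetAct Cfsg.Agent.Omega.NSix.StabPerm

universe u

variable {G : Type u} [Group G]

/-- `V_n`, `n = {i, j}`: the even subsets off `{i, j}`. -/
def Vn {n : ℕ} (ε : (Fin n → ZMod 2) → G) (i j : Fin n) : Subgroup G :=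
  closure {y | ∃ k l, (k ≠ i ∧ k ≠ j) ∧ (l ≠ i ∧ l ≠ j) ∧ y = rr ε k l}

section

variable {n : ℕ} {ε : (Fin n → ZMod 2) → G} {V P : Subgroup G} {i j : Fin n}

theorem rr_mem_Vn {k l : Fin n} (hk : k ≠ i ∧ k ≠ j) (hl : l ≠ i ∧ l ≠ j) : rr ε k l ∈ Vn ε i j :=
  subset_closure ⟨k, l, hk, hl, rfl⟩

theorem Vn_le (h : EvenSet n V P ε) : Vn ε i j ≤ V := by
  rw [Vn, closure_le]
  rintro _ ⟨k, l, -, -, rfl⟩
  exact rr_mem h k l

/-- An element of `C_P(r_ij)` preserves `{i, j}`. -/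
theorem mem_St_of (hn : 5 ≤ n) (h : EvenSet n V P ε) (hij : i ≠ j) {g : G} {σ : Equiv.Perm (Fin n)}
    (hg : Acts ε g σ) (hgN : g ∈ NN ε i j) : σ ∈ St i j := by
  have h1 := mem_NN'.mp hgN
  rw [rr_conj hg] at h1
  have hσ : σ i ≠ σ j := fun h0 => hij (σ.injective h0)
  have h2 : ε (Pi.single (σ i) 1 + Pi.single (σ j) 1) = ε (Pi.single i 1 + Pi.single j 1) := by
    rw [h.add, h.add]
    exact h1
  have hc : ∀ a b c d : Fin n, ∃ k, k ≠ a ∧ k ≠ b ∧ k ≠ c ∧ k ≠ d := by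
    intro a b c d
    have hcard : ({a, b, c, d} : Finset (Fin n)).card < (Finset.univ : Finset (Fin n)).card := by
      rw [Finset.card_univ, Fintype.card_fin]
      exact lt_of_le_of_lt Finset.card_le_four (by omega)
    obtain ⟨k, -, hk⟩ := Finset.exists_mem_notMem_of_card_lt_card hcard
    simp only [Finset.mem_insert, Finset.mem_singleton, not_or] at hk
    exact ⟨k, hk.1, hk.2.1, hk.2.2.1, hk.2.2.2⟩
  have h3 : (Pi.single (σ i) 1 + Pi.single (σ j) 1 : Fin n → ZMod 2) = Pi.single i 1 + Pi.single j 1 := by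
    rcases h.eq_iff.mp h2 with h3 | h3
    · exact h3
    · exfalso
      obtain ⟨k, k1, k2, k3, k4⟩ := hc (σ i) (σ j) i j
      have h4 := congrFun h3 k
      simp only [Pi.add_apply, Pi.single_eq_of_ne k1, Pi.single_eq_of_ne k2, Pi.single_eq_of_ne k3,
        Pi.single_eq_of_ne k4, Pi.one_apply, add_zero, zero_add] at h4
      exact zero_ne_one h4
  have h4 : ∀ k, k = σ i ∨ k = σ j → k = i ∨ k = j := by
    intro k hk
    by_contra h0
    push Not at h0
    have h5 := congrFun h3 k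
    rw [Pi.add_apply, Pi.add_apply, Pi.single_eq_of_ne h0.1, Pi.single_eq_of_ne h0.2] at h5
    rcases hk with rfl | rfl
    · rw [Pi.single_eq_same, Pi.single_eq_of_ne hσ] at h5
      exact one_ne_zero h5
    · rw [Pi.single_eq_same, Pi.single_eq_of_ne hσ.symm] at h5
      exact one_ne_zero h5
  rcases h4 _ (Or.inl rfl) with h5 | h5 <;> rcases h4 _ (Or.inr rfl) with h6 | h6
  · exact absurd (h5.trans h6.symm) hσ
  · exact Or.inl ⟨h5, h6⟩
  · exact Or.inr ⟨h5, h6⟩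
  · exact absurd (h5.trans h6.symm) hσ

theorem mem_NN_of (h : EvenSet n V P ε) {g : G} {σ : Equiv.Perm (Fin n)} (hg : Acts ε g σ) (hσ : σ ∈ St i j) :
    g ∈ NN ε i j := by
  rw [mem_NN', rr_conj hg]
  rcases hσ with ⟨h1, h2⟩ | ⟨h1, h2⟩
  · rw [h1, h2]
  · rw [h1, h2, rr_symm h]

theorem Vn_conj {g : G} {σ : Equiv.Perm (Fin n)} (hg : Acts ε g σ) (hσ : σ ∈ St i j) {v : G}
    (hv : v ∈ Vn ε i j) : g * v * g⁻¹ ∈ Vn ε i j := by
  unfold Vn at hv
  induction hv using closure_induction with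
  | mem x hx =>
    obtain ⟨k, l, hk, hl, rfl⟩ := hx
    rw [rr_conj hg]
    exact rr_mem_Vn (ne_of_mem hσ hk) (ne_of_mem hσ hl)
  | one =>
    rw [mul_one, mul_inv_cancel]
    exact one_mem _
  | mul x y _ _ hx hy =>
    have : g * (x * y) * g⁻¹ = (g * x * g⁻¹) * (g * y * g⁻¹) := by group
    rw [this]
    exact mul_mem hx hy
  | inv x _ hx =>
    have : g * x⁻¹ * g⁻¹ = (g * x * g⁻¹)⁻¹ := by group
    rw [this]
    exact inv_mem hx

/-- The elements of `V_n` are the `ε x` with `x` even and trivial on `{i, j}`. -/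
theorem Vn_repr (h : EvenSet n V P ε) {v : G} (hv : v ∈ Vn ε i j) :
    ∃ x : Fin n → ZMod 2, v = ε x ∧ x i = 0 ∧ x j = 0 ∧ ∑ k, x k = 0 := by
  unfold Vn at hv
  induction hv using closure_induction with
  | mem x hx =>
    obtain ⟨k, l, hk, hl, rfl⟩ := hx
    refine ⟨Pi.single k 1 + Pi.single l 1, ?_, ?_, ?_, ?_⟩
    · rw [h.add]
      rfl
    · rw [Pi.add_apply, Pi.single_eq_of_ne hk.1.symm, Pi.single_eq_of_ne hl.1.symm, add_zero]
    · rw [Pi.add_apply, Pi.single_eq_of_ne hk.2.symm, Pi.single_eq_of_ne hl.2.symm, add_zero]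
    · simp only [Pi.add_apply, Finset.sum_add_distrib, Finset.sum_pi_single', Finset.mem_univ, if_true]
      exact CharTwo.add_self_eq_zero 1
  | one => exact ⟨0, h.zero.symm, rfl, rfl, by simp⟩
  | mul x y _ _ hx hy =>
    obtain ⟨x', rfl, x1, x2, x3⟩ := hx
    obtain ⟨y', rfl, y1, y2, y3⟩ := hy
    refine ⟨x' + y', (h.add _ _).symm, ?_, ?_, ?_⟩
    · rw [Pi.add_apply, x1, y1, add_zero]
    · rw [Pi.add_apply, x2, y2, add_zero]
    · simp only [Pi.add_apply, Finset.sum_add_distrib, x3, y3, add_zero]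
  | inv x _ hx =>
    obtain ⟨x', rfl, x1, x2, x3⟩ := hx
    exact ⟨x', h.inv _, x1, x2, x3⟩

/-- An equivariant homomorphism on `V_n` which is not trivial is injective (`n` odd). -/
theorem phi_inj (hodd : n % 2 = 1) (h : EvenSet n V P ε) (hij : i ≠ j) {φ : G → G} {R : Subgroup G}
    (hmul : ∀ v ∈ Vn ε i j, ∀ w ∈ Vn ε i j, φ (v * w) = φ v * φ w) (hne : ∃ v ∈ Vn ε i j, φ v ≠ 1)
    (hR : ∀ g ∈ R, ∀ v ∈ Vn ε i j, φ (g * v * g⁻¹) = g * φ v * g⁻¹)
    (hfull : ∀ σ ∈ St i j, ∃ g ∈ R, Acts ε g σ) {v : G} (hv : v ∈ Vn ε i j) (hv1 : φ v = 1) : v = 1 := by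
  by_contra hne1
  obtain ⟨x, rfl, x1, x2, x3⟩ := Vn_repr h hv
  have h01 : ∀ a : ZMod 2, a ≠ 0 → a = 1 := by decide
  have hk : ∃ k, x k ≠ 0 := by
    by_contra h0
    push Not at h0
    apply hne1
    have : x = 0 := funext h0
    rw [this, h.zero]
  obtain ⟨k, hk⟩ := hk
  have hki : k ≠ i ∧ k ≠ j := ⟨fun h0 => hk (by rw [h0, x1]), fun h0 => hk (by rw [h0, x2])⟩
  have hl : ∃ l, (l ≠ i ∧ l ≠ j) ∧ x l = 0 := by
    by_contra h0
    push Not at h0
    have h1 : x = 1 + Pi.single i 1 + Pi.single j 1 := by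
      funext a
      rw [Pi.add_apply, Pi.add_apply, Pi.one_apply]
      by_cases hai : a = i
      · subst hai
        rw [x1, Pi.single_eq_same, Pi.single_eq_of_ne hij]
        decide
      · by_cases haj : a = j
        · subst haj
          rw [x2, Pi.single_eq_same, Pi.single_eq_of_ne hai]
          decide
        · rw [h01 _ (h0 a ⟨hai, haj⟩), Pi.single_eq_of_ne hai, Pi.single_eq_of_ne haj, add_zero, add_zero]
    rw [h1] at x3
    simp only [Pi.add_apply, Finset.sum_add_distrib, Finset.sum_pi_single', Finset.mem_univ, if_true,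
      Pi.one_apply, Finset.sum_const, Finset.card_univ, Fintype.card_fin, nsmul_eq_mul, mul_one] at x3
    have h2 : ((n : ℕ) : ZMod 2) = 1 := by
      rw [← ZMod.natCast_mod, hodd, Nat.cast_one]
    rw [h2] at x3
    revert x3
    decide
  obtain ⟨l, hl, hxl⟩ := hl
  have hkl : k ≠ l := fun h0 => hk (by rw [h0, hxl])
  obtain ⟨g, hg, hgσ⟩ := hfull _ (swap_mem_St hki hl)
  have h1 : φ (ε x * (g * ε x * g⁻¹)) = 1 := by
    rw [hmul _ hv _ (Vn_conj hgσ (swap_mem_St hki hl) hv), hR g hg _ hv, hv1]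
    group
  have h2 : ε x * (g * ε x * g⁻¹) = rr ε k l := by
    rw [hgσ x, ← h.add]
    change _ = ε _ * ε _
    rw [← h.add]
    congr 1
    funext a
    rw [Pi.add_apply, Pi.add_apply]
    change x a + x ((Equiv.swap k l).symm a) = _
    rw [Equiv.symm_swap]
    by_cases hak : a = k
    · subst hak
      rw [Equiv.swap_apply_left, hxl, h01 _ hk, Pi.single_eq_same, Pi.single_eq_of_ne hkl]
    · by_cases hal : a = l
      · subst hal
        rw [Equiv.swap_apply_right, hxl, h01 _ hk, Pi.single_eq_same, Pi.single_eq_of_ne hkl.symm]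
      · rw [Equiv.swap_apply_of_ne_of_ne hak hal, Pi.single_eq_of_ne hak, Pi.single_eq_of_ne hal]
        exact CharTwo.add_self_eq_zero _
  rw [h2] at h1
  have h3 : ∀ a b, (a ≠ i ∧ a ≠ j) → (b ≠ i ∧ b ≠ j) → φ (rr ε a b) = 1 := by
    intro a b ha hb
    by_cases hab : a = b
    · subst hab
      have h4 : rr ε a a = 1 := zz_sq h a
      have h5 := hmul 1 (one_mem _) 1 (one_mem _)
      rw [one_mul] at h5
      rw [h4]
      exact (mul_eq_left.mp h5.symm)
    · obtain ⟨σ, h4, h5, h6⟩ := exists_perm hkl hab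
      have hσ : σ ∈ St i j := Or.inl ⟨h6 i hki.1.symm hl.1.symm ha.1.symm hb.1.symm,
        h6 j hki.2.symm hl.2.symm ha.2.symm hb.2.symm⟩
      obtain ⟨g, hg, hgσ⟩ := hfull _ hσ
      have h7 := hR g hg _ (rr_mem_Vn hki hl)
      rw [rr_conj hgσ, h4, h5, h1] at h7
      rw [h7]
      group
  obtain ⟨w, hw, hw1⟩ := hne
  apply hw1
  have h8 : φ 1 = 1 := by
    have h5 := hmul 1 (one_mem _) 1 (one_mem _)
    rw [one_mul] at h5
    exact (mul_eq_left.mp h5.symm)
  have key : ∀ w (hw : w ∈ closure {y | ∃ k l, (k ≠ i ∧ k ≠ j) ∧ (l ≠ i ∧ l ≠ j) ∧ y = rr ε k l}), φ w = 1 := by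
    intro w hw
    induction hw using closure_induction with
    | mem x hx =>
      obtain ⟨a, b, ha, hb, rfl⟩ := hx
      exact h3 a b ha hb
    | one => exact h8
    | mul x y hx' hy' hx hy => rw [hmul x hx' y hy', hx, hy, one_mul]
    | inv x hx' hx =>
      have h9 := hmul x hx' x⁻¹ (inv_mem hx')
      rw [mul_inv_cancel, h8, hx, one_mul] at h9
      exact h9.symm
  exact key w hw

end

section

variable {m : ℕ} {ε : (Fin (2 ^ m + 1) → ZMod 2) → G} {V P : Subgroup G} {i j : Fin (2 ^ m + 1)}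

/-- The elements of a subgroup of odd index of `C_P(r_ij)` containing all 3-cycles off `{i, j}` induce all
permutations preserving `{i, j}`. -/
theorem full_of (hm : 2 ≤ m) (h : EvenSet (2 ^ m + 1) V P ε) (hij : i ≠ j) {R : Subgroup G}
    (hRP : R ≤ P ⊓ NN ε i j) (hodd : ¬ 2 ∣ R.relIndex (P ⊓ NN ε i j))
    (h3 : ∀ a b c, (a ≠ i ∧ a ≠ j) → (b ≠ i ∧ b ≠ j) → (c ≠ i ∧ c ≠ j) → a ≠ b → b ≠ c → a ≠ c →
      ∃ e ∈ R, Acts ε e (Equiv.swap a b * Equiv.swap b c)) :
    ∀ σ ∈ St i j, ∃ g ∈ R, Acts ε g σ := by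
  have h5 := five_le hm
  have hn : 3 ≤ 2 ^ m + 1 := by omega
  let π := h.hom hn
  let D : Subgroup G := P ⊓ NN ε i j
  let H : Subgroup (Equiv.Perm (Fin (2 ^ m + 1))) := (R.subgroupOf P).map π
  have hD : (D.subgroupOf P).map π = St i j := by
    apply le_antisymm
    · rintro _ ⟨g, hg, rfl⟩
      exact mem_St_of h5 h hij (h.acts_hom hn g) hg.2
    · intro σ hσ
      obtain ⟨g, hg, hgσ⟩ := h.full σ
      exact ⟨⟨g, hg⟩, ⟨hg, mem_NN_of h hgσ hσ⟩, h.hom_eq hn hgσ⟩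
  have hodd' : ¬ 2 ∣ H.relIndex (St i j) := by
    intro h0
    apply hodd
    rw [← hD] at h0
    have h1 : ((R.subgroupOf P).map π).relIndex ((D.subgroupOf P).map π) ∣
        (R.subgroupOf P).relIndex (D.subgroupOf P) := by
      rw [← relIndex_comap]
      exact relIndex_dvd_of_le_left _ (le_comap_map _ _)
    have h2 : (R.subgroupOf P).relIndex (D.subgroupOf P) = R.relIndex D := by
      have h3 : (R.subgroupOf P).relIndex (D.subgroupOf P) = R.relIndex ((D.subgroupOf P).map P.subtype) := by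
        rw [subgroupOf, relIndex_comap]
      rw [h3, subgroupOf_map_subtype, inf_eq_left.mpr (inf_le_left : D ≤ P)]
    rw [h2] at h1
    exact h0.trans h1
  obtain ⟨k, hk, l, hl, hkl⟩ : ∃ k, (k ≠ i ∧ k ≠ j) ∧ ∃ l, (l ≠ i ∧ l ≠ j) ∧ k ≠ l := by
    have hc : ∀ a b c : Fin (2 ^ m + 1), ∃ k, k ≠ a ∧ k ≠ b ∧ k ≠ c := by
      intro a b c
      have hcard : ({a, b, c} : Finset (Fin (2 ^ m + 1))).card <
          (Finset.univ : Finset (Fin (2 ^ m + 1))).card := by
        rw [Finset.card_univ, Fintype.card_fin]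
        exact lt_of_le_of_lt Finset.card_le_three (by omega)
      obtain ⟨k, -, hk⟩ := Finset.exists_mem_notMem_of_card_lt_card hcard
      simp only [Finset.mem_insert, Finset.mem_singleton, not_or] at hk
      exact ⟨k, hk.1, hk.2.1, hk.2.2⟩
    obtain ⟨k, k1, k2, -⟩ := hc i j j
    obtain ⟨l, l1, l2, l3⟩ := hc i j k
    exact ⟨k, ⟨k1, k2⟩, l, ⟨l1, l2⟩, l3.symm⟩
  have hH := St_le hk hl hkl hodd' (fun a b c ha hb hc hab hbc hac => by
    obtain ⟨e, he, heσ⟩ := h3 a b c ha hb hc hab hbc hac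
    exact ⟨⟨e, (hRP he).1⟩, he, h.hom_eq hn heσ⟩)
  intro σ hσ
  obtain ⟨g, hg, hgσ⟩ := hH hσ
  refine ⟨g, hg, ?_⟩
  rw [← hgσ]
  exact h.acts_hom hn g

end

section

variable {m : ℕ} {V P S W : Subgroup G} {ε : (Fin (2 ^ m + 1) → ZMod 2) → G} {i j : Fin (2 ^ m + 1)}

theorem A_eq : A P ε i j = P ⊓ NN ε i j := rfl

theorem Vn_le_V0 : Vn ε i j ≤ V0 ε i j := by
  rw [Vn, closure_le]
  rintro _ ⟨k, l, hk, hl, rfl⟩
  exact mul_mem (subset_closure ⟨k, hk.1, hk.2, rfl⟩) (subset_closure ⟨l, hl.1, hl.2, rfl⟩)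

/-- `E` induces all 3-cycles off `{i, j}` (and fixes `i` and `j`). -/
theorem cycle3 [Finite G] (h : Hyp V P S W ε i j) {a b c : Fin (2 ^ m + 1)} (ha : a ≠ i ∧ a ≠ j)
    (hb : b ≠ i ∧ b ≠ j) (hc : c ≠ i ∧ c ≠ j) (hab : a ≠ b) (hbc : b ≠ c) (hac : a ≠ c) :
    ∃ e ∈ h.E, Acts ε e (Equiv.swap a b * Equiv.swap b c) := by
  classical
  let τ : Equiv.Perm {k : Fin (2 ^ m + 1) // k ≠ i ∧ k ≠ j} :=
    Equiv.swap ⟨a, ha⟩ ⟨b, hb⟩ * Equiv.swap ⟨b, hb⟩ ⟨c, hc⟩
  have hτ : τ.IsThreeCycle := by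
    have h1 := Equiv.Perm.isThreeCycle_swap_mul_swap_same (a := (⟨b, hb⟩ : {k // k ≠ i ∧ k ≠ j}))
      (b := ⟨a, ha⟩) (c := ⟨c, hc⟩) (fun h0 => hab (congrArg Subtype.val h0).symm)
      (fun h0 => hbc (congrArg Subtype.val h0)) (fun h0 => hac (congrArg Subtype.val h0))
    rwa [Equiv.swap_comm (⟨b, hb⟩ : {k // k ≠ i ∧ k ≠ j}) ⟨a, ha⟩] at h1
  obtain ⟨e, he, heG⟩ := h.exists_good h.relIndex_le hτ.inv
  have heE : (e : G) ∈ h.E := ⟨e.2, heG⟩
  refine ⟨e * e, mul_mem heE heE, ?_⟩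
  have h1 := (h.acts_phi e).mul (h.acts_phi e)
  have h2 : h.phi e * h.phi e = Equiv.swap a b * Equiv.swap b c := by
    have h3 : ∀ k : {k : Fin (2 ^ m + 1) // k ≠ i ∧ k ≠ j}, h.phi e k = (τ⁻¹ k : {k // k ≠ i ∧ k ≠ j}) := by
      intro k
      rw [← h.psi_apply, he]
    have h4 : τ⁻¹ * τ⁻¹ = τ := by
      have h5 : τ ^ 3 = 1 := by
        rw [← hτ.orderOf]
        exact pow_orderOf_eq_one τ
      calc τ⁻¹ * τ⁻¹ = τ⁻¹ * τ⁻¹ * τ ^ 3 := by rw [h5, mul_one]
        _ = τ := by group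
    ext k
    congr 1
    rw [Equiv.Perm.mul_apply]
    by_cases hki : k = i
    · subst hki
      rw [Equiv.Perm.mul_apply, Equiv.swap_apply_of_ne_of_ne hb.1.symm hc.1.symm,
        Equiv.swap_apply_of_ne_of_ne ha.1.symm hb.1.symm]
      rcases h.phi_pair e with ⟨h5, -⟩ | ⟨h5, h6⟩
      · rw [h5, h5]
      · rw [h5, h6]
    · by_cases hkj : k = j
      · subst hkj
        rw [Equiv.Perm.mul_apply, Equiv.swap_apply_of_ne_of_ne hb.2.symm hc.2.symm,
          Equiv.swap_apply_of_ne_of_ne ha.2.symm hb.2.symm]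
        rcases h.phi_pair e with ⟨-, h5⟩ | ⟨h5, h6⟩
        · rw [h5, h5]
        · rw [h6, h5]
      · have h5 := h3 ⟨k, hki, hkj⟩
        have h6 := h3 (τ⁻¹ ⟨k, hki, hkj⟩)
        change h.phi e k = _ at h5
        rw [h5, h6]
        have h7 : τ⁻¹ (τ⁻¹ ⟨k, hki, hkj⟩) = τ ⟨k, hki, hkj⟩ := by
          rw [← Equiv.Perm.mul_apply, h4]
        rw [h7]
        have h8 : Equiv.Perm.ofSubtype τ = Equiv.swap a b * Equiv.swap b c := by
          change Equiv.Perm.ofSubtype (Equiv.swap _ _ * Equiv.swap _ _) = _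
          rw [map_mul, Equiv.Perm.ofSubtype_swap_eq, Equiv.Perm.ofSubtype_swap_eq]
        rw [← h8, Equiv.Perm.ofSubtype_apply_of_mem τ (⟨hki, hkj⟩ : k ≠ i ∧ k ≠ j)]
  rwa [h2] at h1

/-- `⟨V_n ^ W⟩` -/
def AA (W : Subgroup G) (ε : (Fin (2 ^ m + 1) → ZMod 2) → G) (i j : Fin (2 ^ m + 1)) : Subgroup G :=
  closure {x | ∃ w ∈ W, ∃ v ∈ Vn ε i j, x = w * v * w⁻¹}

theorem AA_conj {g : G} (hW : ∀ w ∈ W, g * w * g⁻¹ ∈ W) (hV : ∀ v ∈ Vn ε i j, g * v * g⁻¹ ∈ Vn ε i j) {x : G}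
    (hx : x ∈ AA W ε i j) : g * x * g⁻¹ ∈ AA W ε i j := by
  unfold AA at hx
  induction hx using closure_induction with
  | mem x hx =>
    obtain ⟨w, hw, v, hv, rfl⟩ := hx
    exact subset_closure ⟨g * w * g⁻¹, hW w hw, g * v * g⁻¹, hV v hv, by group⟩
  | one =>
    rw [mul_one, mul_inv_cancel]
    exact one_mem _
  | mul x y _ _ hx hy =>
    have : g * (x * y) * g⁻¹ = (g * x * g⁻¹) * (g * y * g⁻¹) := by group
    rw [this]
    exact mul_mem hx hy
  | inv x _ hx =>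
    have : g * x⁻¹ * g⁻¹ = (g * x * g⁻¹)⁻¹ := by group
    rw [this]
    exact inv_mem hx

theorem AA_conjW {w x : G} (hw : w ∈ W) (hx : x ∈ AA W ε i j) : w * x * w⁻¹ ∈ AA W ε i j := by
  unfold AA at hx
  induction hx using closure_induction with
  | mem x hx =>
    obtain ⟨w', hw', v, hv, rfl⟩ := hx
    exact subset_closure ⟨w * w', mul_mem hw hw', v, hv, by group⟩
  | one =>
    rw [mul_one, mul_inv_cancel]
    exact one_mem _
  | mul x y _ _ hx hy =>
    have : w * (x * y) * w⁻¹ = (w * x * w⁻¹) * (w * y * w⁻¹) := by group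
    rw [this]
    exact mul_mem hx hy
  | inv x _ hx =>
    have : w * x⁻¹ * w⁻¹ = (w * x * w⁻¹)⁻¹ := by group
    rw [this]
    exact inv_mem hx

theorem AA_comm [Finite G] (h : Hyp V P S W ε i j) : ∀ x ∈ AA W ε i j, ∀ y ∈ AA W ε i j, x * y = y * x := by
  have h1 : IsMulCommutative (AA W ε i j) := by
    refine isMulCommutative_closure ?_
    rintro _ ⟨w, hw, v, hv, rfl⟩ _ ⟨w', hw', v', hv', rfl⟩
    have h2 := h.comm_V (Vn_le h.even hv) (Vn_le_V0 hv') (mul_mem (inv_mem hw) hw')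
    calc w * v * w⁻¹ * (w' * v' * w'⁻¹) = w * (v * (w⁻¹ * w' * v' * (w⁻¹ * w')⁻¹)) * w⁻¹ := by group
      _ = w * (w⁻¹ * w' * v' * (w⁻¹ * w')⁻¹ * v) * w⁻¹ := by rw [h2]
      _ = _ := by group
  intro x hx y hy
  exact congrArg Subtype.val (h1.is_comm.comm (⟨x, hx⟩ : AA W ε i j) ⟨y, hy⟩)

theorem AA_sq [Finite G] (h : Hyp V P S W ε i j) {x : G} (hx : x ∈ AA W ε i j) : x * x = 1 := by
  have hc := AA_comm h
  have key : ∀ x (hx : x ∈ closure {x | ∃ w ∈ W, ∃ v ∈ Vn ε i j, x = w * v * w⁻¹}), x * x = 1 := by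
    intro x hx
    induction hx using closure_induction with
    | mem x hx =>
      obtain ⟨w, hw, v, hv, rfl⟩ := hx
      calc w * v * w⁻¹ * (w * v * w⁻¹) = w * (v * v) * w⁻¹ := by group
        _ = 1 := by
          rw [h.even.sq_mem (Vn_le h.even hv)]
          group
    | one => exact one_mul 1
    | mul x y hx' hy' hx hy =>
      calc x * y * (x * y) = x * (y * x) * y := by group
        _ = x * (x * y) * y := by rw [hc y hy' x hx']
        _ = (x * x) * (y * y) := by group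
        _ = 1 := by rw [hx, hy, one_mul]
    | inv x _ hx =>
      rw [← mul_inv_rev, hx, inv_one]
  exact key x hx

theorem AA_WE [Finite G] (h : Hyp V P S W ε i j) {w e x : G} (hw : w ∈ W) (he : e ∈ h.E) (hx : x ∈ AA W ε i j) :
    w * (e * x * e⁻¹) * w⁻¹ = e * (w * x * w⁻¹) * e⁻¹ := by
  unfold AA at hx
  induction hx using closure_induction with
  | mem x hx =>
    obtain ⟨w', hw', v, hv, rfl⟩ := hx
    have h1 := h.equiv he hw' (Vn_le h.even hv)
    have h2 := h.equiv he (mul_mem hw hw') (Vn_le h.even hv)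
    calc w * (e * (w' * v * w'⁻¹) * e⁻¹) * w⁻¹ = w * (w' * (e * v * e⁻¹) * w'⁻¹) * w⁻¹ := by rw [h1]
      _ = w * w' * (e * v * e⁻¹) * (w * w')⁻¹ := by group
      _ = e * (w * w' * v * (w * w')⁻¹) * e⁻¹ := h2.symm
      _ = _ := by group
  | one => group
  | mul x y _ _ hx hy =>
    calc w * (e * (x * y) * e⁻¹) * w⁻¹ = (w * (e * x * e⁻¹) * w⁻¹) * (w * (e * y * e⁻¹) * w⁻¹) := by group
      _ = e * (w * x * w⁻¹) * e⁻¹ * (e * (w * y * w⁻¹) * e⁻¹) := by rw [hx, hy]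
      _ = _ := by group
  | inv x _ hx =>
    calc w * (e * x⁻¹ * e⁻¹) * w⁻¹ = (w * (e * x * e⁻¹) * w⁻¹)⁻¹ := by group
      _ = (e * (w * x * w⁻¹) * e⁻¹)⁻¹ := by rw [hx]
      _ = _ := by group

/-- #13864 (A3). -/
theorem exists_phi [Finite G] (h : Hyp V P S W ε i j) {Q : Subgroup G}
    (hWc : ∀ g ∈ NN ε i j, (∀ w ∈ W, g * w = w * g) → g ∈ W)
    (hQP : Q ≤ P) (hQ2 : IsPGroup 2 Q) (hQV : Q ≤ centralizer (V : Set G))
    (hQc : ∀ g : G, (∀ q ∈ Q, g * q = q * g) → g ∈ Q) :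
    ∃ φ : G → G, (∀ v ∈ Vn ε i j, ∀ v' ∈ Vn ε i j, φ (v * v') = φ v * φ v') ∧
      (∀ v ∈ Vn ε i j, φ v = 1 → v = 1) ∧
      (∀ v ∈ Vn ε i j, φ v ∈ W ∧ (∀ w ∈ W, φ v * w = w * φ v) ∧ φ v ∈ Q ∧ (∀ q ∈ Q, φ v * q = q * φ v) ∧
        φ v * φ v = 1) ∧
      ∀ σ ∈ St i j, ∃ g ∈ P ⊓ NN ε i j, Acts ε g σ ∧ ∀ v ∈ Vn ε i j, g * v * g⁻¹ ∈ Vn ε i j ∧
        φ (g * v * g⁻¹) = g * φ v * g⁻¹ := by
  classical
  have hf : Fact (Nat.Prime 2) := ⟨Nat.prime_two⟩
  have h5 := h.five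
  let D : Subgroup G := P ⊓ NN ε i j
  have hQD : Q ≤ D := by
    intro q hq
    exact ⟨hQP hq, mem_NN.mpr (mem_centralizer_iff.mp (hQV hq) _ (rr_mem h.even i j)).symm⟩
  -- a Sylow 2-subgroup of `C_P(n)` containing `Q`
  obtain ⟨T0, hT0⟩ : ∃ T0 : Sylow 2 D, Q.subgroupOf D ≤ T0 :=
    (hQ2.comap_of_injective D.subtype D.subtype_injective).exists_le_sylow
  let T : Subgroup G := (T0 : Subgroup D).map D.subtype
  have hTD : T ≤ D := map_subtype_le _
  have hT2 : IsPGroup 2 T := T0.isPGroup'.map _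
  have hQT : Q ≤ T := by
    intro q hq
    exact ⟨⟨q, hQD hq⟩, hT0 hq, rfl⟩
  have hTodd : ¬ 2 ∣ T.relIndex D := by
    have h1 : T.subgroupOf D = T0 := comap_map_eq_self_of_injective D.subtype_injective _
    rw [relIndex, h1]
    exact T0.not_dvd_index
  have hSt : ∀ g ∈ D, ∀ v ∈ Vn ε i j, g * v * g⁻¹ ∈ Vn ε i j := by
    intro g hg v hv
    obtain ⟨σ, hσ⟩ := h.even.perm g hg.1
    exact Vn_conj hσ (mem_St_of h5 h.even h.ne hσ hg.2) hv
  have hED : h.E ≤ D := fun e he => he.1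
  obtain ⟨k, hk, -, -⟩ := h.exists_third i j
  obtain ⟨l, hl, hlk, -⟩ := h.exists_third k k
  obtain ⟨φ, f1, f2, f3, f4, f5⟩ := exists_hom (Vn := Vn ε i j) (A := AA W ε i j) (E := h.E) (W := W) (T := T)
    (fun v hv => subset_closure ⟨1, W.one_mem, v, hv, by group⟩)
    (fun h0 => by
      have h1 : rr ε k l ∈ Vn ε i j := rr_mem_Vn hk hl
      rw [h0, mem_bot] at h1
      exact rr_ne_one h.even h.three hlk.symm h1)
    (AA_comm h) (fun a ha => AA_sq h ha) h.isPW hT2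
    (fun e he => hSt e (hED he)) (fun t ht => hSt t (hTD ht))
    (fun w hw a ha => AA_conjW hw ha)
    (fun t ht a ha => AA_conj (fun w hw => h.conjW (hTD ht).2 hw) (hSt t (hTD ht)) ha)
    (fun t ht w hw => h.conjW (hTD ht).2 hw)
    (fun t ht e he => h.conj_E (hTD ht) he)
    (fun w hw e he a ha => AA_WE h hw he ha)
  have hfull : ∀ σ ∈ St i j, ∃ g ∈ h.E ⊔ T, Acts ε g σ := by
    refine full_of h.two_le h.even h.ne (sup_le hED hTD) (fun h0 => hTodd (h0.trans ?_)) ?_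
    · exact relIndex_dvd_of_le_left _ le_sup_right
    · intro a b c ha hb hc hab hbc hac
      obtain ⟨e, he, h1⟩ := cycle3 h ha hb hc hab hbc hac
      exact ⟨e, mem_sup_left he, h1⟩
  have hodd : (2 ^ m + 1) % 2 = 1 := by
    obtain ⟨k, hk⟩ := odd_n (m := m) (by have := h.two_le; omega)
    omega
  refine ⟨φ, f2, fun v hv hv1 => phi_inj hodd h.even h.ne f2 f3 (fun g hg v hv => (f5 g hg v hv).2) hfull hv hv1,
    fun v hv => ?_, fun σ hσ => ?_⟩
  · have hcW : ∀ w ∈ W, φ v * w = w * φ v := by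
      intro w hw
      have h1 := f4 w hw v hv
      calc φ v * w = w * φ v * w⁻¹ * w := by rw [h1]
        _ = w * φ v := by group
    have hcQ : ∀ q ∈ Q, φ v * q = q * φ v := by
      intro q hq
      have h1 := (f5 q (mem_sup_right (hQT hq)) v hv).2
      have h2 : q * v * q⁻¹ = v := by
        rw [← mem_centralizer_iff.mp (hQV hq) v (Vn_le h.even hv), mul_inv_cancel_right]
      rw [h2] at h1
      calc φ v * q = q * φ v * q⁻¹ * q := by rw [← h1]
        _ = q * φ v := by group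
    have hAN : AA W ε i j ≤ NN ε i j := by
      rw [AA, closure_le]
      rintro _ ⟨w, hw, u, hu, rfl⟩
      have hwN : w ∈ NN ε i j := h.leW hw
      have huN : u ∈ NN ε i j := mem_NN.mpr (h.even.comm_mem (Vn_le h.even hu) (rr_mem h.even i j))
      exact mul_mem (mul_mem hwN huN) (inv_mem hwN)
    exact ⟨hWc _ (hAN (f1 v hv)) hcW, hcW, hQc _ hcQ, hcQ, AA_sq h (f1 v hv)⟩
  · obtain ⟨g, hg, hgσ⟩ := hfull σ hσ
    exact ⟨g, sup_le hED hTD hg, hgσ, f5 g hg⟩

end

end Cfsg.Agent.Omega.NSix.FixApp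

end

section


/-!
# OMEGA N6, bb #13506 (1): `V ≤ O₂(C_G(z_i))`

`V` is the even-subset module of degree `2 ^ m + 1`, `m ≥ 3`, for `P ≥ S`, `S` a Sylow 2-subgroup of `G`, `G` of
characteristic 2 type.

* `two_normal` : a normal 2-subgroup of a group inducing `Sym(Λ)`, `|Λ| ≥ 5`, acts trivially on `Λ`;
* `norm_two` : a 2-subgroup of `P` normalised by `P` centralises `V` (any degree `≥ 5`);
* `pt` : `z_j ∈ O₂(C_G(z_i))`.
-/

set_option autoImplicit false
set_option linter.dupNamespace false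

namespace Cfsg.Agent.Omega.NSix.PtCen

open Subgroup Cfsg Cfsg.Agent.ZN Cfsg.Agent.Omega.S5.Def Cfsg.Agent.Omega.S5.Syl
open Cfsg.Agent.Omega.NSix.Base Cfsg.Agent.Omega.NSix.Basic
open Cfsg.Agent.MinSimple.VModule (o2_isPGroup o2_le le_o2 le_normalizer_o2 o2_le_of_sylow)

universe u

/-- A normal 2-subgroup of a group inducing `Sym(Λ)`, `|Λ| ≥ 5`, acts trivially on `Λ`. -/
theorem two_normal {Λ : Type*} [Finite Λ] (h5 : 5 ≤ Nat.card Λ) {A : Type*} [Group A]
    (ψ : A →* Equiv.Perm Λ) (hψ : Function.Surjective ψ) {N : Subgroup A} (hN : N.Normal) (h2 : IsPGroup 2 N) :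
    ∀ x ∈ N, ψ x = 1 := by
  classical
  have : Fintype Λ := Fintype.ofFinite Λ
  by_contra hcon
  push Not at hcon
  obtain ⟨x, hx, hx1⟩ := hcon
  have hMn : (N.map ψ).Normal := hN.map _ hψ
  have hnt : Nontrivial (N.map ψ) :=
    ⟨⟨⟨ψ x, x, hx, rfl⟩, 1, fun h => hx1 (congrArg Subtype.val h)⟩⟩
  have h1 := Equiv.Perm.alternatingGroup_le_of_normal h5 hnt
  rw [Nat.card_eq_fintype_card, ← Finset.card_univ] at h5
  obtain ⟨a, b, c, hab, hac, hbc⟩ : ∃ a b c : Λ, a ≠ b ∧ a ≠ c ∧ b ≠ c := by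
    obtain ⟨a, -, b, -, c, -, h6, h7, h8⟩ :=
      Finset.two_lt_card.mp (show 2 < (Finset.univ : Finset Λ).card by omega)
    exact ⟨a, b, c, h6, h7, h8⟩
  have h3 := Equiv.Perm.isThreeCycle_swap_mul_swap_same hab hac hbc
  have h4 : Equiv.swap a b * Equiv.swap a c ∈ N.map ψ := h1 h3.mem_alternatingGroup
  obtain ⟨k, hk⟩ := (h2.map ψ) ⟨_, h4⟩
  have h6 : (Equiv.swap a b * Equiv.swap a c) ^ 2 ^ k = 1 := congrArg Subtype.val hk
  have h7 := orderOf_dvd_of_pow_eq_one h6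
  rw [h3.orderOf] at h7
  have h8 := Nat.Prime.dvd_of_dvd_pow Nat.prime_three h7
  omega

variable {G : Type u} [Group G]

/-- A 2-subgroup of `P` normalised by `P` centralises `V`. -/
theorem norm_two {n : ℕ} {V P U : Subgroup G} {ε : (Fin n → ZMod 2) → G} (hn : 5 ≤ n) (h : EvenSet n V P ε)
    (hUP : U ≤ P) (hU : IsPGroup 2 U) (hPU : P ≤ normalizer (U : Set G)) : U ≤ centralizer (V : Set G) := by
  have hn3 : 3 ≤ n := by omega
  intro u hu
  have hN : (U.subgroupOf P).Normal := normal_subgroupOf_of_le_normalizer hPU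
  have h1 := two_normal (by rw [Nat.card_fin]; exact hn) (h.hom hn3) (h.hom_surjective hn3) hN
    (hU.comap_of_injective _ P.subtype_injective) ⟨u, hUP hu⟩ hu
  have h2 := h.acts_hom hn3 ⟨u, hUP hu⟩
  rw [h1] at h2
  exact h.acts_one_iff.mp h2

/-- conjugation of `O₂(C_G(a))` -/
theorem conj_o2_cent {g a x : G} (hx : x ∈ o2 (centralizer ({a} : Set G))) :
    g * x * g⁻¹ ∈ o2 (centralizer ({g * a * g⁻¹} : Set G)) := by
  have hc : ∀ y, g * y * g⁻¹ ∈ centralizer ({g * a * g⁻¹} : Set G) ↔ y ∈ centralizer ({a} : Set G) := by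
    intro y
    rw [mem_centralizer_singleton_iff, mem_centralizer_singleton_iff]
    constructor
    · intro h1
      have h2 : g * (y * a) * g⁻¹ = g * (a * y) * g⁻¹ := by
        calc g * (y * a) * g⁻¹ = g * y * g⁻¹ * (g * a * g⁻¹) := by group
          _ = g * a * g⁻¹ * (g * y * g⁻¹) := h1
          _ = _ := by group
      exact mul_left_cancel (mul_right_cancel h2)
    · intro h1
      calc g * y * g⁻¹ * (g * a * g⁻¹) = g * (y * a) * g⁻¹ := by group
        _ = g * (a * y) * g⁻¹ := by rw [h1]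
        _ = _ := by group
  have h1 : (o2 (centralizer ({a} : Set G))).map (MulAut.conj g).toMonoidHom ≤
      o2 (centralizer ({g * a * g⁻¹} : Set G)) := by
    apply le_o2
    · rintro _ ⟨y, hy, rfl⟩
      exact (hc y).mpr (o2_le _ hy)
    · exact (o2_isPGroup _).map _
    · have key : ∀ l ∈ centralizer ({g * a * g⁻¹} : Set G),
          ∀ y ∈ (o2 (centralizer ({a} : Set G))).map (MulAut.conj g).toMonoidHom,
          l * y * l⁻¹ ∈ (o2 (centralizer ({a} : Set G))).map (MulAut.conj g).toMonoidHom := by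
        rintro l hl _ ⟨y, hy, rfl⟩
        have h2 : g⁻¹ * l * g ∈ centralizer ({a} : Set G) := by
          rw [← hc]
          have e : g * (g⁻¹ * l * g) * g⁻¹ = l := by group
          rwa [e]
        refine ⟨(g⁻¹ * l * g) * y * (g⁻¹ * l * g)⁻¹,
          (mem_normalizer_iff.mp (le_normalizer_o2 _ h2) y).mp hy, ?_⟩
        change g * ((g⁻¹ * l * g) * y * (g⁻¹ * l * g)⁻¹) * g⁻¹ = l * (g * y * g⁻¹) * l⁻¹
        group
      intro l hl
      rw [mem_normalizer_iff]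
      refine fun y => ⟨key l hl y, fun hy => ?_⟩
      have := key l⁻¹ (inv_mem hl) _ hy
      have h3 : l⁻¹ * (l * y * l⁻¹) * l⁻¹⁻¹ = y := by group
      rwa [h3] at this
  exact h1 ⟨x, hx, rfl⟩

section

variable {m : ℕ} {V P : Subgroup G} {ε : (Fin (2 ^ m + 1) → ZMod 2) → G}

/-- `C_P(z_0)` acts on the labels `≠ 0`. -/
theorem fix_zero (hm : 1 ≤ m) (h : EvenSet (2 ^ m + 1) V P ε) (g : ↥(P ⊓ centralizer ({zz ε 0} : Set G))) :
    h.hom (three_le hm) (Subgroup.inclusion inf_le_left g) 0 = 0 :=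
  (h.fixes_iff (three_le hm) (h.acts_hom (three_le hm) _) 0).mp (mem_centralizer_singleton_iff.mp g.2.2)

/-- The action of `C_P(z_0)` on the labels `≠ 0`. -/
noncomputable def psi (hm : 1 ≤ m) (h : EvenSet (2 ^ m + 1) V P ε) :
    ↥(P ⊓ centralizer ({zz ε 0} : Set G)) →* Equiv.Perm {k : Fin (2 ^ m + 1) // k ≠ 0} where
  toFun g := (h.hom (three_le hm) (Subgroup.inclusion inf_le_left g)).subtypePerm fun k => by
    have h1 := fix_zero hm h g
    refine ⟨fun h2 h3 => h2 (by rw [h3, h1]), fun h2 h3 => h2 ?_⟩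
    exact (h.hom (three_le hm) (Subgroup.inclusion inf_le_left g)).injective (h3.trans h1.symm)
  map_one' := by
    ext k
    simp
  map_mul' a b := by
    ext k
    simp
    rfl

theorem psi_apply (hm : 1 ≤ m) (h : EvenSet (2 ^ m + 1) V P ε) (g : ↥(P ⊓ centralizer ({zz ε 0} : Set G)))
    (k : {k : Fin (2 ^ m + 1) // k ≠ 0}) : ((psi hm h g k : {k : Fin (2 ^ m + 1) // k ≠ 0}) : Fin (2 ^ m + 1)) =
      h.hom (three_le hm) (Subgroup.inclusion inf_le_left g) k := rfl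

theorem psi_surj (hm : 1 ≤ m) (h : EvenSet (2 ^ m + 1) V P ε) : Function.Surjective (psi hm h) := by
  intro τ
  obtain ⟨g, hg, hσ⟩ := h.full (Equiv.Perm.ofSubtype τ)
  have h1 : Equiv.Perm.ofSubtype τ 0 = 0 := Equiv.Perm.ofSubtype_apply_of_not_mem τ (by simp)
  have hA : g ∈ P ⊓ centralizer ({zz ε 0} : Set G) :=
    ⟨hg, mem_centralizer_singleton_iff.mpr ((h.fixes_iff (three_le hm) hσ 0).mpr h1)⟩
  refine ⟨⟨g, hA⟩, ?_⟩
  ext k
  rw [psi_apply]
  have h4 : h.hom (three_le hm) (Subgroup.inclusion inf_le_left (⟨g, hA⟩ :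
      ↥(P ⊓ centralizer ({zz ε 0} : Set G)))) = Equiv.Perm.ofSubtype τ := h.hom_eq (three_le hm) hσ
  rw [h4, Equiv.Perm.ofSubtype_apply_coe]

/-- `O₂(C_G(z_0))` centralises `V`. -/
theorem o2_le_cent [Finite G] (S : Sylow 2 G) (hm : 3 ≤ m) (h : EvenSet (2 ^ m + 1) V P ε)
    (hSP : (S : Subgroup G) ≤ P) (h0 : Fix0 ε (S : Subgroup G)) :
    o2 (centralizer ({zz ε 0} : Set G)) ≤ centralizer (V : Set G) := by
  have hm1 : 1 ≤ m := by omega
  have hSC : (S : Subgroup G) ≤ centralizer ({zz ε 0} : Set G) := by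
    intro s hs
    obtain ⟨σ, hσ⟩ := h.perm s (hSP hs)
    exact mem_centralizer_singleton_iff.mpr ((h.fixes_iff (three_le hm1) hσ 0).2 (h0 s hs σ hσ))
  have hUS : o2 (centralizer ({zz ε 0} : Set G)) ≤ (S : Subgroup G) :=
    o2_le_of_sylow S.isPGroup' (MinSimple.Basic.not_dvd_relIndex S hSC)
  have hUA : o2 (centralizer ({zz ε 0} : Set G)) ≤ P ⊓ centralizer ({zz ε 0} : Set G) :=
    le_inf (hUS.trans hSP) (o2_le _)
  have hN : ((o2 (centralizer ({zz ε 0} : Set G))).subgroupOf (P ⊓ centralizer ({zz ε 0} : Set G))).Normal :=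
    normal_subgroupOf_of_le_normalizer (inf_le_right.trans (le_normalizer_o2 _))
  have h8 : 5 ≤ Nat.card {k : Fin (2 ^ m + 1) // k ≠ 0} := by
    classical
    have h1 : 2 ^ 3 ≤ 2 ^ m := Nat.pow_le_pow_right (by norm_num) hm
    rw [Nat.card_eq_fintype_card, Fintype.card_subtype_compl, Fintype.card_fin, Fintype.card_subtype_eq]
    omega
  intro u hu
  have h1 := two_normal h8 (psi hm1 h) (psi_surj hm1 h) hN
    ((o2_isPGroup _).comap_of_injective _ (Subgroup.subtype_injective _)) ⟨u, hUA hu⟩ hu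
  have h2 := h.acts_hom (three_le hm1) (Subgroup.inclusion inf_le_left (⟨u, hUA hu⟩ :
      ↥(P ⊓ centralizer ({zz ε 0} : Set G))))
  have h3 : h.hom (three_le hm1) (Subgroup.inclusion inf_le_left (⟨u, hUA hu⟩ :
      ↥(P ⊓ centralizer ({zz ε 0} : Set G)))) = 1 := by
    ext k
    congr 1
    by_cases hk : k = 0
    · rw [hk]
      exact fix_zero hm1 h _
    · have h4 := psi_apply hm1 h ⟨u, hUA hu⟩ ⟨k, hk⟩
      rw [h1] at h4
      exact h4.symm
  rw [h3] at h2
  exact h.acts_one_iff.mp h2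

/-- **(F1)** `V ≤ O₂(C_G(z_i))`. -/
theorem le_o2_cent [Finite G] (hG : IsCharacteristicTwoType G) (S : Sylow 2 G) (hm : 3 ≤ m)
    (h : EvenSet (2 ^ m + 1) V P ε) (hSP : (S : Subgroup G) ≤ P) (h0 : Fix0 ε (S : Subgroup G))
    (i : Fin (2 ^ m + 1)) : V ≤ o2 (centralizer ({zz ε i} : Set G)) := by
  have hn : 3 ≤ 2 ^ m + 1 := three_le (by omega)
  have h1 := o2_le_cent S hm h hSP h0
  have h2 : V ≤ o2 (centralizer ({zz ε 0} : Set G)) := by
    refine le_trans ?_ (MinSimple.Basic.char2_centralizer hG (z := zz ε 0)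
      (by rw [pow_two]; exact zz_sq h 0) (h.single_ne_one hn 0))
    intro v hv
    refine ⟨mem_centralizer_singleton_iff.mpr (h.comm_mem hv (zz_mem h 0)), mem_centralizer_iff.mpr fun x hx => ?_⟩
    exact (mem_centralizer_iff.mp (h1 hx) v hv).symm
  obtain ⟨g, hg, hσ⟩ := h.full (Equiv.swap 0 i)
  intro v hv
  have h3 : g⁻¹ * v * g ∈ V := by
    have := (mem_normalizer_iff.mp (h.le_normalizer (P.inv_mem hg)) v).mp hv
    rwa [inv_inv] at this
  have h4 := conj_o2_cent (g := g) (h2 h3)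
  rw [zz_conj hσ, Equiv.swap_apply_left] at h4
  have h5 : g * (g⁻¹ * v * g) * g⁻¹ = v := by group
  rwa [h5] at h4

end

end Cfsg.Agent.Omega.NSix.PtCen

end

section


/-!
# OMEGA N6 (B1), #14749: the abstract core

`W` a 2-group, `C_H(W) ≤ W ⊴ H`, `u`, `u' ∈ H`, `[W, u], [W, u'] ≤ C(x)`, `C_W(x) ≤ C(u) ∩ C(u')`.  Then the
commutator `[u, u']` is not `x ≠ 1`.
-/

set_option autoImplicit false

namespace Cfsg.Agent.Omega.NSix.KillTwo

open Subgroup

universe u

variable {G : Type u} [Group G]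

/-- `w ∈ N_W(K)`, `K = C_W(x)`, centralises `x = [u, u']`. -/
theorem step {W : Subgroup G} {x u u' w : G} (hnu : ∀ v ∈ W, u * v * u⁻¹ ∈ W)
    (hnu' : ∀ v ∈ W, u' * v * u'⁻¹ ∈ W)
    (p1 : ∀ v ∈ W, (v⁻¹ * u * v * u⁻¹) * x = x * (v⁻¹ * u * v * u⁻¹))
    (p1' : ∀ v ∈ W, (v⁻¹ * u' * v * u'⁻¹) * x = x * (v⁻¹ * u' * v * u'⁻¹))
    (p2 : ∀ v ∈ W, v * x = x * v → v * u = u * v) (p2' : ∀ v ∈ W, v * x = x * v → v * u' = u' * v)
    (hcomm : u * u' * u⁻¹ * u'⁻¹ = x) (hw : w ∈ W)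
    (hK : ∀ v ∈ W, v * x = x * v → w * v * w⁻¹ * x = x * (w * v * w⁻¹)) : w * x = x * w := by
  -- `c = w⁻¹ u w u⁻¹`, `c' = w⁻¹ u' w u'⁻¹`
  have hcW : w⁻¹ * u * w * u⁻¹ ∈ W := by
    have : w⁻¹ * u * w * u⁻¹ = w⁻¹ * (u * w * u⁻¹) := by group
    rw [this]; exact mul_mem (inv_mem hw) (hnu w hw)
  have hcW' : w⁻¹ * u' * w * u'⁻¹ ∈ W := by
    have : w⁻¹ * u' * w * u'⁻¹ = w⁻¹ * (u' * w * u'⁻¹) := by group
    rw [this]; exact mul_mem (inv_mem hw) (hnu' w hw)
  set c := w⁻¹ * u * w * u⁻¹ with hc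
  set c' := w⁻¹ * u' * w * u'⁻¹ with hc'
  have ex : c * x = x * c := p1 w hw
  have ex' : c' * x = x * c' := p1' w hw
  have e1 : u * w * u⁻¹ = w * c := by rw [hc]; group
  have e1' : u' * w * u'⁻¹ = w * c' := by rw [hc']; group
  -- `c` commutes with `c'`
  have hcc : c * c' = c' * c := by
    -- `c` centralises `K = C_W(x)`
    have h1 := hK c' hcW' ex'
    have h2 : w * c' * w⁻¹ ∈ W := mul_mem (mul_mem hw hcW') (inv_mem hw)
    have h3 := p2 _ h2 h1
    have h4 := p2 _ hcW' ex'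
    have h5 : u⁻¹ * c' * u = c' := by
      calc u⁻¹ * c' * u = u⁻¹ * (c' * u) := by group
        _ = c' := by rw [h4]; group
    calc c * c' = w⁻¹ * u * w * (u⁻¹ * c' * u) * u⁻¹ := by rw [hc]; group
      _ = w⁻¹ * (u * (w * c' * w⁻¹)) * w * u⁻¹ := by rw [h5]; group
      _ = w⁻¹ * (w * c' * w⁻¹ * u) * w * u⁻¹ := by rw [h3]
      _ = c' * c := by rw [hc]; group
  have k1 : u * c' * u⁻¹ = c' := by
    have h4 := p2 _ hcW' ex'
    rw [← h4]; group
  have k1' : u' * c * u'⁻¹ = c := by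
    have h4 := p2' _ hcW ex
    rw [← h4]; group
  have f1 : u * u' * w * (u * u')⁻¹ = w * c * c' := by
    calc u * u' * w * (u * u')⁻¹ = u * (u' * w * u'⁻¹) * u⁻¹ := by group
      _ = (u * w * u⁻¹) * (u * c' * u⁻¹) := by rw [e1']; group
      _ = w * c * c' := by rw [e1, k1]
  have f2 : u' * u * w * (u' * u)⁻¹ = w * c * c' := by
    calc u' * u * w * (u' * u)⁻¹ = u' * (u * w * u⁻¹) * u'⁻¹ := by group
      _ = (u' * w * u'⁻¹) * (u' * c * u'⁻¹) := by rw [e1]; group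
      _ = w * (c' * c) := by rw [e1', k1']; group
      _ = w * c * c' := by rw [← hcc]; group
  have g1 : x * (w * c * c') * x⁻¹ = w * c * c' := by
    have hx : x = (u * u') * (u' * u)⁻¹ := by rw [← hcomm]; group
    calc x * (w * c * c') * x⁻¹ = x * (u' * u * w * (u' * u)⁻¹) * x⁻¹ := by rw [f2]
      _ = u * u' * w * (u * u')⁻¹ := by rw [hx]; group
      _ = w * c * c' := f1
  have g2 : (w * c * c') * x = x * (w * c * c') := by
    calc (w * c * c') * x = x * (w * c * c') * x⁻¹ * x := by rw [g1]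
      _ = _ := by group
  have g3 : (w * c * c') * x = w * x * (c * c') := by
    calc (w * c * c') * x = w * c * (c' * x) := by group
      _ = w * (c * x) * c' := by rw [ex']; group
      _ = w * x * (c * c') := by rw [ex]; group
  rw [g3] at g2
  have g4 : x * (w * c * c') = x * w * (c * c') := by group
  rw [g4] at g2
  exact mul_right_cancel g2

/-- **The abstract core of (B1).** -/
theorem kill [Finite G] {H W : Subgroup G} {x u u' : G} (hW : IsPGroup 2 W)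
    (hn : H ≤ normalizer (W : Set G)) (hc : H ⊓ centralizer (W : Set G) ≤ W) (hu : u ∈ H) (hu' : u' ∈ H)
    (p1 : ∀ w ∈ W, (w⁻¹ * u * w * u⁻¹) * x = x * (w⁻¹ * u * w * u⁻¹))
    (p1' : ∀ w ∈ W, (w⁻¹ * u' * w * u'⁻¹) * x = x * (w⁻¹ * u' * w * u'⁻¹))
    (p2 : ∀ w ∈ W, w * x = x * w → w * u = u * w) (p2' : ∀ w ∈ W, w * x = x * w → w * u' = u' * w)
    (hcomm : u * u' * u⁻¹ * u'⁻¹ = x) (hx : x ≠ 1) : False := by
  have h2 : Fact (Nat.Prime 2) := ⟨Nat.prime_two⟩
  by_cases hK : ∀ w ∈ W, w * x = x * w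
  · -- `u`, `u' ∈ C_H(W) ≤ W`
    apply hx
    have h1 : u' ∈ W := hc ⟨hu', fun w hw => p2' w hw (hK w hw)⟩
    have h3 := p2 u' h1 (hK u' h1)
    rw [← hcomm, ← h3]
    group
  · push Not at hK
    obtain ⟨w0, hw0, hw0x⟩ := hK
    set K : Subgroup W := (centralizer ({x} : Set G)).subgroupOf W with hKd
    have hKmem : ∀ w : W, w ∈ K ↔ (w : G) * x = x * w := fun w => by
      rw [hKd, mem_subgroupOf, mem_centralizer_singleton_iff]
    have hlt : K < ⊤ := by
      rw [lt_top_iff_ne_top]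
      intro h0
      apply hw0x
      have h1 : (⟨w0, hw0⟩ : W) ∈ K := by rw [h0]; exact mem_top _
      exact (hKmem _).mp h1
    have hnil : Group.IsNilpotent W := hW.isNilpotent
    obtain ⟨w, hwN, hwK⟩ := SetLike.exists_of_lt (Group.normalizerCondition_of_isNilpotent K hlt)
    apply hwK
    rw [hKmem]
    have hnorm : ∀ g ∈ H, ∀ v ∈ W, g * v * g⁻¹ ∈ W := fun g hg v hv =>
      (mem_normalizer_iff.mp (hn hg) v).mp hv
    refine step (hnorm u hu) (hnorm u' hu') p1 p1' p2 p2' hcomm w.2 ?_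
    intro v hv hvx
    have h1 : (⟨v, hv⟩ : W) ∈ K := (hKmem _).mpr hvx
    have h3 := (mem_normalizer_iff.mp hwN ⟨v, hv⟩).mp h1
    exact (hKmem _).mp h3

end Cfsg.Agent.Omega.NSix.KillTwo

end

section


/-!
# OMEGA N6, #14103 (F2): `O₂(C_G(r_ij))` centralises `z_k`, `k ≠ i, j` (`m ≥ 3`)

* `cen_V0` : the statement for one pair `{i, j}` with a transposition in `S`, from `FixApp.exists_phi` (#13864, (A3))
  and `MatchApp.Big.mem` (the matching lemma);
* `pair` : the literal form of `S5.NatBig.Facts.pair`.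
-/

set_option autoImplicit false

namespace Cfsg.Agent.Omega.NSix.PairCen

open Subgroup Cfsg Cfsg.Agent.ZN Cfsg.Agent.Omega.MinPar Cfsg.Agent.Omega.S5.Def Cfsg.Agent.Omega.S5.Syl Cfsg.Agent.Omega.NSix.Base
  Cfsg.Agent.Omega.NSix.Basic Cfsg.Agent.Omega.NSix.CosetAct Cfsg.Agent.Omega.NSix.FixApp
  Cfsg.Agent.Omega.NSix.StabPerm Cfsg.Agent.Omega.NSix.MatchApp

open Cfsg.Agent.Omega.NSix.Match (ind)

open scoped Pointwise

universe u

variable {G : Type u} [Group G]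

section

variable {n : ℕ} {V P : Subgroup G} {ε : (Fin n → ZMod 2) → G} {i j : Fin n}

/-- The even sets off `{i, j}` belong to `V_n`. -/
theorem ind_mem_Vn (h : EvenSet n V P ε) {A : Finset (Fin n)} (hA : 2 ∣ A.card)
    (hd : ∀ a ∈ A, a ≠ i ∧ a ≠ j) : ε (ind A) ∈ Vn ε i j := by
  classical
  rcases A.eq_empty_or_nonempty with rfl | ⟨a0, ha0⟩
  · have : ind (∅ : Finset (Fin n)) = 0 := by
      funext x
      simp [ind]
    rw [this, h.zero]
    exact one_mem _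
  · have h1 : ind A = ∑ a ∈ A, ((Pi.single a 1 : Fin n → ZMod 2) + Pi.single a0 1) := by
      rw [Finset.sum_add_distrib, Finset.sum_const]
      have h2 : A.card • (Pi.single a0 1 : Fin n → ZMod 2) = 0 := by
        obtain ⟨k, hk⟩ := hA
        rw [hk, mul_comm, mul_smul, two_smul, add_self, smul_zero]
      rw [h2, add_zero]
      funext x
      rw [Finset.sum_apply]
      unfold ind
      split_ifs with hx
      · rw [Finset.sum_eq_single x]
        · rw [Pi.single_eq_same]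
        · intro b _ hb
          exact Pi.single_eq_of_ne hb.symm _
        · exact fun h0 => absurd hx h0
      · rw [Finset.sum_eq_zero]
        intro b hb
        exact Pi.single_eq_of_ne (fun h0 => hx (by rw [h0]; exact hb)) _
    have h3 : ind A ∈ pre h (Vn ε i j) := by
      rw [h1]
      refine sum_mem fun a ha => ?_
      rw [mem_pre, h.add]
      exact rr_mem_Vn (hd a ha) (hd a0 ha0)
    exact h3

end

section

variable {m : ℕ} {V P S W Y Q : Subgroup G} {ε : (Fin (2 ^ m + 1) → ZMod 2) → G} {i j : Fin (2 ^ m + 1)}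

theorem comp_symm_ind {σ : Equiv.Perm (Fin (2 ^ m + 1))} {A : Finset (Fin (2 ^ m + 1))} (h : σ • A = A) :
    ind A ∘ σ.symm = ind A := by
  funext x
  change ind A (σ.symm x) = ind A x
  unfold ind
  have h1 : σ.symm x ∈ A ↔ x ∈ A := by
    constructor
    · intro hx
      rw [← h, Finset.mem_smul_finset]
      exact ⟨_, hx, Equiv.apply_symm_apply σ x⟩
    · intro hx
      rw [← h, Finset.mem_smul_finset] at hx
      obtain ⟨y, hy, rfl⟩ := hx
      change σ.symm (σ y) ∈ A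
      rwa [Equiv.symm_apply_apply]
  simp only [h1]

/-- (F2) for the pair `{i, j}`. -/
theorem cen_V0 [Finite G] (h : Hyp V P S W ε i j) (hm : 3 ≤ m) (hB : Big S P V Y ε)
    (hS2 : ¬ 2 ∣ S.relIndex P)
    (hWc : ∀ g ∈ NN ε i j, (∀ w ∈ W, g * w = w * g) → g ∈ W)
    (hQP : Q ≤ P) (hQ2 : IsPGroup 2 Q) (hQV : Q ≤ centralizer (V : Set G))
    (hQc : ∀ g : G, (∀ q ∈ Q, g * q = q * g) → g ∈ Q)
    (hQY : ∀ y ∈ Q, (∀ q ∈ Q, y * q = q * y) → y * y = 1 → y ∈ Y) :
    ∀ w ∈ W, ∀ u ∈ V0 ε i j, w * u = u * w := by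
  classical
  obtain ⟨φ, f1, f2, f3, f4⟩ := exists_phi h hWc hQP hQ2 hQV hQc
  -- a set of size `2 ^ (m - 1)` off `{i, j}`
  have hpow : 2 ^ m = 2 * 2 ^ (m - 1) := by
    rw [← pow_succ']
    congr 1
    omega
  have hpow2 : 2 ∣ 2 ^ (m - 1) := dvd_pow_self 2 (by omega)
  have hp1 : 2 ≤ 2 ^ (m - 1) := Nat.le_of_dvd (by positivity) hpow2
  have hcard : ((Finset.univ \ {i, j} : Finset (Fin (2 ^ m + 1)))).card = 2 ^ m + 1 - 2 := by
    rw [Finset.card_sdiff_of_subset (Finset.subset_univ _), Finset.card_univ, Fintype.card_fin,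
      Finset.card_pair h.ne]
  obtain ⟨A, hAs, hAc⟩ := Finset.exists_subset_card_eq (s := (Finset.univ \ {i, j} : Finset (Fin (2 ^ m + 1))))
    (n := 2 ^ (m - 1)) (by rw [hcard]; omega)
  have hAoff : ∀ a ∈ A, a ≠ i ∧ a ≠ j := by
    intro a ha
    have h1 := hAs ha
    simp only [Finset.mem_sdiff, Finset.mem_univ, true_and, Finset.mem_insert, Finset.mem_singleton, not_or] at h1
    exact h1
  have hiA : i ∉ A := fun h0 => (hAoff i h0).1 rfl
  have hjA : j ∉ A := fun h0 => (hAoff j h0).2 rfl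
  have haV : ε (ind A) ∈ Vn ε i j := ind_mem_Vn h.even (by rw [hAc]; exact hpow2) hAoff
  set x := φ (ε (ind A)) with hx
  obtain ⟨-, -, hxQ, hxQ', hx2⟩ := f3 _ haV
  have hxY : x ∈ Y := hQY x hxQ hxQ' hx2
  have hd : Disjoint ({i, j} : Finset (Fin (2 ^ m + 1))) A := by
    rw [Finset.disjoint_left]
    intro a ha ha'
    rw [Finset.mem_insert, Finset.mem_singleton] at ha
    rcases ha with rfl | rfl
    · exact hiA ha'
    · exact hjA ha'
  have hmem := hB.mem hm hS2 h.isP hAc (Finset.card_pair h.ne) hd hxY (by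
    intro g hg σ hσ hσA hσe
    have hσSt : σ ∈ St i j := by
      have h1 : σ i ∈ ({i, j} : Finset (Fin (2 ^ m + 1))) := by
        rw [← hσe, Finset.mem_smul_finset]
        exact ⟨i, by simp, rfl⟩
      have h2 : σ j ∈ ({i, j} : Finset (Fin (2 ^ m + 1))) := by
        rw [← hσe, Finset.mem_smul_finset]
        exact ⟨j, by simp, rfl⟩
      rw [Finset.mem_insert, Finset.mem_singleton] at h1 h2
      rcases h1 with h1 | h1 <;> rcases h2 with h2 | h2
      · exact absurd (σ.injective (h1.trans h2.symm)) h.ne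
      · exact Or.inl ⟨h1, h2⟩
      · exact Or.inr ⟨h1, h2⟩
      · exact absurd (σ.injective (h1.trans h2.symm)) h.ne
    obtain ⟨g', hg', hgσ', hφ⟩ := f4 σ hσSt
    rw [hB.act_eq hS2 h.isP hg hg'.1 hσ hgσ' hxY, hx, ← (hφ _ haV).2, hgσ', comp_symm_ind hσA])
  -- a transposition `(k l)`, `k ∈ A`, `l ∉ A ∪ {i, j}`
  obtain ⟨k, hk⟩ : A.Nonempty := by
    rw [← Finset.card_pos, hAc]
    omega
  obtain ⟨l, hl, hlA⟩ : ∃ l, (l ≠ i ∧ l ≠ j) ∧ l ∉ A := by
    have h1 : A.card < ((Finset.univ \ {i, j} : Finset (Fin (2 ^ m + 1)))).card := by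
      rw [hcard, hAc]
      omega
    obtain ⟨l, h2, h3⟩ := Finset.exists_mem_notMem_of_card_lt_card h1
    simp only [Finset.mem_sdiff, Finset.mem_univ, true_and, Finset.mem_insert, Finset.mem_singleton, not_or] at h2
    exact ⟨l, h2, h3⟩
  have hkij := hAoff k hk
  have hkl : k ≠ l := fun h0 => hlA (by rw [← h0]; exact hk)
  obtain ⟨g, hg, hgσ, hφ⟩ := f4 _ (swap_mem_St hkij hl)
  have hr : ε (ind A) * (g * ε (ind A) * g⁻¹) = rr ε k l := by
    rw [hgσ, ← h.even.add]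
    change _ = ε _ * ε _
    rw [← h.even.add]
    congr 1
    funext a
    rw [Pi.add_apply, Pi.add_apply]
    change ind A a + ind A ((Equiv.swap k l).symm a) = _
    rw [Equiv.symm_swap]
    unfold ind
    by_cases hak : a = k
    · subst hak
      rw [Equiv.swap_apply_left, if_pos hk, if_neg hlA, Pi.single_eq_same, Pi.single_eq_of_ne hkl]
    · by_cases hal : a = l
      · subst hal
        rw [Equiv.swap_apply_right, if_pos hk, if_neg hlA, Pi.single_eq_same, Pi.single_eq_of_ne hkl.symm, add_comm]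
      · rw [Equiv.swap_apply_of_ne_of_ne hak hal, Pi.single_eq_of_ne hak, Pi.single_eq_of_ne hal]
        split_ifs
        · decide
        · decide
  have hre : g * ε (ind {i, j}) * g⁻¹ = ε (ind {i, j}) := by
    rw [hgσ]
    congr 1
    refine comp_symm_ind ?_
    exact Match.swap_smul_eq_self (by simp [hkij]) (by simp [hl])
  have hφr : φ (rr ε k l) = x * (g * x * g⁻¹) := by
    rw [← hr, f1 _ haV _ (hφ _ haV).1, (hφ _ haV).2]
  have hkey : φ (rr ε k l) = rr ε k l := by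
    have hrne : φ (rr ε k l) ≠ 1 := fun h0 =>
      rr_ne_one h.even h.three hkl (f2 _ (rr_mem_Vn hkij hl) h0)
    rcases hmem with h1 | h1 | h1 | h1
    · exfalso
      apply hrne
      rw [hφr, h1]
      group
    · rw [hφr, h1, hr]
    · exfalso
      apply hrne
      rw [hφr, h1, hre, h.even.sq]
    · rw [hφr, h1]
      calc ε (ind A) * ε (ind {i, j}) * (g * (ε (ind A) * ε (ind {i, j})) * g⁻¹)
          = ε (ind A) * (ε (ind {i, j}) * (g * ε (ind A) * g⁻¹)) * (g * ε (ind {i, j}) * g⁻¹) := by group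
        _ = ε (ind A) * ((g * ε (ind A) * g⁻¹) * ε (ind {i, j})) * ε (ind {i, j}) := by
          rw [hre, hgσ, h.even.comm]
        _ = (ε (ind A) * (g * ε (ind A) * g⁻¹)) * (ε (ind {i, j}) * ε (ind {i, j})) := by group
        _ = _ := by rw [hr, h.even.sq, mul_one]
  intro w hw
  refine h.p2 hw hkij hl hkl ?_
  have h1 := (f3 _ (rr_mem_Vn hkij hl)).2.1 w hw
  rw [hkey] at h1
  exact h1.symm

end

section

open Cfsg.Agent.MinSimple.VModule (mem_zc zc_comm zc_le le_centralizer_zc normalizer_le_normalizer_zc zc_le_zl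
  o2_isPGroup le_normalizer_o2)

variable [Finite G]

omit [Finite G] in
/-- Some transposition is induced by an element of `S`. -/
theorem exists_swap_mem {m : ℕ} (hm : 2 ≤ m) {V P S : Subgroup G} {ε : (Fin (2 ^ m + 1) → ZMod 2) → G}
    (h : EvenSet (2 ^ m + 1) V P ε) (hS2 : ¬ 2 ∣ S.relIndex P) :
    ∃ i j, i ≠ j ∧ ∃ a ∈ S, Acts ε a (Equiv.swap i j) := by
  have h5 := five_le hm
  have hn : 3 ≤ 2 ^ m + 1 := by omega
  let π := h.hom hn
  have hSi : ¬ 2 ∣ ((S.subgroupOf P).map π).relIndex ⊤ := by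
    rw [relIndex_top_right]
    exact fun h2 => hS2 (h2.trans (index_map_dvd _ (h.hom_surjective hn)))
  obtain ⟨i, j, hij⟩ : ∃ i j : Fin (2 ^ m + 1), i ≠ j :=
    ⟨⟨0, by omega⟩, ⟨1, by omega⟩, fun h0 => by simpa using congrArg Fin.val h0⟩
  obtain ⟨g, -, h1⟩ := exists_conj (K := ⊤) (H := (S.subgroupOf P).map π) hSi (mem_top (Equiv.swap i j))
    (Equiv.swap_mul_self i j)
  rw [conj_swap] at h1
  obtain ⟨a, ha, ha1⟩ := h1
  refine ⟨g⁻¹ i, g⁻¹ j, fun h0 => hij (g⁻¹.injective h0), a, ha, ?_⟩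
  rw [← ha1]
  exact h.acts_hom hn a

/-- **(F2)**: `O₂(C_G(r_ij))` commutes with `z_k`, `k ≠ i, j`. -/
theorem pair (hG : IsCharacteristicTwoType G) (S : Sylow 2 G) {P : Subgroup G} {m : ℕ}
    {ε : (Fin (2 ^ m + 1) → ZMod 2) → G} (hm : 3 ≤ m) (hP : IsParS (S : Subgroup G) P)
    (h : EvenSet (2 ^ m + 1) (zl (S : Subgroup G) P) P ε) (h0 : Fix0 ε (S : Subgroup G)) :
    ∀ i j, i ≠ j → ∀ k, k ≠ i → k ≠ j → ∀ q ∈ o2 (centralizer ({rr ε i j} : Set G)),
      q * zz ε k = zz ε k * q := by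
  have hf : Fact (Nat.Prime 2) := ⟨Nat.prime_two⟩
  have h5 : 5 ≤ 2 ^ m + 1 := five_le (by omega)
  have hn : 3 ≤ 2 ^ m + 1 := by omega
  have hS2 : ¬ 2 ∣ (S : Subgroup G).relIndex P := MinSimple.Basic.not_dvd_relIndex S hP.le
  have hL := hP.isLoc
  have hVz : zl (S : Subgroup G) P ≤ zc (o2 P) := hL.zl_le S hG
  have hVP : zl (S : Subgroup G) P ≤ P := hVz.trans ((zc_le _).trans (MinSimple.VModule.o2_le P))
  have hB : Big (S : Subgroup G) P (zl (S : Subgroup G) P) (zc (o2 P)) ε :=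
    { ev := h
      fix0 := h0
      le := hP.le
      comm := zc_comm _
      sq := fun y hy => by
        have := (mem_zc.mp hy).2.2
        rwa [pow_two] at this
      ge := hVz
      nrm := fun g hg y hy =>
        (mem_normalizer_iff.mp (normalizer_le_normalizer_zc _ (le_normalizer_o2 P hg)) y).mp hy
      syl := fun s hs hsV => le_centralizer_zc _ (by
        rw [← hP.inf_centralizer S hG]
        exact ⟨hs, hsV⟩)
      fixed := fun y hy hys => by
        have h1 : y ∈ zc (S : Subgroup G) :=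
          mem_zc.mpr ⟨hL.o2_le S (zc_le _ hy), hys, (mem_zc.mp hy).2.2⟩
        exact fixed (by omega) h hP.le hS2 h0 (zc_le_zl _ _ h1) hys }
  obtain ⟨i₀, j₀, hij₀, a, ha, haσ⟩ := exists_swap_mem (by omega) h hS2
  have hr1 : rr ε i₀ j₀ ≠ 1 := rr_ne_one h hn hij₀
  have hr2 : rr ε i₀ j₀ ^ 2 = 1 := by
    rw [pow_two]
    exact rr_sq h _ _
  have hH : Hyp (zl (S : Subgroup G) P) P (S : Subgroup G) (o2 (centralizer ({rr ε i₀ j₀} : Set G))) ε i₀ j₀ :=
    { even := h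
      VP := hVP
      two_le := by omega
      le := hP.le
      isP := S.isPGroup'
      max := fun T hT => by
        obtain ⟨T', hT'⟩ := hT.exists_le_sylow
        calc Nat.card T ≤ Nat.card (T' : Subgroup G) := Subgroup.card_le_of_le hT'
          _ = Nat.card (S : Subgroup G) := Nat.card_congr (Sylow.equiv T' S).toEquiv
      fix0 := h0
      ne := hij₀
      swap := ⟨a, ha, haσ⟩
      isPW := o2_isPGroup _
      leW := MinSimple.VModule.o2_le _
      norm := le_normalizer_o2 _ }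
  -- `C_G(O₂(P)) ≤ O₂(P)`
  have hQc : ∀ g : G, (∀ q ∈ o2 P, g * q = q * g) → g ∈ o2 P := by
    intro g hg
    have hN := hL.normalizer_o2 S
    have h1 : o2 (normalizer (o2 P : Set G)) ≤ o2 P := o2_le_o2 S hP.le (le_normalizer_o2 P)
    have hgC : g ∈ centralizer (o2 P : Set G) := mem_centralizer_iff.mpr fun q hq => (hg q hq).symm
    exact h1 (hN.char2 S hG ⟨centralizer_le_normalizer _ hgC, centralizer_le h1 hgC⟩)
  have hcen := cen_V0 hH hm hB hS2 (Q := o2 P)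
    (fun g hg hgW => MinSimple.Basic.char2_centralizer hG hr2 hr1
      ⟨hg, mem_centralizer_iff.mpr fun w hw => (hgW w hw).symm⟩)
    (MinSimple.VModule.o2_le P) (o2_isPGroup P)
    (fun q hq => by
      have h1 : q ∈ (S : Subgroup G) ⊓ centralizer (zl (S : Subgroup G) P : Set G) := by
        rw [hP.inf_centralizer S hG]
        exact hq
      exact h1.2) hQc
    (fun y hy hyq hy2 => mem_zc.mpr ⟨hy, fun b hb => (hyq b hb).symm, by rw [pow_two]; exact hy2⟩)
  -- all pairs are conjugate under `P`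
  intro i j hij k hki hkj q hq
  obtain ⟨σ, h1, h2, -⟩ := exists_perm hij₀ hij
  obtain ⟨g, -, hgσ⟩ := h.full σ
  have hrr : g * rr ε i₀ j₀ * g⁻¹ = rr ε i j := by
    rw [rr_conj hgσ, h1, h2]
  have h3 : g⁻¹ * q * g ∈ o2 (centralizer ({rr ε i₀ j₀} : Set G)) := by
    rw [← hrr, ← S5.TT.o2_conj, ChoiceBase.mem_cj] at hq
    exact hq
  have h4 : zz ε (σ⁻¹ k) ∈ V0 ε i₀ j₀ := by
    refine subset_closure ⟨σ⁻¹ k, fun h6 => hki ?_, fun h6 => hkj ?_, rfl⟩
    · rw [← h1, ← h6]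
      exact (Equiv.apply_symm_apply σ k).symm
    · rw [← h2, ← h6]
      exact (Equiv.apply_symm_apply σ k).symm
  have h6 := hcen _ h3 _ h4
  have h7 : g * zz ε (σ⁻¹ k) * g⁻¹ = zz ε k := by
    rw [zz_conj hgσ]
    congr 1
    exact Equiv.apply_symm_apply σ k
  rw [← h7]
  calc q * (g * zz ε (σ⁻¹ k) * g⁻¹) = g * (g⁻¹ * q * g * zz ε (σ⁻¹ k)) * g⁻¹ := by group
    _ = g * (zz ε (σ⁻¹ k) * (g⁻¹ * q * g)) * g⁻¹ := by rw [h6]
    _ = g * zz ε (σ⁻¹ k) * g⁻¹ * q := by group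

end

end Cfsg.Agent.Omega.NSix.PairCen

end
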