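import Cfsg.Agent.Mrg.Omega.S5.Def
import Cfsg.Agent.MinSimple.Geo
import Cfsg.Agent.Mrg.Omega.S5.Syl
import Cfsg.Agent.Mrg.Omega.Assembly
import Cfsg.Agent.Mrg.Omega.TTn.DiCoreAbs
import Cfsg.Agent.Mrg.Omega.ML.MinIrr
import Cfsg.Agent.Mrg.Omega.FrameI

section


/-!
# OMEGA N6, (0): `(H1)`, `(H2)`, `(N)` ⇒ `SixL`

`WP ε i j = {g ∈ C_G(r_ij) : [O₂(C_G(r_ij)), g] ≤ ⟨r_ij⟩}`.
`Zero.sixL`: in a group of characteristic 2 type, `EvenSet (2^m+1) V P ε`, `S ≤ P` a Sylow
2-subgroup of `G` with `Fix0 ε S` and `Ω₁(Z(S)) ≤ V`, `O₂(C_G(r_ij))` is in `P` and commutes with the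
points off `i`, `j`, `U_ij ≤ O₂(C_G(r_kl))` for disjoint pairs, and some element of some `WP ε i j`
does not centralise `V`: then `SixL V P S ε (WP ε)`.
-/

set_option autoImplicit false

namespace Cfsg.Agent.Omega.NSix.Zero

open Subgroup Cfsg
open Cfsg.Agent.ZN (o2 zc)
open Cfsg.Agent.MinSimple.VModule (o2_le o2_isPGroup le_normalizer_o2 le_o2 mem_zc)
open Cfsg.Agent.MinSimple.Geo (mem_o2_of_stab inf_centralizer_o2_le isTwoLocal_centralizer)
open Cfsg.Agent.Omega.S5.Def Cfsg.Agent.Omega.S5.Syl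
open Cfsg.Agent.Omega.NSix.Base Cfsg.Agent.Omega.NSix.Basic
open Cfsg.Agent.Omega.NSix.One Cfsg.Agent.Omega.NSix.End Cfsg.Agent.Omega.NSix.Mat
open Cfsg.Agent.Omega.NSix.EndL

universe u

variable {G : Type u} [Group G] {n : ℕ} {V P : Subgroup G} {ε : (Fin n → ZMod 2) → G}

/-- the elements of `C_G(r_ij)` centralising `O₂(C_G(r_ij)) / ⟨r_ij⟩`, for a pair which is an
involution -/
def WP (ε : (Fin n → ZMod 2) → G) (i j : Fin n) : Subgroup G where
  carrier := {g | g ∈ NN ε i j ∧ ∀ q ∈ o2 (NN ε i j), g * q * g⁻¹ * q⁻¹ ∈ zpowers (rr ε i j)}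
  one_mem' := ⟨one_mem _, fun q _ => by
    have : (1 : G) * q * 1⁻¹ * q⁻¹ = 1 := by group
    rw [this]; exact one_mem _⟩
  mul_mem' := by
    rintro a b ⟨ha, ha1⟩ ⟨hb, hb1⟩
    refine ⟨mul_mem ha hb, fun q hq => ?_⟩
    have h1 : b * q * b⁻¹ ∈ o2 (NN ε i j) := (mem_normalizer_iff.mp (le_normalizer_o2 _ hb) q).mp hq
    have h2 : a * b * q * (a * b)⁻¹ * q⁻¹ =
        (a * (b * q * b⁻¹) * a⁻¹ * (b * q * b⁻¹)⁻¹) * (b * q * b⁻¹ * q⁻¹) := by group
    rw [h2]
    exact mul_mem (ha1 _ h1) (hb1 _ hq)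
  inv_mem' := by
    rintro a ⟨ha, ha1⟩
    refine ⟨inv_mem ha, fun q hq => ?_⟩
    have h1 : a⁻¹ * q * a ∈ o2 (NN ε i j) := by
      have := (mem_normalizer_iff.mp (le_normalizer_o2 _ (inv_mem ha)) q).mp hq
      rwa [inv_inv] at this
    have h2 := inv_mem (ha1 _ h1)
    have h3 : (a * (a⁻¹ * q * a) * a⁻¹ * (a⁻¹ * q * a)⁻¹)⁻¹ = a⁻¹ * q * a * q⁻¹ := by group
    rw [h3] at h2
    rwa [inv_inv]

theorem mem_WP {i j : Fin n} {g : G} : g ∈ WP ε i j ↔ g ∈ NN ε i j ∧
    ∀ q ∈ o2 (NN ε i j), g * q * g⁻¹ * q⁻¹ ∈ zpowers (rr ε i j) := Iff.rfl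

theorem zpow_cases {r : G} (hr : r * r = 1) {x : G} (hx : x ∈ zpowers r) : x = 1 ∨ x = r := by
  obtain ⟨k, rfl⟩ := mem_zpowers_iff.mp hx
  rcases Int.even_or_odd k with ⟨t, ht⟩ | ⟨t, ht⟩
  · left
    rw [ht, ← two_mul, zpow_mul, zpow_two, hr, one_zpow]
  · right
    rw [ht, zpow_add, zpow_mul, zpow_two, hr, one_zpow, one_mul, zpow_one]

theorem z2_ne : ∀ a b : ZMod 2, a ≠ b → b = a + 1 := by decide

/-- `O₂` of a conjugate -/
theorem o2_conj {X Y : Subgroup G} {g : G} (h1 : ∀ x ∈ X, g * x * g⁻¹ ∈ Y)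
    (h2 : ∀ y ∈ Y, g⁻¹ * y * g ∈ X) {x : G} (hx : x ∈ o2 X) : g * x * g⁻¹ ∈ o2 Y := by
  have h3 : (o2 X).map (MulAut.conj g).toMonoidHom ≤ o2 Y := by
    apply le_o2
    · rintro _ ⟨y, hy, rfl⟩
      exact h1 y (o2_le X hy)
    · exact (o2_isPGroup X).map _
    · have key : ∀ l ∈ Y, ∀ y ∈ (o2 X).map (MulAut.conj g).toMonoidHom,
          l * y * l⁻¹ ∈ (o2 X).map (MulAut.conj g).toMonoidHom := by
        rintro l hl _ ⟨y, hy, rfl⟩
        refine ⟨(g⁻¹ * l * g) * y * (g⁻¹ * l * g)⁻¹,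
          (mem_normalizer_iff.mp (le_normalizer_o2 X (h2 l hl)) y).mp hy, ?_⟩
        change g * ((g⁻¹ * l * g) * y * (g⁻¹ * l * g)⁻¹) * g⁻¹ = l * (g * y * g⁻¹) * l⁻¹
        group
      intro l hl
      rw [mem_normalizer_iff]
      refine fun y => ⟨key l hl y, fun hy => ?_⟩
      have := key l⁻¹ (inv_mem hl) _ hy
      have h3 : l⁻¹ * (l * y * l⁻¹) * l⁻¹⁻¹ = y := by group
      rwa [h3] at this
  exact h3 ⟨x, hx, rfl⟩

theorem o2_NN_conj {g : G} {σ : Equiv.Perm (Fin n)} (hg : Acts ε g σ) {i j : Fin n} {x : G}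
    (hx : x ∈ o2 (NN ε i j)) : g * x * g⁻¹ ∈ o2 (NN ε (σ i) (σ j)) := by
  refine o2_conj (fun x hx => conj_NN hg hx) (fun y hy => ?_) hx
  have h1 := conj_NN hg.inv hy
  have e : ∀ m, σ⁻¹ (σ m) = m := fun m => σ.symm_apply_apply m
  rwa [e, e, inv_inv] at h1

theorem WP_conj {g : G} {σ : Equiv.Perm (Fin n)} (hg : Acts ε g σ) {i j : Fin n} {x : G}
    (hx : x ∈ WP ε i j) : g * x * g⁻¹ ∈ WP ε (σ i) (σ j) := by
  rw [mem_WP] at hx ⊢
  refine ⟨conj_NN hg hx.1, fun q hq => ?_⟩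
  have h1 : g⁻¹ * q * g ∈ o2 (NN ε i j) := by
    have h1 := o2_NN_conj hg.inv hq
    have e : ∀ m, σ⁻¹ (σ m) = m := fun m => σ.symm_apply_apply m
    rwa [e, e, inv_inv] at h1
  have h2 := hx.2 _ h1
  obtain ⟨k, hk⟩ := mem_zpowers_iff.mp h2
  rw [mem_zpowers_iff]
  refine ⟨k, ?_⟩
  rw [← rr_conj hg, conj_zpow, hk]
  group

theorem WP_norm {i j : Fin n} {g x : G} (hg : g ∈ NN ε i j) (hx : x ∈ WP ε i j) :
    g * x * g⁻¹ ∈ WP ε i j := by
  rw [mem_WP] at hx ⊢
  refine ⟨mul_mem (mul_mem hg hx.1) (inv_mem hg), fun q hq => ?_⟩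
  have h1 : g⁻¹ * q * g ∈ o2 (NN ε i j) := by
    have := (mem_normalizer_iff.mp (le_normalizer_o2 _ (inv_mem hg)) q).mp hq
    rwa [inv_inv] at this
  have h2 := hx.2 _ h1
  obtain ⟨k, hk⟩ := mem_zpowers_iff.mp h2
  rw [mem_zpowers_iff]
  refine ⟨k, ?_⟩
  have h3 := mem_NN'.mp hg
  calc rr ε i j ^ k = (g * rr ε i j * g⁻¹) ^ k := by rw [h3]
    _ = g * rr ε i j ^ k * g⁻¹ := by rw [conj_zpow]
    _ = _ := by rw [hk]; group

/-- a Sylow 2-subgroup commutes with a perfect matching -/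
theorem exists_mat [Finite G] {m : ℕ} (hm : 1 ≤ m) {ε : (Fin (2 ^ m + 1) → ZMod 2) → G}
    (h : EvenSet (2 ^ m + 1) V P ε) (S : Sylow 2 G) (hS : (S : Subgroup G) ≤ P)
    (h0 : Fix0 ε (S : Subgroup G)) :
    ∃ (μ : Equiv.Perm (Fin (2 ^ m + 1))) (o : Fin (2 ^ m + 1)), IsMat μ o ∧
      ∀ s ∈ (S : Subgroup G), ∀ σ, Acts ε s σ → σ * μ = μ * σ := by
  have h2 : Fact (Nat.Prime 2) := ⟨Nat.prime_two⟩
  have hn := three_le hm
  let f : (S : Subgroup G) →* Equiv.Perm (Fin (2 ^ m + 1)) :=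
    (h.hom hn).comp (Subgroup.inclusion hS)
  have hf : ∀ (s : G) (hs : s ∈ (S : Subgroup G)), Acts ε s (f ⟨s, hs⟩) := fun s hs =>
    h.acts_hom hn ⟨s, hS hs⟩
  let T := f.range
  have hT : IsPGroup 2 T := S.isPGroup'.of_surjective f.rangeRestrict f.rangeRestrict_surjective
  have hS2 : ∀ i j : Fin (2 ^ m + 1), i ≠ 0 → j ≠ 0 → ∃ σ ∈ T, σ i = j := by
    intro i j hi hj
    obtain ⟨s, hs, σ, hσ, hij⟩ :=
      trans hm h hS (MinSimple.Basic.not_dvd_relIndex S hS) h0 hi hj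
    refine ⟨σ, ⟨⟨s, hs⟩, ?_⟩, hij⟩
    exact h.acts_unique hn (hf s hs) hσ
  have hnt : Nontrivial T := by
    have h1 : (⟨1, by omega⟩ : Fin (2 ^ m + 1)) ≠ 0 := by
      intro h; simp [Fin.ext_iff] at h
    have h2 : (⟨2, by omega⟩ : Fin (2 ^ m + 1)) ≠ 0 := by
      intro h; simp [Fin.ext_iff] at h
    obtain ⟨σ, hσ, h3⟩ := hS2 _ _ h1 h2
    refine ⟨⟨⟨σ, hσ⟩, 1, fun h4 => ?_⟩⟩
    have h5 : σ = 1 := congrArg Subtype.val h4
    rw [h5] at h3
    simp [Fin.ext_iff] at h3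
  have hcn := hT.center_nontrivial
  have hdvd : 2 ∣ Nat.card (center T) := by
    rcases (hT.to_subgroup (center T)).card_eq_or_dvd with h1 | h1
    · exact absurd h1 (Nat.card_eq_one_iff_unique.not.mpr fun h => by
        obtain ⟨h2, -⟩ := h
        exact not_nontrivial_iff_subsingleton.mpr h2 hcn)
    · exact h1
  obtain ⟨z, hz⟩ := exists_prime_orderOf_dvd_card' 2 hdvd
  set μ : Equiv.Perm (Fin (2 ^ m + 1)) := ((z : T) : Equiv.Perm (Fin (2 ^ m + 1))) with hμ
  have hμT : μ ∈ T := (z : T).2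
  have hcomm : ∀ σ ∈ T, σ * μ = μ * σ := by
    intro σ hσ
    have h1 := mem_center_iff.mp z.2 ⟨σ, hσ⟩
    exact congrArg Subtype.val h1
  have hμ2 : μ * μ = 1 := by
    have h1 : z * z = 1 := by
      rw [← pow_two]
      exact orderOf_dvd_iff_pow_eq_one.mp (by rw [hz])
    have h2 := congrArg (fun x : center T => ((x : T) : Equiv.Perm (Fin (2 ^ m + 1)))) h1
    exact h2
  have hμ1 : μ ≠ 1 := by
    intro h1
    have h2 : z = 1 := Subtype.ext (Subtype.ext h1)
    rw [h2, orderOf_one] at hz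
    exact absurd hz (by decide)
  have hμ0 : μ 0 = 0 := by
    obtain ⟨⟨s, hs⟩, hsμ⟩ := hμT
    have h1 := hf s hs
    rw [hsμ] at h1
    exact h0 s hs μ h1
  refine ⟨μ, 0, ⟨fun x => ?_, fun x => ⟨fun hx => ?_, fun hx => ?_⟩⟩, ?_⟩
  · exact DFunLike.congr_fun hμ2 x
  · by_contra hx0
    apply hμ1
    ext y
    by_cases hy : y = 0
    · rw [hy, hμ0]; rfl
    · obtain ⟨σ, hσ, hxy⟩ := hS2 x y hx0 hy
      have h1 := DFunLike.congr_fun (hcomm σ hσ) x
      rw [Equiv.Perm.mul_apply, Equiv.Perm.mul_apply, hx, hxy] at h1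
      rw [← h1]
      rfl
  · rw [hx, hμ0]
  · intro s hs σ hσ
    refine hcomm σ ⟨⟨s, hs⟩, ?_⟩
    exact h.acts_unique hn (hf s hs) hσ

/-- **(0)** -/
theorem sixL [Finite G] (hG : IsCharacteristicTwoType G) {m : ℕ} (hm : 3 ≤ m)
    {ε : (Fin (2 ^ m + 1) → ZMod 2) → G} (h : EvenSet (2 ^ m + 1) V P ε) (S : Sylow 2 G)
    (hS : (S : Subgroup G) ≤ P) (h0 : Fix0 ε (S : Subgroup G)) (hZ : zc (S : Subgroup G) ≤ V)
    (hpair : ∀ i j k, i ≠ j → k ≠ i → k ≠ j → ∀ q ∈ o2 (NN ε i j), q * zz ε k = zz ε k * q)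
    (hle : ∀ i j, i ≠ j → o2 (NN ε i j) ≤ P)
    (hq : ∀ i j k l, i ≠ j → k ≠ l → i ≠ k → i ≠ l → j ≠ k → j ≠ l →
      UU ε i j ≤ o2 (NN ε k l))
    (hN : ∃ i j, i ≠ j ∧ ∃ g ∈ WP ε i j, ¬ g ∈ centralizer (V : Set G)) :
    SixL V P S ε (WP ε) := by
  have hm1 : 1 ≤ m := by omega
  have hn3 := three_le hm1
  have hn7 : 7 ≤ 2 ^ m + 1 := by
    have : 2 ^ 3 ≤ 2 ^ m := Nat.pow_le_pow_right (by norm_num) hm
    omega
  have hodd : Odd (2 ^ m + 1) := by
    refine Even.add_one ?_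
    exact (Nat.even_pow.mpr ⟨even_two, by omega⟩)
  have hrr : ∀ i j, i ≠ j → rr ε i j * rr ε i j = 1 ∧ rr ε i j ≠ 1 := fun i j hij =>
    ⟨rr_sq h i j, rr_ne_one h hn3 hij⟩
  -- `WP ≤ O₂(N)`
  have hWQ : ∀ i j, i ≠ j → WP ε i j ≤ o2 (NN ε i j) := by
    intro i j hij g hg
    exact mem_o2_of_stab hG (hrr i j hij).1 (hrr i j hij).2 hg.1 hg.2
  -- `O₂(N)` acts as `⟨(i j)⟩`
  have hQact : ∀ i j, i ≠ j → ∀ q ∈ o2 (NN ε i j), Acts ε q 1 ∨ Acts ε q (Equiv.swap i j) := by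
    intro i j hij q hqQ
    obtain ⟨σ, hσ⟩ := h.perm q (hle i j hij hqQ)
    have hfix : ∀ k, k ≠ i → k ≠ j → σ k = k := by
      intro k h1 h2
      apply h.single_inj hn3
      have h3 := hpair i j k hij h1 h2 q hqQ
      have h4 := zz_conj hσ k
      rw [h3, mul_inv_cancel_right] at h4
      exact h4.symm
    have hdich : σ = 1 ∨ σ = Equiv.swap i j := by
      have hpres : σ i = i ∨ σ i = j := by
        by_contra hc
        rw [not_or] at hc
        have h1 := hfix _ hc.1 hc.2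
        exact hc.1 (σ.injective h1)
      have hpres' : σ j = i ∨ σ j = j := by
        by_contra hc
        rw [not_or] at hc
        have h1 := hfix _ hc.1 hc.2
        exact hc.2 (σ.injective h1)
      rcases hpres with h1 | h1
      · left
        have h2 : σ j = j := hpres'.resolve_left fun h2 => hij (σ.injective (h1.trans h2.symm))
        ext k
        by_cases hk1 : k = i
        · rw [hk1, h1]; rfl
        by_cases hk2 : k = j
        · rw [hk2, h2]; rfl
        rw [hfix k hk1 hk2]; rfl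
      · right
        have h2 : σ j = i := hpres'.resolve_right fun h2 => hij (σ.injective (h1.trans h2.symm))
        ext k
        by_cases hk1 : k = i
        · rw [hk1, h1, Equiv.swap_apply_left]
        by_cases hk2 : k = j
        · rw [hk2, h2, Equiv.swap_apply_right]
        rw [hfix k hk1 hk2, Equiv.swap_apply_of_ne_of_ne hk1 hk2]
    rcases hdich with h1 | h1
    · left; rwa [h1] at hσ
    · right; rwa [h1] at hσ
  -- `O₂(N)` commutes with `U`
  have hUQ : ∀ i j, i ≠ j → ∀ u ∈ UU ε i j, ∀ q ∈ o2 (NN ε i j), u * q = q * u := by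
    intro i j hij u hu
    unfold UU at hu
    induction hu using closure_induction with
    | mem x hx =>
      obtain ⟨g, hg, k, h1, h2, rfl⟩ := hx
      intro q hqQ
      have h3 : g⁻¹ * q * g ∈ o2 (NN ε i j) := by
        have := (mem_normalizer_iff.mp (le_normalizer_o2 _ (inv_mem hg)) q).mp hqQ
        rwa [inv_inv] at this
      have h4 := hpair i j k hij h1 h2 _ h3
      calc g * zz ε k * g⁻¹ * q = g * (zz ε k * (g⁻¹ * q * g)) * g⁻¹ := by group
        _ = g * ((g⁻¹ * q * g) * zz ε k) * g⁻¹ := by rw [h4]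
        _ = _ := by group
    | one => intro q _; rw [one_mul, mul_one]
    | mul x y _ _ hx hy =>
      intro q hqQ
      rw [mul_assoc, hy q hqQ, ← mul_assoc, hx q hqQ, mul_assoc]
    | inv x _ hx =>
      intro q hqQ
      rw [inv_mul_eq_iff_eq_mul, ← mul_assoc, hx q hqQ, mul_inv_cancel_right]
  have hWact : ∀ i j, i ≠ j → ∀ x ∈ o2 (NN ε i j), ∀ w ∈ WP ε i j,
      w * x * w⁻¹ = x ∨ w * x * w⁻¹ = x * rr ε i j := by
    intro i j hij x hx w hw
    rcases zpow_cases (hrr i j hij).1 (hw.2 x hx) with h1 | h1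
    · left
      rwa [mul_inv_eq_one] at h1
    · right
      rw [mul_inv_eq_iff_eq_mul] at h1
      rw [h1]
      exact (mem_NN.mp (o2_le _ hx)).symm
  refine
    { ev := h
      Vle := ?_
      wn := fun i j _ g hg x hx => WP_norm hg hx
      wc := fun g σ hg i j _ x hx => WP_conj hg hx
      cen := fun i j hij u hu w hw => hUQ i j hij u hu w (hWQ i j hij hw)
      act := fun i j hij w hw => hQact i j hij w (hWQ i j hij hw)
      mov := ?_
      tra := fun i j k l hij hkl h1 h2 h3 h4 u hu w hw =>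
        hWact k l hkl u (hq i j k l hij hkl h1 h2 h3 h4 hu) w hw
      min := ?_
      hq := hq
      qc := hWact
      le := hS
      two := fun i j hij => (o2_isPGroup (NN ε i j)).to_le (hWQ i j hij)
      mat := exists_mat hm1 h S hS h0 }
  · -- `V ≤ WP`
    intro i j hij v hv
    rw [mem_WP]
    have hvN : v ∈ NN ε i j := by
      rw [mem_NN]
      exact h.comm_mem hv (rr_mem h i j)
    refine ⟨hvN, fun q hqQ => ?_⟩
    -- `q⁻¹ v q ∈ {v, v r}`
    obtain ⟨x, rfl⟩ := h.surj v hv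
    have hq' := inv_mem hqQ
    have key : ∀ y : Fin (2 ^ m + 1) → ZMod 2, ∀ p, Acts ε p (Equiv.swap i j) →
        p * ε y * p⁻¹ = ε y ∨ p * ε y * p⁻¹ = ε y * rr ε i j := by
      intro y p hp
      rw [hp y]
      have h1 : y ∘ (Equiv.swap i j).symm = y + (y i + y j) • (Pi.single i 1 + Pi.single j 1) := by
        funext k
        rw [Function.comp_apply, Equiv.symm_swap, Pi.add_apply, Pi.smul_apply, Pi.add_apply]
        by_cases h1 : k = i
        · subst h1
          rw [Equiv.swap_apply_left, Pi.single_eq_same, Pi.single_eq_of_ne hij, add_zero,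
            smul_eq_mul, mul_one, ← add_assoc, Tv.z2_add, zero_add]
        by_cases h2 : k = j
        · subst h2
          rw [Equiv.swap_apply_right, Pi.single_eq_same, Pi.single_eq_of_ne h1, zero_add,
            smul_eq_mul, mul_one, add_comm (y i), ← add_assoc, Tv.z2_add, zero_add]
        · rw [Equiv.swap_apply_of_ne_of_ne h1 h2, Pi.single_eq_of_ne h1, Pi.single_eq_of_ne h2,
            add_zero, smul_zero, add_zero]
      rw [h1, h.add]
      rcases Tv.z2 (y i + y j) with h2 | h2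
      · left
        rw [h2, zero_smul, h.zero, mul_one]
      · right
        rw [h2, one_smul, h.add]
        rfl
    have hcase : q⁻¹ * ε x * q⁻¹⁻¹ = ε x ∨ q⁻¹ * ε x * q⁻¹⁻¹ = ε x * rr ε i j := by
      rcases hQact i j hij _ hq' with h1 | h1
      · left; exact h1 x
      · exact key x _ h1
    rw [inv_inv] at hcase
    have hxr : ε x * rr ε i j = rr ε i j * ε x := h.comm_mem (h.mem x) (rr_mem h i j)
    have hqr : q * rr ε i j = rr ε i j * q := mem_NN.mp (o2_le _ hqQ)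
    rcases hcase with h1 | h1
    · have h2 : ε x * q * (ε x)⁻¹ * q⁻¹ = 1 := by
        have h3 : q⁻¹ * ε x * q = ε x := h1
        calc ε x * q * (ε x)⁻¹ * q⁻¹ = (q⁻¹ * ε x * q) * q * (q⁻¹ * ε x * q)⁻¹ * q⁻¹ *
              (1 : G) := by rw [h3, mul_one]
          _ = q⁻¹ * (ε x * q * (ε x)⁻¹ * q⁻¹) * q := by group
          _ = 1 := by
              have h4 : ε x * q = q * ε x := by
                calc ε x * q = q * (q⁻¹ * ε x * q) := by group
                  _ = q * ε x := by rw [h3]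
              rw [h4]; group
      rw [h2]
      exact one_mem _
    · have h4 : ε x * q = q * (rr ε i j * ε x) := by
        calc ε x * q = q * (q⁻¹ * ε x * q) := by group
          _ = q * (rr ε i j * ε x) := by rw [h1, hxr]
      have h2 : ε x * q * (ε x)⁻¹ * q⁻¹ = rr ε i j := by
        rw [h4, ← mul_assoc, hqr]
        group
      rw [h2]
      exact mem_zpowers _
  · -- `mov`
    obtain ⟨i0, j0, hij0, g, hg, hgV⟩ := hN
    have hgs : Acts ε g (Equiv.swap i0 j0) :=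
      (hQact i0 j0 hij0 g (hWQ i0 j0 hij0 hg)).resolve_left
        fun h1 => hgV (h.acts_one_iff.mp h1)
    intro i j hij
    obtain ⟨σ, h1, h2, -⟩ := exists_perm hij0 hij
    obtain ⟨p, -, hp⟩ := h.full σ
    refine ⟨p * g * p⁻¹, ?_, ?_⟩
    · have := WP_conj hp hg
      rwa [h1, h2] at this
    · have h3 := hp.conj hgs
      have h4 : σ * Equiv.swap i0 j0 * σ⁻¹ = Equiv.swap i j := by
        rw [← Equiv.swap_apply_apply, h1, h2]
      rwa [h4] at h3
  · -- `min`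
    intro A hA hA2 hAne
    have h2 : Fact (Nat.Prime 2) := ⟨Nat.prime_two⟩
    have hcomm : ∀ a ∈ A, ∀ b ∈ A, a * b = b * a := by
      intro a ha b hb
      have h1 := hA2 _ (mul_mem ha hb)
      have h2 : a⁻¹ = a := inv_eq_of_mul_eq_one_left (hA2 a ha)
      have h3 : b⁻¹ = b := inv_eq_of_mul_eq_one_left (hA2 b hb)
      calc a * b = (a * b)⁻¹ := (inv_eq_of_mul_eq_one_left h1).symm
        _ = b⁻¹ * a⁻¹ := mul_inv_rev a b
        _ = b * a := by rw [h2, h3]
    have hAp : IsPGroup 2 A := by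
      intro a
      refine ⟨1, ?_⟩
      rw [pow_one, pow_two]
      exact Subtype.ext (hA2 a a.2)
    -- a fixed point of `S`
    let act : MulAction (S : Subgroup G) A :=
      { smul := fun s a => ⟨(s : G) * a * (s : G)⁻¹, hA s (hS s.2) a a.2⟩
        one_smul := fun a => Subtype.ext (by change (1 : G) * a * (1 : G)⁻¹ = a; group)
        mul_smul := fun s t a => Subtype.ext (by
          change ((s : G) * t) * a * ((s : G) * t)⁻¹ = (s : G) * (t * a * (t : G)⁻¹) * (s : G)⁻¹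
          group) }
    have hdvd : 2 ∣ Nat.card A := by
      rcases hAp.card_eq_or_dvd with h1 | h1
      · exact absurd ((card_eq_one (H := A)).mp h1) hAne
      · exact h1
    have hfix1 : (1 : A) ∈ MulAction.fixedPoints (S : Subgroup G) A := by
      intro s
      exact Subtype.ext (by change (s : G) * 1 * (s : G)⁻¹ = 1; group)
    obtain ⟨a, haf, hane⟩ := S.isPGroup'.exists_fixed_point_of_prime_dvd_card_of_fixed_point A
      hdvd hfix1
    have hac : ∀ s ∈ (S : Subgroup G), s * (a : G) = a * s := by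
      intro s hs
      have h1 := congrArg Subtype.val (haf ⟨s, hs⟩)
      have h3 : s * (a : G) * s⁻¹ = a := h1
      exact mul_inv_eq_iff_eq_mul.mp h3
    have hane' : (a : G) ≠ 1 := fun h1 => hane (Subtype.ext h1).symm
    have haS : (a : G) ∈ (S : Subgroup G) := by
      refine MinPar.le_of_le_normalizer S hAp (fun s hs => ?_) a.2
      rw [mem_normalizer_iff]
      refine fun x => ⟨hA s (hS hs) x, fun hx => ?_⟩
      have h1 := hA s⁻¹ (inv_mem (hS hs)) _ hx
      have h3 : s⁻¹ * (s * x * s⁻¹) * s⁻¹⁻¹ = x := by group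
      rwa [h3] at h1
    have haV : (a : G) ∈ V := hZ (mem_zc.mpr ⟨haS, hac, by rw [pow_two]; exact hA2 a a.2⟩)
    -- all pairs are in `A`
    obtain ⟨x, hx⟩ := h.surj a haV
    have hx01 : ¬ (x = 0 ∨ x = 1) := fun h1 => hane' (by rw [← hx]; exact (h.ker x).mpr h1)
    obtain ⟨i, j, hxij⟩ : ∃ i j, x i ≠ x j := by
      by_contra hc
      push Not at hc
      apply hx01
      rcases Tv.z2 (x 0) with h1 | h1
      · left; funext k; rw [hc k 0, h1]; rfl
      · right; funext k; rw [hc k 0, h1]; rfl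
    have hij : i ≠ j := fun h1 => hxij (by rw [h1])
    have hrA : rr ε i j ∈ A := by
      obtain ⟨p, hp, hps⟩ := h.full (Equiv.swap i j)
      have h1 := hA p hp a a.2
      have h3 : p * (a : G) * p⁻¹ = a * rr ε i j := by
        rw [← hx, hps x]
        have h4 : x ∘ (Equiv.swap i j).symm = x + (Pi.single i 1 + Pi.single j 1) := by
          have h5 : x j = x i + 1 := z2_ne _ _ hxij
          have h5' : x i = x j + 1 := z2_ne _ _ hxij.symm
          funext k
          rw [Function.comp_apply, Equiv.symm_swap, Pi.add_apply, Pi.add_apply]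
          by_cases h1 : k = i
          · rw [h1, Equiv.swap_apply_left, Pi.single_eq_same, Pi.single_eq_of_ne hij, add_zero, h5]
          by_cases h2 : k = j
          · rw [h2, Equiv.swap_apply_right, Pi.single_eq_same, Pi.single_eq_of_ne hij.symm,
              zero_add, h5']
          · rw [Equiv.swap_apply_of_ne_of_ne h1 h2, Pi.single_eq_of_ne h1, Pi.single_eq_of_ne h2,
              add_zero, add_zero]
        rw [h4, h.add, h.add]
        rfl
      have h4 := mul_mem (inv_mem a.2) h1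
      rwa [h3, inv_mul_cancel_left] at h4
    have hall : ∀ k l, k ≠ l → rr ε k l ∈ A := by
      intro k l hkl
      obtain ⟨σ, h1, h3, -⟩ := exists_perm hij hkl
      obtain ⟨p, hp, hps⟩ := h.full σ
      have h4 := hA p hp _ hrA
      rwa [rr_conj hps, h1, h3] at h4
    have hz : ∀ k, zz ε k ∈ A := by
      intro k
      obtain ⟨j, hj⟩ : ∃ j, k ≠ j := by
        obtain ⟨j, hj⟩ := exists_ne k
        exact ⟨j, hj.symm⟩
      have h1 := compl_rr h hj (fun t x => x ∈ V ∧ x * zz ε k ^ t ∈ A)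
        ⟨one_mem _, by rw [one_mul, pow_zero]; exact one_mem _⟩ (by
        rintro l h1 h3 t x ⟨hxV, hxA⟩
        refine ⟨mul_mem (zz_mem h l) hxV, ?_⟩
        have h4 := mul_mem (hall l k h1) hxA
        have h5 : zz ε l * x * zz ε k ^ (t + 1) = rr ε l k * (x * zz ε k ^ t) := by
          have h6 : zz ε k * x = x * zz ε k := h.comm_mem (zz_mem h k) hxV
          unfold rr
          calc zz ε l * x * zz ε k ^ (t + 1) = zz ε l * (x * zz ε k) * zz ε k ^ t := by
                rw [pow_succ']; group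
            _ = zz ε l * (zz ε k * x) * zz ε k ^ t := by rw [h6]
            _ = _ := by group
        rwa [h5])
      obtain ⟨-, h3⟩ := h1
      have h4 : zz ε k ^ (2 ^ m + 1 - 2) = zz ε k := by
        obtain ⟨t, ht⟩ := hodd
        have h5 : 2 ^ m + 1 - 2 = 2 * (t - 1) + 1 := by omega
        rw [h5, pow_succ, pow_mul, pow_two, zz_sq h, one_pow, one_mul]
      rw [h4] at h3
      have h5 := mul_mem (inv_mem (hall k j hj)) h3
      rwa [inv_mul_cancel_left] at h5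
    intro v hv
    obtain ⟨y, rfl⟩ := h.surj v hv
    have key : ∀ F : Finset (Fin (2 ^ m + 1)), ε (∑ k ∈ F, Pi.single k 1) ∈ A := by
      intro F
      induction F using Finset.induction_on with
      | empty => rw [Finset.sum_empty, h.zero]; exact one_mem _
      | insert k F hk ih =>
        rw [Finset.sum_insert hk, h.add]
        exact mul_mem (hz k) ih
    have h1 : y = ∑ k ∈ Finset.univ.filter (fun k => y k ≠ 0), Pi.single k 1 := by
      funext m'
      rw [Finset.sum_apply]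
      by_cases hm' : y m' = 0
      · rw [hm', Finset.sum_eq_zero]
        intro k hk
        have : m' ≠ k := by
          rintro rfl
          exact (Finset.mem_filter.mp hk).2 hm'
        exact Pi.single_eq_of_ne this _
      · rw [Finset.sum_eq_single m']
        · rw [Pi.single_eq_same]; exact Tv.z2_one hm'
        · intro k _ hk
          exact Pi.single_eq_of_ne (Ne.symm hk) _
        · intro h0
          exfalso
          apply h0
          rw [Finset.mem_filter]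
          exact ⟨Finset.mem_univ _, hm'⟩
    rw [h1]
    exact key _

end Cfsg.Agent.Omega.NSix.Zero

end

section


/-!
# The instance of the frame `Fr` of #15755 in the group

`Hyp V P ε`: the hypotheses on the group ((H1), `V` minimal, an involution of `WP ε i j` which moves `V`);
`W2 ε i j` = the elements of `WP ε i j` with square in `⟨r_ij⟩`;
* `Hyp.fr` : `Fr ε (UU ε) (W2 ε) (fun i j => o2 (NN ε i j)) w` for every choice of `w i j ∈ W2 ε i j` inducing `(i j)`;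
* `Hyp.core_gen` : an element of some `o2 (NN ε a b)` which centralises `UU ε i j` and `UU ε k l` lies in `o2 (NN ε i j)`;
* `Hyp.hq_of_comm` : if disjoint `UU`'s commute then `(H2)`;
* `Hyp.of` : `Hyp` in a group of characteristic 2 type with `zc S ≤ V`.
-/

set_option autoImplicit false
set_option linter.unusedSectionVars false
set_option linter.unusedVariables false

namespace Cfsg.Agent.Omega.NSix.Engine

open Subgroup Cfsg
open Cfsg.Agent.ZN (o2 zc)
open Cfsg.Agent.MinSimple.VModule (o2_le o2_isPGroup le_normalizer_o2 le_o2 mem_zc)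
open Cfsg.Agent.MinSimple.Geo (mem_o2_of_stab)
open Cfsg.Agent.Omega.S5.Def Cfsg.Agent.Omega.NSix.Base Cfsg.Agent.Omega.NSix.Basic
open Cfsg.Agent.Omega.NSix.Zero
open Cfsg.Agent.Omega.TTn.Di (cm cj)
open Cfsg.Agent.Omega.TTn

universe u

variable {G : Type u} [Group G] {n : ℕ} {V P : Subgroup G} {ε : (Fin n → ZMod 2) → G}

/-- the hypotheses -/
structure Hyp (V P : Subgroup G) (ε : (Fin n → ZMod 2) → G) : Prop where
  n5 : 5 ≤ n
  odd : Odd n
  ev : EvenSet n V P ε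
  pair : ∀ i j k, i ≠ j → k ≠ i → k ≠ j → ∀ q ∈ o2 (NN ε i j), q * zz ε k = zz ε k * q
  le : ∀ i j, i ≠ j → o2 (NN ε i j) ≤ P
  stab : ∀ i j, i ≠ j → WP ε i j ≤ o2 (NN ε i j)
  min : ∀ A : Subgroup G, (∀ g ∈ P, ∀ a ∈ A, g * a * g⁻¹ ∈ A) → (∀ a ∈ A, a * a = 1) → A ≠ ⊥ → V ≤ A
  mov : ∃ i j, i ≠ j ∧ ∃ g ∈ WP ε i j, g * g ∈ zpowers (rr ε i j) ∧ ¬ g ∈ centralizer (V : Set G)

/-- the elements of `WP` with square in `⟨r⟩` -/
def W2 (ε : (Fin n → ZMod 2) → G) (i j : Fin n) : Subgroup G :=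
  closure {g | g ∈ WP ε i j ∧ g * g ∈ zpowers (rr ε i j)}

theorem W2_le (i j : Fin n) : W2 ε i j ≤ WP ε i j := by
  unfold W2
  rw [closure_le]
  exact fun g hg => hg.1

theorem W2_of {i j : Fin n} {g : G} (h1 : g ∈ WP ε i j) (h2 : g * g ∈ zpowers (rr ε i j)) : g ∈ W2 ε i j :=
  subset_closure ⟨h1, h2⟩

theorem W2_conj {g : G} {σ : Equiv.Perm (Fin n)} (hg : Acts ε g σ) {i j : Fin n} {x : G}
    (hx : x ∈ W2 ε i j) : g * x * g⁻¹ ∈ W2 ε (σ i) (σ j) := by
  unfold W2 at hx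
  induction hx using closure_induction with
  | mem x hx =>
    refine W2_of (WP_conj hg hx.1) ?_
    obtain ⟨k, hk⟩ := mem_zpowers_iff.1 hx.2
    rw [mem_zpowers_iff]
    refine ⟨k, ?_⟩
    rw [← rr_conj hg, conj_zpow, hk]
    group
  | one => rw [mul_one, mul_inv_cancel]; exact one_mem _
  | mul x y _ _ hx hy =>
    have : g * (x * y) * g⁻¹ = (g * x * g⁻¹) * (g * y * g⁻¹) := by group
    rw [this]; exact mul_mem hx hy
  | inv x _ hx =>
    have : g * x⁻¹ * g⁻¹ = (g * x * g⁻¹)⁻¹ := by group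
    rw [this]; exact inv_mem hx

theorem W2_norm {i j : Fin n} {g x : G} (hg : g ∈ NN ε i j) (hx : x ∈ W2 ε i j) :
    g * x * g⁻¹ ∈ W2 ε i j := by
  unfold W2 at hx
  induction hx using closure_induction with
  | mem x hx =>
    refine W2_of (WP_norm hg hx.1) ?_
    obtain ⟨k, hk⟩ := mem_zpowers_iff.1 hx.2
    rw [mem_zpowers_iff]
    refine ⟨k, ?_⟩
    calc rr ε i j ^ k = (g * rr ε i j * g⁻¹) ^ k := by rw [mem_NN'.1 hg]
      _ = g * rr ε i j ^ k * g⁻¹ := by rw [conj_zpow]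
      _ = _ := by rw [hk]; group
  | one => rw [mul_one, mul_inv_cancel]; exact one_mem _
  | mul x y _ _ hx hy =>
    have : g * (x * y) * g⁻¹ = (g * x * g⁻¹) * (g * y * g⁻¹) := by group
    rw [this]; exact mul_mem hx hy
  | inv x _ hx =>
    have : g * x⁻¹ * g⁻¹ = (g * x * g⁻¹)⁻¹ := by group
    rw [this]; exact inv_mem hx

/-- an element conjugating `U_ab` -/
theorem cen_conj {g c : G} {σ : Equiv.Perm (Fin n)} (hg : Acts ε g σ) {a b : Fin n}
    (hc : c ∈ centralizer (UU ε a b : Set G)) : g * c * g⁻¹ ∈ centralizer (UU ε (σ a) (σ b) : Set G) := by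
  refine mem_centralizer_iff.2 fun u hu => ?_
  have h1 := UU_conj hg.inv hu
  have e : ∀ m, σ⁻¹ (σ m) = m := fun m => σ.symm_apply_apply m
  rw [e, e, inv_inv] at h1
  have h2 := mem_centralizer_iff.1 hc _ h1
  calc u * (g * c * g⁻¹) = g * (g⁻¹ * u * g * c) * g⁻¹ := by group
    _ = g * (c * (g⁻¹ * u * g)) * g⁻¹ := by rw [h2]
    _ = g * c * g⁻¹ * u := by group

theorem cen_norm {g c : G} {a b : Fin n} (hg : g ∈ NN ε a b) (hc : c ∈ centralizer (UU ε a b : Set G)) :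
    g * c * g⁻¹ ∈ centralizer (UU ε a b : Set G) := by
  refine mem_centralizer_iff.2 fun u hu => ?_
  have h1 := UU_normal (inv_mem hg) hu
  rw [inv_inv] at h1
  have h2 := mem_centralizer_iff.1 hc _ h1
  calc u * (g * c * g⁻¹) = g * (g⁻¹ * u * g * c) * g⁻¹ := by group
    _ = g * (c * (g⁻¹ * u * g)) * g⁻¹ := by rw [h2]
    _ = g * c * g⁻¹ * u := by group

theorem WP_symm (h : EvenSet n V P ε) (i j : Fin n) : WP ε i j = WP ε j i := by
  ext g
  rw [mem_WP, mem_WP, NN_symm h, rr_symm h]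

theorem W2_symm (h : EvenSet n V P ε) (i j : Fin n) : W2 ε i j = W2 ε j i := by
  unfold W2
  rw [WP_symm h, rr_symm h]

/-- a further label -/
theorem exists_fifth (hn : 5 ≤ n) (i j k l : Fin n) : ∃ m : Fin n, m ≠ i ∧ m ≠ j ∧ m ≠ k ∧ m ≠ l := by
  have hcard : ({i, j, k, l} : Finset (Fin n)).card < (Finset.univ : Finset (Fin n)).card := by
    rw [Finset.card_univ, Fintype.card_fin]
    exact lt_of_le_of_lt Finset.card_le_four (by omega)
  obtain ⟨m, -, hm⟩ := Finset.exists_mem_notMem_of_card_lt_card hcard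
  simp only [Finset.mem_insert, Finset.mem_singleton, not_or] at hm
  exact ⟨m, hm.1, hm.2.1, hm.2.2.1, hm.2.2.2⟩

namespace Hyp

variable (h : Hyp V P ε) {i j k l : Fin n}
include h

theorem n3 : 3 ≤ n := le_trans (by norm_num) h.n5

theorem r_mem_NN (i j : Fin n) : rr ε i j ∈ NN ε i j := mem_NN.2 rfl

theorem W2_leQ (hij : i ≠ j) : W2 ε i j ≤ o2 (NN ε i j) := (W2_le i j).trans (h.stab i j hij)

/-- `WP` acts on `O₂(N)` -/
theorem wp_cases (_ : i ≠ j) {q x : G} (hq : q ∈ o2 (NN ε i j)) (hx : x ∈ WP ε i j) :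
    cm q x = 1 ∨ cm q x = rr ε i j := by
  refine zpow_cases (rr_sq h.ev i j) ?_
  have h1 := inv_mem (hx.2 q hq)
  have h2 : (x * q * x⁻¹ * q⁻¹)⁻¹ = cm q x := by unfold cm; group
  rwa [h2] at h1

/-- the squares -/
theorem W2_sq (hij : i ≠ j) {x : G} (hx : x ∈ W2 ε i j) : x * x = 1 ∨ x * x = rr ε i j := by
  refine zpow_cases (rr_sq h.ev i j) ?_
  have hr : ∀ {a z : G}, a ∈ WP ε i j → z ∈ zpowers (rr ε i j) → a * z = z * a := by
    intro a z ha hz
    obtain ⟨k, rfl⟩ := mem_zpowers_iff.1 hz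
    have h1 : Commute a (rr ε i j) := mem_NN.1 ha.1
    exact h1.zpow_right k
  unfold W2 at hx
  induction hx using closure_induction with
  | mem x hx => exact hx.2
  | one => rw [mul_one]; exact one_mem _
  | mul x y hx' hy' hx hy =>
    have hxW : x ∈ WP ε i j := W2_le i j hx'
    have hyW : y ∈ WP ε i j := W2_le i j hy'
    have h1 := hyW.2 x (h.stab i j hij hxW)
    have h2 : x * y * (x * y) = x * (y * x * y⁻¹ * x⁻¹) * x * (y * y) := by group
    rw [h2, hr hxW h1, mul_assoc (y * x * y⁻¹ * x⁻¹)]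
    exact mul_mem (mul_mem h1 hx) hy
  | inv x _ hx =>
    have h1 : x⁻¹ * x⁻¹ = (x * x)⁻¹ := by group
    rw [h1]; exact inv_mem hx

/-- `O₂(N)` acts as `⟨(i j)⟩` -/
theorem QA (hij : i ≠ j) {q : G} (hqQ : q ∈ o2 (NN ε i j)) : Acts ε q 1 ∨ Acts ε q (Equiv.swap i j) := by
  obtain ⟨σ, hσ⟩ := h.ev.perm q (h.le i j hij hqQ)
  have hfix : ∀ k, k ≠ i → k ≠ j → σ k = k := by
    intro k h1 h2
    apply h.ev.single_inj h.n3
    have h3 := h.pair i j k hij h1 h2 q hqQ
    have h4 := zz_conj hσ k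
    rw [h3, mul_inv_cancel_right] at h4
    exact h4.symm
  have hpres : σ i = i ∨ σ i = j := by
    by_contra hc
    rw [not_or] at hc
    have h1 := hfix _ hc.1 hc.2
    exact hc.1 (σ.injective h1)
  have hpres' : σ j = i ∨ σ j = j := by
    by_contra hc
    rw [not_or] at hc
    have h1 := hfix _ hc.1 hc.2
    exact hc.2 (σ.injective h1)
  rcases hpres with h1 | h1
  · left
    have h2 : σ j = j := hpres'.resolve_left fun h2 => hij (σ.injective (h1.trans h2.symm))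
    have h3 : σ = 1 := by
      ext k
      by_cases hk1 : k = i
      · rw [hk1, h1]; rfl
      by_cases hk2 : k = j
      · rw [hk2, h2]; rfl
      rw [hfix k hk1 hk2]; rfl
    rwa [h3] at hσ
  · right
    have h2 : σ j = i := hpres'.resolve_right fun h2 => hij (σ.injective (h1.trans h2.symm))
    have h3 : σ = Equiv.swap i j := by
      ext k
      by_cases hk1 : k = i
      · rw [hk1, h1, Equiv.swap_apply_left]
      by_cases hk2 : k = j
      · rw [hk2, h2, Equiv.swap_apply_right]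
      rw [hfix k hk1 hk2, Equiv.swap_apply_of_ne_of_ne hk1 hk2]
    rwa [h3] at hσ

/-- `O₂(N)` commutes with `U` -/
theorem UQc (hij : i ≠ j) {q : G} (hq : q ∈ o2 (NN ε i j)) {u : G} (hu : u ∈ UU ε i j) : q * u = u * q := by
  unfold UU at hu
  induction hu using closure_induction generalizing q with
  | mem x hx =>
    obtain ⟨g, hg, k, h1, h2, rfl⟩ := hx
    have h3 : g⁻¹ * q * g ∈ o2 (NN ε i j) := by
      have := (mem_normalizer_iff.mp (le_normalizer_o2 _ (inv_mem hg)) q).mp hq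
      rwa [inv_inv] at this
    have h4 := h.pair i j k hij h1 h2 _ h3
    calc q * (g * zz ε k * g⁻¹) = g * ((g⁻¹ * q * g) * zz ε k) * g⁻¹ := by group
      _ = g * (zz ε k * (g⁻¹ * q * g)) * g⁻¹ := by rw [h4]
      _ = _ := by group
  | one => rw [one_mul, mul_one]
  | mul x y _ _ hx hy => rw [← mul_assoc, hx hq, mul_assoc, hy hq, mul_assoc]
  | inv x _ hx => rw [mul_inv_eq_iff_eq_mul, mul_assoc, hx hq, inv_mul_cancel_left]

theorem key_swap (hij : i ≠ j) (y : Fin n → ZMod 2) {p : G} (hp : Acts ε p (Equiv.swap i j)) :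
    p * ε y * p⁻¹ = ε y ∨ p * ε y * p⁻¹ = ε y * rr ε i j := by
  rw [hp y]
  have h1 : y ∘ (Equiv.swap i j).symm = y + (y i + y j) • (Pi.single i 1 + Pi.single j 1) := by
    funext k
    rw [Function.comp_apply, Equiv.symm_swap, Pi.add_apply, Pi.smul_apply, Pi.add_apply]
    by_cases h1 : k = i
    · subst h1
      rw [Equiv.swap_apply_left, Pi.single_eq_same, Pi.single_eq_of_ne hij, add_zero,
        smul_eq_mul, mul_one, ← add_assoc, Tv.z2_add, zero_add]
    by_cases h2 : k = j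
    · subst h2
      rw [Equiv.swap_apply_right, Pi.single_eq_same, Pi.single_eq_of_ne h1, zero_add,
        smul_eq_mul, mul_one, add_comm (y i), ← add_assoc, Tv.z2_add, zero_add]
    · rw [Equiv.swap_apply_of_ne_of_ne h1 h2, Pi.single_eq_of_ne h1, Pi.single_eq_of_ne h2,
        add_zero, smul_zero, add_zero]
  rw [h1, h.ev.add]
  rcases Tv.z2 (y i + y j) with h2 | h2
  · left
    rw [h2, zero_smul, h.ev.zero, mul_one]
  · right
    rw [h2, one_smul, h.ev.add]
    rfl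

theorem V_le (hij : i ≠ j) : V ≤ W2 ε i j := by
  intro v hv
  have hsq : v * v ∈ zpowers (rr ε i j) := by rw [h.ev.sq_mem hv]; exact one_mem _
  refine W2_of ?_ hsq
  rw [mem_WP]
  have hvN : v ∈ NN ε i j := by
    rw [mem_NN]
    exact h.ev.comm_mem hv (rr_mem h.ev i j)
  refine ⟨hvN, fun q hqQ => ?_⟩
  obtain ⟨x, rfl⟩ := h.ev.surj v hv
  have hcase : q * ε x * q⁻¹ = ε x ∨ q * ε x * q⁻¹ = ε x * rr ε i j := by
    rcases h.QA hij hqQ with h1 | h1
    · left; exact h1 x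
    · exact h.key_swap hij x h1
  rcases hcase with h1 | h1
  · have h2 : ε x * q * (ε x)⁻¹ * q⁻¹ = 1 := by
      calc ε x * q * (ε x)⁻¹ * q⁻¹ = ε x * (q * ε x * q⁻¹)⁻¹ := by group
        _ = 1 := by rw [h1, mul_inv_cancel]
    rw [h2]
    exact one_mem _
  · have h2 : ε x * q * (ε x)⁻¹ * q⁻¹ = (rr ε i j)⁻¹ := by
      have h3 : ε x * rr ε i j = rr ε i j * ε x := h.ev.comm_mem (h.ev.mem x) (rr_mem h.ev i j)
      calc ε x * q * (ε x)⁻¹ * q⁻¹ = ε x * (q * ε x * q⁻¹)⁻¹ := by group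
        _ = _ := by rw [h1, h3]; group
    rw [h2]
    exact inv_mem (mem_zpowers _)

theorem U_leW (hij : i ≠ j) : UU ε i j ≤ W2 ε i j := by
  unfold UU
  rw [closure_le]
  rintro x ⟨g, hg, k, -, -, rfl⟩
  exact W2_norm hg (h.V_le hij (zz_mem h.ev k))

theorem UQ (hij : i ≠ j) : UU ε i j ≤ o2 (NN ε i j) := (h.U_leW hij).trans (h.W2_leQ hij)

theorem UK (hij : i ≠ j) : UU ε i j ≤ KK ε := by
  intro u hu
  refine mem_KK'.2 fun x => ?_
  exact (h.UQc hij (h.W2_leQ hij (h.V_le hij (h.ev.mem x))) hu).symm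

theorem Uab (hij : i ≠ j) {u v : G} (hu : u ∈ UU ε i j) (hv : v ∈ UU ε i j) : u * v = v * u :=
  h.UQc hij (h.UQ hij hu) hv

theorem Usq (hij : i ≠ j) {u : G} (hu : u ∈ UU ε i j) : u * u = 1 := by
  have hu' : u ∈ closure {x | ∃ g ∈ NN ε i j, ∃ k, k ≠ i ∧ k ≠ j ∧ x = g * zz ε k * g⁻¹} := hu
  induction hu' using closure_induction with
  | mem x hx =>
    obtain ⟨g, -, k, -, -, rfl⟩ := hx
    calc g * zz ε k * g⁻¹ * (g * zz ε k * g⁻¹) = g * (zz ε k * zz ε k) * g⁻¹ := by group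
      _ = 1 := by rw [zz_sq h.ev, mul_one, mul_inv_cancel]
  | one => rw [mul_one]
  | mul x y hx' hy' hx hy =>
    have h1 : x * y = y * x := h.Uab hij hx' hy'
    calc x * y * (x * y) = x * (y * x) * y := by group
      _ = (x * x) * (y * y) := by rw [← h1]; group
      _ = 1 := by rw [hx hx', hy hy', mul_one]
  | inv x hx' hx =>
    have h1 : x⁻¹ * x⁻¹ = (x * x)⁻¹ := by group
    rw [h1, hx hx', inv_one]

theorem exists_w (hij : i ≠ j) : ∃ w ∈ W2 ε i j, Acts ε w (Equiv.swap i j) := by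
  obtain ⟨i0, j0, hij0, g, hg, hg2, hgV⟩ := h.mov
  have hgs : Acts ε g (Equiv.swap i0 j0) :=
    (h.QA hij0 (h.stab i0 j0 hij0 hg)).resolve_left fun h1 => hgV (h.ev.acts_one_iff.mp h1)
  obtain ⟨σ, h1, h2, -⟩ := exists_perm hij0 hij
  obtain ⟨p, -, hp⟩ := h.ev.full σ
  refine ⟨p * g * p⁻¹, ?_, ?_⟩
  · have := W2_conj hp (W2_of hg hg2)
    rwa [h1, h2] at this
  · have h3 := hp.conj hgs
    have h4 : σ * Equiv.swap i0 j0 * σ⁻¹ = Equiv.swap i j := by
      rw [← Equiv.swap_apply_apply, h1, h2]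
    rwa [h4] at h3

theorem eU (hij : i ≠ j) (x : Fin n → ZMod 2) : ε x ∈ UU ε i j ↔ x i = x j := by
  constructor
  · intro hx
    obtain ⟨w, hw, hwa⟩ := h.exists_w hij
    have h1 := h.UQc hij (h.W2_leQ hij hw) hx
    have h2 := hwa x
    rw [h1, mul_inv_cancel_right, h.ev.eq_iff] at h2
    rcases h2 with h2 | h2
    · have h3 := congrFun h2 i
      rw [Function.comp_apply, Equiv.symm_swap, Equiv.swap_apply_left] at h3
      exact h3
    · exfalso
      obtain ⟨m, h3, h4, -, -⟩ := exists_fifth h.n5 i j i j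
      have h5 := congrFun h2 m
      rw [Pi.add_apply, Function.comp_apply, Equiv.symm_swap, Equiv.swap_apply_of_ne_of_ne h3 h4,
        Pi.one_apply] at h5
      exact one_ne_zero (left_eq_add.1 h5)
  · intro hx
    have key : ∀ y : Fin n → ZMod 2, y i = 0 → y j = 0 → ε y ∈ UU ε i j := by
      intro y hy1 hy2
      have h1 : y = ∑ k ∈ Finset.univ.filter (fun k => y k ≠ 0), Pi.single k 1 := by
        funext m
        rw [Finset.sum_apply]
        by_cases hm : y m = 0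
        · rw [hm, Finset.sum_eq_zero]
          intro k hk
          have : m ≠ k := by
            rintro rfl
            exact (Finset.mem_filter.mp hk).2 hm
          exact Pi.single_eq_of_ne this _
        · rw [Finset.sum_eq_single m]
          · rw [Pi.single_eq_same]; exact Tv.z2_one hm
          · intro k _ hk
            exact Pi.single_eq_of_ne (Ne.symm hk) _
          · intro h0
            exfalso
            apply h0
            rw [Finset.mem_filter]
            exact ⟨Finset.mem_univ _, hm⟩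
      have h2 : ∀ F : Finset (Fin n), i ∉ F → j ∉ F → ε (∑ k ∈ F, Pi.single k 1) ∈ UU ε i j := by
        intro F
        induction F using Finset.induction_on with
        | empty => intro _ _; rw [Finset.sum_empty, h.ev.zero]; exact one_mem _
        | insert k F hk ih =>
          intro h3 h4
          rw [Finset.mem_insert, not_or] at h3 h4
          rw [Finset.sum_insert hk, h.ev.add]
          exact mul_mem (zz_mem_UU (Ne.symm h3.1) (Ne.symm h4.1)) (ih h3.2 h4.2)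
      rw [h1]
      apply h2
      · intro h3
        exact (Finset.mem_filter.mp h3).2 hy1
      · intro h3
        exact (Finset.mem_filter.mp h3).2 hy2
    rcases Tv.z2 (x i) with h1 | h1
    · exact key x h1 (by rw [← hx, h1])
    · have h2 := key (x + 1) (by rw [Pi.add_apply, h1, Pi.one_apply]; decide)
        (by rw [Pi.add_apply, ← hx, h1, Pi.one_apply]; decide)
      rwa [h.ev.add, h.ev.one, mul_one] at h2

theorem inter {x : G} (hx : ∀ i j, i ≠ j → x ∈ UU ε i j) : x = 1 := by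
  let A : Subgroup G :=
    { carrier := {x | ∀ i j, i ≠ j → x ∈ UU ε i j}
      one_mem' := fun _ _ _ => one_mem _
      mul_mem' := fun ha hb i j hij => mul_mem (ha i j hij) (hb i j hij)
      inv_mem' := fun ha i j hij => inv_mem (ha i j hij) }
  by_contra hx1
  have h0 : (⟨0, by have := h.n5; omega⟩ : Fin n) ≠ ⟨1, by have := h.n5; omega⟩ := by
    intro h1
    simp [Fin.ext_iff] at h1
  have h1 : V ≤ A := by
    refine h.min A ?_ ?_ ?_
    · intro g hg a ha i j hij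
      obtain ⟨σ, hσ⟩ := h.ev.perm g hg
      have h2 := UU_conj hσ (ha (σ⁻¹ i) (σ⁻¹ j) fun h3 => hij (σ⁻¹.injective h3))
      have e : ∀ m, σ (σ⁻¹ m) = m := fun m => σ.apply_symm_apply m
      rwa [e, e] at h2
    · intro a ha
      exact h.Usq h0 (ha _ _ h0)
    · intro h2
      have h3 : x ∈ A := hx
      rw [h2] at h3
      exact hx1 (mem_bot.1 h3)
  have h2 := h1 (zz_mem h.ev ⟨0, by have := h.n5; omega⟩) _ _ h0
  have h3 := (h.eU h0 _).1 h2
  rw [Pi.single_eq_same, Pi.single_eq_of_ne h0.symm] at h3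
  exact one_ne_zero h3

theorem rr_mem_U (hij : i ≠ j) : rr ε i j ∈ UU ε i j := rr_self_mem_UU h.ev hij

theorem C_le (hij : i ≠ j) : centralizer (UU ε i j : Set G) ≤ NN ε i j := fun x hx =>
  mem_NN.2 (mem_centralizer_iff.1 hx _ (h.rr_mem_U hij)).symm

theorem C_le' (hD : D4 i j k l) : centralizer (UU ε i j : Set G) ≤ NN ε k l := fun x hx =>
  mem_NN.2 (mem_centralizer_iff.1 hx _ (rr_mem_UU hD.ik.symm hD.jk.symm hD.il.symm hD.jl.symm)).symm

theorem Q_le (hD : D4 i j k l) : o2 (NN ε k l) ≤ NN ε i j := by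
  intro q hq
  have h1 := h.pair k l i hD.kl hD.ik hD.il q hq
  have h2 := h.pair k l j hD.kl hD.jk hD.jl q hq
  rw [mem_NN]
  unfold rr
  rw [← mul_assoc, h1, mul_assoc, h2, ← mul_assoc]

/-- (K3) -/
theorem inf_le (hD : D4 i j k l) {x : G} (hx : x ∈ W2 ε k l) (hc : x ∈ centralizer (UU ε i j : Set G)) :
    x ∈ o2 (NN ε i j) := by
  set C := centralizer (UU ε i j : Set G) with hC
  -- `W ∩ C ≤ O₂(C)`
  have h1 : W2 ε k l ⊓ C ≤ o2 C := by
    refine le_o2 inf_le_right ((o2_isPGroup (NN ε k l)).to_le (inf_le_left.trans (h.W2_leQ hD.kl))) ?_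
    intro g hg
    have key : ∀ g ∈ C, ∀ y ∈ W2 ε k l ⊓ C, g * y * g⁻¹ ∈ W2 ε k l ⊓ C := fun g hg y hy =>
      mem_inf.2 ⟨W2_norm (h.C_le' hD hg) hy.1, mul_mem (mul_mem hg hy.2) (inv_mem hg)⟩
    rw [mem_normalizer_iff]
    refine fun y => ⟨key g hg y, fun hy => ?_⟩
    have h2 := key g⁻¹ (inv_mem hg) _ hy
    have h3 : g⁻¹ * (g * y * g⁻¹) * g⁻¹⁻¹ = y := by group
    rwa [h3] at h2
  have h2 : o2 C ≤ o2 (NN ε i j) := by
    refine le_o2 ((o2_le C).trans (h.C_le hD.ij)) (o2_isPGroup C) ?_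
    intro g hg
    have h3 : g ∈ normalizer (C : Set G) := by
      have key : ∀ g ∈ NN ε i j, ∀ y ∈ C, g * y * g⁻¹ ∈ C := fun g hg y hy => cen_norm hg hy
      rw [mem_normalizer_iff]
      refine fun y => ⟨key g hg y, fun hy => ?_⟩
      have h2 := key g⁻¹ (inv_mem hg) _ hy
      have h3 : g⁻¹ * (g * y * g⁻¹) * g⁻¹⁻¹ = y := by group
      rwa [h3] at h2
    exact Cfsg.Agent.Omega.NSix.End.Six.norm_o2 C h3
  exact h2 (h1 (mem_inf.2 ⟨hx, hc⟩))

/-- `[C_G(U_ij), W_kl] ≤ Q_ij` -/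
theorem cw (hD : D4 i j k l) {c : G} (hc : c ∈ centralizer (UU ε i j : Set G)) {x : G} (hx : x ∈ W2 ε k l) :
    cm c x ∈ o2 (NN ε i j) := by
  have hxN : x ∈ NN ε i j := h.Q_le hD (h.W2_leQ hD.kl hx)
  refine h.inf_le hD ?_ ?_
  · exact mul_mem (W2_norm (h.C_le' hD hc) hx) (inv_mem hx)
  · have h2 := cen_norm hxN (inv_mem hc)
    have e : cm c x = c * (x * c⁻¹ * x⁻¹) := by unfold cm; group
    rw [e]
    exact mul_mem hc h2

/-- `C_G(U_ij U_kl)` -/
abbrev OO (ε : (Fin n → ZMod 2) → G) (i j k l : Fin n) : Subgroup G :=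
  centralizer (UU ε i j : Set G) ⊓ centralizer (UU ε k l : Set G)

omit h in
theorem OO_norm [Finite G] {g : G} (h1 : g ∈ NN ε i j) (h2 : g ∈ NN ε k l) :
    g ∈ normalizer (OO ε i j k l : Set G) :=
  DiCoreAbs.mem_norm_of fun _ hx => mem_inf.2 ⟨cen_norm h1 hx.1, cen_norm h2 hx.2⟩

omit h in
theorem OO_acts [Finite G] {g : G} {σ : Equiv.Perm (Fin n)} (hg : Acts ε g σ)
    (hσ : ∀ c, c ∈ OO ε i j k l → g * c * g⁻¹ ∈ OO ε i j k l) : g ∈ normalizer (OO ε i j k l : Set G) :=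
  DiCoreAbs.mem_norm_of hσ

/-- `W_kl ^ N_ij` and `Q_ij` -/
def FF (ε : (Fin n → ZMod 2) → G) (i j k l : Fin n) : Set G :=
  {x | ∃ g ∈ NN ε i j, ∃ w ∈ W2 ε k l, x = g * w * g⁻¹} ∪ {x | x ∈ o2 (NN ε i j)}

theorem gen_le [Finite G] (hD : D4 i j k l) :
    (P : Set G) ⊆ closure (FF ε i j k l ∪ (normalizer (OO ε i j k l : Set G) : Set G)) := by
  set K₀ := closure (FF ε i j k l ∪ (normalizer (OO ε i j k l : Set G) : Set G)) with hK₀
  let H : Subgroup (Equiv.Perm (Fin n)) :=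
    { carrier := {p | ∃ g ∈ K₀, Acts ε g p}
      one_mem' := ⟨1, one_mem _, Acts.one⟩
      mul_mem' := by
        rintro p q ⟨g, hg, hi⟩ ⟨g', hg', hi'⟩
        exact ⟨g * g', mul_mem hg hg', hi.mul hi'⟩
      inv_mem' := by
        rintro p ⟨g, hg, hi⟩
        exact ⟨g⁻¹, inv_mem hg, hi.inv⟩ }
  have e1 : ∀ a b, a ≠ i → a ≠ j → b ≠ i → b ≠ j → a ≠ b → Equiv.swap a b ∈ H := by
    intro a b ha1 ha2 hb1 hb2 hab
    obtain ⟨w, hw, hwi⟩ := h.exists_w hD.kl
    obtain ⟨σ, h1, h2, h3⟩ := exists_perm hD.kl hab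
    obtain ⟨g, -, hg⟩ := h.ev.full σ
    have hgN : g ∈ NN ε i j := by
      rw [mem_NN', rr_conj hg, h3 i hD.ik hD.il ha1.symm hb1.symm, h3 j hD.jk hD.jl ha2.symm hb2.symm]
    refine ⟨g * w * g⁻¹, subset_closure (Or.inl (Or.inl ⟨g, hgN, w, hw, rfl⟩)), ?_⟩
    have h4 := hg.conj hwi
    rwa [← Equiv.swap_apply_apply, h1, h2] at h4
  have e2 : Equiv.swap i j ∈ H := by
    obtain ⟨g, -, hg⟩ := h.ev.full (Equiv.swap i j)
    refine ⟨g, subset_closure (Or.inr (OO_acts hg fun c hc => mem_inf.2 ⟨?_, ?_⟩)), hg⟩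
    · have h1 := cen_conj hg hc.1
      rwa [Equiv.swap_apply_left, Equiv.swap_apply_right, UU_symm h.ev] at h1
    · have h1 := cen_conj hg hc.2
      rwa [Equiv.swap_apply_of_ne_of_ne hD.ik.symm hD.jk.symm,
        Equiv.swap_apply_of_ne_of_ne hD.il.symm hD.jl.symm] at h1
  have t1 : (Equiv.swap i k * Equiv.swap j l) i = k := by
    rw [Equiv.Perm.mul_apply, Equiv.swap_apply_of_ne_of_ne hD.ij hD.il, Equiv.swap_apply_left]
  have t2 : (Equiv.swap i k * Equiv.swap j l) j = l := by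
    rw [Equiv.Perm.mul_apply, Equiv.swap_apply_left, Equiv.swap_apply_of_ne_of_ne hD.il.symm hD.kl.symm]
  have t3 : (Equiv.swap i k * Equiv.swap j l) k = i := by
    rw [Equiv.Perm.mul_apply, Equiv.swap_apply_of_ne_of_ne hD.jk.symm hD.kl, Equiv.swap_apply_right]
  have t4 : (Equiv.swap i k * Equiv.swap j l) l = j := by
    rw [Equiv.Perm.mul_apply, Equiv.swap_apply_right, Equiv.swap_apply_of_ne_of_ne hD.ij.symm hD.jk]
  have e3 : Equiv.swap i k * Equiv.swap j l ∈ H := by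
    obtain ⟨g, -, hg⟩ := h.ev.full (Equiv.swap i k * Equiv.swap j l)
    refine ⟨g, subset_closure (Or.inr (OO_acts hg fun c hc => mem_inf.2 ⟨?_, ?_⟩)), hg⟩
    · have h1 := cen_conj hg hc.2
      rwa [t3, t4] at h1
    · have h1 := cen_conj hg hc.1
      rwa [t1, t2] at h1
  obtain ⟨m, hmi, hmj, hmk, hml⟩ := exists_fifth h.n5 i j k l
  have e4 : Equiv.swap i m ∈ H := by
    have h1 := H.mul_mem (H.mul_mem e3 (e1 k m hD.ik.symm hD.jk.symm hmi hmj hmk.symm)) (H.inv_mem e3)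
    rw [← Equiv.swap_apply_apply, t3, Equiv.Perm.mul_apply, Equiv.swap_apply_of_ne_of_ne hmj hml,
      Equiv.swap_apply_of_ne_of_ne hmi hmk] at h1
    exact h1
  have e5 : ∀ a, Equiv.swap i a ∈ H := by
    intro a
    by_cases hai : a = i
    · rw [hai, Equiv.swap_self]; exact one_mem H
    by_cases haj : a = j
    · rw [haj]; exact e2
    by_cases ham : a = m
    · rw [ham]; exact e4
    exact SubmonoidClass.swap_mem_trans H e4 (e1 m a hmi hmj hai haj (Ne.symm ham))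
  have hH : H = ⊤ := by
    rw [eq_top_iff, ← Equiv.Perm.closure_isSwap, closure_le]
    rintro _ ⟨a, b, -, rfl⟩
    refine SubmonoidClass.swap_mem_trans H (b := i) ?_ (e5 b)
    rw [Equiv.swap_comm]
    exact e5 a
  intro x hx
  obtain ⟨p, hp⟩ := h.ev.perm x hx
  obtain ⟨g, hg, hi⟩ : p ∈ H := by rw [hH]; exact mem_top _
  have h1 := hp.mul hi.inv
  rw [mul_inv_cancel] at h1
  have h3 : x * g⁻¹ ∈ K₀ := subset_closure (Or.inr (OO_acts h1 fun c hc =>
    mem_inf.2 ⟨cen_conj h1 hc.1, cen_conj h1 hc.2⟩))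
  have h4 := mul_mem h3 hg
  rwa [inv_mul_cancel_right] at h4

/-- **(2.4)**: an element of `O₂(C_G(r_ab))` centralising `U_ij` and `U_kl` is in `O₂(C_G(r_ij))` -/
theorem core_gen [Finite G] (hD : D4 i j k l) {a b : Fin n} (hab : a ≠ b) {c : G}
    (hc : c ∈ o2 (NN ε a b)) (h1 : ∀ y ∈ UU ε i j, c * y = y * c) (h2 : ∀ y ∈ UU ε k l, c * y = y * c) :
    c ∈ o2 (NN ε i j) := by
  obtain ⟨σ, s1, s2, -⟩ := exists_perm hD.ij hab
  obtain ⟨p, hp, hps⟩ := h.ev.full σ
  have hf : p⁻¹ * c * p ∈ o2 (NN ε i j) := by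
    have h3 := o2_NN_conj hps.inv hc
    have e : ∀ m, σ⁻¹ (σ m) = m := fun m => σ.symm_apply_apply m
    rwa [← s1, ← s2, e, e, inv_inv] at h3
  obtain ⟨q, hq⟩ := o2_isPGroup _ ⟨c, hc⟩
  have hk' : c ^ 2 ^ q = 1 := congrArg Subtype.val hq
  have hCi : ∀ {x : G}, x ∈ OO ε i j k l → x ∈ NN ε k l := fun hx =>
    h.C_le hD.kl hx.2
  refine DiCoreAbs.core_abs (N := NN ε i j) (C := centralizer (UU ε i j : Set G)) (O := OO ε i j k l)
    (L := P) (F := FF ε i j k l) (l := p) (f := p⁻¹ * c * p) (c := c) (k := q) (h.C_le hD.ij) ?_ inf_le_left ?_ ?_ ?_ ?_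
    (h.gen_le hD) hp (Or.inr hf) (by group) ?_ hk'
  · intro g hg
    exact DiCoreAbs.mem_norm_of fun x hx => cen_norm hg hx
  · intro g hg
    exact OO_norm (h.C_le hD.ij hg) (h.C_le' hD hg)
  · intro g hg
    refine OO_norm (o2_le _ hg) ?_
    exact h.Q_le ⟨hD.kl, hD.ik.symm, hD.jk.symm, hD.il.symm, hD.jl.symm, hD.ij⟩ hg
  · rintro _ (⟨g, hg, w, hw, rfl⟩ | hx)
    · exact mul_mem (mul_mem hg (h.Q_le hD (h.W2_leQ hD.kl hw))) (inv_mem hg)
    · exact o2_le _ hx
  · rintro _ (⟨g, hg, w, hw, rfl⟩ | hx) c hc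
    · have hc' : g⁻¹ * c * g ∈ centralizer (UU ε i j : Set G) := by
        have := cen_norm (inv_mem hg) hc.1
        rwa [inv_inv] at this
      set c' := g⁻¹ * c * g with hc'd
      have h3 : w * c' * w⁻¹ * c'⁻¹ ∈ o2 (NN ε i j) := by
        have h4 := inv_mem (h.cw hD hc' hw)
        have h5 : (cm c' w)⁻¹ = w * c' * w⁻¹ * c'⁻¹ := by unfold cm; group
        rwa [h5] at h4
      have h4 := (mem_normalizer_iff.1 (le_normalizer_o2 _ hg) _).1 h3
      have h5 : g * (w * c' * w⁻¹ * c'⁻¹) * g⁻¹ = g * w * g⁻¹ * c * (g * w * g⁻¹)⁻¹ * c⁻¹ := by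
        rw [hc'd]; group
      rwa [h5] at h4
    · rename_i x
      have h3 := (mem_normalizer_iff.1 (le_normalizer_o2 _ (h.C_le hD.ij hc.1)) _).1 (inv_mem hx)
      have h4 : x * c * x⁻¹ * c⁻¹ = x * (c * x⁻¹ * c⁻¹) := by group
      rw [h4]
      exact mul_mem hx h3
  · exact mem_inf.2 ⟨mem_centralizer_iff.2 fun y hy => (h1 y hy).symm,
      mem_centralizer_iff.2 fun y hy => (h2 y hy).symm⟩

/-- `(H2)` from the commuting of disjoint `UU`'s -/
theorem hq_of_comm [Finite G] (hcomm : ∀ {i j k l : Fin n}, D4 i j k l → ∀ u ∈ UU ε i j, ∀ y ∈ UU ε k l, u * y = y * u)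
    (hD : D4 i j k l) : UU ε i j ≤ o2 (NN ε k l) := by
  intro u hu
  have hD' : D4 k l i j := ⟨hD.kl, hD.ik.symm, hD.jk.symm, hD.il.symm, hD.jl.symm, hD.ij⟩
  exact h.core_gen hD' hD.ij (h.UQ hD.ij hu) (fun y hy => hcomm hD u hu y hy)
    (fun y hy => h.Uab hD.ij hu hy)

/-- one non-commuting pair makes all of them non-commuting -/
theorem comm_transfer {a b c d : Fin n} (hD : D4 i j k l) (hD' : D4 a b c d)
    (hcomm : ∀ u ∈ UU ε i j, ∀ y ∈ UU ε k l, u * y = y * u) :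
    ∀ u ∈ UU ε a b, ∀ y ∈ UU ε c d, u * y = y * u := by
  -- a permutation with `a ↦ i`, `b ↦ j`, `c ↦ k`, `d ↦ l`
  obtain ⟨σ, s1, s2, -⟩ := exists_perm hD'.ij hD.ij
  have hc1 : σ c ≠ i := fun e => hD'.ik (σ.injective (s1.trans e.symm))
  have hc2 : σ c ≠ j := fun e => hD'.jk (σ.injective (s2.trans e.symm))
  have hd1 : σ d ≠ i := fun e => hD'.il (σ.injective (s1.trans e.symm))
  have hd2 : σ d ≠ j := fun e => hD'.jl (σ.injective (s2.trans e.symm))
  have hcd : σ c ≠ σ d := fun e => hD'.kl (σ.injective e)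
  obtain ⟨τ, t1, t2, t3⟩ := exists_perm hcd hD.kl
  have ti : τ i = i := t3 i hc1.symm hd1.symm hD.ik hD.il
  have tj : τ j = j := t3 j hc2.symm hd2.symm hD.jk hD.jl
  obtain ⟨g, -, hg⟩ := h.ev.full (τ * σ)
  have m1 : (τ * σ) a = i := by rw [Equiv.Perm.mul_apply, s1, ti]
  have m2 : (τ * σ) b = j := by rw [Equiv.Perm.mul_apply, s2, tj]
  have m3 : (τ * σ) c = k := by rw [Equiv.Perm.mul_apply, t1]
  have m4 : (τ * σ) d = l := by rw [Equiv.Perm.mul_apply, t2]
  intro u hu y hy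
  have h1 := UU_conj hg hu
  have h2 := UU_conj hg hy
  rw [m1, m2] at h1
  rw [m3, m4] at h2
  have h3 := hcomm _ h1 _ h2
  have h4 : g * (u * y) * g⁻¹ = g * (y * u) * g⁻¹ := by
    calc g * (u * y) * g⁻¹ = g * u * g⁻¹ * (g * y * g⁻¹) := by group
      _ = _ := h3
      _ = _ := by group
  exact mul_left_cancel (mul_right_cancel h4)

/-- **the instance** -/
theorem fr [Finite G] {w : Fin n → Fin n → G}
    (hw : ∀ i j, i ≠ j → w i j ∈ W2 ε i j ∧ Acts ε (w i j) (Equiv.swap i j)) :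
    Fr ε (UU ε) (W2 ε) (fun i j => o2 (NN ε i j)) w where
  add := h.ev.add
  eU := fun hij x => h.eU hij x
  cU := fun hg _ _ _ x hx => UU_conj hg hx
  cW := fun hg _ _ _ x hx => W2_conj hg hx
  cQ := fun hg _ _ _ x hx => o2_NN_conj hg hx
  Usym := UU_symm h.ev
  Wsym := W2_symm h.ev
  Qsym := fun i j => by rw [NN_symm h.ev]
  UK := fun hij => h.UK hij
  QA := fun hij q hq => h.QA hij hq
  Uab := fun hij u hu v hv => h.Uab hij hu hv
  Usq := fun hij u hu => h.Usq hij hu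
  UQ := fun hij => h.UQ hij
  UQc := fun hij q hq u hu => h.UQc hij hq hu
  WQ := fun hij => h.W2_leQ hij
  QW := fun hij q hq x hx => h.wp_cases hij hq (W2_le _ _ hx)
  Wsq := fun hij x hx => h.W2_sq hij hx
  wW := fun hij => (hw _ _ hij).1
  wA := fun hij => (hw _ _ hij).2
  cw := fun hD c hc x hx => h.cw hD (mem_centralizer_iff.2 fun y hy => (hc y hy).symm) hx
  core := fun hD c hc h1 h2 => h.core_gen hD hD.jk (h.W2_leQ hD.jk hc) h1 h2
  inter := fun x hx => h.inter hx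

theorem exists_fr [Finite G] : ∃ w, Fr ε (UU ε) (W2 ε) (fun i j => o2 (NN ε i j)) w := by
  classical
  refine ⟨fun i j => if hij : i ≠ j then (h.exists_w hij).choose else 1, h.fr fun i j hij => ?_⟩
  rw [dif_pos hij]
  exact (h.exists_w hij).choose_spec

/-- **THEOREM C** -/
theorem thC [Finite G] : ThC ε (UU ε) := by
  obtain ⟨w, F⟩ := h.exists_fr
  intro i j k hij hki hkj u hu hc
  obtain ⟨m, hmi, hmj, hmk, -⟩ := exists_fifth h.n5 i j k k
  exact (F.thmC' ⟨hij, hki.symm, hmi.symm, hkj.symm, hmj.symm, hmk.symm⟩ hu hc).2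

end Hyp

/-- the minimality of `V` -/
theorem min_of [Finite G] (hn : 3 ≤ n) (hodd : Odd n) (h : EvenSet n V P ε) (S : Sylow 2 G)
    (hS : (S : Subgroup G) ≤ P) (hZ : zc (S : Subgroup G) ≤ V) (A : Subgroup G)
    (hA : ∀ g ∈ P, ∀ a ∈ A, g * a * g⁻¹ ∈ A) (hA2 : ∀ a ∈ A, a * a = 1) (hAne : A ≠ ⊥) : V ≤ A := by
  have h2 : Fact (Nat.Prime 2) := ⟨Nat.prime_two⟩
  have hAp : IsPGroup 2 A := by
    intro a
    refine ⟨1, ?_⟩
    rw [pow_one, pow_two]
    exact Subtype.ext (hA2 a a.2)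
  -- a fixed point of `S`
  let act : MulAction (S : Subgroup G) A :=
    { smul := fun s a => ⟨(s : G) * a * (s : G)⁻¹, hA s (hS s.2) a a.2⟩
      one_smul := fun a => Subtype.ext (by change (1 : G) * a * (1 : G)⁻¹ = a; group)
      mul_smul := fun s t a => Subtype.ext (by
        change ((s : G) * t) * a * ((s : G) * t)⁻¹ = (s : G) * (t * a * (t : G)⁻¹) * (s : G)⁻¹
        group) }
  have hdvd : 2 ∣ Nat.card A := by
    rcases hAp.card_eq_or_dvd with h1 | h1
    · exact absurd ((card_eq_one (H := A)).mp h1) hAne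
    · exact h1
  have hfix1 : (1 : A) ∈ MulAction.fixedPoints (S : Subgroup G) A := by
    intro s
    exact Subtype.ext (by change (s : G) * 1 * (s : G)⁻¹ = 1; group)
  obtain ⟨a, haf, hane⟩ := S.isPGroup'.exists_fixed_point_of_prime_dvd_card_of_fixed_point A
    hdvd hfix1
  have hac : ∀ s ∈ (S : Subgroup G), s * (a : G) = a * s := by
    intro s hs
    have h1 := congrArg Subtype.val (haf ⟨s, hs⟩)
    have h3 : s * (a : G) * s⁻¹ = a := h1
    exact mul_inv_eq_iff_eq_mul.mp h3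
  have hane' : (a : G) ≠ 1 := fun h1 => hane (Subtype.ext h1).symm
  have haS : (a : G) ∈ (S : Subgroup G) := by
    refine MinPar.le_of_le_normalizer S hAp (fun s hs => ?_) a.2
    rw [mem_normalizer_iff]
    refine fun x => ⟨hA s (hS hs) x, fun hx => ?_⟩
    have h1 := hA s⁻¹ (inv_mem (hS hs)) _ hx
    have h3 : s⁻¹ * (s * x * s⁻¹) * s⁻¹⁻¹ = x := by group
    rwa [h3] at h1
  have haV : (a : G) ∈ V := hZ (mem_zc.mpr ⟨haS, hac, by rw [pow_two]; exact hA2 a a.2⟩)
  -- all pairs are in `A`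
  obtain ⟨x, hx⟩ := h.surj a haV
  have hx01 : ¬ (x = 0 ∨ x = 1) := fun h1 => hane' (by rw [← hx]; exact (h.ker x).mpr h1)
  obtain ⟨i, j, hxij⟩ : ∃ i j, x i ≠ x j := by
    by_contra hc
    push Not at hc
    apply hx01
    have i0 : Fin n := ⟨0, by omega⟩
    rcases Tv.z2 (x i0) with h1 | h1
    · left; funext k; rw [hc k i0, h1]; rfl
    · right; funext k; rw [hc k i0, h1]; rfl
  have hij : i ≠ j := fun h1 => hxij (by rw [h1])
  have hrA : rr ε i j ∈ A := by
    obtain ⟨p, hp, hps⟩ := h.full (Equiv.swap i j)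
    have h1 := hA p hp a a.2
    have h3 : p * (a : G) * p⁻¹ = a * rr ε i j := by
      rw [← hx, hps x]
      have h4 : x ∘ (Equiv.swap i j).symm = x + (Pi.single i 1 + Pi.single j 1) := by
        have h5 : x j = x i + 1 := z2_ne _ _ hxij
        have h5' : x i = x j + 1 := z2_ne _ _ hxij.symm
        funext k
        rw [Function.comp_apply, Equiv.symm_swap, Pi.add_apply, Pi.add_apply]
        by_cases h1 : k = i
        · rw [h1, Equiv.swap_apply_left, Pi.single_eq_same, Pi.single_eq_of_ne hij, add_zero, h5]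
        by_cases h2 : k = j
        · rw [h2, Equiv.swap_apply_right, Pi.single_eq_same, Pi.single_eq_of_ne hij.symm,
            zero_add, h5']
        · rw [Equiv.swap_apply_of_ne_of_ne h1 h2, Pi.single_eq_of_ne h1, Pi.single_eq_of_ne h2,
            add_zero, add_zero]
      rw [h4, h.add, h.add]
      rfl
    have h4 := mul_mem (inv_mem a.2) h1
    rwa [h3, inv_mul_cancel_left] at h4
  have hall : ∀ k l, k ≠ l → rr ε k l ∈ A := by
    intro k l hkl
    obtain ⟨σ, h1, h3, -⟩ := exists_perm hij hkl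
    obtain ⟨p, hp, hps⟩ := h.full σ
    have h4 := hA p hp _ hrA
    rwa [rr_conj hps, h1, h3] at h4
  have hz : ∀ k, zz ε k ∈ A := by
    intro k
    obtain ⟨j, hj⟩ : ∃ j, k ≠ j := by
      have : Nontrivial (Fin n) := Fin.nontrivial_iff_two_le.2 (by omega)
      obtain ⟨j, hj⟩ := exists_ne k
      exact ⟨j, hj.symm⟩
    have h1 := compl_rr h hj (fun t x => x ∈ V ∧ x * zz ε k ^ t ∈ A)
      ⟨one_mem _, by rw [one_mul, pow_zero]; exact one_mem _⟩ (by
      rintro l h1 h3 t x ⟨hxV, hxA⟩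
      refine ⟨mul_mem (zz_mem h l) hxV, ?_⟩
      have h4 := mul_mem (hall l k h1) hxA
      have h5 : zz ε l * x * zz ε k ^ (t + 1) = rr ε l k * (x * zz ε k ^ t) := by
        have h6 : zz ε k * x = x * zz ε k := h.comm_mem (zz_mem h k) hxV
        unfold rr
        calc zz ε l * x * zz ε k ^ (t + 1) = zz ε l * (x * zz ε k) * zz ε k ^ t := by
              rw [pow_succ']; group
          _ = zz ε l * (zz ε k * x) * zz ε k ^ t := by rw [h6]
          _ = _ := by group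
      rwa [h5])
    obtain ⟨-, h3⟩ := h1
    have h4 : zz ε k ^ (n - 2) = zz ε k := by
      obtain ⟨t, ht⟩ := hodd
      have h5 : n - 2 = 2 * (t - 1) + 1 := by omega
      rw [h5, pow_succ, pow_mul, pow_two, zz_sq h, one_pow, one_mul]
    rw [h4] at h3
    have h5 := mul_mem (inv_mem (hall k j hj)) h3
    rwa [inv_mul_cancel_left] at h5
  intro v hv
  obtain ⟨y, rfl⟩ := h.surj v hv
  have key : ∀ F : Finset (Fin n), ε (∑ k ∈ F, Pi.single k 1) ∈ A := by
    intro F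
    induction F using Finset.induction_on with
    | empty => rw [Finset.sum_empty, h.zero]; exact one_mem _
    | insert k F hk ih =>
      rw [Finset.sum_insert hk, h.add]
      exact mul_mem (hz k) ih
  have h1 : y = ∑ k ∈ Finset.univ.filter (fun k => y k ≠ 0), Pi.single k 1 := by
    funext m'
    rw [Finset.sum_apply]
    by_cases hm' : y m' = 0
    · rw [hm', Finset.sum_eq_zero]
      intro k hk
      have : m' ≠ k := by
        rintro rfl
        exact (Finset.mem_filter.mp hk).2 hm'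
      exact Pi.single_eq_of_ne this _
    · rw [Finset.sum_eq_single m']
      · rw [Pi.single_eq_same]; exact Tv.z2_one hm'
      · intro k _ hk
        exact Pi.single_eq_of_ne (Ne.symm hk) _
      · intro h0
        exfalso
        apply h0
        rw [Finset.mem_filter]
        exact ⟨Finset.mem_univ _, hm'⟩
  rw [h1]
  exact key _

/-- **the hypotheses in a group of characteristic 2 type** -/
theorem Hyp.of [Finite G] (hG : IsCharacteristicTwoType G) (hn : 5 ≤ n) (hodd : Odd n)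
    (h : EvenSet n V P ε) (S : Sylow 2 G) (hS : (S : Subgroup G) ≤ P) (hZ : zc (S : Subgroup G) ≤ V)
    (hpair : ∀ i j k, i ≠ j → k ≠ i → k ≠ j → ∀ q ∈ o2 (NN ε i j), q * zz ε k = zz ε k * q)
    (hle : ∀ i j, i ≠ j → o2 (NN ε i j) ≤ P)
    (hN : ∃ i j, i ≠ j ∧ ∃ g ∈ WP ε i j, g * g ∈ zpowers (rr ε i j) ∧ ¬ g ∈ centralizer (V : Set G)) :
    Hyp V P ε where
  n5 := hn
  odd := hodd
  ev := h
  pair := hpair
  le := hle
  stab := fun i j hij g hg => mem_o2_of_stab hG (rr_sq h i j) (rr_ne_one h (by omega) hij) hg.1 hg.2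
  min := min_of (by omega) hodd h S hS hZ
  mov := hN

end Cfsg.Agent.Omega.NSix.Engine

end

section


/-!
# 439's (IRR) #16945: `U_ij / ⟨r_ij⟩` is an irreducible `N_ij`-module

Over `Fr` (THEOREM C as `ThC`): `Fr.exists_maxlab`, `Fr.exists_fix`, `Fr.fix_V` (the fixed space of all `U_ab` on
`U_ij / ⟨r_ij⟩` is `V_ij / ⟨r_ij⟩`), `Fr.irr_rr`.  Over `Hyp`: `Hyp.irr`.
-/

set_option autoImplicit false
set_option linter.unusedSectionVars false

namespace Cfsg.Agent.Omega.NSix.Engine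

open Subgroup Cfsg
open Cfsg.Agent.ZN (o2 zc)
open Cfsg.Agent.Omega.S5.Def Cfsg.Agent.Omega.NSix.Base Cfsg.Agent.Omega.NSix.Basic
open Cfsg.Agent.Omega.NSix.Zero
open Cfsg.Agent.Omega.TTn.Di (cm cj cj_mul cj_inv cj_cj cj_one cj_eq_of_comm comm_of_cj cj_eq_cm cm_eq
  cm_one_iff cm_eq')

universe u

variable {G : Type u} [Group G] {n : ℕ}

namespace Fr

variable {ε : (Fin n → ZMod 2) → G} {U W Q : Fin n → Fin n → Subgroup G} {w : Fin n → Fin n → G}
  (F : Fr ε U W Q w) {i j k l m : Fin n}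

/-- an element with property `p` and a maximal set of labels -/
theorem exists_maxlab {p : G → Prop} (h : ∃ x, p x) :
    ∃ s, p s ∧ ∀ t, p t → (∀ a b, Lab U s a b → Lab U t a b) → ∀ a b, Lab U t a b → Lab U s a b := by
  classical
  let f : G → ℕ := fun t => (Finset.univ.filter fun p : Fin n × Fin n => Lab U t p.1 p.2).card
  have hb : ∀ t, f t ≤ Fintype.card (Fin n × Fin n) := fun t => Finset.card_le_univ _
  have hex : ∃ m, ∃ s, p s ∧ Fintype.card (Fin n × Fin n) - f s = m := by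
    obtain ⟨x, hx⟩ := h
    exact ⟨_, x, hx, rfl⟩
  obtain ⟨s, hs, hm⟩ := Nat.find_spec hex
  refine ⟨s, hs, fun t ht hst a b hab => ?_⟩
  by_contra hno
  have hlt : f s < f t := by
    refine Finset.card_lt_card (Finset.ssubset_iff_subset_ne.2 ⟨?_, ?_⟩)
    · intro q hq
      rw [Finset.mem_filter] at hq ⊢
      exact ⟨hq.1, hst _ _ hq.2⟩
    · intro he
      have h5 : ((a, b) : Fin n × Fin n) ∈ Finset.univ.filter fun p : Fin n × Fin n => Lab U s p.1 p.2 := by
        rw [he, Finset.mem_filter]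
        exact ⟨Finset.mem_univ _, hab⟩
      exact hno (Finset.mem_filter.1 h5).2
  have h1 := hb t
  have h2 : Fintype.card (Fin n × Fin n) - f t < Nat.find hex := by omega
  exact Nat.find_min hex h2 ⟨t, ht, rfl⟩

include F

/-- a fixed point modulo `⟨r_ij⟩` -/
theorem exists_fix (hij : i ≠ j) {R : Subgroup G} (hRU : R ≤ U i j) (hK : ∀ g ∈ KK ε, ∀ x ∈ R, cj g x ∈ R)
    {x : G} (hx : x ∈ R) (h1 : x ≠ 1) (h2 : x ≠ rr ε i j) :
    ∃ s ∈ R, s ≠ 1 ∧ s ≠ rr ε i j ∧ ∀ a b, a ≠ b → ∀ y ∈ U a b, cm s y = 1 ∨ cm s y = rr ε i j := by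
  obtain ⟨s, ⟨s1, s2, s3⟩, hmax⟩ := exists_maxlab (U := U) (p := fun s => s ∈ R ∧ s ≠ 1 ∧ s ≠ rr ε i j)
    ⟨x, hx, h1, h2⟩
  refine ⟨s, s1, s2, s3, fun a b hab y hy => ?_⟩
  by_contra hc
  rw [not_or] at hc
  have hyK := F.UK hab hy
  have ht : cm s y ∈ R := by
    rw [cm_eq']
    exact mul_mem s1 (hK y hyK _ (inv_mem s1))
  have h3 := hmax _ ⟨ht, hc.1, hc.2⟩ (fun c d hcd => F.lab_cm_left hcd hyK) a b
    (F.lab_cm_right (F.UK hij (hRU s1)) (Or.inr hy))
  exact hc.1 (cm_one_iff.2 (F.comm_of_lab h3 hab hy))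

/-- the fixed space of the `U_ab` on `U_ij / ⟨r_ij⟩` is `V_ij / ⟨r_ij⟩` -/
theorem fix_V (hC : ThC ε U) (hij : i ≠ j) {s : G} (hs : s ∈ U i j)
    (h : ∀ k, k ≠ i → k ≠ j → ∀ y ∈ U i k, cm s y = 1 ∨ cm s y = rr ε i j) :
    ∃ x : Fin n → ZMod 2, x i = 0 ∧ x j = 0 ∧ s = ε x := by
  refine F.four_all hC hij hs fun k hki hkj y hy => ?_
  rcases h k hki hkj y hy with h1 | h1
  · exact cm_one_iff.1 h1
  · exfalso
    have h2 : cm s y ∈ U i k := F.cm_right hki.symm (F.UK hij hs) hy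
    rw [h1] at h2
    exact F.r_nmem hki.symm hij.symm hkj.symm h2

/-- `ε x (ε x)^{w_kl} = r_kl` if `x_k ≠ x_l` -/
theorem mul_cj_w (hkl : k ≠ l) {x : Fin n → ZMod 2} (hx : x k ≠ x l) : ε x * cj (w k l) (ε x) = rr ε k l := by
  have h1 : cj (w k l) (ε x) = ε (x ∘ (Equiv.swap k l).symm) := F.wA hkl x
  rw [h1, ← F.add, F.rr_eq]
  congr 1
  funext m
  rw [Pi.add_apply, Pi.add_apply, Function.comp_apply, Equiv.symm_swap]
  have key : ∀ a b : ZMod 2, a ≠ b → a + b = 1 := by decide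
  by_cases h2 : m = k
  · rw [h2, Equiv.swap_apply_left, Pi.single_eq_same, Pi.single_eq_of_ne hkl, add_zero]
    exact key _ _ hx
  by_cases h3 : m = l
  · rw [h3, Equiv.swap_apply_right, Pi.single_eq_same, Pi.single_eq_of_ne hkl.symm, zero_add]
    exact key _ _ hx.symm
  · rw [Equiv.swap_apply_of_ne_of_ne h2 h3, Pi.single_eq_of_ne h2, Pi.single_eq_of_ne h3, add_zero]
    exact CharTwo.add_self_eq_zero _

theorem cj_rr {g : G} {σ : Equiv.Perm (Fin n)} (hg : Acts ε g σ) (a b : Fin n) :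
    cj g (rr ε a b) = rr ε (σ a) (σ b) := by
  unfold rr
  rw [cj_mul]
  exact congrArg₂ _ (hg.single a) (hg.single b)

/-- **(IRR)** over the frame: all pairs off `i`, `j` are in `R` -/
theorem irr_rr (hC : ThC ε U) (hij : i ≠ j) {R : Subgroup G} (hRU : R ≤ U i j)
    (hK : ∀ g ∈ KK ε, ∀ x ∈ R, cj g x ∈ R)
    (hw : ∀ a b, a ≠ i → a ≠ j → b ≠ i → b ≠ j → a ≠ b → ∀ x ∈ R, cj (w a b) x ∈ R)
    {x : G} (hx : x ∈ R) (h1 : x ≠ 1) (h2 : x ≠ rr ε i j) {a b : Fin n} (hai : a ≠ i) (haj : a ≠ j)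
    (hbi : b ≠ i) (hbj : b ≠ j) (hab : a ≠ b) : rr ε a b ∈ R := by
  obtain ⟨s, s1, s2, s3, s4⟩ := F.exists_fix hij hRU hK hx h1 h2
  obtain ⟨y, y1, y2, rfl⟩ := F.fix_V hC hij (hRU s1) fun k hki _ z hz => s4 i k hki.symm z hz
  have h3 : ∃ k l, k ≠ i ∧ k ≠ j ∧ l ≠ i ∧ l ≠ j ∧ y k ≠ y l := by
    by_contra hc
    push Not at hc
    have h4 : ∀ m, m ≠ i → m ≠ j → y m = y a := fun m hm hm' => hc m a hm hm' hai haj
    rcases z2c (y a) with h5 | h5
    · apply s2
      have : y = 0 := by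
        funext m
        by_cases hm : m = i
        · rw [hm, y1]; rfl
        by_cases hm' : m = j
        · rw [hm', y2]; rfl
        rw [h4 m hm hm', h5]; rfl
      rw [this, F.zero]
    · apply s3
      have : y = 1 + (Pi.single i 1 + Pi.single j 1) := by
        funext m
        rw [Pi.add_apply, Pi.add_apply, Pi.one_apply]
        by_cases hm : m = i
        · rw [hm, y1, Pi.single_eq_same, Pi.single_eq_of_ne hij]; decide
        by_cases hm' : m = j
        · rw [hm', y2, Pi.single_eq_same, Pi.single_eq_of_ne hij.symm]; decide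
        rw [h4 m hm hm', h5, Pi.single_eq_of_ne hm, Pi.single_eq_of_ne hm', add_zero, add_zero]
      rw [this, F.add, F.eone, one_mul, F.rr_eq]
  obtain ⟨k, l, hki, hkj, hli, hlj, hkl⟩ := h3
  have hkl' : k ≠ l := fun e => hkl (by rw [e])
  have h5 : rr ε k l ∈ R := by
    rw [← F.mul_cj_w hkl' hkl]
    exact mul_mem s1 (hw k l hki hkj hli hlj hkl' _ s1)
  have step : ∀ p q c, p ≠ i → p ≠ j → q ≠ i → q ≠ j → c ≠ i → c ≠ j → p ≠ q → c ≠ q → rr ε p q ∈ R →
      rr ε c q ∈ R := by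
    intro p q c hpi hpj hqi hqj hci hcj hpq hcq h6
    by_cases hcp : c = p
    · rw [hcp]; exact h6
    · have h7 := hw p c hpi hpj hci hcj (Ne.symm hcp) _ h6
      rwa [F.cj_rr (F.wA (Ne.symm hcp)), Equiv.swap_apply_left, Equiv.swap_apply_of_ne_of_ne hpq.symm hcq.symm] at h7
  by_cases hal : a = l
  · rw [hal]
    have h6 : rr ε k a ∈ R := by rw [hal]; exact h5
    have h7 := step k a b hki hkj hai haj hbi hbj (by rw [hal]; exact hkl') hab.symm h6
    rw [F.r_symm, hal] at h7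
    exact h7
  · have h6 := step k l a hki hkj hli hlj hai haj hkl' hal h5
    rw [F.r_symm] at h6
    have h7 := step l a b hli hlj hai haj hbi hbj (Ne.symm hal) hab.symm h6
    rwa [F.r_symm] at h7

end Fr

namespace Hyp

variable {V P : Subgroup G} {ε : (Fin n → ZMod 2) → G} (h : Hyp V P ε) {i j k l : Fin n}
include h

/-- `z_k` from the pairs -/
theorem zz_mem_of {R : Subgroup G} (hij : i ≠ j) (hr : rr ε i j ∈ R)
    (hR : ∀ a b, a ≠ i → a ≠ j → b ≠ i → b ≠ j → a ≠ b → rr ε a b ∈ R) (hki : k ≠ i) (hkj : k ≠ j) :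
    zz ε k ∈ R := by
  classical
  have h1 : ∀ T : Finset (Fin n), (∀ a ∈ T, a ≠ i ∧ a ≠ j ∧ a ≠ k) →
      ε (∑ a ∈ T, (Pi.single a 1 + Pi.single k 1)) ∈ R := by
    intro T
    induction T using Finset.induction_on with
    | empty => intro _; rw [Finset.sum_empty, h.ev.zero]; exact one_mem _
    | insert a T ha ih =>
      intro hT
      rw [Finset.sum_insert ha, h.ev.add]
      obtain ⟨h2, h3, h4⟩ := hT a (Finset.mem_insert_self _ _)
      refine mul_mem ?_ (ih fun b hb => hT b (Finset.mem_insert_of_mem hb))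
      have h5 := hR a k h2 h3 hki hkj h4
      unfold rr zz at h5
      rwa [← h.ev.add] at h5
  set T : Finset (Fin n) := Finset.univ \ {i, j, k} with hT
  have h2 := h1 T fun a ha => by
    simp only [hT, Finset.mem_sdiff, Finset.mem_univ, true_and, Finset.mem_insert, Finset.mem_singleton, not_or] at ha
    exact ha
  have hcard : T.card = n - 3 := by
    rw [hT, Finset.card_sdiff_of_subset (Finset.subset_univ _), Finset.card_univ, Fintype.card_fin,
      Finset.card_eq_three.2 ⟨i, j, k, hij, hki.symm, hkj.symm, rfl⟩]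
  have h3 : (Pi.single k 1 : Fin n → ZMod 2) = 1 + (Pi.single i 1 + Pi.single j 1) +
      ∑ a ∈ T, (Pi.single a 1 + Pi.single k 1) := by
    funext m
    rw [Pi.add_apply, Pi.add_apply, Pi.add_apply, Pi.one_apply, Finset.sum_apply]
    by_cases hmk : m = k
    · subst hmk
      have e1 : ∀ a ∈ T, (Pi.single a 1 + Pi.single m 1 : Fin n → ZMod 2) m = 1 := by
        intro a ha
        have : m ≠ a := by
          rintro rfl
          simp [hT] at ha
        rw [Pi.add_apply, Pi.single_eq_of_ne this, Pi.single_eq_same, zero_add]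
      rw [Finset.sum_congr rfl e1, Finset.sum_const, hcard, Pi.single_eq_same, Pi.single_eq_of_ne hki,
        Pi.single_eq_of_ne hkj, nsmul_eq_mul, mul_one]
      have h4 : ((n - 3 : ℕ) : ZMod 2) = 0 := by
        rw [ZMod.natCast_eq_zero_iff]
        obtain ⟨c, hc⟩ := h.odd
        exact ⟨c - 1, by have := h.n5; omega⟩
      rw [h4]; decide
    · have e1 : ∀ a ∈ T, (Pi.single a 1 + Pi.single k 1 : Fin n → ZMod 2) m = (Pi.single a 1 : Fin n → ZMod 2) m := by
        intro a _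
        rw [Pi.add_apply, Pi.single_eq_of_ne hmk, add_zero]
      rw [Finset.sum_congr rfl e1, Pi.single_eq_of_ne hmk]
      by_cases hmT : m ∈ T
      · have hm : m ≠ i ∧ m ≠ j ∧ m ≠ k := by
          simp only [hT, Finset.mem_sdiff, Finset.mem_univ, true_and, Finset.mem_insert, Finset.mem_singleton,
            not_or] at hmT
          exact hmT
        rw [Finset.sum_eq_single m (fun a _ ha => Pi.single_eq_of_ne ha.symm _) (fun h0 => absurd hmT h0),
          Pi.single_eq_same, Pi.single_eq_of_ne hm.1, Pi.single_eq_of_ne hm.2.1]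
        decide
      · have e2 : ∀ a ∈ T, (Pi.single a 1 : Fin n → ZMod 2) m = 0 := by
          intro a ha
          refine Pi.single_eq_of_ne ?_ _
          rintro rfl
          exact hmT ha
        rw [Finset.sum_eq_zero e2, add_zero]
        have hm : m = i ∨ m = j := by
          by_contra hc
          rw [not_or] at hc
          exact hmT (by simp [hT, hc.1, hc.2, hmk])
        rcases hm with rfl | rfl
        · rw [Pi.single_eq_same, Pi.single_eq_of_ne hij]; decide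
        · rw [Pi.single_eq_same, Pi.single_eq_of_ne hij.symm]; decide
  change ε (Pi.single k 1) ∈ R
  rw [h3, h.ev.add, h.ev.add, h.ev.one, one_mul]
  refine mul_mem ?_ h2
  unfold rr zz at hr
  rwa [← h.ev.add] at hr

theorem KK_le_NN (i j : Fin n) : KK ε ≤ NN ε i j := by
  intro g hg
  rw [mem_NN]
  exact Fr.Kr hg i j

theorem acts_NN {g : G} {σ : Equiv.Perm (Fin n)} (hg : Acts ε g σ) (hi : σ i = i) (hj : σ j = j) : g ∈ NN ε i j := by
  rw [mem_NN', rr_conj hg, hi, hj]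

/-- **(IRR)** -/
theorem irr [Finite G] (hij : i ≠ j) {R : Subgroup G} (hRU : R ≤ UU ε i j) (hr : rr ε i j ∈ R)
    (hN : ∀ g ∈ NN ε i j, ∀ x ∈ R, g * x * g⁻¹ ∈ R) (hne : ∃ x ∈ R, x ≠ 1 ∧ x ≠ rr ε i j) :
    R = UU ε i j := by
  obtain ⟨w, F⟩ := h.exists_fr
  obtain ⟨x, hx, h1, h2⟩ := hne
  have h3 : ∀ a b, a ≠ i → a ≠ j → b ≠ i → b ≠ j → a ≠ b → rr ε a b ∈ R := by
    intro a b hai haj hbi hbj hab
    refine F.irr_rr h.thC hij hRU (fun g hg y hy => hN g (h.KK_le_NN i j hg) y hy) ?_ hx h1 h2 hai haj hbi hbj hab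
    intro c d hci hcj hdi hdj hcd y hy
    refine hN _ ?_ y hy
    exact h.acts_NN (F.wA hcd) (Equiv.swap_apply_of_ne_of_ne hci.symm hdi.symm)
      (Equiv.swap_apply_of_ne_of_ne hcj.symm hdj.symm)
  refine le_antisymm hRU ?_
  unfold UU
  rw [closure_le]
  rintro _ ⟨g, hg, k, hki, hkj, rfl⟩
  exact hN g hg _ (h.zz_mem_of hij hr h3 hki hkj)

/-- the fixed space -/
theorem fix_V [Finite G] (hij : i ≠ j) {s : G} (hs : s ∈ UU ε i j)
    (hf : ∀ k, k ≠ i → k ≠ j → ∀ y ∈ UU ε i k, cm s y = 1 ∨ cm s y = rr ε i j) :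
    ∃ x : Fin n → ZMod 2, x i = 0 ∧ x j = 0 ∧ s = ε x := by
  obtain ⟨w, F⟩ := h.exists_fr
  exact F.fix_V h.thC hij hs hf

end Hyp

end Cfsg.Agent.Omega.NSix.Engine

end

section


/-!
# #15755 (6) (helper480) over the frame `Fr`: the forms `β_k`

`be w j k y z = [y, z^{w_jk}]` for `y`, `z ∈ U i j`, `k` a third label:
* `be_lab` : in `Σ_ijk`; `be_mul_left`, `be_mul_right`, `be_self`, `be_symm` : alternating, bimultiplicative, symmetric;
* `be_indep` : independent of the choice of `w j k`; `be_swap` : `β` via `w j k` = `β` via `w i k`; `be_cj` : equivariant;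
* `be_rad` : radical = `C(U i k)`;
* `gam` : `γ_kl(y,z) β_k(y,z) β_l(y,z) ∈ ⟨z_k, z_l⟩ Σ_ijkl`;
* `jacobi`; `be_W` : `a ∈ U_ij ∩ W_kl ⇒ β_k(a,y) ∈ ⟨z_l⟩ Σ_ijkl`; `be_w` : `β_k(z,y) ≡ β_k(z^{w_kl}, y)`.
-/

set_option autoImplicit false
set_option linter.unusedSectionVars false

namespace Cfsg.Agent.Omega.NSix.Engine

open Subgroup Cfsg.Agent.Omega.S5.Def Cfsg.Agent.Omega.NSix.Base
open Cfsg.Agent.Omega.TTn.Di (cm cj cj_mul cj_inv cj_cj cj_one cj_eq_of_comm comm_of_cj cj_eq_cm cm_eq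
  cm_one_iff cm_eq')

universe u

variable {G : Type u} [Group G] {n : ℕ}

theorem cm_mul_left (x y z : G) : cm (x * y) z = cj x (cm y z) * cm x z := by unfold cm cj; group

theorem cm_mul_right (x y z : G) : cm x (y * z) = cm x y * cj y (cm x z) := by unfold cm cj; group

theorem cj_cm (g x y : G) : cj g (cm x y) = cm (cj g x) (cj g y) := by unfold cm cj; group

theorem cm_inv' (x y : G) : (cm x y)⁻¹ = cm y x := by unfold cm; group

/-- `β_k(y,z) = [y, z^{w_jk}]` -/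
def be (w : Fin n → Fin n → G) (j k : Fin n) (y z : G) : G := cm y (cj (w j k) z)

namespace Fr

variable {ε : (Fin n → ZMod 2) → G} {U W Q : Fin n → Fin n → Subgroup G} {w : Fin n → Fin n → G}
  (F : Fr ε U W Q w) {i j k l m : Fin n}

include F

/-- the symmetric form of `w1` -/
theorem w1' (hij : i ≠ j) (hki : k ≠ i) (hkj : k ≠ j) {u : G} (hu : u ∈ U i j) : cj (w j k) u ∈ U i k := by
  rw [F.Usym]
  exact F.w1 hkj.symm hij hki.symm (F.Usym i j ▸ hu)

theorem w2' (hij : i ≠ j) (hki : k ≠ i) (hkj : k ≠ j) {u : G} (hu : u ∈ U i k) : cj (w j k) u ∈ U i j := by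
  rw [F.Usym]
  exact F.w2 hkj.symm hij hki.symm (F.Usym i k ▸ hu)

theorem cjK (hij : i ≠ j) {u : G} (hu : u ∈ KK ε) : cj (w i j) u ∈ KK ε := KK_conj (F.wA hij) hu

omit F in
theorem cjKK {g u : G} (hg : g ∈ KK ε) (hu : u ∈ KK ε) : cj g u ∈ KK ε := KK_conj (mem_KK.1 hg) hu

theorem be_lab (hij : i ≠ j) (hki : k ≠ i) (hkj : k ≠ j) {y z : G} (hy : y ∈ U i j) (hz : z ∈ U i j) :
    be w j k y z ∈ U i j ∧ be w j k y z ∈ U i k := by
  have h1 := F.w1' hij hki hkj hz
  exact ⟨F.cm_left hij hy (F.UK hki.symm h1), F.cm_right hki.symm (F.UK hij hy) h1⟩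

theorem be_mul_left (hij : i ≠ j) (hki : k ≠ i) (hkj : k ≠ j) {x y z : G} (hx : x ∈ U i j) (hy : y ∈ U i j)
    (hz : z ∈ U i j) : be w j k (x * y) z = be w j k x z * be w j k y z := by
  have h1 := (F.be_lab hij hki hkj hy hz).1
  have h2 := (F.be_lab hij hki hkj hx hz).1
  unfold be at h1 h2 ⊢
  rw [cm_mul_left, cj_eq_of_comm (F.Uab hij _ hx _ h1), F.Uab hij _ h1 _ h2]

theorem be_mul_right (hij : i ≠ j) (hki : k ≠ i) (hkj : k ≠ j) {x y z : G} (hx : x ∈ U i j) (hy : y ∈ U i j)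
    (hz : z ∈ U i j) : be w j k x (y * z) = be w j k x y * be w j k x z := by
  have h1 := (F.be_lab hij hki hkj hx hz).2
  have h2 := F.w1' hij hki hkj hy
  unfold be at h1 ⊢
  rw [cj_mul, cm_mul_right, cj_eq_of_comm (F.Uab hki.symm _ h2 _ h1)]

theorem be_self (hij : i ≠ j) (hki : k ≠ i) (hkj : k ≠ j) {y : G} (hy : y ∈ U i j) : be w j k y y = 1 :=
  cm_one_iff.2 (F.alt hij hki hkj hy)

theorem be_symm (hij : i ≠ j) (hki : k ≠ i) (hkj : k ≠ j) {y z : G} (hy : y ∈ U i j) (hz : z ∈ U i j) :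
    be w j k y z = be w j k z y := by
  have h := F.be_self hij hki hkj (mul_mem hy hz)
  rw [F.be_mul_left hij hki hkj hy hz (mul_mem hy hz), F.be_mul_right hij hki hkj hy hy hz,
    F.be_mul_right hij hki hkj hz hy hz, F.be_self hij hki hkj hy, F.be_self hij hki hkj hz, one_mul, mul_one] at h
  rw [mul_eq_one_iff_eq_inv.1 h]
  exact F.inv_self hij (F.be_lab hij hki hkj hz hy).1

theorem be_one_left (j k : Fin n) (z : G) : be w j k 1 z = 1 := by unfold be cm; group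

theorem be_one_right (j k : Fin n) (y : G) : be w j k y 1 = 1 := by unfold be cm cj; group

/-- `β_k(y,z)` does not depend on the choice of `w j k` -/
theorem be_indep (hij : i ≠ j) (hki : k ≠ i) (hkj : k ≠ j) {y z : G} (hy : y ∈ U i j) (hz : z ∈ U i j)
    {g : G} (hg : g ∈ Q j k) (hA : Acts ε g (Equiv.swap j k)) : cm y (cj g z) = be w j k y z := by
  have hjk := hkj.symm
  set c := (w j k)⁻¹ * g with hc
  have hcQ : c ∈ Q j k := mul_mem (inv_mem (F.WQ hjk (F.wW hjk))) hg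
  have hcK : c ∈ KK ε := by
    have h := (F.wA hjk).inv.mul hA
    rw [inv_mul_cancel] at h
    exact h
  obtain ⟨h1, h2⟩ := F.uq hjk hij hki.symm (F.Usym i j ▸ hz) hcQ hcK
  set p := z⁻¹ * cj c z with hp
  have e1 : cj g z = cj (w j k) z * cj (w j k) p := by
    rw [← cj_mul, hp, mul_inv_cancel_left, cj_cj, hc, mul_inv_cancel_left]
  have h3 : y * cj (w j k) p = cj (w j k) p * y := by
    rcases h2 with h2 | h2
    · rw [F.cj_w_self hjk h2]
      rw [F.Usym] at h1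
      exact F.Uab hij _ hy _ h1
    · have h4 := F.cj_w_self hjk h2
      have h5 : cj (w j k) p = p * (zz ε k * (cj (w j k) (zz ε k))⁻¹) := by
        rw [cj_mul] at h4
        rw [← mul_assoc, ← h4]
        group
      have h6 : cj (w j k) (zz ε k) = zz ε j := by
        have := (F.wA hjk).single k
        rw [Equiv.swap_apply_right] at this
        exact this
      rw [h5, h6]
      have h7 := F.Uab hij _ hy _ (F.Usym j i ▸ h1)
      have h8 := Kz (F.UK hij hy) k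
      have h9 := Kz (F.UK hij hy) j
      rw [F.z_inv, ← mul_assoc, h7, mul_assoc p, ← mul_assoc y, h8, mul_assoc (zz ε k), h9]
      group
  rw [e1, cm_mul_right, cm_one_iff.2 h3, cj_one, mul_one]
  rfl

omit F in
theorem acts_swap_conj {g : G} {σ : Equiv.Perm (Fin n)} (hg : Acts ε g σ) {x : G} (hx : Acts ε x (Equiv.swap i j)) :
    Acts ε (cj g x) (Equiv.swap (σ i) (σ j)) := by
  have h := hg.conj hx
  have e : σ * Equiv.swap i j * σ⁻¹ = Equiv.swap (σ i) (σ j) := by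
    rw [Equiv.mul_swap_eq_swap_mul, mul_assoc, mul_inv_cancel, mul_one]
  rw [e] at h
  exact h

/-- `β_k` is equivariant -/
theorem be_cj (hij : i ≠ j) (hki : k ≠ i) (hkj : k ≠ j) {y z : G} (hy : y ∈ U i j) (hz : z ∈ U i j)
    {g : G} {σ : Equiv.Perm (Fin n)} (hg : Acts ε g σ) :
    cj g (be w j k y z) = be w (σ j) (σ k) (cj g y) (cj g z) := by
  have h1 : cj (cj g (w j k)) (cj g z) = cj g (cj (w j k) z) := by unfold cj; group
  unfold be
  rw [cj_cm, ← h1]
  refine F.be_indep (σ.injective.ne hij) (σ.injective.ne hki) (σ.injective.ne hkj) (F.cU hg hij y hy)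
    (F.cU hg hij z hz) (F.cQ hg hkj.symm _ (F.WQ hkj.symm (F.wW hkj.symm))) (acts_swap_conj hg (F.wA hkj.symm))

/-- an element of `U i k` and its conjugate under `w i j` act in the same way on `U i j` -/
theorem cm_w (hij : i ≠ j) (hki : k ≠ i) {y z : G} (hy : y ∈ U i j) (hz : z ∈ U i k) :
    cm y (cj (w i j) z) = cm y z := by
  have h1 : cm y z ∈ U i j := F.cm_left hij hy (F.UK hki.symm hz)
  have h2 := F.cj_w_self hij h1
  rw [cj_cm, F.cj_w_self hij hy] at h2
  exact h2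

/-- `β_k` with the roles of `i`, `j` exchanged -/
theorem be_swap (hij : i ≠ j) (hki : k ≠ i) (hkj : k ≠ j) {y z : G} (hy : y ∈ U i j) (hz : z ∈ U i j) :
    be w i k y z = be w j k y z := by
  have h1 : cj (w j k) z ∈ U i k := F.w1' hij hki hkj hz
  have h2 := F.cm_w hij hki hy h1
  have h3 : cj (cj (w i j) (w j k)) z = cj (w i j) (cj (w j k) z) := by
    have h4 := F.cj_w_self hij hz
    have h5 : cj (w i j)⁻¹ z = z := by
      conv_lhs => rw [← h4]
      unfold cj; group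
    have h6 : cj (cj (w i j) (w j k)) z = cj (w i j) (cj (w j k) (cj (w i j)⁻¹ z)) := by unfold cj; group
    rw [h6, h5]
  have h6 : cj (w i j) (w j k) ∈ Q i k := by
    have h := F.cQ (F.wA hij) hkj.symm _ (F.WQ hkj.symm (F.wW hkj.symm))
    rwa [Equiv.swap_apply_right, Equiv.swap_apply_of_ne_of_ne hki hkj] at h
  have h7 : Acts ε (cj (w i j) (w j k)) (Equiv.swap i k) := by
    have h := acts_swap_conj (F.wA hij) (F.wA hkj.symm)
    rwa [Equiv.swap_apply_right, Equiv.swap_apply_of_ne_of_ne hki hkj] at h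
  have h8 := F.be_indep hij.symm hkj hki (F.Usym i j ▸ hy) (F.Usym i j ▸ hz) h6 h7
  rw [← h8, h3, h2]
  rfl

/-- the radical of `β_k` is the centraliser of `U i k` -/
theorem be_rad (hij : i ≠ j) (hki : k ≠ i) (hkj : k ≠ j) {y : G} :
    (∀ z ∈ U i j, be w j k y z = 1) ↔ Cen U y i k := by
  constructor
  · intro h x hx
    have h1 := h _ (F.w2' hij hki hkj hx)
    unfold be at h1
    rw [F.cj_w_w hkj.symm (F.UK hki.symm hx)] at h1
    exact cm_one_iff.1 h1
  · intro h z hz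
    exact cm_one_iff.2 (h _ (F.w1' hij hki hkj hz))

theorem be_rad' (hC : ThC ε U) (hij : i ≠ j) (hki : k ≠ i) (hkj : k ≠ j) {y : G} (hy : y ∈ U i j)
    (h : ∀ z ∈ U i j, be w j k y z = 1) : y ∈ U i k ∨ y * zz ε k ∈ U i k :=
  hC hki.symm hij.symm hkj.symm y hy ((F.be_rad hij hki hkj).1 h)

/-- elements of `Σ_ijk` are in the radical of `β_k` -/
theorem be_one (hij : i ≠ j) (hki : k ≠ i) (hkj : k ≠ j) {y z : G} (hy' : y ∈ U i k)
    (hz : z ∈ U i j) : be w j k y z = 1 :=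
  (F.be_rad hij hki hkj).2 (F.Uab hki.symm _ hy') z hz

/-- elements of `V_ij` are in the radical of `β_k` -/
theorem be_e (hij : i ≠ j) (hki : k ≠ i) (hkj : k ≠ j) {z : G} (x : Fin n → ZMod 2)
    (hz : z ∈ U i j) : be w j k (ε x) z = 1 :=
  cm_one_iff.2 (Ke (F.UK hki.symm (F.w1' hij hki hkj hz)) x).symm

/-- `β_k` kills `⟨z_k⟩ Σ_ijk` -/
theorem be_pp (hij : i ≠ j) (hki : k ≠ i) (hkj : k ≠ j) {y z : G} (hy : y ∈ U i j)
    (hy' : y ∈ U i k ∨ y * zz ε k ∈ U i k) (hz : z ∈ U i j) : be w j k y z = 1 := by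
  rcases hy' with h | h
  · exact F.be_one hij hki hkj h hz
  · have h1 := F.be_one hij hki hkj h hz
    have h2 : be w j k (zz ε k) z = 1 := F.be_e hij hki hkj _ hz
    rwa [F.be_mul_left hij hki hkj hy (F.zU hij hki hkj) hz, h2, mul_one] at h1

/-- `a ∈ U_ij ∩ W_kl` has `β_k(a, y) ∈ ⟨z_l⟩ Σ_ijkl` -/
theorem be_W (h : D4 i j k l) {a y : G} (ha : a ∈ U i j) (haW : a ∈ W k l) (hy : y ∈ U i j) :
    be w j k a y ∈ U i l ∨ be w j k a y * zz ε l ∈ U i l := by
  have hki := h.ik.symm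
  have hkj := h.jk.symm
  have h1 := F.w1' h.ij hki hkj hy
  have h3 := F.uq h.kl h.ik h.il (F.Usym i k ▸ h1) (F.WQ h.kl haW) (F.UK h.ij ha)
  obtain ⟨-, h4⟩ := h3
  have hb := F.be_lab h.ij hki hkj ha hy
  set y' := cj (w j k) y with hy'
  have e : be w j k a y = y'⁻¹ * cj a y' := by
    have e1 : be w j k a y = cj a y' * y'⁻¹ := rfl
    rw [e1, F.Uab hki.symm _ (F.KU hki.symm (F.UK h.ij ha) h1) _ (inv_mem h1)]
  have hb2 := F.Usym i k ▸ hb.2
  rw [← e] at h4
  rcases h4 with h4 | h4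
  · left
    exact F.tri h.ik.symm h.kl.symm h.il.symm (F.Usym i k ▸ hb.2) h4
  · right
    refine F.tri h.ik.symm h.kl.symm h.il.symm ?_ h4
    rw [F.Usym]
    exact mul_mem hb.2 (F.zU h.ik h.il.symm h.kl.symm)

/-- `β_k(z,y) ≡ β_k(z^{w_kl}, y)` modulo `⟨z_l⟩ Σ_ijkl` -/
theorem be_w (h : D4 i j k l) {z y : G} (hz : z ∈ U i j) (hy : y ∈ U i j) :
    be w j k z y * be w j k (cj (w k l) z) y ∈ U i l ∨
      be w j k z y * be w j k (cj (w k l) z) y * zz ε l ∈ U i l := by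
  have h1 : cj (w k l) z ∈ U i j := F.w3 h.kl h.ik h.il h.jk h.jl h.ij hz
  rw [← F.be_mul_left h.ij h.ik.symm h.jk.symm hz h1 hy]
  exact F.be_W h (mul_mem hz h1) (F.uuw h.kl h.ij hz) hy

/-- `γ_kl(y,z) = [y, z^{w_jl w_ik}]` -/
def ga (w : Fin n → Fin n → G) (i j k l : Fin n) (y z : G) : G := cm y (cj (w i k) (cj (w j l) z))

theorem ga_lab (h : D4 i j k l) {y z : G} (hy : y ∈ U i j) (hz : z ∈ U i j) :
    ga w i j k l y z ∈ U i j ∧ ga w i j k l y z ∈ U k l := by
  have h1 : cj (w j l) z ∈ U i l := F.w1' h.ij h.il.symm h.jl.symm hz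
  have h2 : cj (w i k) (cj (w j l) z) ∈ U k l := F.w1 h.ik h.il.symm h.kl.symm h1
  exact ⟨F.cm_left h.ij hy (F.UK h.kl h2), F.cm_right h.kl (F.UK h.ij hy) h2⟩

/-- `β_l γ ∈ ⟨z_k⟩ Σ_ijk` -/
theorem gam1 (h : D4 i j k l) {y z : G} (hy : y ∈ U i j) (hz : z ∈ U i j) :
    PP ε U i j k (be w j l y z * ga w i j k l y z) := by
  have hz' : cj (w j l) z ∈ U i l := F.w1' h.ij h.il.symm h.jl.symm hz
  obtain ⟨hg1, hg2⟩ := F.ga_lab h hy hz
  unfold be
  unfold ga at hg1 hg2 ⊢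
  set z' := cj (w j l) z with hz'0
  have hz'' : cj (w i k) z' ∈ U k l := F.w1 h.ik h.il.symm h.kl.symm hz'
  set z'' := cj (w i k) z' with hz''0
  have hyK := F.UK h.ij hy
  have hzK := F.UK h.il hz'
  have ht : z' * z'' ∈ W i k := F.uuw h.ik h.il hz'
  have hy1 : cj (w i k) y ∈ U k j := F.w1 h.ik h.ij.symm h.jk hy
  have hyy : y * cj (w i k) y ∈ W i k := F.uuw h.ik h.ij hy
  have hq := F.QW h.ik _ (F.WQ h.ik hyy) _ ht
  rw [cm_mul_left] at hq
  have hcomm : z' * z'' = z'' * z' := F.alt h.il.symm h.kl h.ik.symm (F.Usym i l ▸ hz')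
  have e1 : cj (w i k) (z' * z'') = z' * z'' := by
    rw [cj_mul, ← hz''0]
    conv_lhs => rw [hz''0, F.cj_w_w h.ik hzK]
    rw [← hz''0, ← hcomm]
  have e2 : cm (cj (w i k) y) (z' * z'') = cj (w i k) (cm y (z' * z'')) := by
    rw [cj_cm, e1]
  rw [e2] at hq
  have hθ : cm y (z' * z'') ∈ U i j := F.cm_left h.ij hy (mul_mem hzK (F.UK h.kl hz''))
  have hθ1 : cj (w i k) (cm y (z' * z'')) ∈ U k j := F.w1 h.ik h.ij.symm h.jk hθ
  have hθ2 : cj y (cj (w i k) (cm y (z' * z''))) ∈ U k j := F.KU h.jk.symm hyK hθ1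
  have hpp : PP ε U i j k (cm y (z' * z'')) := by
    refine F.pp_of h.ik h.ij.symm h.jk hθ (inv_mem hθ2) hq ?_
    have hc := F.UK h.ij hθ
    have e3 : cj y (cj (w i k) (cm y (z' * z''))) * cm y (z' * z'') *
        (cj y (cj (w i k) (cm y (z' * z''))))⁻¹ = cm y (z' * z'') := by
      have hA := F.UK h.jk.symm hθ2
      rcases hq with hq | hq
      · rw [hq, one_mul]
        exact (eq_inv_of_mul_eq_one_right hq).symm
      · have h1 : cm y (z' * z'') = (cj y (cj (w i k) (cm y (z' * z''))))⁻¹ * rr ε i k := by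
          rw [← hq, inv_mul_cancel_left]
        rw [hq]
        conv_rhs => rw [h1]
        exact (Kr (inv_mem hA) i k).symm
    exact e3.symm
  have e4 : cm y (z' * z'') = cm y z' * cj z' (cm y z'') := cm_mul_right _ _ _
  have e5 : cj z' (cm y z'') = cm z' (cm y z'') * cm y z'' := cj_eq_cm _ _
  have hs1 : cm z' (cm y z'') ∈ U i j := F.cm_right h.ij hzK hg1
  have hs2 : cm z' (cm y z'') ∈ U k l := F.cm_right h.kl hzK hg2
  have hs3 : cm z' (cm y z'') ∈ U i l := F.cm_left h.il hz' (F.UK h.ij hg1)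
  have hs4 : cm z' (cm y z'') ∈ U i k := F.tri' h.ik h.il.symm h.kl.symm hs3 hs2
  have hb1 : cm y z' ∈ U i j := F.cm_left h.ij hy hzK
  have e6 : cm y z' * cm y z'' = (cm z' (cm y z''))⁻¹ * cm y (z' * z'') := by
    rw [e4, e5, ← mul_assoc (cm y z'), F.Uab h.ij _ hb1 _ hs1]
    group
  rw [e6]
  obtain ⟨h1, h2⟩ := hpp
  refine ⟨mul_mem (inv_mem hs1) h1, ?_⟩
  rcases h2 with h2 | h2
  · exact Or.inl (mul_mem (inv_mem hs4) h2)
  · right
    rw [mul_assoc]
    exact mul_mem (inv_mem hs4) h2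

/-- `γ` does not depend on the order of `w_jl`, `w_ik`, modulo `Σ_ijkl` -/
theorem gam2 (h : D4 i j k l) {y z : G} (hy : y ∈ U i j) (hz : z ∈ U i j) :
    ∃ s, s ∈ U i j ∧ s ∈ U i k ∧ s ∈ U k l ∧ ga w j i l k y z = ga w i j k l y z * s := by
  have hz' : cj (w j l) z ∈ U i l := F.w1' h.ij h.il.symm h.jl.symm hz
  have hx : cj (w i k) (cj (w j l) z) ∈ U k l := F.w1 h.ik h.il.symm h.kl.symm hz'
  unfold ga
  set x := cj (w i k) (cj (w j l) z) with hx0
  set d := cm (w j l) (w i k) with hd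
  have hd1 : d ∈ W i k := by
    rw [hd, cm_eq]
    exact mul_mem (F.W3 h.jl h.ij h.il h.jk.symm h.kl h.ik (F.wW h.ik)) (inv_mem (F.wW h.ik))
  have hdK : d ∈ KK ε := by
    have h1 := acts_swap_conj (F.wA h.jl) (F.wA h.ik)
    rw [Equiv.swap_apply_of_ne_of_ne h.ij h.il, Equiv.swap_apply_of_ne_of_ne h.jk.symm h.kl] at h1
    have h2 := h1.mul (F.wA h.ik).inv
    rw [mul_inv_cancel] at h2
    exact h2
  have e1 : cj (w j l) (cj (w i k) z) = cj d x := by
    rw [hd, hx0]; unfold cj cm; group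
  have hyK := F.UK h.ij hy
  obtain ⟨h3, h4⟩ := F.uq h.ik.symm h.kl.symm h.il.symm hx (F.Qsym i k ▸ F.WQ h.ik hd1) hdK
  set p := x⁻¹ * cj d x with hp
  have e2 : cj d x = x * p := by rw [hp, mul_inv_cancel_left]
  have hs1 : cm y p ∈ U i j := F.cm_left h.ij hy (F.UK h.kl h3)
  have hs2 : cm y p ∈ U k l := F.cm_right h.kl hyK h3
  have hs3 : cm y p ∈ U i k := by
    rcases h4 with h4 | h4
    · exact F.cm_right h.ik hyK (F.Usym k i ▸ h4)
    · have h5 : cm y (p * zz ε i) = cm y p := by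
        rw [cm_mul_right, cm_one_iff.2 (Kz hyK i), cj_one, mul_one]
      rw [← h5]
      exact F.cm_right h.ik hyK (F.Usym k i ▸ h4)
  have hxK := F.UK h.kl hx
  refine ⟨cj x (cm y p), F.KU h.ij hxK hs1, F.KU h.ik hxK hs3, F.KU h.kl hxK hs2, ?_⟩
  rw [e1, e2, cm_mul_right]

/-- `γ_kl β_k β_l ∈ ⟨z_k, z_l⟩ Σ_ijkl` -/
theorem gam (h : D4 i j k l) {y z : G} (hy : y ∈ U i j) (hz : z ∈ U i j) :
    ∃ e : Fin n → ZMod 2, (∀ a, a ≠ k → a ≠ l → e a = 0) ∧
      be w j k y z * be w j l y z * ga w i j k l y z * ε e ∈ U i j ∧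
      be w j k y z * be w j l y z * ga w i j k l y z * ε e ∈ U i k ∧
      be w j k y z * be w j l y z * ga w i j k l y z * ε e ∈ U i l := by
  obtain ⟨b1, b2⟩ := F.be_lab h.ij h.ik.symm h.jk.symm hy hz
  obtain ⟨c1, c2⟩ := F.be_lab h.ij h.il.symm h.jl.symm hy hz
  obtain ⟨g1, g2⟩ := F.ga_lab h hy hz
  obtain ⟨-, hA⟩ := F.gam1 h hy hz
  have h' : D4 j i l k := ⟨h.ij.symm, h.jl, h.jk, h.il, h.ik, h.kl.symm⟩
  obtain ⟨-, hB⟩ := F.gam1 h' (F.Usym i j ▸ hy) (F.Usym i j ▸ hz)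
  obtain ⟨s, s1, s2, s3, s4⟩ := F.gam2 h hy hz
  rw [s4, F.be_swap h.ij h.ik.symm h.jk.symm hy hz] at hB
  set b := be w j k y z
  set c := be w j l y z
  set g := ga w i j k l y z
  have hX : b * c * g ∈ U i j := mul_mem (mul_mem b1 c1) g1
  -- (A)
  have hA' : b * c * g ∈ U i k ∨ b * c * g * zz ε k ∈ U i k := by
    rcases hA with hA | hA
    · left
      rw [mul_assoc]
      exact mul_mem b2 hA
    · right
      rw [mul_assoc b, mul_assoc b]
      exact mul_mem b2 hA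
  -- (B)
  have hsl : s ∈ U i l := F.tri h.ik.symm h.kl.symm h.il.symm (F.Usym i k ▸ s2) s3
  have hjl : ∀ {x : G}, x ∈ U i j → (x ∈ U j l ↔ x ∈ U i l) := fun {x} hx =>
    ⟨fun h1 => F.tri h.ij.symm h.jl.symm h.il.symm (F.Usym i j ▸ hx) h1,
      fun h1 => F.tri h.ij h.il.symm h.jl.symm hx h1⟩
  have zl : zz ε l ∈ U i j := F.zU h.ij h.il.symm h.jl.symm
  have zk : zz ε k ∈ U i j := F.zU h.ij h.ik.symm h.jk.symm
  have hgK := F.UK h.ij g1
  have hB' : b * c * g ∈ U i l ∨ b * c * g * zz ε l ∈ U i l := by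
    have e : b * c * g = c * (b * (g * s)) * s⁻¹ := by
      rw [F.Uab h.ij _ b1 _ c1]; group
    rcases hB with hB | hB
    · left
      rw [e]
      refine mul_mem (mul_mem c2 ((hjl (mul_mem b1 (mul_mem g1 s1))).1 hB)) (inv_mem hsl)
    · right
      have e2 : b * c * g * zz ε l = c * (b * (g * s) * zz ε l) * s⁻¹ := by
        have h5 := Kz (inv_mem (F.UK h.ij s1)) l
        rw [e, mul_assoc _ s⁻¹, h5]; group
      rw [e2]
      exact mul_mem (mul_mem c2 ((hjl (mul_mem (mul_mem b1 (mul_mem g1 s1)) zl)).1 hB)) (inv_mem hsl)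
  have hzk : zz ε k ∈ U i l := F.zU h.il h.ik.symm h.kl
  have hzl : zz ε l ∈ U i k := F.zU h.ik h.il.symm h.kl.symm
  rcases hA' with hA' | hA' <;> rcases hB' with hB' | hB'
  · refine ⟨0, fun _ _ _ => rfl, ?_⟩
    rw [F.zero, mul_one]
    exact ⟨hX, hA', hB'⟩
  · refine ⟨Pi.single l 1, fun a _ ha => Pi.single_eq_of_ne ha 1, mul_mem hX zl, mul_mem hA' hzl, hB'⟩
  · refine ⟨Pi.single k 1, fun a ha _ => Pi.single_eq_of_ne ha 1, mul_mem hX zk, hA', mul_mem hB' hzk⟩
  · refine ⟨Pi.single k 1 + Pi.single l 1, fun a ha hb => ?_, ?_, ?_, ?_⟩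
    · rw [Pi.add_apply, Pi.single_eq_of_ne ha, Pi.single_eq_of_ne hb, add_zero]
    · rw [F.add]
      exact mul_mem hX (mul_mem zk zl)
    · rw [F.add, ← mul_assoc]
      exact mul_mem hA' hzl
    · rw [add_comm, F.add, ← mul_assoc]
      exact mul_mem hB' hzk

/-! ### Jacobi -/

omit F in
/-- Hall–Witt when the commutators commute -/
theorem hall_witt {y a b s t r p q : G} (hs : cm y a = s) (ht : cm y b = t) (hr : cm a b = r)
    (hp : cm a t = p) (hq : cm b s = q) (c1 : s * p = p * s) (c2 : s * t = t * s) (c3 : s * r = r * s)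
    (c4 : t * r = r * t) (c5 : q * t = t * q) (c6 : q * r = r * q) : cm y r = p * q⁻¹ := by
  have c7 : s * (t * r) = t * r * s := by rw [← mul_assoc, c2, mul_assoc, c3, ← mul_assoc]
  have c8 : q⁻¹ * (t * r) = t * r * q⁻¹ := by
    have : q * (t * r) = t * r * q := by rw [← mul_assoc, c5, mul_assoc, c6, ← mul_assoc]
    rw [inv_mul_eq_iff_eq_mul, ← mul_assoc, this]
    group
  have e1 : cm y r = s * a * t * b * a⁻¹ * s⁻¹ * b⁻¹ * t⁻¹ * r⁻¹ := by
    rw [← hs, ← ht, ← hr]; unfold cm; group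
  have e2 : s * a * t * b * a⁻¹ * s⁻¹ * b⁻¹ * t⁻¹ * r⁻¹ =
      s * (a * t * a⁻¹ * t⁻¹) * t * (a * b * a⁻¹ * b⁻¹) * (b * s * b⁻¹ * s⁻¹ * s)⁻¹ * t⁻¹ * r⁻¹ := by group
  have hp' : a * t * a⁻¹ * t⁻¹ = p := hp
  have hr' : a * b * a⁻¹ * b⁻¹ = r := hr
  have hq' : b * s * b⁻¹ * s⁻¹ = q := hq
  rw [e1, e2, hp', hr', hq', c1]
  calc p * s * t * r * (q * s)⁻¹ * t⁻¹ * r⁻¹ = p * (s * (t * r)) * (q * s)⁻¹ * t⁻¹ * r⁻¹ := by group
    _ = p * (t * r * s) * (q * s)⁻¹ * t⁻¹ * r⁻¹ := by rw [c7]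
    _ = p * (t * r * q⁻¹) * t⁻¹ * r⁻¹ := by group
    _ = p * (q⁻¹ * (t * r)) * t⁻¹ * r⁻¹ := by rw [c8]
    _ = p * q⁻¹ * (t * r) * t⁻¹ * r⁻¹ := by group
    _ = p * q⁻¹ * (r * t) * t⁻¹ * r⁻¹ := by rw [c4]
    _ = p * q⁻¹ := by group

/-- `[y, [z₁^{w_jk}, z₂^{w_jl}]] = β_k(y, β_l(z₁, z₂^{w_kl}))` -/
theorem cm_cm (h : D4 i j k l) {y z₁ z₂ : G} (hy : y ∈ U i j) (h1 : z₁ ∈ U i j) (h2 : z₂ ∈ U i j) :
    cm y (cm (cj (w j k) z₁) (cj (w j l) z₂)) = be w j k y (be w j l z₁ (cj (w k l) z₂)) := by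
  have hki := h.ik.symm
  have hkj := h.jk.symm
  have hli := h.il.symm
  have hlj := h.jl.symm
  have ha := F.w1' h.ij hki hkj h1
  have hb := F.w1' h.ij hli hlj h2
  have hz2' : cj (w k l) z₂ ∈ U i j := F.w3 h.kl h.ik h.il h.jk h.jl h.ij h2
  -- `v`
  have hinv : Acts ε (w j l)⁻¹ (Equiv.swap j l) := by
    have := (F.wA h.jl).inv
    rwa [Equiv.swap_inv] at this
  set v := cj (w j l)⁻¹ (w j k) with hv
  have hv1 : v ∈ W k l := by
    have := F.cW hinv h.jk _ (F.wW h.jk)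
    rwa [Equiv.swap_apply_left, Equiv.swap_apply_of_ne_of_ne hkj h.kl, F.Wsym] at this
  have hv2 : Acts ε v (Equiv.swap k l) := by
    have := acts_swap_conj hinv (F.wA h.jk)
    rwa [Equiv.swap_apply_left, Equiv.swap_apply_of_ne_of_ne hkj h.kl, Equiv.swap_comm] at this
  set c := v * (w k l)⁻¹ with hc
  have hcW : c ∈ W k l := mul_mem hv1 (inv_mem (F.wW h.kl))
  have hcK : c ∈ KK ε := by
    have := hv2.mul (F.wA h.kl).inv
    rw [mul_inv_cancel] at this
    exact this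
  set z' := cj (w k l) z₂ with hz'
  have hz'K := F.UK h.ij hz2'
  set p := z'⁻¹ * cj c z' with hp
  have hpU : p ∈ U i j := mul_mem (inv_mem hz2') (F.KU h.ij hcK hz2')
  have hpW : p ∈ W k l := by
    have e : p = cj z'⁻¹ c * c⁻¹ := by rw [hp]; unfold cj; group
    rw [e]
    exact mul_mem (F.KW h.kl (inv_mem hz'K) hcW) (inv_mem hcW)
  have e1 : cj (w j k) (cj (w j l) z₂) = cj (w j l) z' * cj (w j l) p := by
    rw [← cj_mul, hp, mul_inv_cancel_left, hz', hc, hv]
    unfold cj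
    group
  have hb' : cj (w j l) z' ∈ U i l := F.w1' h.ij hli hlj hz2'
  have hp1 : cj (w j l) p ∈ U i l := F.w1' h.ij hli hlj hpU
  have hp2 : cj (w j l) p ∈ W j k := by
    have := F.cW (F.wA h.jl) h.kl _ hpW
    rwa [Equiv.swap_apply_right, Equiv.swap_apply_of_ne_of_ne hkj h.kl, F.Wsym] at this
  set p' := cj (w j l) p with hp'
  have hs1 : cm z₁ p' ∈ U i l := F.cm_right h.il (F.UK h.ij h1) hp1
  have hs2 : cm z₁ p' ∈ U i j := F.cm_left h.ij h1 (F.UK h.il hp1)
  have hs3 : cm z₁ p' ∈ U i k ∨ cm z₁ p' * zz ε k ∈ U i k := by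
    obtain ⟨h3, h4⟩ := F.uq h.jk h.ij hki.symm (F.Usym i j ▸ h1) (F.WQ h.jk hp2) (F.UK h.il hp1)
    have e2 : cm z₁ p' = (z₁⁻¹ * cj p' z₁)⁻¹ := by
      have h5 : (cj p' z₁)⁻¹ ∈ U i j := inv_mem (F.KU h.ij (F.UK h.il hp1) h1)
      have h6 : cm z₁ p' = z₁ * (cj p' z₁)⁻¹ := by unfold cm cj; group
      rw [h6, F.Uab h.ij _ h1 _ h5]
      group
    have hzk : zz ε k ∈ U i j := F.zU h.ij hki hkj
    rcases h4 with h4 | h4
    · left
      have h5 : cm z₁ p' ∈ U j k := by rw [e2]; exact inv_mem h4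
      exact F.tri h.ij.symm hkj hki (F.Usym i j ▸ hs2) h5
    · right
      have h5 : cm z₁ p' * zz ε k ∈ U j k := by
        have e3 : cm z₁ p' * zz ε k = (z₁⁻¹ * cj p' z₁ * zz ε k)⁻¹ := by
          rw [mul_inv_rev, F.z_inv, ← e2, Kz (F.UK h.ij hs2)]
        rw [e3]
        exact inv_mem h4
      exact F.tri h.ij.symm hkj hki (F.Usym i j ▸ mul_mem hs2 hzk) h5
  have e4 : cj (w j k) (cm (cj (w j k) z₁) (cj (w j l) z₂)) = be w j l z₁ z' * cm z₁ p' := by
    rw [cj_cm, F.cj_w_w h.jk (F.UK h.ij h1), e1, cm_mul_right, cj_eq_of_comm (F.Uab h.il _ hb' _ hs1)]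
    rfl
  have hrK : cm (cj (w j k) z₁) (cj (w j l) z₂) ∈ KK ε := F.cmK (F.UK h.ik ha) (F.UK h.il hb)
  have e5 : cm y (cm (cj (w j k) z₁) (cj (w j l) z₂)) = be w j k y (be w j l z₁ z' * cm z₁ p') := by
    rw [← e4]
    unfold be
    rw [F.cj_w_w h.jk hrK]
  have hB := (F.be_lab h.ij hli hlj h1 hz2').1
  rw [e5, F.be_mul_right h.ij hki hkj hy hB hs2, F.be_symm h.ij hki hkj hy hs2,
    F.be_pp h.ij hki hkj hs2 hs3 hy, mul_one]

/-- **Jacobi** -/
theorem jacobi (h : D4 i j k l) {y z₁ z₂ : G} (hy : y ∈ U i j) (h1 : z₁ ∈ U i j) (h2 : z₂ ∈ U i j) :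
    be w j l (be w j k y z₁) z₂ * be w j k (be w j l y z₂) z₁ =
      be w j k y (be w j l z₁ (cj (w k l) z₂)) := by
  have hki := h.ik.symm
  have hkj := h.jk.symm
  have hli := h.il.symm
  have hlj := h.jl.symm
  have ha := F.w1' h.ij hki hkj h1
  have hb := F.w1' h.ij hli hlj h2
  obtain ⟨s1, s2⟩ := F.be_lab h.ij hki hkj hy h1
  obtain ⟨t1, t2⟩ := F.be_lab h.ij hli hlj hy h2
  have r1 : cm (cj (w j k) z₁) (cj (w j l) z₂) ∈ U i k := F.cm_left h.ik ha (F.UK h.il hb)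
  have r2 : cm (cj (w j k) z₁) (cj (w j l) z₂) ∈ U i l := F.cm_right h.il (F.UK h.ik ha) hb
  have p1 : cm (cj (w j k) z₁) (be w j l y z₂) ∈ U i j := F.cm_right h.ij (F.UK h.ik ha) t1
  have q1 : cm (cj (w j l) z₂) (be w j k y z₁) ∈ U i j := F.cm_right h.ij (F.UK h.il hb) s1
  have q2 : cm (cj (w j l) z₂) (be w j k y z₁) ∈ U i k := F.cm_right h.ik (F.UK h.il hb) s2
  have hw := hall_witt (y := y) (a := cj (w j k) z₁) (b := cj (w j l) z₂) rfl rfl rfl rfl rfl
    (F.Uab h.ij _ s1 _ p1) (F.Uab h.ij _ s1 _ t1) (F.Uab h.ik _ s2 _ r1) (F.Uab h.il _ t2 _ r2)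
    (F.Uab h.ij _ q1 _ t1) (F.Uab h.ik _ q2 _ r1)
  have eA : be w j k (be w j l y z₂) z₁ = (cm (cj (w j k) z₁) (be w j l y z₂))⁻¹ := (cm_inv' _ _).symm
  have eB : be w j l (be w j k y z₁) z₂ = (cm (cj (w j l) z₂) (be w j k y z₁))⁻¹ := (cm_inv' _ _).symm
  rw [← F.cm_cm h hy h1 h2, eA, eB, F.inv_self h.ij p1, F.Uab h.ij _ (inv_mem q1) _ p1]
  exact hw.symm

end Fr

end Cfsg.Agent.Omega.NSix.Engine

end

section


/-!
# #18323 (helper480) (2): the offenders from (ML)  (helper940)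

`i j k l` four labels, `U = UU ε i j`, `A = UU ε k l`.

* `exists_syl` : `n = 2^m + 1`, `T₀ ≤ P` a Sylow 2-subgroup of `N_ij`: for every pair `k l` there is a Sylow
  2-subgroup `T` of `N_ij` in `N_kl`;
* `noOver` : `|B : C_B(U)| ≤ |U : C_U(B)|` for every `B ≤ A` (from `MLK`);
* `swap_card` : `|A : C_A(U)| = |U : C_U(A)|`;
* `best` : `|B| |C_W(B)| ≤ |A| |C_W(A)|` for all `B ≤ A`, `W ≤ U`: `A` is a best offender on `W`;
* **`offM`** : `A ≤ C(W)` or `OffM W A`, for every `W ≤ U`.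
-/

set_option autoImplicit false
set_option linter.unusedSectionVars false
set_option linter.unusedVariables false

namespace Cfsg.Agent.Omega.NSix.HTwo.Off

open Subgroup Cfsg
open Cfsg.Agent.ZN (o2 zc)
open Cfsg.Agent.Omega.S5.Def Cfsg.Agent.Omega.NSix.Base Cfsg.Agent.Omega.NSix.Basic
open Cfsg.Agent.Omega.NSix.Engine
open Cfsg.Agent.Omega.ML.Final (MLK GDat)
open Cfsg.Agent.Omega.FFThm (OffM ElemM relIndex_le_iff)
open Cfsg.Agent.ZN.ChoiceBase

universe u

variable {G : Type u} [Group G] {n : ℕ} {V P : Subgroup G} {ε : (Fin n → ZMod 2) → G} {i j k l : Fin n}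

/-! ### `U_ij = ⟨r_kl ^ N_ij⟩ ⟨r_ij⟩` -/

/-- `⟨r_kl ^ N_ij⟩` -/
def RC (ε : (Fin n → ZMod 2) → G) (i j k l : Fin n) : Subgroup G :=
  closure {x | ∃ g ∈ NN ε i j, x = g * rr ε k l * g⁻¹}

theorem rr_mem_RC : rr ε k l ∈ RC ε i j k l := subset_closure ⟨1, one_mem _, by group⟩

theorem RC_conj {g x : G} (hg : g ∈ NN ε i j) (hx : x ∈ RC ε i j k l) : g * x * g⁻¹ ∈ RC ε i j k l := by
  unfold RC at hx ⊢
  induction hx using closure_induction with
  | mem x hx =>
    obtain ⟨y, hy, rfl⟩ := hx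
    exact subset_closure ⟨g * y, mul_mem hg hy, by group⟩
  | one => rw [mul_one, mul_inv_cancel]; exact one_mem _
  | mul x y _ _ hx hy =>
    have : g * (x * y) * g⁻¹ = (g * x * g⁻¹) * (g * y * g⁻¹) := by group
    rw [this]; exact mul_mem hx hy
  | inv x _ hx =>
    have : g * x⁻¹ * g⁻¹ = (g * x * g⁻¹)⁻¹ := by group
    rw [this]; exact inv_mem hx

theorem norm_of {N X : Subgroup G} (h : ∀ g ∈ N, ∀ x ∈ X, g * x * g⁻¹ ∈ X) : N ≤ normalizer (X : Set G) := by
  intro g hg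
  rw [mem_normalizer_iff]
  refine fun x => ⟨h g hg x, fun hx => ?_⟩
  have h1 := h g⁻¹ (inv_mem hg) _ hx
  have h2 : g⁻¹ * (g * x * g⁻¹) * g⁻¹⁻¹ = x := by group
  rwa [h2] at h1

theorem RC_le (hD : D4 i j k l) : RC ε i j k l ≤ UU ε i j := by
  unfold RC
  rw [closure_le]
  rintro x ⟨g, hg, rfl⟩
  exact UU_normal hg (rr_mem_UU hD.ik.symm hD.jk.symm hD.il.symm hD.jl.symm)

/-- an element of `P ∩ N_ij` moving the pair `k l` to the pair `a b` -/
theorem exists_mv (h : Hyp V P ε) (hD : D4 i j k l) {a b : Fin n} (hD' : D4 i j a b) :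
    ∃ p ∈ P, ∃ σ : Equiv.Perm (Fin n), Acts ε p σ ∧ σ i = i ∧ σ j = j ∧ σ k = a ∧ σ l = b := by
  obtain ⟨σ, h1, h2, h3⟩ := exists_perm hD.kl hD'.kl
  obtain ⟨p, hp, hpσ⟩ := h.ev.full σ
  exact ⟨p, hp, σ, hpσ, h3 i hD.ik hD.il hD'.ik hD'.il, h3 j hD.jk hD.jl hD'.jk hD'.jl, h1, h2⟩

theorem rr_mem_RC' (h : Hyp V P ε) (hD : D4 i j k l) {a b : Fin n} (hD' : D4 i j a b) :
    rr ε a b ∈ RC ε i j k l := by
  obtain ⟨p, -, σ, hpσ, h1, h2, h3, h4⟩ := exists_mv h hD hD'
  refine subset_closure ⟨p, ?_, ?_⟩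
  · rw [mem_NN', rr_conj hpσ, h1, h2]
  · rw [rr_conj hpσ, h3, h4]

theorem UU_le (h : Hyp V P ε) (hD : D4 i j k l) : UU ε i j ≤ RC ε i j k l ⊔ zpowers (rr ε i j) := by
  set X := RC ε i j k l ⊔ zpowers (rr ε i j) with hX
  have hR : RC ε i j k l ≤ X := le_sup_left
  have hr : rr ε i j ∈ X := mem_sup_right (mem_zpowers _)
  have hN : ∀ g ∈ NN ε i j, ∀ x ∈ X, g * x * g⁻¹ ∈ X := by
    intro g hg x hx
    have h1 : X ≤ X.comap (MulAut.conj g).toMonoidHom := by
      rw [hX, sup_le_iff]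
      constructor
      · intro y hy
        exact hR (RC_conj hg hy)
      · rw [zpowers_le]
        change g * rr ε i j * g⁻¹ ∈ X
        rw [mem_NN'.1 hg]
        exact hr
    exact h1 hx
  have hz : ∀ a, a ≠ i → a ≠ j → zz ε a ∈ X := by
    intro a hai haj
    have h1 := compl_rr h.ev hD.ij (fun t x => x ∈ V ∧ x * zz ε a ^ t ∈ X)
      ⟨one_mem _, by rw [one_mul, pow_zero]; exact one_mem _⟩ (by
      rintro b h1 h3 t x ⟨hxV, hxA⟩
      refine ⟨mul_mem (zz_mem h.ev b) hxV, ?_⟩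
      have h6 : zz ε a * x = x * zz ε a := h.ev.comm_mem (zz_mem h.ev a) hxV
      have h5 : zz ε b * x * zz ε a ^ (t + 1) = rr ε b a * (x * zz ε a ^ t) := by
        unfold rr
        calc zz ε b * x * zz ε a ^ (t + 1) = zz ε b * (x * zz ε a) * zz ε a ^ t := by
              rw [pow_succ']; group
          _ = zz ε b * (zz ε a * x) * zz ε a ^ t := by rw [h6]
          _ = _ := by group
      rw [h5]
      refine mul_mem ?_ hxA
      by_cases hba : b = a
      · rw [hba]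
        have : rr ε a a = 1 := zz_sq h.ev a
        rw [this]
        exact one_mem _
      · exact hR (rr_mem_RC' h hD ⟨hD.ij, h1.symm, hai.symm, h3.symm, haj.symm, hba⟩))
    obtain ⟨-, h3⟩ := h1
    have h4 : zz ε a ^ (n - 2) = zz ε a := by
      obtain ⟨t, ht⟩ := h.odd
      have h5 : n - 2 = 2 * (t - 1) + 1 := by have := h.n5; omega
      rw [h5, pow_succ, pow_mul, pow_two, zz_sq h.ev, one_pow, one_mul]
    rw [h4] at h3
    have h5 := mul_mem (inv_mem hr) h3
    rwa [inv_mul_cancel_left] at h5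
  unfold UU
  rw [closure_le]
  rintro x ⟨g, hg, a, hai, haj, rfl⟩
  exact hN g hg _ (hz a hai haj)

/-- `C_B(U_ij) = C_B(⟨r_kl ^ N_ij⟩)` for `B` in `C_G(V)` -/
theorem cen_RC (h : Hyp V P ε) (hD : D4 i j k l) {B : Subgroup G} (hB : B ≤ UU ε k l) :
    B ⊓ centralizer (RC ε i j k l : Set G) = B ⊓ centralizer (UU ε i j : Set G) := by
  apply le_antisymm
  · intro b hb
    refine ⟨hb.1, mem_centralizer_iff.2 fun u hu => ?_⟩
    have h1 := UU_le h hD hu
    have h2 : RC ε i j k l ⊔ zpowers (rr ε i j) ≤ centralizer ({b} : Set G) := by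
      rw [sup_le_iff]
      constructor
      · intro x hx
        rw [mem_centralizer_singleton_iff]
        exact mem_centralizer_iff.1 hb.2 x hx
      · rw [zpowers_le, mem_centralizer_singleton_iff]
        exact (Fr.Kr (h.UK hD.kl (hB hb.1)) i j).symm
    exact mem_centralizer_singleton_iff.1 (h2 h1)
  · exact inf_le_inf_left _ (centralizer_le (RC_le hD))

variable [Finite G]

/-! ### A Sylow 2-subgroup of `N_ij` in `N_kl` -/

omit [Finite G] in
theorem rr_inj (h : Hyp V P ε) {a b c d : Fin n} (hab : a ≠ b) (hcd : c ≠ d) (he : rr ε a b = rr ε c d) :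
    ({a, b} : Finset (Fin n)) = {c, d} := by
  have h1 : ε (Pi.single a 1 + Pi.single b 1) = ε (Pi.single c 1 + Pi.single d 1) := by
    rw [h.ev.add, h.ev.add]; exact he
  have hval : ∀ (a b x : Fin n), a ≠ b → ((Pi.single a 1 + Pi.single b 1 : Fin n → ZMod 2) x = 1 ↔ x = a ∨ x = b) := by
    intro a b x hab
    rw [Pi.add_apply]
    by_cases hxa : x = a
    · subst hxa
      rw [Pi.single_eq_same, Pi.single_eq_of_ne hab]
      simp
    by_cases hxb : x = b
    · subst hxb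
      rw [Pi.single_eq_same, Pi.single_eq_of_ne hxa]
      simp
    rw [Pi.single_eq_of_ne hxa, Pi.single_eq_of_ne hxb]
    simp [hxa, hxb]
  rw [h.ev.eq_iff] at h1
  rcases h1 with h1 | h1
  · ext x
    rw [Finset.mem_insert, Finset.mem_singleton, Finset.mem_insert, Finset.mem_singleton, ← hval a b x hab,
      ← hval c d x hcd, h1]
  · exfalso
    obtain ⟨x, h2, h3, h4, h5⟩ := exists_fifth h.n5 a b c d
    have h6 := congrFun h1 x
    rw [Pi.add_apply, Pi.add_apply, Pi.add_apply, Pi.single_eq_of_ne h2, Pi.single_eq_of_ne h3,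
      Pi.single_eq_of_ne h4, Pi.single_eq_of_ne h5, Pi.one_apply] at h6
    simp at h6

/-- the number of pairs outside `i j` is odd -/
theorem odd_choose {m : ℕ} (hm : 2 ≤ m) : ¬ 2 ∣ (2 ^ m + 1 - 2).choose 2 := by
  obtain ⟨t, rfl⟩ := Nat.exists_eq_add_of_le hm
  obtain ⟨q, hq⟩ : ∃ q, q + 1 = 2 ^ t := ⟨2 ^ t - 1, Nat.sub_add_cancel Nat.one_le_two_pow⟩
  have h1 : 2 ^ (2 + t) + 1 - 2 = 4 * q + 3 := by rw [pow_add, ← hq]; omega
  rw [h1, Nat.choose_two_right]
  have h2 : (4 * q + 3) * (4 * q + 3 - 1) / 2 = (4 * q + 3) * (2 * q + 1) := by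
    have h3 : (4 * q + 3) * (4 * q + 3 - 1) = 2 * ((4 * q + 3) * (2 * q + 1)) := by
      have h4 : 4 * q + 3 - 1 = 2 * (2 * q + 1) := by omega
      rw [h4]; ring
    rw [h3, Nat.mul_div_cancel_left _ two_pos]
  rw [h2]
  intro hd
  rcases (Nat.Prime.dvd_mul Nat.prime_two).1 hd with h3 | h3 <;> omega

theorem exists_syl {m : ℕ} (hm : 2 ≤ m) {ε : (Fin (2 ^ m + 1) → ZMod 2) → G} (h : Hyp V P ε)
    {i j : Fin (2 ^ m + 1)} (hij : i ≠ j) {T₀ : Subgroup G} (hTP : T₀ ≤ P) (hTN : T₀ ≤ NN ε i j)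
    (h2 : IsPGroup 2 T₀) (ho : ¬ 2 ∣ T₀.relIndex (NN ε i j)) {k l : Fin (2 ^ m + 1)} (hD : D4 i j k l) :
    ∃ T : Subgroup G, T ≤ NN ε i j ∧ T ≤ NN ε k l ∧ IsPGroup 2 T ∧ ¬ 2 ∣ T.relIndex (NN ε i j) := by
  classical
  -- the set of pairs outside `i j`
  let PS : Finset (Finset (Fin (2 ^ m + 1))) := (Finset.univ \ {i, j}).powersetCard 2
  let f : Finset (Fin (2 ^ m + 1)) → G := fun s => ε (∑ a ∈ s, Pi.single a 1)
  have hf : ∀ a b, a ≠ b → f {a, b} = rr ε a b := by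
    intro a b hab
    change ε (∑ a ∈ {a, b}, Pi.single a 1) = _
    rw [Finset.sum_pair hab, h.ev.add]
    rfl
  have hPS : ∀ s, s ∈ PS ↔ ∃ a b, D4 i j a b ∧ s = {a, b} := by
    intro s
    rw [Finset.mem_powersetCard, Finset.card_eq_two]
    constructor
    · rintro ⟨hs, a, b, hab, rfl⟩
      have ha := hs (Finset.mem_insert_self a {b})
      have hb := hs (Finset.mem_insert_of_mem (Finset.mem_singleton_self b))
      simp only [Finset.mem_sdiff, Finset.mem_univ, true_and, Finset.mem_insert, Finset.mem_singleton,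
        not_or] at ha hb
      exact ⟨a, b, ⟨hij, Ne.symm ha.1, Ne.symm hb.1, Ne.symm ha.2, Ne.symm hb.2, hab⟩, rfl⟩
    · rintro ⟨a, b, hab, rfl⟩
      refine ⟨?_, a, b, hab.kl, rfl⟩
      intro x hx
      rw [Finset.mem_insert, Finset.mem_singleton] at hx
      simp only [Finset.mem_sdiff, Finset.mem_univ, true_and, Finset.mem_insert, Finset.mem_singleton, not_or]
      rcases hx with rfl | rfl
      · exact ⟨hab.ik.symm, hab.jk.symm⟩
      · exact ⟨hab.il.symm, hab.jl.symm⟩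
  have hinj : Set.InjOn f PS := by
    intro s hs s' hs' he
    obtain ⟨a, b, hab, rfl⟩ := (hPS s).1 hs
    obtain ⟨c, d, hcd, rfl⟩ := (hPS s').1 hs'
    rw [hf a b hab.kl, hf c d hcd.kl] at he
    exact rr_inj h hab.kl hcd.kl he
  let X : Finset G := PS.image f
  have hX : ∀ x, x ∈ X ↔ ∃ a b, D4 i j a b ∧ x = rr ε a b := by
    intro x
    rw [Finset.mem_image]
    constructor
    · rintro ⟨s, hs, rfl⟩
      obtain ⟨a, b, hab, rfl⟩ := (hPS s).1 hs
      exact ⟨a, b, hab, hf a b hab.kl⟩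
    · rintro ⟨a, b, hab, rfl⟩
      exact ⟨{a, b}, (hPS _).2 ⟨a, b, hab, rfl⟩, hf a b hab.kl⟩
  have hcard : X.card = (2 ^ m + 1 - 2).choose 2 := by
    rw [Finset.card_image_of_injOn hinj, Finset.card_powersetCard, Finset.card_sdiff_of_subset
      (Finset.subset_univ _), Finset.card_univ, Fintype.card_fin, Finset.card_pair hij]
  -- `T₀` acts on it
  have hmv : ∀ t ∈ T₀, ∀ x ∈ X, t * x * t⁻¹ ∈ X := by
    intro t ht x hx
    obtain ⟨a, b, hab, rfl⟩ := (hX x).1 hx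
    obtain ⟨σ, hσ⟩ := h.ev.perm t (hTP ht)
    have h1 := mem_NN'.1 (hTN ht)
    rw [rr_conj hσ] at h1
    have h3 := rr_inj h (fun h4 => hij (σ.injective h4)) hij h1
    have hne : ∀ c, i ≠ c → j ≠ c → i ≠ σ c ∧ j ≠ σ c := by
      intro c hic hjc
      have hi : i ∈ ({σ i, σ j} : Finset _) := by rw [h3]; exact Finset.mem_insert_self _ _
      have hj : j ∈ ({σ i, σ j} : Finset _) := by
        rw [h3]; exact Finset.mem_insert_of_mem (Finset.mem_singleton_self _)
      rw [Finset.mem_insert, Finset.mem_singleton] at hi hj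
      constructor
      · rintro rfl
        rcases hi with hi | hi
        · exact hic (σ.injective hi).symm
        · exact hjc (σ.injective hi).symm
      · rintro rfl
        rcases hj with hj | hj
        · exact hic (σ.injective hj).symm
        · exact hjc (σ.injective hj).symm
    rw [rr_conj hσ]
    refine (hX _).2 ⟨σ a, σ b, ⟨hij, (hne a hab.ik hab.jk).1, (hne b hab.il hab.jl).1, (hne a hab.ik hab.jk).2,
      (hne b hab.il hab.jl).2, fun h4 => hab.kl (σ.injective h4)⟩, rfl⟩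
  let act : MulAction T₀ X :=
    { smul := fun t x => ⟨(t : G) * x * (t : G)⁻¹, hmv t t.2 x x.2⟩
      one_smul := fun x => Subtype.ext (by change (1 : G) * x * (1 : G)⁻¹ = x; group)
      mul_smul := fun s t x => Subtype.ext (by
        change ((s : G) * t) * x * ((s : G) * t)⁻¹ = (s : G) * (t * x * (t : G)⁻¹) * (s : G)⁻¹
        group) }
  have hp : Fact (Nat.Prime 2) := ⟨Nat.prime_two⟩
  have h3 := h2.nonempty_fixed_point_of_prime_not_dvd_card X (by
    rw [Nat.card_eq_fintype_card, Fintype.card_coe, hcard]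
    exact odd_choose hm)
  obtain ⟨⟨x, hx⟩, hfx⟩ := h3
  obtain ⟨a, b, hab, rfl⟩ := (hX x).1 hx
  have hTa : T₀ ≤ NN ε a b := by
    intro t ht
    rw [mem_NN']
    exact congrArg Subtype.val (hfx ⟨t, ht⟩)
  obtain ⟨p, -, σ, hpσ, h4, h5, h6, h7⟩ := exists_mv h hab hD
  refine ⟨cj p T₀, ?_, ?_, ?_, ?_⟩
  · intro x hx
    have h8 := conj_NN hpσ (hTN (mem_cj.1 hx))
    rw [h4, h5] at h8
    have h9 : p * (p⁻¹ * x * p) * p⁻¹ = x := by group
    rwa [h9] at h8
  · intro x hx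
    have h8 := conj_NN hpσ (hTa (mem_cj.1 hx))
    rw [h6, h7] at h8
    have h9 : p * (p⁻¹ * x * p) * p⁻¹ = x := by group
    rwa [h9] at h8
  · rw [IsPGroup.iff_card] at h2 ⊢
    obtain ⟨r, hr⟩ := h2
    exact ⟨r, by rw [card_cj, hr]⟩
  · have hle : cj p T₀ ≤ NN ε i j := by
      intro x hx
      have h8 := conj_NN hpσ (hTN (mem_cj.1 hx))
      rw [h4, h5] at h8
      have h9 : p * (p⁻¹ * x * p) * p⁻¹ = x := by group
      rwa [h9] at h8
    have key : ∀ T : Subgroup G, T ≤ NN ε i j → Nat.card T * T.relIndex (NN ε i j) = Nat.card (NN ε i j) := by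
      intro T hT
      have h8 := relIndex_mul_relIndex ⊥ T (NN ε i j) bot_le hT
      simp only [relIndex_bot_left] at h8
      exact h8
    have h8 := key _ hle
    rw [← key _ hTN, card_cj] at h8
    have h9 : (cj p T₀).relIndex (NN ε i j) = T₀.relIndex (NN ε i j) :=
      Nat.eq_of_mul_eq_mul_left Nat.card_pos h8
    rw [h9]
    exact ho

/-! ### (ML) -/

/-- **no over-offender** -/
theorem noOver (h : Hyp V P ε) (hML : MLK.{u, u}) (hK : IsKGroup ↥(NN ε i j)) (hD : D4 i j k l)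
    {T : Subgroup G} (hTi : T ≤ NN ε i j) (hTk : T ≤ NN ε k l) (hT2 : IsPGroup 2 T)
    (hTo : ¬ 2 ∣ T.relIndex (NN ε i j)) {B : Subgroup G} (hB : B ≤ UU ε k l) :
    Nat.card B * Nat.card ↥(UU ε i j ⊓ centralizer (B : Set G)) ≤
      Nat.card (UU ε i j) * Nat.card ↥(B ⊓ centralizer (UU ε i j : Set G)) := by
  rw [relIndex_le_iff]
  have hUsq : ∀ x ∈ RC ε i j k l, x * x = 1 := fun x hx => h.Usq hD.ij (RC_le hD hx)
  have hQN : UU ε k l ≤ NN ε i j := (h.UQ hD.kl).trans (h.Q_le hD)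
  have D : GDat (NN ε i j) (RC ε i j k l) ⊥ T (UU ε k l) B (rr ε k l) :=
    { nW := norm_of fun g hg x hx => RC_conj hg hx
      nY := norm_of fun g hg x hx => by
        rw [mem_bot] at hx ⊢
        rw [hx]; group
      YW := bot_le
      WY := norm_of fun g hg x hx => by
        rw [mem_bot] at hx ⊢
        rw [hx]; group
      sq := fun x hx => by rw [mem_bot]; exact hUsq x hx
      mem := rr_mem_RC
      gen := fun U hU _ hN => by
        unfold RC
        rw [closure_le]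
        rintro x ⟨g, hg, rfl⟩
        exact (mem_normalizer_iff.1 (hN hg) _).1 hU
      TC := hTi
      two := hT2
      odd := hTo
      fixT := fun t ht => by
        rw [mem_bot, mem_NN'.1 (hTk ht), mul_inv_cancel]
      QC := hQN
      Q2 := (MinSimple.VModule.o2_isPGroup (NN ε k l)).to_le (h.UQ hD.kl)
      fixQ := fun q hq => by
        rw [mem_bot, mem_NN'.1 (MinSimple.VModule.o2_le _ (h.UQ hD.kl hq)), mul_inv_cancel]
      nrmQ := fun g _ hg q hq => by
        rw [mem_bot, mul_inv_eq_one] at hg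
        exact UU_normal (mem_NN'.2 hg) hq
      AQ := hB
      Asq := fun a ha x _ => by
        have h1 : a * a = 1 := h.Usq hD.kl (hB ha)
        rw [mem_bot]
        have h2 : a * (a * x * a⁻¹) * a⁻¹ * x⁻¹ = (a * a) * x * (a * a)⁻¹ * x⁻¹ := by group
        rw [h2, h1]; group }
  have key := hML.grp hK D (KA := B ⊓ centralizer (RC ε i j k l : Set G))
    (CW := RC ε i j k l ⊓ centralizer (B : Set G)) (by
      intro a
      rw [mem_inf, mem_centralizer_iff]
      refine and_congr Iff.rfl (forall₂_congr fun x _ => ?_)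
      rw [mem_bot, mul_inv_eq_one, mul_inv_eq_iff_eq_mul]
      exact eq_comm) (by
      intro x
      rw [mem_inf, mem_centralizer_iff]
      refine and_congr Iff.rfl (forall₂_congr fun a _ => ?_)
      rw [mem_bot, mul_inv_eq_one, mul_inv_eq_iff_eq_mul])
  have e1 : (B ⊓ centralizer (RC ε i j k l : Set G)).relIndex B = (centralizer (UU ε i j : Set G)).relIndex B := by
    rw [cen_RC h hD hB, inf_relIndex_left]
  have e2 : (RC ε i j k l ⊓ centralizer (B : Set G)).relIndex (RC ε i j k l) ≤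
      (centralizer (B : Set G)).relIndex (UU ε i j) := by
    rw [inf_relIndex_left]
    exact relIndex_le_of_le_right (RC_le hD) index_ne_zero_of_finite
  rw [e1] at key
  exact key.trans e2

/-- `|A : C_A(U)| = |U : C_U(A)|` -/
theorem swap_card (h : Hyp V P ε) (hD : D4 i j k l) :
    Nat.card (UU ε i j) = Nat.card (UU ε k l) ∧
      Nat.card ↥(UU ε i j ⊓ centralizer (UU ε k l : Set G)) =
        Nat.card ↥(UU ε k l ⊓ centralizer (UU ε i j : Set G)) := by
  obtain ⟨p, -, hp⟩ := h.ev.full (Equiv.swap i k * Equiv.swap j l)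
  have t1 : (Equiv.swap i k * Equiv.swap j l) i = k := by
    rw [Equiv.Perm.mul_apply, Equiv.swap_apply_of_ne_of_ne hD.ij hD.il, Equiv.swap_apply_left]
  have t2 : (Equiv.swap i k * Equiv.swap j l) j = l := by
    rw [Equiv.Perm.mul_apply, Equiv.swap_apply_left, Equiv.swap_apply_of_ne_of_ne hD.il.symm hD.kl.symm]
  have t3 : (Equiv.swap i k * Equiv.swap j l) k = i := by
    rw [Equiv.Perm.mul_apply, Equiv.swap_apply_of_ne_of_ne hD.jk.symm hD.kl, Equiv.swap_apply_right]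
  have t4 : (Equiv.swap i k * Equiv.swap j l) l = j := by
    rw [Equiv.Perm.mul_apply, Equiv.swap_apply_right, Equiv.swap_apply_of_ne_of_ne hD.ij.symm hD.jk]
  have e1 : ∀ {a b c d : Fin n}, (Equiv.swap i k * Equiv.swap j l) a = c → (Equiv.swap i k * Equiv.swap j l) b = d →
      cj p (UU ε a b) = UU ε c d := by
    intro a b c d hac hbd
    ext x
    rw [mem_cj]
    constructor
    · intro hx
      have h1 := UU_conj hp hx
      rw [hac, hbd] at h1
      have h2 : p * (p⁻¹ * x * p) * p⁻¹ = x := by group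
      rwa [h2] at h1
    · intro hx
      have h1 := UU_conj hp.inv hx
      rw [← hac, ← hbd] at h1
      have e : ∀ m, (Equiv.swap i k * Equiv.swap j l)⁻¹ ((Equiv.swap i k * Equiv.swap j l) m) = m := fun m =>
        Equiv.symm_apply_apply _ m
      rw [e, e, inv_inv] at h1
      exact h1
  have e2 := e1 t1 t2
  have e3 := e1 t3 t4
  constructor
  · rw [← e2, card_cj]
  · rw [← card_cj p, cj_inf, cj_centralizer, e2, e3]

/-- **`A = UU ε k l` is a best offender on every `W ≤ UU ε i j`** -/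
theorem best (h : Hyp V P ε) (hML : MLK.{u, u}) (hK : IsKGroup ↥(NN ε i j)) (hD : D4 i j k l)
    {T : Subgroup G} (hTi : T ≤ NN ε i j) (hTk : T ≤ NN ε k l) (hT2 : IsPGroup 2 T)
    (hTo : ¬ 2 ∣ T.relIndex (NN ε i j)) {W : Subgroup G} (hW : W ≤ UU ε i j) {B : Subgroup G} (hB : B ≤ UU ε k l) :
    Nat.card B * Nat.card ↥(W ⊓ centralizer (B : Set G)) ≤
      Nat.card (UU ε k l) * Nat.card ↥(W ⊓ centralizer (UU ε k l : Set G)) := by
  set U := UU ε i j with hU
  set A := UU ε k l with hA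
  -- `W₀ = C_W(B)`, `X = W₀ C_U(A) ≤ C_U(B)`
  set W₀ := W ⊓ centralizer (B : Set G) with hW₀
  set X := W₀ ⊔ (U ⊓ centralizer (A : Set G)) with hX
  have hcomm : U ⊓ centralizer (A : Set G) ≤ centralizer (W₀ : Set G) := fun x hx =>
    mem_centralizer_iff.2 fun y hy => h.Uab hD.ij (hW hy.1) hx.1
  have hXle : X ≤ U ⊓ centralizer (B : Set G) :=
    sup_le (inf_le_inf_right _ hW) (inf_le_inf_left _ (centralizer_le hB))
  have h1 := Cfsg.Agent.PLocal.ElemAbSup.card_sup_mul_card_inf hcomm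
  have h2 : W₀ ⊓ (U ⊓ centralizer (A : Set G)) = W ⊓ centralizer (A : Set G) := by
    apply le_antisymm
    · exact le_inf (inf_le_left.trans inf_le_left) (inf_le_right.trans inf_le_right)
    · exact le_inf (le_inf inf_le_left (inf_le_right.trans (centralizer_le hB)))
        (le_inf (inf_le_left.trans hW) inf_le_right)
  rw [h2] at h1
  have h3 := noOver h hML hK hD hTi hTk hT2 hTo hB
  obtain ⟨h4, h5⟩ := swap_card h hD
  have h6 : Nat.card X ≤ Nat.card ↥(U ⊓ centralizer (B : Set G)) := Subgroup.card_le_of_le hXle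
  have h7 : Nat.card ↥(B ⊓ centralizer (U : Set G)) ≤ Nat.card ↥(A ⊓ centralizer (U : Set G)) :=
    Subgroup.card_le_of_le (inf_le_inf_right _ hB)
  have h8 : 0 < Nat.card ↥(U ⊓ centralizer (A : Set G)) := Nat.card_pos
  refine Nat.le_of_mul_le_mul_right ?_ h8
  calc Nat.card B * Nat.card W₀ * Nat.card ↥(U ⊓ centralizer (A : Set G))
      = Nat.card B * (Nat.card X * Nat.card ↥(W ⊓ centralizer (A : Set G))) := by rw [h1, mul_assoc]
    _ ≤ Nat.card B * (Nat.card ↥(U ⊓ centralizer (B : Set G)) * Nat.card ↥(W ⊓ centralizer (A : Set G))) :=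
        Nat.mul_le_mul_left _ (Nat.mul_le_mul_right _ h6)
    _ = (Nat.card B * Nat.card ↥(U ⊓ centralizer (B : Set G))) * Nat.card ↥(W ⊓ centralizer (A : Set G)) := by
        rw [mul_assoc]
    _ ≤ (Nat.card U * Nat.card ↥(B ⊓ centralizer (U : Set G))) * Nat.card ↥(W ⊓ centralizer (A : Set G)) :=
        Nat.mul_le_mul_right _ h3
    _ ≤ (Nat.card U * Nat.card ↥(A ⊓ centralizer (U : Set G))) * Nat.card ↥(W ⊓ centralizer (A : Set G)) :=
        Nat.mul_le_mul_right _ (Nat.mul_le_mul_left _ h7)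
    _ = Nat.card A * Nat.card ↥(W ⊓ centralizer (A : Set G)) * Nat.card ↥(U ⊓ centralizer (A : Set G)) := by
        rw [h4, ← h5]; ring

/-- **`A = UU ε k l` centralises `W` or is an offender on `W`**, for every `W ≤ UU ε i j` -/
theorem offM (h : Hyp V P ε) (hML : MLK.{u, u}) (hK : IsKGroup ↥(NN ε i j)) (hD : D4 i j k l)
    {T : Subgroup G} (hTi : T ≤ NN ε i j) (hTk : T ≤ NN ε k l) (hT2 : IsPGroup 2 T)
    (hTo : ¬ 2 ∣ T.relIndex (NN ε i j)) {W : Subgroup G} (hW : W ≤ UU ε i j) :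
    UU ε k l ≤ centralizer (W : Set G) ∨ OffM W (UU ε k l) := by
  by_cases hc : UU ε k l ≤ centralizer (W : Set G)
  · exact Or.inl hc
  right
  refine ⟨⟨fun a ha => ?_, fun a ha b hb => ?_⟩, hc, ?_⟩
  · rw [pow_two, h.Usq hD.kl ha]; exact one_mem _
  · have h1 : a * b * a⁻¹ * b⁻¹ = 1 := by rw [h.Uab hD.kl ha hb]; group
    rw [h1]; exact one_mem _
  · have h1 := best h hML hK hD hTi hTk hT2 hTo hW (B := UU ε k l ⊓ centralizer (W : Set G)) inf_le_left
    have h2 : W ⊓ centralizer ((UU ε k l ⊓ centralizer (W : Set G) : Subgroup G) : Set G) = W :=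
      inf_eq_left.2 fun x hx => mem_centralizer_iff.2 fun y hy => (mem_centralizer_iff.1 hy.2 x hx).symm
    rw [h2, mul_comm] at h1
    exact h1

end Cfsg.Agent.Omega.NSix.HTwo.Off

end

section


/-!
# (5) and (7) of #18323 (helper480): `(H2)` of node N6, over the frame `Fr`

`Un U i j y`: `y ∈ U_ij` centralises all `U_kl`, `kl` disjoint from `ij` (`y ∈ U^*`).
* `star` (5): `[y, U_ik] ≤ V`;
* `star_e`: in fact `[y, x] = ε f` with `f i = f j = f k` for `x ∈ U_ik`;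
* `Cz`: `y` centralises `W_kl ∩ C(V)` for all `kl` disjoint from `ij` (all functionals of `W_p^0` vanish on `y`);
* `seven` (7): `Un` and `Cz` imply `y ∈ V`.
-/

set_option autoImplicit false
set_option linter.unusedSectionVars false

namespace Cfsg.Agent.Omega.NSix.HTwo.Star

open Subgroup Cfsg.Agent.Omega.S5.Def Cfsg.Agent.Omega.NSix.Base
open Cfsg.Agent.Omega.NSix.Engine Cfsg.Agent.Omega.NSix.Engine.Fr
open Cfsg.Agent.Omega.TTn.Di (cm cj cj_mul cj_inv cj_cj cj_one cj_eq_of_comm comm_of_cj cj_eq_cm cm_eq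
  cm_one_iff cm_eq')

universe u

variable {G : Type u} [Group G] {n : ℕ}
  {ε : (Fin n → ZMod 2) → G} {U W Q : Fin n → Fin n → Subgroup G} {w : Fin n → Fin n → G}
  (F : Fr ε U W Q w) {i j k l m : Fin n}

/-- `y ∈ U_ij` centralises the `U_kl`, `kl` disjoint from `ij` -/
def Un (U : Fin n → Fin n → Subgroup G) (i j : Fin n) (y : G) : Prop :=
  y ∈ U i j ∧ ∀ k l, D4 i j k l → Cen U y k l

/-- `y` centralises the `W_kl ∩ C(V)`, `kl` disjoint from `ij` -/
def Cz (ε : (Fin n → ZMod 2) → G) (W : Fin n → Fin n → Subgroup G) (i j : Fin n) (y : G) : Prop :=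
  ∀ k l, D4 i j k l → ∀ c ∈ W k l, c ∈ KK ε → c * y = y * c

theorem Un.mul {x y : G} (hx : Un U i j x) (hy : Un U i j y) : Un U i j (x * y) :=
  ⟨mul_mem hx.1 hy.1, fun k l hD u hu => by
    rw [mul_assoc, hy.2 k l hD u hu, ← mul_assoc, hx.2 k l hD u hu, mul_assoc]⟩

theorem Un.inv {x : G} (hx : Un U i j x) : Un U i j x⁻¹ :=
  ⟨inv_mem hx.1, fun k l hD u hu => by
    have h1 : Commute x u := hx.2 k l hD u hu
    exact h1.inv_left⟩

theorem Cz.mul {x y : G} (hx : Cz ε W i j x) (hy : Cz ε W i j y) : Cz ε W i j (x * y) :=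
  fun k l hD c hc hK => by
    rw [← mul_assoc, hx k l hD c hc hK, mul_assoc, hy k l hD c hc hK, ← mul_assoc]

include F

theorem un_e (hij : i ≠ j) {f : Fin n → ZMod 2} (hf : f i = f j) : Un U i j (ε f) :=
  ⟨(F.eU hij f).2 hf, fun _ _ hD u hu => (Ke (F.UK hD.kl hu) f).symm⟩

theorem cz_e (f : Fin n → ZMod 2) : Cz ε W i j (ε f) := fun _ _ _ _ _ hK => Ke hK f

/-- **(5)**: `[U^*, U_ik] ≤ V` -/
theorem star (hC : ThC ε U) (hij : i ≠ j) {y : G} (hy : Un U i j y) (hki : k ≠ i) (hkj : k ≠ j) {x : G}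
    (hx : x ∈ U i k) : ∃ f : Fin n → ZMod 2, cm y x = ε f := by
  set z := cj (w j k) x with hz
  have hzU : z ∈ U i j := F.w2' hij hki hkj hx
  have e : cm y x = be w j k y z := by
    unfold be
    rw [hz, F.cj_w_w hkj.symm (F.UK hki.symm hx)]
  have hb := F.be_lab hij hki hkj hy.1 hzU
  rw [e]
  obtain ⟨f, -, -, hf⟩ := F.four_all hC hij hb.1 fun l hli hlj => by
    intro u hu
    rcases eq_or_ne l k with rfl | hlk
    · exact F.Uab hki.symm _ hb.2 u hu
    have hD : D4 i j k l := ⟨hij, hki.symm, hli.symm, hkj.symm, hlj.symm, hlk.symm⟩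
    have hb' := F.be_lab hij hli hlj hy.1 hzU
    have hg : ga w i j k l y z = 1 := by
      have h1 : cj (w j l) z ∈ U i l := F.w1' hij hli hlj hzU
      have h2 : cj (w i k) (cj (w j l) z) ∈ U k l := F.w1 hD.ik hli hlk h1
      exact cm_one_iff.2 (hy.2 k l hD _ h2)
    obtain ⟨f, -, -, -, h3⟩ := F.gam hD hy.1 hzU
    rw [hg, mul_one] at h3
    -- `b_k b_l ε f ∈ U i l`
    have h4 : be w j k y z * ε f ∈ U i l := by
      have h5 := mul_mem h3 (inv_mem hb'.2)
      have h6 : be w j k y z * be w j l y z * ε f * (be w j l y z)⁻¹ = be w j k y z * ε f := by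
        rw [mul_assoc (be w j k y z * be w j l y z), ← Ke (inv_mem (F.UK hij hb'.1)) f]
        group
      rwa [h6] at h5
    have h5 := F.Uab hli.symm _ h4 u hu
    have h6 : u * ε f = ε f * u := Ke (F.UK hli.symm hu) f
    rw [mul_assoc, ← h6, ← mul_assoc, ← mul_assoc] at h5
    exact mul_right_cancel h5
  exact ⟨f, hf⟩

theorem star_e (hC : ThC ε U) (hij : i ≠ j) {y : G} (hy : Un U i j y) (hki : k ≠ i) (hkj : k ≠ j) {x : G}
    (hx : x ∈ U i k) : ∃ f : Fin n → ZMod 2, cm y x = ε f ∧ f i = f j ∧ f i = f k := by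
  obtain ⟨f, hf⟩ := star F hC hij hy hki hkj hx
  refine ⟨f, hf, ?_, ?_⟩
  · exact (F.eU hij f).1 (hf ▸ F.cm_left hij hy.1 (F.UK hki.symm hx))
  · exact (F.eU hki.symm f).1 (hf ▸ F.cm_right hki.symm (F.UK hij hy.1) hx)

/-- the functional of `w_kl` on `U^*` -/
theorem phi (hQ : ∀ {i j k l : Fin n}, D4 i j k l → ∀ y ∈ U i j, Cen U y k l → y ∈ Q k l) (hD : D4 i j k l) {y c : G}
    (hy : Un U i j y) (hc : c ∈ W k l) : cm y c = 1 ∨ cm y c = rr ε k l :=
  F.QW hD.kl y (hQ hD y hy.1 (hy.2 k l hD)) c hc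

omit F in
theorem acts_w (h : Acts ε (w k l) (Equiv.swap k l)) (f : Fin n → ZMod 2) : cj (w k l) (ε f) = ε (f ∘ Equiv.swap k l) := by
  have h1 := h f
  rw [Equiv.symm_swap] at h1
  exact h1

omit F in
/-- `f ∘ (k l) = f + (f k + f l)(e_k + e_l)` -/
theorem comp_swap (hkl : k ≠ l) (f : Fin n → ZMod 2) :
    f ∘ Equiv.swap k l = f + (f k + f l) • (Pi.single k 1 + Pi.single l 1 : Fin n → ZMod 2) := by
  have key : ∀ a b : ZMod 2, b = a + (a + b) := by decide
  funext a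
  rw [Function.comp_apply, Pi.add_apply, Pi.smul_apply, Pi.add_apply, smul_eq_mul]
  rcases eq_or_ne a k with rfl | hk
  · rw [Equiv.swap_apply_left, Pi.single_eq_same, Pi.single_eq_of_ne hkl, add_zero, mul_one]
    exact key _ _
  rcases eq_or_ne a l with rfl | hl
  · rw [Equiv.swap_apply_right, Pi.single_eq_same, Pi.single_eq_of_ne hkl.symm, zero_add, mul_one, add_comm (f k)]
    exact key _ _
  · rw [Equiv.swap_apply_of_ne_of_ne hk hl, Pi.single_eq_of_ne hk, Pi.single_eq_of_ne hl, add_zero,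
      mul_zero, add_zero]

/-- `[ε f, w_kl] = r_kl ^ (f k + f l)` -/
theorem cm_e_w (hkl : k ≠ l) (f : Fin n → ZMod 2) :
    cm (ε f) (w k l) = ε ((f k + f l) • (Pi.single k 1 + Pi.single l 1 : Fin n → ZMod 2)) := by
  have e : cm (ε f) (w k l) = ε f * cj (w k l) (ε f) := by rw [cm_eq', F.einv]
  rw [e, acts_w (F.wA hkl), comp_swap hkl, ← F.add, ← add_assoc, ZModModule.add_self, zero_add]

theorem const_of {f : Fin n → ZMod 2} (h : ∀ a b, f a = f b) : ε f = 1 :=
  F.inter _ fun a b hab => (F.eU hab f).2 (h a b)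

/-- `ε f` fixed by `w_kl` -/
theorem eq_of_fix (hkl : k ≠ l) (hki : k ≠ i) (hli : l ≠ i) {f : Fin n → ZMod 2} (h : cj (w k l) (ε f) = ε f) :
    f k = f l := by
  rw [acts_w (F.wA hkl)] at h
  have h1 : (f ∘ Equiv.swap k l) k = (f ∘ Equiv.swap k l) i ↔ f k = f i := by
    rw [← F.lab_e (i := k) (j := i) (f ∘ Equiv.swap k l), h, F.lab_e]
  rw [Function.comp_apply, Function.comp_apply, Equiv.swap_apply_left,
    Equiv.swap_apply_of_ne_of_ne hki.symm hli.symm] at h1
  have key : ∀ a b c : ZMod 2, (b = c ↔ a = c) → a = b := by decide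
  exact key _ _ _ h1

/-- **(7)** -/
theorem seven (hC : ThC ε U) (hQ : ∀ {i j k l : Fin n}, D4 i j k l → ∀ y ∈ U i j, Cen U y k l → y ∈ Q k l)
    (hij : i ≠ j) (hmi : m ≠ i) (hmj : m ≠ j) {y : G} (hy : Un U i j y) (hz : Cz ε W i j y) : ∃ x, y = ε x := by
  classical
  set a : Fin n → ZMod 2 := fun l => if l = i ∨ l = j ∨ l = m ∨ cm y (w m l) = 1 then 0 else 1 with ha
  have ai : a i = 0 := if_pos (Or.inl rfl)
  have aj : a j = 0 := if_pos (Or.inr (Or.inl rfl))
  have am : a m = 0 := if_pos (Or.inr (Or.inr (Or.inl rfl)))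
  set y' := y * ε a with hy'
  have hyU : Un U i j y' := hy.mul (un_e F hij (ai.trans aj.symm))
  have hyz : Cz ε W i j y' := hz.mul (cz_e F a)
  have hyK : y ∈ KK ε := F.UK hij hy.1
  -- `y'` commutes with `w m l`
  have h1 : ∀ l, l ≠ i → l ≠ j → l ≠ m → w m l * y' = y' * w m l := by
    intro l hli hlj hlm
    have hD : D4 i j m l := ⟨hij, hmi.symm, hli.symm, hmj.symm, hlj.symm, hlm.symm⟩
    have h2 : cm y' (w m l) = 1 := by
      rw [hy', cm_mul_left, cm_e_w F hlm.symm, am, zero_add, cj_eq_of_comm (Ke hyK _)]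
      rcases phi F hQ hD hy (F.wW hlm.symm) with h3 | h3
      · have h4 : a l = 0 := if_pos (Or.inr (Or.inr (Or.inr h3)))
        rw [h3, h4, zero_smul, F.zero, one_mul]
      · have h4 : a l = 1 := if_neg (by
          rw [h3]
          rintro (h | h | h | h)
          · exact hli h
          · exact hlj h
          · exact hlm h
          · rw [F.rr_eq] at h
            have h5 := (F.eU hmi (Pi.single m 1 + Pi.single l 1)).1 (h ▸ one_mem _)
            rw [Pi.add_apply, Pi.add_apply, Pi.single_eq_same, Pi.single_eq_of_ne hlm.symm,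
              Pi.single_eq_of_ne hmi.symm, Pi.single_eq_of_ne hli.symm, add_zero, add_zero] at h5
            exact one_ne_zero h5)
        rw [h3, h4, one_smul, ← F.rr_eq, F.r_sq]
    exact (cm_one_iff.1 h2).symm
  -- `[y', U_ik] = 1`
  have h2 : ∀ k, k ≠ i → k ≠ j → Cen U y' i k := by
    intro k hki hkj x hx
    obtain ⟨f, hf, f1, f2⟩ := star_e F hC hij hyU hki hkj hx
    have hxK : x ∈ KK ε := F.UK hki.symm hx
    have h3 : ∀ l, l ≠ i → l ≠ j → f l = f m := by
      intro l hli hlj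
      rcases eq_or_ne l m with rfl | hlm
      · rfl
      have hD : D4 i j m l := ⟨hij, hmi.symm, hli.symm, hmj.symm, hlj.symm, hlm.symm⟩
      refine (eq_of_fix F hlm.symm hmi hli ?_).symm
      have hcK : cm (w m l) x ∈ KK ε := by
        rw [cm_eq]
        exact mul_mem (F.cjK hlm.symm hxK) (inv_mem hxK)
      have hcW : cm (w m l) x ∈ W m l := by
        rw [cm_eq']
        exact mul_mem (F.wW hlm.symm) (F.KW hlm.symm hxK (inv_mem (F.wW hlm.symm)))
      have e1 : cj (w m l) y' = y' := cj_eq_of_comm (h1 l hli hlj hlm)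
      have e2 : cj (w m l) x = cm (w m l) x * x := cj_eq_cm _ _
      rw [← hf, cj_cm, e1, e2, cm_mul_right, cm_one_iff.2 (hyz m l hD _ hcW hcK).symm, one_mul, hf]
      exact cj_eq_of_comm (Ke hcK f)
    have h4 : ε f = 1 := by
      have h5 : ∀ b, f b = f i := by
        intro b
        rcases eq_or_ne b i with rfl | hbi
        · rfl
        rcases eq_or_ne b j with rfl | hbj
        · exact f1.symm
        · rw [h3 b hbi hbj, f2, h3 k hki hkj]
      exact const_of F fun b c => (h5 b).trans (h5 c).symm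
    rw [h4] at hf
    exact cm_one_iff.1 hf
  obtain ⟨x, -, -, hx⟩ := F.four_all hC hij hyU.1 h2
  refine ⟨x + a, ?_⟩
  rw [F.add, ← hx, hy', mul_assoc, F.esq, mul_one]

end Cfsg.Agent.Omega.NSix.HTwo.Star

end

section


/-!
# (6) of #18323 (helper480): `(H2)` of node N6, over the frame `Fr`

* `step`, `move`: the functionals of `W_kl ∩ C(V)` on `U^*` do not depend on the pair `kl`;
* `six` (6): if `W' ≤ U^*` and `R` has no over-offender on `W'`, `R` containing `W_kl ∩ C(V)` and `W_k'l' ∩ C(V)` for two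
  disjoint pairs, then all these functionals vanish on `W'` (`Cz`);
* `main` (6), (7): under the same hypotheses `W' ≤ V`.
-/

set_option autoImplicit false
set_option linter.unusedSectionVars false

namespace Cfsg.Agent.Omega.NSix.HTwo.Star

open Subgroup Cfsg.Agent.Omega.S5.Def Cfsg.Agent.Omega.NSix.Base
open Cfsg.Agent.Omega.NSix.Engine Cfsg.Agent.Omega.NSix.Engine.Fr
open Cfsg.Agent.Omega.TTn.Di (cm cj cj_mul cj_inv cj_cj cj_one cj_eq_of_comm comm_of_cj cj_eq_cm cm_eq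
  cm_one_iff cm_eq')
open Cfsg.Agent.Omega.FFThm (NoOverM ElemM)

universe u

variable {G : Type u} [Group G] {n : ℕ}
  {ε : (Fin n → ZMod 2) → G} {U W Q : Fin n → Fin n → Subgroup G} {w : Fin n → Fin n → G}
  (F : Fr ε U W Q w) {i j k l m a b : Fin n}

/-- `c` and `c'` have the same functional on `U^*` -/
def Same (U : Fin n → Fin n → Subgroup G) (i j : Fin n) (c c' : G) : Prop :=
  ∀ y, Un U i j y → (cm y c' = 1 ↔ cm y c = 1)

include F

theorem step (hQ : ∀ {i j k l : Fin n}, D4 i j k l → ∀ y ∈ U i j, Cen U y k l → y ∈ Q k l)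
    (hD : D4 i j a b) (hmi : m ≠ i) (hmj : m ≠ j) (hma : m ≠ a) (hmb : m ≠ b) {x : G} (hx : x ∈ W a b)
    (hxK : x ∈ KK ε) : ∃ x' ∈ W a m, x' ∈ KK ε ∧ Same U i j x x' := by
  refine ⟨cj (w b m) x, ?_, F.cjK hmb.symm hxK, fun y hy => ?_⟩
  · have h1 : x ∈ W b a := F.Wsym a b ▸ hx
    have h2 := F.W1 hmb.symm hD.kl hma.symm h1
    rwa [F.Wsym] at h2
  · have hD' : D4 i j b m := ⟨hD.ij, hD.il, hmi.symm, hD.jl, hmj.symm, hmb.symm⟩
    have hxK' : cj (w b m) x ∈ KK ε := F.cjK hmb.symm hxK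
    have hyK : y ∈ KK ε := F.UK hD.ij hy.1
    have key : ∀ e : G, (∃ f, e = ε f) → cj (w b m) y = e * y → cm y (cj (w b m) x) = cj (w b m) (cm y x) := by
      rintro _ ⟨f, rfl⟩ he
      rw [cj_cm, he, cm_mul_left, cm_one_iff.2 (Ke hxK' f).symm, mul_one]
      exact (cj_eq_of_comm (Ke (F.cmK hyK hxK') f).symm).symm
    have h1 : cm y (cj (w b m) x) = cj (w b m) (cm y x) := by
      have e1 : cj (w b m) y = (cm y (w b m))⁻¹ * y := by unfold cj cm; group
      rcases phi F hQ hD' hy (F.wW hmb.symm) with h3 | h3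
      · refine key 1 ⟨0, F.zero.symm⟩ ?_
        rw [e1, h3, inv_one]
      · refine key (rr ε b m) ⟨_, F.rr_eq b m⟩ ?_
        rw [e1, h3, F.r_inv]
    rw [h1]
    constructor
    · intro h2
      have h3 : cj (w b m)⁻¹ (cj (w b m) (cm y x)) = 1 := by rw [h2, cj_one]
      rw [← h3]
      unfold cj
      group
    · intro h2
      rw [h2, cj_one]

theorem move1 (hQ : ∀ {i j k l : Fin n}, D4 i j k l → ∀ y ∈ U i j, Cen U y k l → y ∈ Q k l)
    (hD : D4 i j a b) (hD' : D4 i j a m) {x : G} (hx : x ∈ W a b)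
    (hxK : x ∈ KK ε) : ∃ x' ∈ W a m, x' ∈ KK ε ∧ Same U i j x x' := by
  rcases eq_or_ne m b with rfl | hmb
  · exact ⟨x, hx, hxK, fun _ _ => Iff.rfl⟩
  · exact step F hQ hD hD'.il.symm hD'.jl.symm hD'.kl.symm hmb hx hxK

theorem move (hQ : ∀ {i j k l : Fin n}, D4 i j k l → ∀ y ∈ U i j, Cen U y k l → y ∈ Q k l)
    (hD : D4 i j a b) (hD' : D4 i j k l) {x : G} (hx : x ∈ W a b)
    (hxK : x ∈ KK ε) : ∃ x' ∈ W k l, x' ∈ KK ε ∧ Same U i j x x' := by
  have hx' : x ∈ W b a := F.Wsym a b ▸ hx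
  rcases eq_or_ne k b with rfl | hkb
  · exact move1 F hQ hD.c hD' hx' hxK
  · have hb : D4 i j b k := ⟨hD.ij, hD.il, hD'.ik, hD.jl, hD'.jk, hkb.symm⟩
    obtain ⟨y, hy, hyK, h1⟩ := move1 F hQ hD.c hb hx' hxK
    obtain ⟨z, hz, hzK, h2⟩ := move1 F hQ hb.c hD' (F.Wsym b k ▸ hy) hyK
    exact ⟨z, hz, hzK, fun v hv => (h2 v hv).trans (h1 v hv)⟩

/-- a group of elements of `C(V)` with `[W', A] ≤ V` -/
theorem cm_hom {A : Subgroup G} (hAK : A ≤ KK ε) {y : G} (hA : ∀ c ∈ A, ∃ f, cm y c = ε f) {c d : G}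
    (hc : c ∈ A) (hd : d ∈ A) : cm y (c * d) = cm y c * cm y d := by
  obtain ⟨f, hf⟩ := hA d hd
  rw [cm_mul_right, hf, cj_eq_of_comm (Ke (hAK hc) f)]

theorem elem_of {A W' : Subgroup G} (hAK : A ≤ KK ε) (hA : ∀ y ∈ W', ∀ c ∈ A, ∃ f, cm y c = ε f) :
    ElemM W' A where
  sq := fun c hc => mem_centralizer_iff.2 fun y hy => by
    obtain ⟨f, hf⟩ := hA y hy c hc
    have h1 := cm_hom F hAK (hA y hy) hc hc
    rw [hf, F.esq, ← pow_two] at h1
    exact cm_one_iff.1 h1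
  comm := fun c hc d hd => mem_centralizer_iff.2 fun y hy => by
    obtain ⟨f, hf⟩ := hA y hy c hc
    obtain ⟨g, hg⟩ := hA y hy d hd
    have h1 := cm_hom F hAK (hA y hy) hc hd
    have h2 := cm_hom F hAK (hA y hy) hd hc
    have h3 : c * d * c⁻¹ * d⁻¹ ∈ A := mul_mem (mul_mem (mul_mem hc hd) (inv_mem hc)) (inv_mem hd)
    have h4 := cm_hom F hAK (hA y hy) h3 (mul_mem hd hc)
    have e : c * d * c⁻¹ * d⁻¹ * (d * c) = c * d := by group
    rw [e, h1, h2, hf, hg, F.ecomm g f] at h4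
    exact cm_one_iff.1 (right_eq_mul.1 h4)

theorem cl_cm {A : Set G} {y : G} (hAK : ∀ c ∈ A, c ∈ KK ε) (hA : ∀ c ∈ A, ∃ f, cm y c = ε f) {c : G}
    (hc : c ∈ closure A) : ∃ f, cm y c = ε f := by
  have hK : closure A ≤ KK ε := (closure_le _).2 hAK
  induction hc using closure_induction with
  | mem x hx => exact hA x hx
  | one => exact ⟨0, by rw [F.zero]; unfold cm; group⟩
  | mul x z hx _ h1 h2 =>
    obtain ⟨f, hf⟩ := h1
    obtain ⟨g, hg⟩ := h2
    exact ⟨f + g, by rw [cm_mul_right, hg, cj_eq_of_comm (Ke (hK hx) g), hf, F.add]⟩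
  | inv x hx h1 =>
    obtain ⟨f, hf⟩ := h1
    refine ⟨f, ?_⟩
    have h2 : cm y (x * x⁻¹) = 1 := by rw [mul_inv_cancel]; unfold cm; group
    rw [cm_mul_right, hf] at h2
    have h3 : cj x (cm y x⁻¹) = ε f := by
      rw [← F.einv f]
      exact (eq_inv_of_mul_eq_one_right h2)
    have h4 : cm y x⁻¹ = cj x⁻¹ (ε f) := by rw [← h3]; unfold cj; group
    rw [h4]
    exact cj_eq_of_comm (Ke (inv_mem (hK hx)) f)

/-- **(6)** -/
theorem six [Finite G] (hQ : ∀ {i j k l : Fin n}, D4 i j k l → ∀ y ∈ U i j, Cen U y k l → y ∈ Q k l)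
    {k' l' : Fin n} (hp : D4 i j k l) (hq : D4 i j k' l') (hpq : D4 k l k' l') {W' R : Subgroup G}
    (hW : ∀ y ∈ W', Un U i j y) (hNO : NoOverM W' R)
    (hpR : ∀ c ∈ W k l, c ∈ KK ε → c ∈ R) (hqR : ∀ c ∈ W k' l', c ∈ KK ε → c ∈ R) :
    ∀ y ∈ W', Cz ε W i j y := by
  intro y0 hy0 a b hD c hc hcK
  by_contra hne
  have hne' : cm y0 c ≠ 1 := fun h => hne (cm_one_iff.1 h).symm
  obtain ⟨cp, p1, p2, p3⟩ := move F hQ hD hp hc hcK
  obtain ⟨cq, q1, q2, q3⟩ := move F hQ hD hq hc hcK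
  set A : Subgroup G := closure {cp, cq} with hA
  have hAR : A ≤ R := by
    rw [hA, closure_le]
    rintro x (rfl | rfl)
    · exact hpR _ p1 p2
    · exact hqR _ q1 q2
  have hAK : A ≤ KK ε := by
    rw [hA, closure_le]
    rintro x (rfl | rfl)
    · exact p2
    · exact q2
  have hcp : cp ∈ A := subset_closure (Or.inl rfl)
  have hcq : cq ∈ A := subset_closure (Or.inr rfl)
  have vp : ∀ y ∈ W', cm y cp = 1 ∨ cm y cp = rr ε k l := fun y hy => phi F hQ hp (hW y hy) p1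
  have vq : ∀ y ∈ W', cm y cq = 1 ∨ cm y cq = rr ε k' l' := fun y hy => phi F hQ hq (hW y hy) q1
  have hAV : ∀ y ∈ W', ∀ c ∈ A, ∃ f, cm y c = ε f := by
    intro y hy c hc
    refine cl_cm F (A := {cp, cq}) ?_ ?_ hc
    · rintro x (rfl | rfl)
      · exact p2
      · exact q2
    · rintro x (rfl | rfl)
      · rcases vp y hy with h | h
        · exact ⟨0, by rw [h, F.zero]⟩
        · exact ⟨_, by rw [h, F.rr_eq]⟩
      · rcases vq y hy with h | h
        · exact ⟨0, by rw [h, F.zero]⟩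
        · exact ⟨_, by rw [h, F.rr_eq]⟩
  have h1 := hNO A hAR (elem_of F hAK hAV)
  -- `|W'| ≤ 2 |C_{W'}(A)|`
  have h2 : Nat.card W' ≤ 2 * Nat.card ↥(W' ⊓ centralizer (A : Set G)) := by
    let θ : W' →* G :=
      { toFun := fun y => cm (y : G) cp
        map_one' := by change cm (1 : G) cp = 1; unfold cm; group
        map_mul' := fun y z => by
          change cm ((y : G) * z) cp = cm (y : G) cp * cm (z : G) cp
          have hyK : (y : G) ∈ KK ε := F.UK hp.ij (hW y y.2).1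
          obtain ⟨f, hf⟩ := hAV z z.2 cp hcp
          obtain ⟨g, hg⟩ := hAV y y.2 cp hcp
          rw [cm_mul_left, hf, cj_eq_of_comm (Ke hyK f), hg, F.ecomm] }
    have e1 : Nat.card W' = Nat.card θ.ker * Nat.card θ.range := by
      rw [← Subgroup.card_mul_index θ.ker, Subgroup.index_ker]
    have e2 : Nat.card θ.range ≤ 2 := by
      have h3 : (θ.range : Set G) ⊆ {1, rr ε k l} := by
        rintro _ ⟨y, rfl⟩
        exact vp y y.2
      have h4 := Set.ncard_le_ncard h3 (Set.toFinite _)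
      have h5 : ({1, rr ε k l} : Set G).ncard ≤ 2 := (Set.ncard_insert_le _ _).trans (by rw [Set.ncard_singleton])
      exact h4.trans h5
    have e3 : Nat.card θ.ker ≤ Nat.card ↥(W' ⊓ centralizer (A : Set G)) := by
      refine Nat.card_le_card_of_injective (fun y => ⟨((y : W') : G), ?_⟩) ?_
      · have hy : cm ((y : W') : G) cp = 1 := y.2
        have hU := hW _ (y : W').2
        have hy' : cm ((y : W') : G) cq = 1 := (q3 _ hU).2 ((p3 _ hU).1 hy)
        refine mem_inf.2 ⟨(y : W').2, ?_⟩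
        have h6 : A ≤ centralizer {((y : W') : G)} := by
          rw [hA, closure_le]
          rintro x (rfl | rfl)
          · exact mem_centralizer_singleton_iff.2 (cm_one_iff.1 hy).symm
          · exact mem_centralizer_singleton_iff.2 (cm_one_iff.1 hy').symm
        refine mem_centralizer_iff.2 fun c hc => ?_
        exact mem_centralizer_singleton_iff.1 (h6 hc)
      · intro y z h
        have h7 : ((y : W') : G) = ((z : W') : G) :=
          congrArg (fun t : ↥(W' ⊓ centralizer (A : Set G)) => (t : G)) h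
        exact Subtype.ext (Subtype.ext h7)
    calc Nat.card W' = Nat.card θ.ker * Nat.card θ.range := e1
      _ ≤ Nat.card ↥(W' ⊓ centralizer (A : Set G)) * 2 := Nat.mul_le_mul e3 e2
      _ = _ := mul_comm _ _
  -- `4 |C_A(W')| ≤ |A|`
  have h3 : 4 * Nat.card ↥(A ⊓ centralizer (W' : Set G)) ≤ Nat.card A := by
    let θ : A →* G :=
      { toFun := fun c => cm y0 c
        map_one' := by change cm y0 (1 : G) = 1; unfold cm; group
        map_mul' := fun c d => cm_hom F hAK (hAV y0 hy0) c.2 d.2 }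
    have e1 : Nat.card A = Nat.card θ.ker * Nat.card θ.range := by
      rw [← Subgroup.card_mul_index θ.ker, Subgroup.index_ker]
    have e3 : Nat.card ↥(A ⊓ centralizer (W' : Set G)) ≤ Nat.card θ.ker := by
      refine Nat.card_le_card_of_injective (fun c => ⟨⟨(c : G), c.2.1⟩, ?_⟩) ?_
      · change cm y0 (c : G) = 1
        exact cm_one_iff.2 (mem_centralizer_iff.1 c.2.2 y0 hy0)
      · intro c d h
        exact Subtype.ext (congrArg (fun t => ((t : A) : G)) (congrArg Subtype.val h))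
    have hU0 := hW y0 hy0
    have r1 : rr ε k l ∈ θ.range := by
      refine ⟨⟨cp, hcp⟩, ?_⟩
      exact (vp y0 hy0).resolve_left fun h => hne' ((p3 y0 hU0).1 h)
    have r2 : rr ε k' l' ∈ θ.range := by
      refine ⟨⟨cq, hcq⟩, ?_⟩
      exact (vq y0 hy0).resolve_left fun h => hne' ((q3 y0 hU0).1 h)
    have e2 : 4 ≤ Nat.card θ.range := by
      have s1 : ∀ s : ZMod 2, ε (s • (Pi.single k 1 + Pi.single l 1 : Fin n → ZMod 2)) ∈ θ.range := by
        intro s
        rcases z2c s with rfl | rfl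
        · rw [zero_smul, F.zero]; exact one_mem _
        · rw [one_smul, ← F.rr_eq]; exact r1
      have s2 : ∀ s : ZMod 2, ε (s • (Pi.single k' 1 + Pi.single l' 1 : Fin n → ZMod 2)) ∈ θ.range := by
        intro s
        rcases z2c s with rfl | rfl
        · rw [zero_smul, F.zero]; exact one_mem _
        · rw [one_smul, ← F.rr_eq]; exact r2
      let f : ZMod 2 × ZMod 2 → Fin n → ZMod 2 := fun t =>
        t.1 • (Pi.single k 1 + Pi.single l 1) + t.2 • (Pi.single k' 1 + Pi.single l' 1)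
      have fk : ∀ t, f t k = t.1 := fun t => by
        change t.1 • (Pi.single k 1 + Pi.single l 1 : Fin n → ZMod 2) k +
          t.2 • (Pi.single k' 1 + Pi.single l' 1 : Fin n → ZMod 2) k = t.1
        rw [Pi.add_apply, Pi.add_apply, Pi.single_eq_same, Pi.single_eq_of_ne hpq.ij,
          Pi.single_eq_of_ne hpq.ik, Pi.single_eq_of_ne hpq.il, add_zero, add_zero, smul_zero, add_zero,
          smul_eq_mul, mul_one]
      have fk' : ∀ t, f t k' = t.2 := fun t => by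
        change t.1 • (Pi.single k 1 + Pi.single l 1 : Fin n → ZMod 2) k' +
          t.2 • (Pi.single k' 1 + Pi.single l' 1 : Fin n → ZMod 2) k' = t.2
        rw [Pi.add_apply, Pi.add_apply, Pi.single_eq_same, Pi.single_eq_of_ne hpq.kl,
          Pi.single_eq_of_ne hpq.ik.symm, Pi.single_eq_of_ne hpq.jk.symm, add_zero, add_zero, smul_zero, zero_add,
          smul_eq_mul, mul_one]
      have fi : ∀ t, f t i = 0 := fun t => by
        change t.1 • (Pi.single k 1 + Pi.single l 1 : Fin n → ZMod 2) i +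
          t.2 • (Pi.single k' 1 + Pi.single l' 1 : Fin n → ZMod 2) i = 0
        rw [Pi.add_apply, Pi.add_apply, Pi.single_eq_of_ne hp.ik, Pi.single_eq_of_ne hp.il,
          Pi.single_eq_of_ne hq.ik, Pi.single_eq_of_ne hq.il, add_zero, smul_zero, smul_zero, add_zero]
      have inj : Function.Injective fun t => (⟨ε (f t), by
          change ε (t.1 • (Pi.single k 1 + Pi.single l 1) + t.2 • (Pi.single k' 1 + Pi.single l' 1)) ∈ _
          rw [F.add]
          exact mul_mem (s1 _) (s2 _)⟩ : θ.range) := by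
        intro s t h
        have h4 : ε (f s) = ε (f t) := congrArg Subtype.val h
        have h5 : ∀ x, f s x = f s i ↔ f t x = f t i := by
          intro x
          rw [← F.lab_e, ← F.lab_e, h4]
        have h6 := h5 k
        have h7 := h5 k'
        rw [fk, fk, fi, fi] at h6
        rw [fk', fk', fi, fi] at h7
        have key : ∀ a b : ZMod 2, (a = 0 ↔ b = 0) → a = b := by decide
        exact Prod.ext (key _ _ h6) (key _ _ h7)
      have h4 := Nat.card_le_card_of_injective _ inj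
      rwa [Nat.card_prod, Nat.card_zmod] at h4
    calc 4 * Nat.card ↥(A ⊓ centralizer (W' : Set G)) ≤ Nat.card θ.range * Nat.card θ.ker := Nat.mul_le_mul e2 e3
      _ = Nat.card A := by rw [e1, mul_comm]
  have p1 : 0 < Nat.card ↥(A ⊓ centralizer (W' : Set G)) := Nat.card_pos
  have p2 : 0 < Nat.card ↥(W' ⊓ centralizer (A : Set G)) := Nat.card_pos
  set x := Nat.card ↥(A ⊓ centralizer (W' : Set G))
  set y := Nat.card ↥(W' ⊓ centralizer (A : Set G))
  have h4 : 4 * x * y ≤ 2 * y * x := (Nat.mul_le_mul_right y h3).trans (h1.trans (Nat.mul_le_mul_right x h2))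
  have h5 : 0 < x * y := Nat.mul_pos p1 p2
  nlinarith

/-- **(6), (7)** -/
theorem main [Finite G] (hC : ThC ε U)
    (hQ : ∀ {i j k l : Fin n}, D4 i j k l → ∀ y ∈ U i j, Cen U y k l → y ∈ Q k l)
    {k' l' : Fin n} (hp : D4 i j k l) (hq : D4 i j k' l') (hpq : D4 k l k' l') {W' R : Subgroup G}
    (hW : ∀ y ∈ W', Un U i j y) (hNO : NoOverM W' R)
    (hpR : ∀ c ∈ W k l, c ∈ KK ε → c ∈ R) (hqR : ∀ c ∈ W k' l', c ∈ KK ε → c ∈ R) :
    ∀ y ∈ W', ∃ x, y = ε x := fun y hy =>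
  seven F hC hQ hp.ij hp.ik.symm hp.jk.symm (hW y hy) (six F hQ hp hq hpq hW hNO hpR hqR y hy)

end Cfsg.Agent.Omega.NSix.HTwo.Star

end
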