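import Cfsg.Agent.Mrg.Omega.NSix.ThreeA
import Cfsg.Agent.Mrg.Omega.NSix.Zero
import Mathlib
import Cfsg.Agent.Mrg.Omega.NSix.Engine.ThmT

section


/-!
# OMEGA N6 (H2): #16633 (2), (3) in the group

`AM M hc h2` : the elementary abelian 2-subgroup `M` as an `F₂`-space; `HH N` : the automorphisms induced by `N`;
`zt` : the labels `ε` on `V_ij` as a map `ζ : (Λ → ZMod 2) →+ AM (U_ij)`, `Λ` = the letters different from `i`, `j`;
* `dat` : `TL.Dat` from `Engine.Hyp V P ε` and `OneB ε i j` (= (1b) of #16633);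
* `o2_of_irr` : the consequence of `O₂(N_12/C_12) = 1` used in (3) from (IRR) and (1b);
* `no_tv` : **#16633 (3)**: if an element of `N_ij` acts on `U_ij` as a transvection `≠ 1` with centre in
  `V_ij - ⟨r_ij⟩` which kills `V_ij`, then all disjoint `U_ab`, `U_cd` commute.
-/

set_option autoImplicit false
set_option linter.unusedSectionVars false

namespace Cfsg.Agent.Omega.NSix.TLg

open Subgroup Cfsg.Agent.Omega.S5.Def Cfsg.Agent.Omega.NSix.Base Cfsg.Agent.Omega.NSix.Basic
open Cfsg.Agent.Omega.NSix.Tv (z2 z2_one z2_zero z2_add)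
open Cfsg.Agent.Omega.NSix.TL Cfsg.Agent.Omega.NSix.ThreeA
open Cfsg.Agent.Omega.NSix.Engine (D4 KK)

universe u

section abs

variable {Λ : Type*} [Fintype Λ] [DecidableEq Λ]
variable {U : Type*} [AddCommGroup U] [Module (ZMod 2) U]

/-- `O₂(H) = 1` in the form used in (3), from the irreducibility of `U / ⟨ζ 1⟩` and (1b) -/
theorem o2_of_irr {H : Set (U ≃+ U)} {ζ : (Λ → ZMod 2) →+ U} (D : Dat H ζ)
    (irr : ∀ R : AddSubgroup U, (∀ g ∈ H, ∀ r ∈ R, g r ∈ R) → ζ 1 ∈ R →
      (∃ u ∈ R, u ≠ 0 ∧ u ≠ ζ 1) → ∀ u, u ∈ R)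
    (R : AddSubgroup U) (hR : ∀ g ∈ H, ∀ r ∈ R, g r ∈ R) (h : U ≃+ U) (hh : h ∈ H)
    (h1 : ∀ u, h u + u ∈ R) (h2 : ∀ r ∈ R, h r = r) (u : U) : h u = u := by
  by_cases hex : ∃ u ∈ R, u ≠ 0 ∧ u ≠ ζ 1
  · -- `R + ⟨ζ 1⟩ = U`
    let R' : AddSubgroup U := R ⊔ AddSubgroup.closure {ζ 1}
    have h3 := irr R' (fun g hg r hr => by
      obtain ⟨a, ha, b, hb, rfl⟩ := AddSubgroup.mem_sup.1 hr
      rw [map_add]
      refine AddSubgroup.mem_sup.2 ⟨g a, hR g hg a ha, g b, ?_, rfl⟩
      refine AddSubgroup.closure_induction (p := fun b _ => g b ∈ AddSubgroup.closure {ζ 1})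
        ?_ ?_ ?_ ?_ hb
      · rintro x rfl
        rw [D.fix g hg]
        exact AddSubgroup.subset_closure rfl
      · rw [map_zero]; exact zero_mem _
      · intro x y _ _ hx hy
        rw [map_add]; exact add_mem hx hy
      · intro x _ hx
        rw [map_neg]; exact neg_mem hx)
      (AddSubgroup.mem_sup_right (AddSubgroup.subset_closure rfl))
      (by obtain ⟨u, hu, h0⟩ := hex; exact ⟨u, AddSubgroup.mem_sup_left hu, h0⟩) u
    obtain ⟨a, ha, b, hb, rfl⟩ := AddSubgroup.mem_sup.1 h3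
    rw [map_add, h2 a ha]
    congr 1
    refine AddSubgroup.closure_induction (p := fun b _ => h b = b) ?_ ?_ ?_ ?_ hb
    · rintro x rfl
      exact D.fix h hh
    · exact map_zero h
    · intro x y _ _ hx hy
      rw [map_add, hx, hy]
    · intro x _ hx
      rw [map_neg, hx]
  · push Not at hex
    have h3 : ∀ u, h u = u ∨ h u = u + ζ 1 := by
      intro u
      by_cases h0 : h u + u = 0
      · exact Or.inl (add_eq_zero' h0)
      · right
        have h4 := hex _ (h1 u) h0
        rw [← h4, add_comm (h u), ← add_assoc, TL.two, zero_add]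
    have h1ne : (1 : Λ → ZMod 2) ≠ 0 := by
      have h7 := D.seven
      obtain ⟨a, -⟩ := ex_not ([] : List Λ) (by simp; omega)
      intro h0
      have := congrFun h0 a
      rw [Pi.one_apply, Pi.zero_apply] at this
      exact absurd this (by decide)
    have key : ∀ g ∈ H, ∀ x, h (g (ζ x)) = g (ζ x) := by
      intro g hg
      have hk : (g.trans h).trans g.symm ∈ H := D.tr _ (D.tr _ hg _ hh) _ (D.sm _ hg)
      have ap : ∀ u, ((g.trans h).trans g.symm) u = g.symm (h (g u)) := fun u => rfl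
      have gz : g.symm (ζ 1) = ζ 1 := D.fix _ (D.sm _ hg)
      have h4 : ∀ u, ((g.trans h).trans g.symm) u = u ∨
          ((g.trans h).trans g.symm) u = u + ζ 1 := by
        intro u
        rw [ap]
        rcases h3 (g u) with h5 | h5
        · left; rw [h5, AddEquiv.symm_apply_apply]
        · right; rw [h5, map_add, AddEquiv.symm_apply_apply, gz]
      generalize (g.trans h).trans g.symm = k at hk ap h4
      classical
      let b : Λ → ZMod 2 := fun l => if k (ζ (Pi.single l 1)) = ζ (Pi.single l 1) then 0 else 1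
      have hb : ∀ l, k (ζ (Pi.single l 1)) = ζ (Pi.single l 1) + b l • ζ 1 := by
        intro l
        by_cases h5 : k (ζ (Pi.single l 1)) = ζ (Pi.single l 1)
        · have : b l = 0 := if_pos h5
          rw [this, zero_smul, add_zero, h5]
        · have : b l = 1 := if_neg h5
          rw [this, one_smul]
          exact (h4 _).resolve_left h5
      have hx : ∀ x, k (ζ x) = ζ (x + dt b x • (1 : Λ → ZMod 2)) := by
        intro x
        have e : x = ∑ l, Pi.single l (x l) := (Finset.univ_sum_single x).symm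
        have e1 : k (ζ x) = ∑ l, k (ζ (Pi.single l (x l))) := by
          conv_lhs => rw [e]
          rw [map_sum, map_sum]
        have e2 : ∀ l, k (ζ (Pi.single l (x l))) = ζ (Pi.single l (x l)) + (b l * x l) • ζ 1 := by
          intro l
          rcases z2 (x l) with h5 | h5 <;> rw [h5]
          · rw [Pi.single_zero, map_zero, map_zero, mul_zero, zero_smul, add_zero]
          · rw [mul_one, hb]
        rw [e1, Finset.sum_congr rfl fun l _ => e2 l, Finset.sum_add_distrib, ← map_sum, ← e,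
          ← Finset.sum_smul, map_add, ← smul_zeta]
        rfl
      have hs : dt b 1 = 0 := by
        have h5 := hx 1
        rw [D.fix k hk] at h5
        have h6 := D.inj h5
        by_contra h7
        rw [z2_one h7, one_smul] at h6
        exact h1ne (by simpa using h6)
      have hb0 : b = 0 := by
        rcases D.oneb k hk b 1 (by rw [← dt_one, hs]) h1ne hx with h5 | ⟨h5, i, j, hij, h6⟩
        · exact h5
        · exfalso
          have h7 := D.seven
          obtain ⟨l, hl⟩ := ex_not [i, j] (by simp; omega)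
          simp only [List.mem_cons, List.not_mem_nil, or_false, forall_eq_or_imp, forall_eq] at hl
          rcases h5 with h5 | h5
          · have := congrFun h5 l
            rw [h6, Pi.add_apply, Pi.single_eq_of_ne hl.1, Pi.single_eq_of_ne hl.2,
              Pi.one_apply] at this
            exact absurd this (by decide)
          · have := congrFun h5 i
            rw [h6, Pi.add_apply, Pi.add_apply, Pi.single_eq_same, Pi.single_eq_of_ne hij,
              Pi.one_apply] at this
            exact absurd this (by decide)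
      intro x
      have h5 := hx x
      rw [hb0, zero_dt, zero_smul, add_zero, ap] at h5
      rw [AddEquiv.symm_apply_eq] at h5
      exact h5
    refine AddSubgroup.closure_induction (p := fun u _ => h u = u) ?_ ?_ ?_ ?_ (D.gen u)
    · rintro _ ⟨g, hg, x, rfl⟩
      exact key g hg x
    · exact map_zero h
    · intro x y _ _ hx hy
      rw [map_add, hx, hy]
    · intro x _ hx
      rw [map_neg, hx]

end abs

variable {G : Type u} [Group G]

/-- an elementary abelian 2-subgroup as a vector space -/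
def AM (M : Subgroup G) (_ : ∀ u ∈ M, ∀ v ∈ M, u * v = v * u) (_ : ∀ u ∈ M, u * u = 1) : Type u :=
  Additive M

section AM

variable {M : Subgroup G} {hc : ∀ u ∈ M, ∀ v ∈ M, u * v = v * u} {h2 : ∀ u ∈ M, u * u = 1}

noncomputable instance : AddCommGroup (AM M hc h2) :=
  { (inferInstance : AddGroup (Additive M)) with
    add_comm := fun x y => Additive.toMul.injective (Subtype.ext
      (hc _ (Additive.toMul x).2 _ (Additive.toMul y).2)) }

/-- the group element -/
def val (a : AM M hc h2) : G := ((Additive.toMul a : M) : G)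

/-- the vector -/
def mk (hc : ∀ u ∈ M, ∀ v ∈ M, u * v = v * u) (h2 : ∀ u ∈ M, u * u = 1) {u : G} (hu : u ∈ M) :
    AM M hc h2 := Additive.ofMul (⟨u, hu⟩ : M)

theorem val_mk {u : G} (hu : u ∈ M) : val (mk hc h2 hu) = u := rfl

theorem val_mem (a : AM M hc h2) : val a ∈ M := (Additive.toMul a : M).2

theorem val_add (a a' : AM M hc h2) : val (a + a') = val a * val a' := rfl

theorem val_zero : val (0 : AM M hc h2) = 1 := rfl

theorem val_inj {a a' : AM M hc h2} (h : val a = val a') : a = a' :=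
  Additive.toMul.injective (Subtype.ext h)

noncomputable instance : Module (ZMod 2) (AM M hc h2) :=
  AddCommGroup.zmodModule (n := 2) fun a => val_inj (by
    rw [two_nsmul, val_add, val_zero]
    exact h2 _ (val_mem a))

instance [Finite G] : Finite (AM M hc h2) := inferInstanceAs (Finite M)

/-- conjugation by an element of the normaliser -/
def cjE {g : G} (h : ∀ u ∈ M, g * u * g⁻¹ ∈ M) (h' : ∀ u ∈ M, g⁻¹ * u * g ∈ M) :
    AM M hc h2 ≃+ AM M hc h2 where
  toFun a := mk hc h2 (h _ (val_mem a))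
  invFun a := mk hc h2 (h' _ (val_mem a))
  left_inv a := val_inj (by rw [val_mk, val_mk]; group)
  right_inv a := val_inj (by rw [val_mk, val_mk]; group)
  map_add' a b := val_inj (by
    change g * (val a * val b) * g⁻¹ = (g * val a * g⁻¹) * (g * val b * g⁻¹)
    group)

theorem val_cjE {g : G} (h : ∀ u ∈ M, g * u * g⁻¹ ∈ M) (h' : ∀ u ∈ M, g⁻¹ * u * g ∈ M)
    (a : AM M hc h2) : val (cjE h h' a) = g * val a * g⁻¹ := rfl

/-- the automorphisms of `M` induced by the elements of `N` -/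
def HH (hc : ∀ u ∈ M, ∀ v ∈ M, u * v = v * u) (h2 : ∀ u ∈ M, u * u = 1) (N : Subgroup G) :
    Set (AM M hc h2 ≃+ AM M hc h2) := {e | ∃ g ∈ N, ∀ a, val (e a) = g * val a * g⁻¹}

theorem hh_tr {N : Subgroup G} {e f : AM M hc h2 ≃+ AM M hc h2} (he : e ∈ HH hc h2 N)
    (hf : f ∈ HH hc h2 N) : e.trans f ∈ HH hc h2 N := by
  obtain ⟨g, hg, h1⟩ := he
  obtain ⟨k, hk, h3⟩ := hf
  exact ⟨k * g, mul_mem hk hg, fun a => by rw [AddEquiv.trans_apply, h3, h1]; group⟩

theorem hh_sm {N : Subgroup G} {e : AM M hc h2 ≃+ AM M hc h2} (he : e ∈ HH hc h2 N) :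
    e.symm ∈ HH hc h2 N := by
  obtain ⟨g, hg, h1⟩ := he
  refine ⟨g⁻¹, inv_mem hg, fun a => ?_⟩
  have h3 := h1 (e.symm a)
  rw [AddEquiv.apply_symm_apply] at h3
  rw [h3]; group

theorem hh_rf (N : Subgroup G) : AddEquiv.refl (AM M hc h2) ∈ HH hc h2 N :=
  ⟨1, one_mem _, fun a => by rw [AddEquiv.refl_apply]; group⟩

theorem hh_ex {N : Subgroup G} (hN : ∀ g ∈ N, ∀ u ∈ M, g * u * g⁻¹ ∈ M) {g : G} (hg : g ∈ N) :
    ∃ e ∈ HH hc h2 N, ∀ a, val (e a) = g * val a * g⁻¹ := by
  refine ⟨cjE (hN g hg) (fun u hu => ?_), ⟨g, hg, fun a => rfl⟩, fun a => rfl⟩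
  have := hN g⁻¹ (inv_mem hg) u hu
  rwa [inv_inv] at this

end AM

section inst

variable {n : ℕ} {V P : Subgroup G} {ε : (Fin n → ZMod 2) → G} {i j : Fin n}

/-- the other letters -/
abbrev Lt (i j : Fin n) : Type := {k : Fin n // k ≠ i ∧ k ≠ j}

/-- extension by zero -/
def ext (i j : Fin n) (x : Lt i j → ZMod 2) (k : Fin n) : ZMod 2 :=
  if h : k ≠ i ∧ k ≠ j then x ⟨k, h⟩ else 0

theorem ext_i (x : Lt i j → ZMod 2) : ext i j x i = 0 := dif_neg fun h => h.1 rfl

theorem ext_j (x : Lt i j → ZMod 2) : ext i j x j = 0 := dif_neg fun h => h.2 rfl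

theorem ext_of (x : Lt i j → ZMod 2) (k : Lt i j) : ext i j x (k : Fin n) = x k := dif_pos k.2

theorem ext_add (x y : Lt i j → ZMod 2) : ext i j (x + y) = ext i j x + ext i j y := by
  funext k
  by_cases h : k ≠ i ∧ k ≠ j
  · simp only [ext, Pi.add_apply, dif_pos h]
  · simp only [ext, Pi.add_apply, dif_neg h, add_zero]

theorem ext_single (k : Lt i j) : ext i j (Pi.single k 1) = Pi.single (k : Fin n) 1 := by
  funext l
  by_cases h : l ≠ i ∧ l ≠ j
  · have h1 : ext i j (Pi.single k 1) l = (Pi.single k 1 : Lt i j → ZMod 2) ⟨l, h⟩ := dif_pos h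
    rw [h1]
    by_cases hl : l = k
    · subst hl
      rw [Pi.single_eq_same, Pi.single_eq_same]
    · rw [Pi.single_eq_of_ne hl, Pi.single_eq_of_ne fun h' => hl (congrArg Subtype.val h')]
  · have h1 : ext i j (Pi.single k 1) l = 0 := dif_neg h
    rw [h1, Pi.single_eq_of_ne]
    rintro rfl
    exact h k.2

theorem ext_one (hij : i ≠ j) : ext i j 1 = Pi.single i 1 + Pi.single j 1 + 1 := by
  funext l
  rw [Pi.add_apply, Pi.add_apply, Pi.one_apply]
  by_cases h1 : l = i
  · subst h1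
    rw [ext_i, Pi.single_eq_same, Pi.single_eq_of_ne hij]
    decide
  · by_cases h2 : l = j
    · subst h2
      rw [ext_j, Pi.single_eq_same, Pi.single_eq_of_ne h1]
      decide
    · have h3 : ext i j 1 l = 1 := dif_pos ⟨h1, h2⟩
      rw [h3, Pi.single_eq_of_ne h1, Pi.single_eq_of_ne h2]
      decide

/-- restriction -/
def res (i j : Fin n) (x : Fin n → ZMod 2) (k : Lt i j) : ZMod 2 := x k

theorem ext_res {x : Fin n → ZMod 2} (hi : x i = 0) (hj : x j = 0) : ext i j (res i j x) = x := by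
  funext l
  by_cases h1 : l = i
  · subst h1; rw [ext_i, hi]
  · by_cases h2 : l = j
    · subst h2; rw [ext_j, hj]
    · exact dif_pos ⟨h1, h2⟩

theorem card_Lt (hij : i ≠ j) : Fintype.card (Lt i j) = n - 2 := by
  rw [Fintype.card_subtype]
  have h1 : (Finset.univ.filter fun k : Fin n => k ≠ i ∧ k ≠ j) = Finset.univ \ {i, j} := by
    ext k
    simp
  rw [h1, Finset.card_sdiff_of_subset (Finset.subset_univ _), Finset.card_univ, Fintype.card_fin,
    Finset.card_pair hij]

/-- (1b) of #16633 for `V_ij` -/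
def OneB (ε : (Fin n → ZMod 2) → G) (i j : Fin n) : Prop :=
  ∀ g ∈ NN ε i j, ∀ b c : Lt i j → ZMod 2, ∑ k, b k = 0 → c ≠ 0 →
    (∀ x, g * ε (ext i j x) * g⁻¹ = ε (ext i j (x + dt b x • c))) →
    b = 0 ∨ ((c = b ∨ c = b + 1) ∧ ∃ k l, k ≠ l ∧ b = Pi.single k 1 + Pi.single l 1)

variable (h : Engine.Hyp V P ε) (hij : i ≠ j)

/-- the vector space `U_ij` -/
abbrev UA (h : Engine.Hyp V P ε) (hij : i ≠ j) : Type u :=
  AM (UU ε i j) (fun _ hu _ hv => h.Uab hij hu hv) (fun _ hu => h.Usq hij hu)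

/-- the group of automorphisms of `U_ij` induced by `N` -/
abbrev HA (h : Engine.Hyp V P ε) (hij : i ≠ j) (N : Subgroup G) : Set (UA h hij ≃+ UA h hij) :=
  HH (M := UU ε i j) (fun _ hu _ hv => h.Uab hij hu hv) (fun _ hu => h.Usq hij hu) N

/-- the labels of `V_ij` -/
noncomputable def zt (h : Engine.Hyp V P ε) (hij : i ≠ j) : (Lt i j → ZMod 2) →+ UA h hij :=
  AddMonoidHom.mk' (fun x => mk _ _ ((h.eU hij (ext i j x)).2 (by rw [ext_i, ext_j])))
    fun x y => val_inj (by
      change ε (ext i j (x + y)) = ε (ext i j x) * ε (ext i j y)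
      rw [ext_add, h.ev.add])

theorem val_zt (x : Lt i j → ZMod 2) : val (zt h hij x) = ε (ext i j x) := rfl

theorem val_zt_one : val (zt h hij 1) = rr ε i j := by
  rw [val_zt, ext_one hij, h.ev.add, h.ev.add, h.ev.one, mul_one]
  rfl

include h in
theorem eps_inj_ext {x y : Lt i j → ZMod 2} (he : ε (ext i j x) = ε (ext i j y)) : x = y := by
  have h1 : ext i j x = ext i j y := by
    rcases h.ev.eq_iff.1 he with h1 | h1
    · exact h1
    · exfalso
      have := congrFun h1 i
      rw [Pi.add_apply, ext_i, ext_i, Pi.one_apply] at this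
      exact absurd this (by decide)
  funext k
  rw [← ext_of x k, ← ext_of y k, h1]

theorem zt_inj : Function.Injective (zt h hij) := fun _ _ hxy =>
  eps_inj_ext h (congrArg val hxy)

/-- the extension of a permutation of the other letters -/
theorem exists_perm_ext (σ : Equiv.Perm (Lt i j)) : ∃ τ : Equiv.Perm (Fin n), τ i = i ∧ τ j = j ∧
    ∀ x, ext i j x ∘ τ = ext i j (x ∘ σ) := by
  refine ⟨Equiv.Perm.ofSubtype σ, Equiv.Perm.ofSubtype_apply_of_not_mem σ (fun h => h.1 rfl),
    Equiv.Perm.ofSubtype_apply_of_not_mem σ (fun h => h.2 rfl), fun x => ?_⟩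
  funext l
  rw [Function.comp_apply]
  by_cases hl : l ≠ i ∧ l ≠ j
  · rw [Equiv.Perm.ofSubtype_apply_of_mem σ hl, ext_of]
    have h3 : ext i j (x ∘ σ) l = (x ∘ σ) ⟨l, hl⟩ := dif_pos hl
    rw [h3]
    rfl
  · rw [Equiv.Perm.ofSubtype_apply_of_not_mem σ hl]
    have h1 : ∀ x : Lt i j → ZMod 2, ext i j x l = 0 := fun x => dif_neg hl
    rw [h1, h1]

theorem nn_norm {g : G} (hg : g ∈ NN ε i j) (u : G) (hu : u ∈ UU ε i j) : g * u * g⁻¹ ∈ UU ε i j :=
  UU_normal hg hu

/-- the instance of `TL.Dat` -/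
theorem dat [Finite G] (hn : 9 ≤ n) (hO : OneB ε i j) : Dat (HA h hij (NN ε i j)) (zt h hij) where
  fin := inferInstance
  tr := fun _ he _ hf => hh_tr he hf
  sm := fun _ he => hh_sm he
  rf := hh_rf _
  inj := zt_inj h hij
  odd := by
    rw [card_Lt hij]
    obtain ⟨m, hm⟩ := h.odd
    exact ⟨m - 1, by omega⟩
  seven := by rw [card_Lt hij]; omega
  fix := by
    rintro e ⟨g, hg, he⟩
    apply val_inj
    rw [he, val_zt_one]
    exact mem_NN'.1 hg
  sym := by
    intro σ
    obtain ⟨τ, ti, tj, ht⟩ := exists_perm_ext σ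
    obtain ⟨g, hg, hga⟩ := h.ev.full τ⁻¹
    have hgN : g ∈ NN ε i j := by
      refine h.acts_NN hga ?_ ?_
      · rw [Equiv.Perm.inv_eq_iff_eq, ti]
      · rw [Equiv.Perm.inv_eq_iff_eq, tj]
    obtain ⟨e, he, he1⟩ := hh_ex (M := UU ε i j) (hc := fun _ hu _ hv => h.Uab hij hu hv)
      (h2 := fun _ hu => h.Usq hij hu) (N := NN ε i j) (fun g hg => nn_norm hg) hgN
    refine ⟨e, he, fun x => val_inj ?_⟩
    rw [he1, val_zt, val_zt, ← ht x]
    exact hga _
  gen := by
    intro u
    have key : ∀ y, ∀ hy : y ∈ UU ε i j, (mk (fun _ hu _ hv => h.Uab hij hu hv)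
        (fun _ hu => h.Usq hij hu) hy : UA h hij) ∈ AddSubgroup.closure
          {v | ∃ e ∈ HA h hij (NN ε i j), ∃ x, v = e (zt h hij x)} := by
      intro y hy
      refine Subgroup.closure_induction (p := fun y hy =>
        (mk (fun _ hu _ hv => h.Uab hij hu hv) (fun _ hu => h.Usq hij hu) hy : UA h hij) ∈
          AddSubgroup.closure {v | ∃ e ∈ HA h hij (NN ε i j), ∃ x, v = e (zt h hij x)})
        ?_ ?_ ?_ ?_ hy
      · rintro _ ⟨g, hg, k, hki, hkj, rfl⟩
        apply AddSubgroup.subset_closure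
        obtain ⟨e, he, he1⟩ := hh_ex (M := UU ε i j) (hc := fun _ hu _ hv => h.Uab hij hu hv)
          (h2 := fun _ hu => h.Usq hij hu) (N := NN ε i j) (fun g hg => nn_norm hg) hg
        refine ⟨e, he, Pi.single ⟨k, hki, hkj⟩ 1, val_inj ?_⟩
        rw [he1, val_zt, ext_single]
        rfl
      · exact zero_mem _
      · intro x y _ _ hx hy
        exact add_mem hx hy
      · intro x _ hx
        exact neg_mem hx
    exact key _ (val_mem u)
  oneb := by
    rintro e ⟨g, hg, he⟩ b c hb hc hx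
    refine hO g hg b c hb hc fun x => ?_
    have h1 := congrArg val (hx x)
    rw [he, val_zt, val_zt] at h1
    exact h1

/-- (IRR) for the vector space -/
theorem irr [Finite G] (R : AddSubgroup (UA h hij))
    (hR : ∀ g ∈ HA h hij (NN ε i j), ∀ r ∈ R, g r ∈ R) (h1 : zt h hij 1 ∈ R)
    (hne : ∃ u ∈ R, u ≠ 0 ∧ u ≠ zt h hij 1) (u : UA h hij) : u ∈ R := by
  let R' : Subgroup G :=
    { carrier := {x | ∃ a ∈ R, val a = x}
      mul_mem' := by
        rintro _ _ ⟨a, ha, rfl⟩ ⟨b, hb, rfl⟩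
        exact ⟨a + b, add_mem ha hb, rfl⟩
      one_mem' := ⟨0, zero_mem _, rfl⟩
      inv_mem' := by
        rintro _ ⟨a, ha, rfl⟩
        exact ⟨-a, neg_mem ha, rfl⟩ }
  have hle : R' ≤ UU ε i j := by
    rintro _ ⟨a, _, rfl⟩
    exact val_mem a
  have hr : rr ε i j ∈ R' := ⟨_, h1, val_zt_one h hij⟩
  have hN : ∀ g ∈ NN ε i j, ∀ x ∈ R', g * x * g⁻¹ ∈ R' := by
    rintro g hg _ ⟨a, ha, rfl⟩
    obtain ⟨e, he, he1⟩ := hh_ex (M := UU ε i j) (hc := fun _ hu _ hv => h.Uab hij hu hv)
      (h2 := fun _ hu => h.Usq hij hu) (N := NN ε i j) (fun g hg => nn_norm hg) hg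
    exact ⟨e a, hR e he a ha, he1 a⟩
  have hx : ∃ x ∈ R', x ≠ 1 ∧ x ≠ rr ε i j := by
    obtain ⟨a, ha, h2, h3⟩ := hne
    refine ⟨val a, ⟨a, ha, rfl⟩, fun h4 => h2 (val_inj h4), fun h4 => h3 (val_inj ?_)⟩
    rw [h4, val_zt_one]
  have h4 := h.irr hij hle hr hN hx
  have h5 : val u ∈ R' := by rw [h4]; exact val_mem u
  obtain ⟨a, ha, h6⟩ := h5
  rwa [← val_inj h6]

include h in
/-- a labelled element of `V_ij` is `ζ x` -/
theorem exists_zt {v : Fin n → ZMod 2} (hv : v i = v j) : ∃ γ : Lt i j → ZMod 2,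
    ε (ext i j γ) = ε v := by
  rcases z2 (v i) with h0 | h0
  · exact ⟨res i j v, by rw [ext_res h0 (hv ▸ h0)]⟩
  · refine ⟨res i j (v + 1), ?_⟩
    have h1 : ∀ k, v k = 1 → (v + 1) k = 0 := fun k hk => by
      rw [Pi.add_apply, hk, Pi.one_apply]; decide
    rw [ext_res (h1 i h0) (h1 j (hv ▸ h0)), h.ev.add, h.ev.one, mul_one]

include h hij in
/-- **#16633 (3)** -/
theorem no_tv [Finite G] (hn : 9 ≤ n) (hO : OneB ε i j) {g : G} (hg : g ∈ NN ε i j)
    {v : Fin n → ZMod 2} (hv : v i = v j) (hv1 : ε v ≠ 1) (hv2 : ε v ≠ rr ε i j)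
    (hu : ∀ u ∈ UU ε i j, g * u * g⁻¹ = u ∨ g * u * g⁻¹ = u * ε v)
    (hk : ∀ y : Fin n → ZMod 2, y i = y j → g * ε y = ε y * g)
    (hne : ∃ u ∈ UU ε i j, g * u ≠ u * g) {k l : Fin n} (hD : D4 i j k l) {u y : G}
    (huU : u ∈ UU ε i j) (hy : y ∈ UU ε k l) : u * y = y * u := by
  classical
  have D := dat h hij hn hO
  obtain ⟨γ, hγ⟩ := exists_zt h hv
  have zγ : val (zt h hij γ) = ε v := hγ
  obtain ⟨e, he, he1⟩ := hh_ex (M := UU ε i j) (hc := fun _ hu _ hv => h.Uab hij hu hv)
    (h2 := fun _ hu => h.Usq hij hu) (N := NN ε i j) (fun g hg => nn_norm hg) hg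
  -- the functional
  have e2 : ∀ a : UA h hij, e a = a ∨ e a = a + zt h hij γ := by
    intro a
    rcases hu _ (val_mem a) with h1 | h1
    · exact Or.inl (val_inj (by rw [he1, h1]))
    · exact Or.inr (val_inj (by rw [he1, h1, val_add, zγ]))
  have hz0 : zt h hij γ ≠ 0 := fun h0 => hv1 (by rw [← zγ, h0]; rfl)
  let f : UA h hij → ZMod 2 := fun a => if e a = a then 0 else 1
  have hf : ∀ a, e a = a + f a • zt h hij γ := by
    intro a
    by_cases h1 : e a = a
    · have : f a = 0 := if_pos h1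
      rw [this, zero_smul, add_zero, h1]
    · have : f a = 1 := if_neg h1
      rw [this, one_smul]
      exact (e2 a).resolve_left h1
  have hun : ∀ a (t : ZMod 2), e a = a + t • zt h hij γ → f a = t := by
    intro a t ht
    rw [hf a] at ht
    have h1 := add_left_cancel ht
    rcases z2 (f a) with h2 | h2 <;> rcases z2 t with h3 | h3 <;> rw [h2, h3] at h1 ⊢
    · rw [zero_smul, one_smul] at h1
      exact absurd h1.symm hz0
    · rw [zero_smul, one_smul] at h1
      exact absurd h1 hz0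
  let f0 : UA h hij →+ ZMod 2 := AddMonoidHom.mk' f fun a b => hun _ _ (by
    rw [map_add, hf a, hf b, add_smul, add_add_add_comm])
  have hf0 : ∀ a, e a = a + f0 a • zt h hij γ := hf
  have ez : ∀ x, e (zt h hij x) = zt h hij x := by
    intro x
    apply val_inj
    rw [he1, val_zt, hk _ (by rw [ext_i, ext_j])]
    group
  have fz : ∀ x, f0 (zt h hij x) = 0 := fun x => hun _ _ (by rw [ez, zero_smul, add_zero])
  have hγ0 : γ ≠ 0 := by
    rintro rfl
    exact hz0 (map_zero _)
  have hγ1 : γ ≠ 1 := by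
    rintro rfl
    exact hv2 (by rw [← zγ, val_zt_one])
  have s : Sit (HA h hij (NN ε i j)) (zt h hij) γ f0 :=
    { D with
      i0 := by
        by_contra hc
        push Not at hc
        exact hγ0 (funext fun k => z2_zero (hc k))
      j0 := by
        by_contra hc
        push Not at hc
        exact hγ1 (funext fun k => z2_one (hc k))
      mem := ⟨fz γ, e, he, hf0⟩
      ne := by
        intro h0
        obtain ⟨u, hu, h1⟩ := hne
        apply h1
        have h2 := he1 (mk _ _ hu)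
        rw [hf0, h0, AddMonoidHom.zero_apply, zero_smul, add_zero, val_mk] at h2
        rw [eq_mul_inv_iff_mul_eq] at h2
        exact h2.symm
      kill := by
        funext k
        exact fz _ }
  have hkl : k ≠ l := hD.kl
  let p : Lt i j := ⟨k, hD.ik.symm, hD.jk.symm⟩
  let q : Lt i j := ⟨l, hD.il.symm, hD.jl.symm⟩
  have ze : val (zt h hij (ee p q)) = rr ε k l := by
    rw [val_zt, ee, ext_add, ext_single, ext_single, h.ev.add]
    rfl
  have hUK : UU ε k l ≤ KK ε := h.UK hkl
  have hUN : UU ε k l ≤ NN ε i j := hUK.trans (h.KK_le_NN i j)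
  have hKz : ∀ x ∈ KK ε, ∀ y : Fin n → ZMod 2, x * ε y * x⁻¹ = ε y := fun x hx y => by
    rw [Engine.mem_KK'.1 hx y]; group
  have t : Thr (HA h hij (NN ε i j)) (zt h hij) (HA h hij (UU ε k l)) (HA h hij (KK ε)) p q :=
    { pq := fun h' => hkl (congrArg Subtype.val h')
      sub := fun α hα => by
        obtain ⟨x, hx, h1⟩ := hα
        exact ⟨x, hUN hx, h1⟩
      mul := fun _ hα _ hβ => hh_tr hα hβ
      sq := fun α hα a => by
        obtain ⟨x, hx, h1⟩ := hα
        apply val_inj
        rw [h1, h1]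
        have h2 := h.Usq hkl hx
        have h3 : x⁻¹ = x := inv_eq_of_mul_eq_one_left h2
        rw [h3]
        calc x * (x * val a * x) * x = (x * x) * val a * (x * x) := by group
          _ = val a := by rw [h2, one_mul, mul_one]
      fz := fun α hα x => by
        obtain ⟨w, hw, h1⟩ := hα
        apply val_inj
        rw [h1, val_zt, hKz w (hUK hw)]
      nrm := fun y hy hye α hα => by
        obtain ⟨w, hw, h1⟩ := hα
        obtain ⟨c, hc, h2⟩ := hy
        have h3 := congrArg val hye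
        rw [h2, ze] at h3
        have hc' : c ∈ NN ε k l := mem_NN'.2 h3
        refine ⟨c * w * c⁻¹, UU_normal hc' hw, fun a => ?_⟩
        have h4 := h2 (y.symm a)
        rw [AddEquiv.apply_symm_apply] at h4
        rw [AddEquiv.trans_apply, AddEquiv.trans_apply, h2, h1, h4]
        group
      o2 := fun R hR w hw h1 h2 => o2_of_irr D (fun R hR h1 hne => irr h hij R hR h1 hne) R hR w hw h1 h2
      qsub := fun _ hg => by
        obtain ⟨x, hx, h1⟩ := hg
        exact ⟨x, h.KK_le_NN i j hx, h1⟩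
      qz := fun _ hg x => by
        obtain ⟨w, hw, h1⟩ := hg
        apply val_inj
        rw [h1, val_zt, hKz w hw]
      cen := fun a ha => by
        obtain ⟨x, xi, xj, hx⟩ := h.fix_V hij (val_mem a) (fun m hmi hmj y hy => by
          left
          have hyK : y ∈ KK ε := h.UK hmi.symm hy
          obtain ⟨e', he', he1'⟩ := hh_ex (M := UU ε i j) (hc := fun _ hu _ hv => h.Uab hij hu hv)
            (h2 := fun _ hu => h.Usq hij hu) (N := KK ε)
            (fun g hg => nn_norm (h.KK_le_NN i j hg)) hyK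
          have h1 := he1' a
          rw [ha e' he'] at h1
          rw [eq_mul_inv_iff_mul_eq] at h1
          exact Cfsg.Agent.Omega.TTn.Di.cm_one_iff.2 h1)
        exact ⟨res i j x, val_inj (by rw [hx, val_zt, ext_res xi xj])⟩ }
  obtain ⟨α, hα, h1⟩ := hh_ex (M := UU ε i j) (hc := fun _ hu _ hv => h.Uab hij hu hv)
    (h2 := fun _ hu => h.Usq hij hu) (N := UU ε k l) (fun g hg => nn_norm (hUN hg)) hy
  have h2 := h1 (mk _ _ huU)
  rw [three s t hα, val_mk] at h2
  rw [eq_mul_inv_iff_mul_eq] at h2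
  exact h2

end inst

end Cfsg.Agent.Omega.NSix.TLg

end

section


/-!
# OMEGA N6 (H2): (COUNT) of #16633

`KV ε i j` : the group of linear maps induced by `N_ij` on `V_ij` (labels `Lt i j → ZMod 2`);
`count` : its 2-subgroups have order at most `2 ^ (m - 1)` times the 2-part of `(n - 2)!`, `n = 2 ^ m + 1`.
-/

set_option autoImplicit false
set_option linter.unusedSectionVars false

namespace Cfsg.Agent.Omega.NSix.TLCount

open Subgroup Cfsg.Agent.Omega.S5.Def Cfsg.Agent.Omega.NSix.Base Cfsg.Agent.Omega.NSix.Basic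
open Cfsg.Agent.Omega.NSix.Tv (z2 z2_one z2_zero z2_add)
open Cfsg.Agent.Omega.NSix.TL Cfsg.Agent.Omega.NSix.ThreeA Cfsg.Agent.Omega.NSix.TLg
open Cfsg.Agent.Omega.NSix.Engine (D4 KK)

universe u

variable {G : Type u} [Group G] {n : ℕ} {V P : Subgroup G} {ε : (Fin n → ZMod 2) → G} {i j : Fin n}

/-- linear automorphisms -/
abbrev GV (Λ : Type*) := (Λ → ZMod 2) ≃ₗ[ZMod 2] (Λ → ZMod 2)

/-- `g` induces `k` on `V_ij` -/
def Ind (ε : (Fin n → ZMod 2) → G) (i j : Fin n) (g : G) (k : GV (Lt i j)) : Prop :=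
  ∀ x, g * ε (ext i j x) * g⁻¹ = ε (ext i j (k x))

theorem Ind.mul {g g' : G} {k k' : GV (Lt i j)} (h : Ind ε i j g k) (h' : Ind ε i j g' k') :
    Ind ε i j (g * g') (k * k') := fun x => by
  have e : g * g' * ε (ext i j x) * (g * g')⁻¹ = g * (g' * ε (ext i j x) * g'⁻¹) * g⁻¹ := by group
  rw [e, h', h]
  rfl

theorem Ind.inv {g : G} {k : GV (Lt i j)} (h : Ind ε i j g k) : Ind ε i j g⁻¹ k⁻¹ := fun x => by
  have h1 := h (k⁻¹ x)
  have h2 : k (k⁻¹ x) = x := LinearEquiv.apply_symm_apply k x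
  rw [h2] at h1
  rw [← h1]; group

theorem Ind.one : Ind ε i j 1 1 := fun x => by
  rw [one_mul, inv_one, mul_one]; rfl

/-- the group induced on `V_ij` -/
def KV (ε : (Fin n → ZMod 2) → G) (i j : Fin n) : Subgroup (GV (Lt i j)) where
  carrier := {k | ∃ g ∈ NN ε i j, Ind ε i j g k}
  mul_mem' := by
    rintro _ _ ⟨g, hg, h⟩ ⟨g', hg', h'⟩
    exact ⟨_, mul_mem hg hg', h.mul h'⟩
  one_mem' := ⟨1, one_mem _, Ind.one⟩
  inv_mem' := by
    rintro _ ⟨g, hg, h⟩
    exact ⟨_, inv_mem hg, h.inv⟩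

theorem ind_unique (h : Engine.Hyp V P ε) {g : G} {k k' : GV (Lt i j)} (h1 : Ind ε i j g k)
    (h2 : Ind ε i j g k') : k = k' := by
  apply LinearEquiv.ext
  intro x
  exact eps_inj_ext h ((h1 x).symm.trans (h2 x))

/-- the preimage of a subgroup of linear maps -/
def Pre (ε : (Fin n → ZMod 2) → G) (i j : Fin n) (R : Subgroup (GV (Lt i j))) : Subgroup G where
  carrier := {g | g ∈ NN ε i j ∧ ∃ k ∈ R, Ind ε i j g k}
  mul_mem' := by
    rintro _ _ ⟨hg, k, hk, h⟩ ⟨hg', k', hk', h'⟩
    exact ⟨mul_mem hg hg', _, mul_mem hk hk', h.mul h'⟩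
  one_mem' := ⟨one_mem _, 1, one_mem _, Ind.one⟩
  inv_mem' := by
    rintro _ ⟨hg, k, hk, h⟩
    exact ⟨inv_mem hg, _, inv_mem hk, h.inv⟩

/-- the homomorphism `Pre R → GL` -/
noncomputable def preHom (h : Engine.Hyp V P ε) (R : Subgroup (GV (Lt i j))) :
    Pre ε i j R →* GV (Lt i j) where
  toFun g := g.2.2.choose
  map_one' := ind_unique h (1 : Pre ε i j R).2.2.choose_spec.2 Ind.one
  map_mul' a b := ind_unique h (a * b).2.2.choose_spec.2
    (a.2.2.choose_spec.2.mul b.2.2.choose_spec.2)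

theorem preHom_spec (h : Engine.Hyp V P ε) (R : Subgroup (GV (Lt i j))) (g : Pre ε i j R) :
    preHom h R g ∈ R ∧ Ind ε i j (g : G) (preHom h R g) := g.2.2.choose_spec

theorem preHom_range (h : Engine.Hyp V P ε) {R : Subgroup (GV (Lt i j))} (hR : R ≤ KV ε i j) :
    (preHom h R).range = R := by
  apply le_antisymm
  · rintro _ ⟨g, rfl⟩
    exact (preHom_spec h R g).1
  · intro k hk
    obtain ⟨g, hg, h1⟩ := hR hk
    refine ⟨⟨g, hg, k, hk, h1⟩, ?_⟩
    exact ind_unique h (preHom_spec h R _).2 h1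

/-- `C_G(V_ij)` -/
def CV (ε : (Fin n → ZMod 2) → G) (i j : Fin n) : Subgroup G where
  carrier := {g | ∀ x : Lt i j → ZMod 2, g * ε (ext i j x) = ε (ext i j x) * g}
  mul_mem' := by
    intro a b ha hb x
    rw [mul_assoc, hb, ← mul_assoc, ha, mul_assoc]
  one_mem' := fun x => by rw [one_mul, mul_one]
  inv_mem' := by
    intro a ha x
    have h1 := ha x
    calc a⁻¹ * ε (ext i j x) = a⁻¹ * (ε (ext i j x) * a) * a⁻¹ := by group
      _ = ε (ext i j x) * a⁻¹ := by rw [← h1]; group

theorem mem_CV {g : G} : g ∈ CV ε i j ↔ ∀ x : Lt i j → ZMod 2, g * ε (ext i j x) = ε (ext i j x) * g :=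
  Iff.rfl

theorem CV_le_NN (h : Engine.Hyp V P ε) (hij : i ≠ j) : CV ε i j ≤ NN ε i j := by
  intro g hg
  rw [mem_NN, ← val_zt_one h hij, val_zt]
  exact hg 1

theorem ind_one_iff {g : G} : Ind ε i j g 1 ↔ g ∈ CV ε i j := by
  rw [mem_CV]
  refine forall_congr' fun x => ?_
  change g * ε (ext i j x) * g⁻¹ = ε (ext i j x) ↔ _
  rw [mul_inv_eq_iff_eq_mul]

/-- `|Pre R| = |R| |C_G(V_ij)|` -/
theorem card_pre [Finite G] (h : Engine.Hyp V P ε) (hij : i ≠ j) {R : Subgroup (GV (Lt i j))}
    (hR : R ≤ KV ε i j) : Nat.card (Pre ε i j R) = Nat.card R * Nat.card (CV ε i j) := by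
  have h1 : Nat.card (preHom h R).ker * Nat.card (preHom h R).range = Nat.card (Pre ε i j R) := by
    rw [← index_ker, card_mul_index]
  rw [preHom_range h hR] at h1
  rw [← h1, mul_comm]
  congr 1
  have hle : CV ε i j ≤ Pre ε i j R := fun g hg =>
    ⟨CV_le_NN h hij hg, 1, one_mem _, ind_one_iff.2 hg⟩
  refine Nat.card_congr
    { toFun := fun g => ⟨(g : Pre ε i j R), ?_⟩
      invFun := fun g => ⟨⟨g, hle g.2⟩, ?_⟩
      left_inv := fun g => rfl
      right_inv := fun g => rfl }
  · have h2 : preHom h R g = 1 := g.2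
    have h3 := (preHom_spec h R g).2
    rw [h2] at h3
    exact ind_one_iff.1 h3
  · rw [MonoidHom.mem_ker]
    exact ind_unique h (preHom_spec h R _).2 (ind_one_iff.2 g.2)

/-- the 2-part -/
def w2 (k : ℕ) : ℕ := k.factorization 2

theorem w2_mul {a b : ℕ} (ha : a ≠ 0) (hb : b ≠ 0) : w2 (a * b) = w2 a + w2 b := by
  rw [w2, Nat.factorization_mul ha hb]; rfl

theorem w2_le {a b : ℕ} (hb : b ≠ 0) (h : a ∣ b) : w2 a ≤ w2 b :=
  (Nat.factorization_le_iff_dvd (ne_zero_of_dvd_ne_zero hb h) hb).2 h 2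

theorem w2_pow (k : ℕ) : w2 (2 ^ k) = k := by
  rw [w2, Nat.Prime.factorization_pow Nat.prime_two, Finsupp.single_eq_same]

theorem w2_odd {a : ℕ} (h : ¬ 2 ∣ a) : w2 a = 0 := Nat.factorization_eq_zero_of_not_dvd h

/-- `|f⁻¹(K)| = |ker f| |K|` -/
theorem card_comap {A B : Type*} [Group A] [Group B] [Finite A] [Finite B] (f : A →* B)
    (hf : Function.Surjective f) (K : Subgroup B) :
    Nat.card (K.comap f) = Nat.card f.ker * Nat.card K := by
  have h1 : Nat.card (K.comap f) * K.index = Nat.card A := by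
    rw [← index_comap_of_surjective K hf, card_mul_index]
  have h2 : Nat.card f.ker * Nat.card B = Nat.card A := by
    have h3 := card_mul_index f.ker
    rw [index_ker, MonoidHom.range_eq_top_of_surjective f hf, card_top] at h3
    exact h3
  have h3 := card_mul_index K
  have h4 : K.index ≠ 0 := K.index_ne_zero_of_finite
  apply Nat.eq_of_mul_eq_mul_right (Nat.pos_of_ne_zero h4)
  rw [h1, mul_assoc, h3, h2]

/-- the permutations trivial on the other letters -/
def Hs (i j : Fin n) : Subgroup (Equiv.Perm (Fin n)) where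
  carrier := {σ | ∀ x : Lt i j → ZMod 2, ext i j x ∘ σ = ext i j x}
  mul_mem' := by
    intro a b ha hb x
    have h1 : ext i j x ∘ (a * b : Equiv.Perm (Fin n)) = (ext i j x ∘ a) ∘ b := rfl
    rw [h1, ha, hb]
  one_mem' := fun x => rfl
  inv_mem' := by
    intro a ha x
    have h1 : (ext i j x ∘ a) ∘ (a⁻¹ : Equiv.Perm (Fin n)) = ext i j x := by
      funext k
      simp
    rw [ha] at h1
    exact h1

theorem swap_mem_Hs : Equiv.swap i j ∈ Hs i j := by
  intro x
  funext k
  rw [Function.comp_apply]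
  by_cases h1 : k = i
  · subst h1
    rw [Equiv.swap_apply_left, ext_i, ext_j]
  · by_cases h2 : k = j
    · subst h2
      rw [Equiv.swap_apply_right, ext_i, ext_j]
    · rw [Equiv.swap_apply_of_ne_of_ne h1 h2]

theorem two_dvd_Hs (hij : i ≠ j) : 2 ∣ Nat.card (Hs i j) := by
  have h1 : orderOf (⟨Equiv.swap i j, swap_mem_Hs⟩ : Hs i j) ∣ Nat.card (Hs i j) :=
    orderOf_dvd_natCard _
  have h2 : orderOf (⟨Equiv.swap i j, swap_mem_Hs⟩ : Hs i j) = 2 := by
    rw [← orderOf_coe]
    refine orderOf_eq_prime ?_ ?_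
    · rw [pow_two, Equiv.swap_mul_self]
    · intro h
      have h3 := congrArg (fun σ : Equiv.Perm (Fin n) => σ i) h
      simp only [Equiv.swap_apply_left, Equiv.Perm.coe_one, id] at h3
      exact hij h3.symm
  rwa [h2] at h1

open scoped Nat in
/-- **(COUNT)** -/
theorem count [Finite G] (h : Engine.Hyp V P ε) (hij : i ≠ j) (S : Sylow 2 G)
    (hS : (S : Subgroup G) ≤ P) {m : ℕ} (hm : 1 ≤ m) (hn : n = 2 ^ m + 1)
    (R : Subgroup (GV (Lt i j))) (hR : R ≤ KV ε i j) (hRp : IsPGroup 2 R) :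
    Nat.card R ≤ 2 ^ (m - 1) * 2 ^ ((Fintype.card (Lt i j))!.factorization 2) := by
  have n3 := h.n3
  have hfin : Finite (GV (Lt i j)) :=
    Finite.of_injective (fun k : GV (Lt i j) => (k : (Lt i j → ZMod 2) → (Lt i j → ZMod 2)))
      DFunLike.coe_injective
  -- the order of `P`
  have hsur := h.ev.hom_surjective n3
  have hP := card_comap (h.ev.hom n3) hsur ⊤
  rw [comap_top, card_top, card_top, Nat.card_perm, Nat.card_fin] at hP
  have hH := card_comap (h.ev.hom n3) hsur (Hs i j)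
  have hk0 : Nat.card (h.ev.hom n3).ker ≠ 0 := Nat.card_pos.ne'
  -- the 2-part of `|C_G(V_ij)|`
  have hC : w2 (Nat.card (h.ev.hom n3).ker) + 1 ≤ w2 (Nat.card (CV ε i j)) := by
    have h1 : ((Hs i j).comap (h.ev.hom n3)).map P.subtype ≤ CV ε i j := by
      rintro _ ⟨g, hg, rfl⟩ x
      have h2 := h.ev.acts_hom n3 g (ext i j x)
      have h3 := inv_mem (show h.ev.hom n3 g ∈ Hs i j from hg)
      have h4 : ext i j x ∘ (h.ev.hom n3 g).symm = ext i j x := h3 x
      rw [h4] at h2
      rw [mul_inv_eq_iff_eq_mul] at h2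
      exact h2
    have h2 := card_dvd_of_le h1
    rw [card_map_of_injective (subtype_injective P), hH] at h2
    have h3 := w2_le (Nat.card_pos.ne') h2
    obtain ⟨c, hc⟩ := two_dvd_Hs hij
    have hc0 : c ≠ 0 := by
      rintro rfl
      rw [mul_zero] at hc
      exact (Nat.card_pos (α := Hs i j)).ne' hc
    rw [hc, w2_mul hk0 (mul_ne_zero two_ne_zero hc0), w2_mul two_ne_zero hc0] at h3
    have h4 : w2 2 = 1 := by
      have := w2_pow 1
      rwa [pow_one] at this
    omega
  -- the 2-part of `|G|`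
  have hG : w2 (Nat.card G) = w2 (Nat.card P) := by
    have h1 := card_mul_index P
    have h2 : ¬ 2 ∣ P.index := fun hd =>
      S.not_dvd_index (hd.trans (index_dvd_of_le hS))
    rw [← h1, w2_mul Nat.card_pos.ne' P.index_ne_zero_of_finite, w2_odd h2, add_zero]
  have h1 : w2 (Nat.card R) + w2 (Nat.card (CV ε i j)) ≤ w2 (Nat.card G) := by
    rw [← w2_mul Nat.card_pos.ne' Nat.card_pos.ne', ← card_pre h hij hR]
    exact w2_le Nat.card_pos.ne' (card_subgroup_dvd_card _)
  rw [hG, hP, w2_mul hk0 (Nat.factorial_ne_zero n)] at h1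
  have h2 : w2 (Nat.card R) + 1 ≤ w2 (n !) := by omega
  have hfac : n ! = n * ((n - 1) * (n - 2)!) := by
    have e1 : n = (n - 2) + 1 + 1 := by omega
    conv_lhs => rw [e1, Nat.factorial_succ, Nat.factorial_succ]
    have e2 : n - 2 + 1 + 1 = n := by omega
    have e3 : n - 2 + 1 = n - 1 := by omega
    rw [e2, e3]
  have h2m : 2 ∣ 2 ^ m := dvd_pow_self 2 (by omega)
  have hno : ¬ 2 ∣ n := by
    rw [hn]; omega
  rw [hfac, w2_mul (by omega) (mul_ne_zero (by omega) (Nat.factorial_ne_zero _)), w2_odd hno,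
    zero_add, w2_mul (by omega) (Nat.factorial_ne_zero _)] at h2
  have e4 : n - 1 = 2 ^ m := by omega
  rw [e4, w2_pow] at h2
  obtain ⟨k, hk⟩ := IsPGroup.iff_card.1 hRp
  rw [hk, w2_pow] at h2
  rw [hk, ← pow_add, card_Lt hij]
  refine Nat.pow_le_pow_right (by norm_num) ?_
  change k ≤ m - 1 + w2 (n - 2)!
  omega

end Cfsg.Agent.Omega.NSix.TLCount

end

section


/-!
# N6, (H2): (1b) of helper150's text (bb OMEGA 16633)

`Λ` = the letters `3 .. n`, `|Λ| = 2 ^ m - 1`.  `W = (Λ → ZMod 2)` = `V_12` (the vector `Pi.single k 1` is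
the point `k`, the vector `1` is `r_12`).  `K` = the group induced on `V_12` by its normaliser in `N_12`; it
contains the permutations, and its 2-subgroups have order at most `2 ^ (m - 1) * |Sym Λ|_2`.
Then the only maps `x ↦ x + (b ⬝ x) c` (`b` even) in `K` are the obvious ones.

Author: helper705 (text: helper150).
-/

namespace Cfsg.Agent.Omega.NSix.SymF

open Finset

set_option linter.unusedSectionVars false

variable {Λ : Type*}

/-- the group `GL(W)` -/
abbrev GV (Λ : Type*) := (Λ → ZMod 2) ≃ₗ[ZMod 2] (Λ → ZMod 2)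

/-- the permutation of coordinates -/
def pm : Equiv.Perm Λ →* GV Λ where
  toFun σ :=
    { toFun := fun x => x ∘ σ.symm
      invFun := fun x => x ∘ σ
      left_inv := fun x => by ext i; simp
      right_inv := fun x => by ext i; simp
      map_add' := fun x y => rfl
      map_smul' := fun a x => rfl }
  map_one' := rfl
  map_mul' := fun σ τ => by ext x i; rfl

@[simp] theorem pm_apply (σ : Equiv.Perm Λ) (x : Λ → ZMod 2) (i : Λ) :
    pm σ x i = x (σ.symm i) := rfl

variable [Fintype Λ] [DecidableEq Λ]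

theorem pm_injective : Function.Injective (pm : Equiv.Perm Λ →* GV Λ) := by
  intro σ τ h
  ext i
  have h1 : pm σ (Pi.single i 1) = pm τ (Pi.single i 1) := by rw [h]
  have h2 := congrFun h1 (σ i)
  rw [pm_apply, pm_apply, Equiv.symm_apply_apply, Pi.single_eq_same] at h2
  by_contra hne
  have : τ.symm (σ i) ≠ i := by
    intro h3
    apply hne
    rw [Equiv.symm_apply_eq] at h3
    exact h3
  rw [Pi.single_eq_of_ne this] at h2
  exact one_ne_zero h2

/-- `k` is the map `x ↦ x + (b ⬝ x) c` -/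
def IsT (k : GV Λ) (b c : Λ → ZMod 2) : Prop :=
  ∀ x, k x = x + (∑ i, b i * x i) • c

/-- pairing -/
def dt (b x : Λ → ZMod 2) : ZMod 2 := ∑ i, b i * x i

theorem dt_add (b x y : Λ → ZMod 2) : dt b (x + y) = dt b x + dt b y := by
  simp only [dt, Pi.add_apply, mul_add, Finset.sum_add_distrib]

theorem add_dt (b c x : Λ → ZMod 2) : dt (b + c) x = dt b x + dt c x := by
  simp only [dt, Pi.add_apply, add_mul, Finset.sum_add_distrib]

theorem dt_smul (b x : Λ → ZMod 2) (a : ZMod 2) : dt b (a • x) = a * dt b x := by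
  simp only [dt, Pi.smul_apply, smul_eq_mul, Finset.mul_sum]
  exact Finset.sum_congr rfl fun i _ => by ring

theorem smul_dt (b x : Λ → ZMod 2) (a : ZMod 2) : dt (a • b) x = a * dt b x := by
  simp only [dt, Pi.smul_apply, smul_eq_mul, Finset.mul_sum]
  exact Finset.sum_congr rfl fun i _ => by ring

theorem dt_comm (b x : Λ → ZMod 2) : dt b x = dt x b := by
  simp only [dt]
  exact Finset.sum_congr rfl fun i _ => mul_comm _ _

theorem dt_zero (b : Λ → ZMod 2) : dt b 0 = 0 := by simp [dt]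

theorem zero_dt (b : Λ → ZMod 2) : dt 0 b = 0 := by simp [dt]

theorem dt_single (b : Λ → ZMod 2) (i : Λ) : dt b (Pi.single i 1) = b i := by
  simp only [dt]
  rw [Finset.sum_eq_single i]
  · simp
  · intro j _ hj
    rw [Pi.single_eq_of_ne hj, mul_zero]
  · intro h; exact absurd (Finset.mem_univ i) h

theorem single_dt (b : Λ → ZMod 2) (i : Λ) : dt (Pi.single i 1) b = b i := by
  rw [dt_comm, dt_single]

theorem dt_one (b : Λ → ZMod 2) : dt b 1 = ∑ i, b i := by simp [dt]

theorem dt_self (b : Λ → ZMod 2) : dt b b = ∑ i, b i := by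
  simp only [dt]
  refine Finset.sum_congr rfl fun i _ => ?_
  generalize b i = a
  revert a; decide

theorem z_one_one : (1 + 1 : ZMod 2) = 0 := by decide

theorem z_three : (1 + 1 + 1 : ZMod 2) ≠ 0 := by decide

theorem z_three' : (1 + 1 + 1 : ZMod 2) ≠ 1 + 1 := by decide

theorem two_cases (a : ZMod 2) : a = 0 ∨ a = 1 := by revert a; decide

theorem add_self_W (x : Λ → ZMod 2) : x + x = 0 := by
  ext i
  simp only [Pi.add_apply, Pi.zero_apply]
  generalize x i = a
  revert a; decide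

theorem IsT_iff {k : GV Λ} {b c : Λ → ZMod 2} :
    IsT k b c ↔ ∀ x, k x = x + dt b x • c := Iff.rfl

theorem IsT.apply {k : GV Λ} {b c : Λ → ZMod 2} (h : IsT k b c) (x : Λ → ZMod 2) :
    k x = x + dt b x • c := h x

/-- `b ⬝ c = 0` is forced -/
theorem IsT.dt_eq {k : GV Λ} {b c : Λ → ZMod 2} (h : IsT k b c) (hc : c ≠ 0) :
    dt b c = 0 := by
  rcases two_cases (dt b c) with h0 | h1
  · exact h0
  · exfalso
    have h2 := h.apply c
    rw [h1, one_smul, add_self_W] at h2
    exact hc (k.injective (by rw [h2, map_zero]))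

theorem IsT.mul {k l : GV Λ} {b d c : Λ → ZMod 2} (h : IsT k b c) (h' : IsT l d c)
    (hc : c ≠ 0) : IsT (k * l) (b + d) c := by
  intro x
  change k (l x) = _
  rw [h'.apply, h.apply]
  change _ = x + dt (b + d) x • c
  rw [dt_add, dt_smul, h.dt_eq hc, mul_zero, add_zero, add_dt, add_smul]
  abel

theorem IsT.sq {k : GV Λ} {b c : Λ → ZMod 2} (h : IsT k b c) (hc : c ≠ 0) :
    k * k = 1 := by
  ext x i
  have h1 := (h.mul h hc).apply x
  rw [add_self_W, zero_dt, zero_smul, add_zero] at h1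
  rw [h1]; rfl

theorem IsT.conj {k g : GV Λ} {b c b' : Λ → ZMod 2} (h : IsT k b c)
    (hb : ∀ x, dt b' x = dt b (g⁻¹ x)) : IsT (g * k * g⁻¹) b' (g c) := by
  intro x
  change g (k (g⁻¹ x)) = x + dt b' x • g c
  rw [h.apply, map_add, hb]
  have h1 : g (g⁻¹ x) = x := by
    change (g * g⁻¹) x = x
    rw [mul_inv_cancel]; rfl
  rw [h1]
  rw [map_smul]

theorem IsT.unique {k : GV Λ} {b d c : Λ → ZMod 2} (h : IsT k b c) (h' : IsT k d c)
    (hc : c ≠ 0) : b = d := by
  obtain ⟨j, hj⟩ : ∃ j, c j ≠ 0 := by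
    by_contra h0
    push Not at h0
    exact hc (funext h0)
  ext i
  have h1 := h.apply (Pi.single i 1)
  rw [h'.apply, dt_single, dt_single] at h1
  have h2 := congrFun h1 j
  simp only [Pi.add_apply, Pi.smul_apply, smul_eq_mul] at h2
  have h3 : c j = 1 := by
    rcases two_cases (c j) with h4 | h4
    · exact absurd h4 hj
    · exact h4
  rw [h3, mul_one, mul_one] at h2
  exact (add_left_cancel h2).symm

theorem IsT.ext {k l : GV Λ} {b c : Λ → ZMod 2} (h : IsT k b c) (h' : IsT l b c) :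
    k = l := by
  ext x i
  rw [h.apply, h'.apply]

theorem IsT.zero_left {k : GV Λ} {c : Λ → ZMod 2} (h : IsT k 0 c) : k = 1 := by
  ext x i
  rw [h.apply, zero_dt, zero_smul, add_zero]; rfl

theorem dt_pm (σ : Equiv.Perm Λ) (b x : Λ → ZMod 2) : dt (pm σ b) (pm σ x) = dt b x := by
  simp only [dt, pm_apply]
  exact Equiv.sum_comp σ.symm (fun i => b i * x i)

theorem sum_pm (σ : Equiv.Perm Λ) (b : Λ → ZMod 2) : ∑ i, pm σ b i = ∑ i, b i := by
  simp only [pm_apply]
  exact Equiv.sum_comp σ.symm (fun i => b i)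

theorem IsT.conj_pm {k : GV Λ} {b c : Λ → ZMod 2} (h : IsT k b c)
    (σ : Equiv.Perm Λ) : IsT (pm σ * k * (pm σ)⁻¹) (pm σ b) (pm σ c) := by
  refine h.conj fun x => ?_
  have h1 : pm σ ((pm σ)⁻¹ x) = x := by
    change (pm σ * (pm σ)⁻¹) x = x
    rw [mul_inv_cancel]; rfl
  conv_lhs => rw [← h1]
  rw [dt_pm]

/-- the transposition `(i j)` -/
theorem isT_swap (i j : Λ) (hij : i ≠ j) :
    IsT (pm (Equiv.swap i j)) (Pi.single i 1 + Pi.single j 1) (Pi.single i 1 + Pi.single j 1) := by
  intro x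
  change _ = x + dt (Pi.single i 1 + Pi.single j 1) x • _
  rw [add_dt, single_dt, single_dt]
  ext l
  rw [pm_apply, Equiv.symm_swap]
  simp only [Pi.add_apply, Pi.smul_apply, smul_eq_mul]
  by_cases hi : l = i
  · subst hi
    rw [Equiv.swap_apply_left, Pi.single_eq_same, Pi.single_eq_of_ne hij]
    generalize x j = u
    generalize x l = v
    revert u v; decide
  · by_cases hj : l = j
    · subst hj
      rw [Equiv.swap_apply_right, Pi.single_eq_same, Pi.single_eq_of_ne hi]
      generalize x i = u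
      generalize x l = v
      revert u v; decide
    · rw [Equiv.swap_apply_of_ne_of_ne hi hj, Pi.single_eq_of_ne hi, Pi.single_eq_of_ne hj]
      simp

/-- a permutation of the form `x ↦ x + (b ⬝ x) c` is trivial or a transposition with `c = {i, j}` -/
theorem isT_pm {σ : Equiv.Perm Λ} {b c : Λ → ZMod 2} (h : IsT (pm σ) b c) :
    σ = 1 ∨ ∃ i j, i ≠ j ∧ b i = 1 ∧ c = Pi.single i 1 + Pi.single j 1 := by
  by_cases hσ : σ = 1
  · exact Or.inl hσ
  · right
    obtain ⟨i, hi⟩ : ∃ i, σ i ≠ i := by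
      by_contra h0
      push Not at h0
      exact hσ (Equiv.ext h0)
    have h1 := h.apply (Pi.single i 1)
    rw [dt_single] at h1
    have h2 : pm σ (Pi.single i 1) = Pi.single (σ i) 1 := by
      ext l
      rw [pm_apply]
      by_cases hl : l = σ i
      · subst hl
        rw [Equiv.symm_apply_apply, Pi.single_eq_same, Pi.single_eq_same]
      · rw [Pi.single_eq_of_ne hl, Pi.single_eq_of_ne]
        intro h3
        rw [Equiv.symm_apply_eq] at h3
        exact hl h3
    rw [h2] at h1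
    rcases two_cases (b i) with hb | hb
    · exfalso
      rw [hb, zero_smul, add_zero] at h1
      have h3 := congrFun h1 i
      rw [Pi.single_eq_of_ne hi.symm, Pi.single_eq_same] at h3
      exact zero_ne_one h3
    · rw [hb, one_smul] at h1
      refine ⟨i, σ i, hi.symm, hb, ?_⟩
      rw [h1, ← add_assoc, add_self_W, zero_add]

/-! ### indicators -/

/-- the indicator of a set of points -/
def ind (s : Finset Λ) : Λ → ZMod 2 := fun i => if i ∈ s then 1 else 0

/-- the support -/
def spt (x : Λ → ZMod 2) : Finset Λ := univ.filter fun i => x i ≠ 0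

theorem mem_spt {x : Λ → ZMod 2} {i : Λ} : i ∈ spt x ↔ x i ≠ 0 := by simp [spt]

theorem ind_apply (s : Finset Λ) (i : Λ) : ind s i = if i ∈ s then 1 else 0 := rfl

theorem ind_of_mem {s : Finset Λ} {i : Λ} (h : i ∈ s) : ind s i = 1 := if_pos h

theorem ind_of_not_mem {s : Finset Λ} {i : Λ} (h : i ∉ s) : ind s i = 0 := if_neg h

theorem spt_ind (s : Finset Λ) : spt (ind s) = s := by
  ext i
  rw [mem_spt, ind_apply]
  split <;> simp_all

theorem ind_spt (x : Λ → ZMod 2) : ind (spt x) = x := by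
  ext i
  by_cases h : i ∈ spt x
  · rw [ind_of_mem h]
    rw [mem_spt] at h
    rcases two_cases (x i) with h0 | h1
    · exact absurd h0 h
    · exact h1.symm
  · rw [ind_of_not_mem h]
    rw [mem_spt, not_not] at h
    exact h.symm

theorem ind_injective : Function.Injective (ind : Finset Λ → Λ → ZMod 2) := by
  intro s t h
  rw [← spt_ind s, h, spt_ind]

theorem pm_ind (σ : Equiv.Perm Λ) (s : Finset Λ) : pm σ (ind s) = ind (s.map σ.toEmbedding) := by
  ext i
  rw [pm_apply, ind_apply, ind_apply]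
  congr 1
  rw [Finset.mem_map_equiv]

theorem sum_ind (s : Finset Λ) : ∑ i, ind s i = (s.card : ZMod 2) := by
  simp [ind]

theorem even_iff (x : Λ → ZMod 2) : ∑ i, x i = 0 ↔ Even (spt x).card := by
  conv_lhs => rw [← ind_spt x]
  rw [sum_ind, ZMod.natCast_eq_zero_iff_even]

/-- two sets of the same size are conjugate -/
theorem exists_perm {s t : Finset Λ} (h : s.card = t.card) :
    ∃ σ : Equiv.Perm Λ, pm σ (ind s) = ind t := by
  let e : {i // i ∈ s} ≃ {i // i ∈ t} := Finset.equivOfCardEq h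
  refine ⟨e.extendSubtype, ?_⟩
  rw [pm_ind]
  congr 1
  apply Finset.eq_of_subset_of_card_le
  · intro i hi
    rw [Finset.mem_map] at hi
    obtain ⟨j, hj, rfl⟩ := hi
    exact e.extendSubtype_mem j hj
  · rw [Finset.card_map, h]

/-- `2 ^ m - 1` choose anything is odd -/
theorem choose_odd (m : ℕ) : ∀ a ≤ 2 ^ m - 1, ¬ 2 ∣ (2 ^ m - 1).choose a := by
  intro a
  induction a with
  | zero => intro _; simp
  | succ a ih =>
    intro ha hd
    have h1 := ih (by omega)
    have h2 : 2 ∣ (2 ^ m).choose (a + 1) :=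
      Nat.Prime.dvd_choose_pow Nat.prime_two (by omega) (by omega)
    have h3 : (2 ^ m).choose (a + 1) = (2 ^ m - 1).choose a + (2 ^ m - 1).choose (a + 1) := by
      obtain ⟨r, hr⟩ : ∃ r, 2 ^ m = r + 1 := ⟨2 ^ m - 1, by have := Nat.one_le_two_pow (n := m); omega⟩
      rw [hr]; simp [Nat.choose_succ_succ]
    rw [h3] at h2
    exact h1 ((Nat.dvd_add_iff_left hd).mpr h2)

open scoped Pointwise in
/-- every vector is fixed by a Sylow 2-subgroup of `Sym Λ` -/
theorem exists_sylow {m : ℕ} (hcard : Fintype.card Λ + 1 = 2 ^ m) (c : Λ → ZMod 2) :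
    ∃ T : Subgroup (Equiv.Perm Λ), IsPGroup 2 T ∧
      Nat.card T = 2 ^ ((Fintype.card Λ).factorial.factorization 2) ∧ ∀ τ ∈ T, pm τ c = c := by
  have : Fact (Nat.Prime 2) := ⟨Nat.prime_two⟩
  obtain ⟨P⟩ : Nonempty (Sylow 2 (Equiv.Perm Λ)) := inferInstance
  set a := (spt c).card with ha
  have ha' : a ≤ 2 ^ m - 1 := by
    have : a ≤ Fintype.card Λ := Finset.card_le_univ _
    omega
  have hnd : ¬ 2 ∣ Nat.card (Set.powersetCard Λ a) := by
    rw [Set.powersetCard.card, Nat.card_eq_fintype_card]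
    have : Fintype.card Λ = 2 ^ m - 1 := by omega
    rw [this]
    exact choose_odd m a ha'
  have hP : IsPGroup 2 (P : Subgroup (Equiv.Perm Λ)) := P.isPGroup'
  obtain ⟨s, hs⟩ := hP.nonempty_fixed_point_of_prime_not_dvd_card (Set.powersetCard Λ a) hnd
  obtain ⟨σ, hσ⟩ := exists_perm (s := (s : Finset Λ)) (t := spt c) (by rw [s.2])
  rw [ind_spt] at hσ
  refine ⟨(P : Subgroup (Equiv.Perm Λ)).map (MulAut.conj σ).toMonoidHom, hP.map _, ?_, ?_⟩
  · rw [Subgroup.card_map_of_injective (MulAut.conj σ).injective, P.card_eq_multiplicity,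
      Nat.card_perm, Nat.card_eq_fintype_card]
  · rintro _ ⟨τ, hτ, rfl⟩
    have h1 : pm τ (ind (s : Finset Λ)) = ind (s : Finset Λ) := by
      have h2 := hs ⟨τ, hτ⟩
      have h3 : (τ • (s : Finset Λ) : Finset Λ) = s := congrArg Subtype.val h2
      rw [pm_ind]
      congr 1
      conv_rhs => rw [← h3]
      ext i
      rw [Finset.mem_map, Finset.mem_smul_finset]
      rfl
    change pm (σ * τ * σ⁻¹) c = c
    rw [map_mul, map_mul, map_inv]
    change pm σ (pm τ ((pm σ)⁻¹ c)) = c
    have h4 : (pm σ)⁻¹ c = ind (s : Finset Λ) := by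
      rw [← hσ]
      change ((pm σ)⁻¹ * pm σ) _ = _
      rw [inv_mul_cancel]; rfl
    rw [h4, h1, hσ]

/-! ### the hypotheses -/

/-- the hypotheses on the group `K` induced on `V_12` -/
structure Hyp (K : Subgroup (GV Λ)) (m : ℕ) : Prop where
  hm : 3 ≤ m
  card : Fintype.card Λ + 1 = 2 ^ m
  perm : ∀ σ : Equiv.Perm Λ, pm σ ∈ K
  count : ∀ R : Subgroup (GV Λ), R ≤ K → IsPGroup 2 R →
    Nat.card R ≤ 2 ^ (m - 1) * 2 ^ ((Fintype.card Λ).factorial.factorization 2)

instance finite_GV : Finite (GV Λ) := DFunLike.finite (GV Λ)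

/-- the even `b` such that `x ↦ x + (b ⬝ x) c` is in `K` -/
def Rc (K : Subgroup (GV Λ)) (b c : Λ → ZMod 2) : Prop :=
  ∑ i, b i = 0 ∧ ∃ k ∈ K, IsT k b c

variable {K : Subgroup (GV Λ)} {m : ℕ}

theorem Rc.add {b d c : Λ → ZMod 2} (h : Rc K b c) (h' : Rc K d c) (hc : c ≠ 0) :
    Rc K (b + d) c := by
  obtain ⟨h1, k, hk, h2⟩ := h
  obtain ⟨h3, l, hl, h4⟩ := h'
  refine ⟨?_, k * l, K.mul_mem hk hl, h2.mul h4 hc⟩
  simp only [Pi.add_apply, Finset.sum_add_distrib, h1, h3, add_zero]

theorem Rc.zero (c : Λ → ZMod 2) : Rc K 0 c := by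
  refine ⟨by simp, 1, K.one_mem, fun x => ?_⟩
  change x = x + dt 0 x • c
  rw [zero_dt, zero_smul, add_zero]

theorem Rc.dt_eq {b c : Λ → ZMod 2} (h : Rc K b c) (hc : c ≠ 0) : dt b c = 0 := by
  obtain ⟨_, k, _, h2⟩ := h
  exact h2.dt_eq hc

theorem Hyp.rc_pm (H : Hyp K m) {b c : Λ → ZMod 2} (h : Rc K b c) (σ : Equiv.Perm Λ) :
    Rc K (pm σ b) (pm σ c) := by
  obtain ⟨h1, k, hk, h2⟩ := h
  refine ⟨by rw [sum_pm, h1], pm σ * k * (pm σ)⁻¹, ?_, h2.conj_pm σ⟩
  exact K.mul_mem (K.mul_mem (H.perm σ) hk) (K.inv_mem (H.perm σ))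

/-- the group of all `b` -/
def RcS (K : Subgroup (GV Λ)) (c : Λ → ZMod 2) (hc : c ≠ 0) : AddSubgroup (Λ → ZMod 2) where
  carrier := {b | Rc K b c}
  add_mem' := fun h h' => Rc.add h h' hc
  zero_mem' := Rc.zero c
  neg_mem' := by
    intro b h
    have : -b = b := by
      rw [neg_eq_iff_add_eq_zero]; exact add_self_W b
    rw [this]; exact h

theorem mem_RcS {b c : Λ → ZMod 2} {hc : c ≠ 0} : b ∈ RcS K c hc ↔ Rc K b c := Iff.rfl

/-- twisting with a transposition -/
theorem Hyp.twist (H : Hyp K m) {i j : Λ} (hij : i ≠ j) {c : Λ → ZMod 2} (hcij : c i = c j)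
    (h : Rc K (Pi.single i 1 + Pi.single j 1) c) :
    Rc K (Pi.single i 1 + Pi.single j 1) (c + (Pi.single i 1 + Pi.single j 1)) := by
  obtain ⟨h1, k, hk, h2⟩ := h
  refine ⟨h1, pm (Equiv.swap i j) * k, K.mul_mem (H.perm _) hk, fun x => ?_⟩
  change pm (Equiv.swap i j) (k x) = x + dt (Pi.single i 1 + Pi.single j 1) x • _
  rw [(isT_swap i j hij).apply, h2.apply, dt_add, dt_smul]
  have h3 : dt (Pi.single i 1 + Pi.single j 1) c = 0 := by
    rw [add_dt, single_dt, single_dt, hcij]
    generalize c j = u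
    revert u; decide
  rw [h3, mul_zero, add_zero]
  generalize dt (Pi.single i 1 + Pi.single j 1) x = a
  generalize (Pi.single i 1 + Pi.single j 1 : Λ → ZMod 2) = w
  rw [smul_add, add_assoc]

/-- the bound -/
theorem Hyp.bound (H : Hyp K m) {c : Λ → ZMod 2} (hc : c ≠ 0) (D : AddSubgroup (Λ → ZMod 2))
    (hD : ∀ b ∈ D, Rc K b c)
    (hinv : ∀ b ∈ D, ∀ σ : Equiv.Perm Λ, pm σ c = c → pm σ b ∈ D)
    (hper : ∀ b ∈ D, ∀ σ : Equiv.Perm Λ, IsT (pm σ) b c → σ = 1) :
    Nat.card D ≤ 2 ^ (m - 1) := by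
  have : Fact (Nat.Prime 2) := ⟨Nat.prime_two⟩
  obtain ⟨T, hT, hTc, hTf⟩ := exists_sylow H.card c
  let A : Subgroup (GV Λ) :=
    { carrier := {k | k ∈ K ∧ ∃ b ∈ D, IsT k b c}
      mul_mem' := by
        rintro k l ⟨hk, b, hb, h1⟩ ⟨hl, d, hd, h2⟩
        exact ⟨K.mul_mem hk hl, b + d, D.add_mem hb hd, h1.mul h2 hc⟩
      one_mem' := by
        refine ⟨K.one_mem, 0, D.zero_mem, fun x => ?_⟩
        change x = x + dt 0 x • c
        rw [zero_dt, zero_smul, add_zero]
      inv_mem' := by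
        rintro k ⟨hk, b, hb, h1⟩
        have h2 : k⁻¹ = k := by
          rw [inv_eq_iff_mul_eq_one]; exact h1.sq hc
        rw [h2]; exact ⟨hk, b, hb, h1⟩ }
  have hAK : A ≤ K := fun k hk => hk.1
  have hA2 : IsPGroup 2 A := by
    intro k
    obtain ⟨_, b, _, h1⟩ := k.2
    refine ⟨1, ?_⟩
    ext1
    rw [pow_one, pow_two]
    exact h1.sq hc
  let B : Subgroup (GV Λ) := T.map pm
  have hBK : B ≤ K := by
    rintro _ ⟨τ, _, rfl⟩
    exact H.perm τ
  have hB2 : IsPGroup 2 B := hT.map pm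
  have hBc : Nat.card B = 2 ^ ((Fintype.card Λ).factorial.factorization 2) := by
    rw [← hTc]
    exact Subgroup.card_map_of_injective pm_injective
  have hAc : Nat.card D ≤ Nat.card A := by
    have h1 : ∀ b : D, ∃ k ∈ K, IsT k b.1 c := fun b => (hD b.1 b.2).2
    choose f hf hf' using h1
    refine Nat.card_le_card_of_injective (fun b : D => (⟨f b, hf b, b.1, b.2, hf' b⟩ : A)) ?_
    intro b d hbd
    have h2 : f b = f d := congrArg Subtype.val hbd
    ext1
    refine (hf' b).unique ?_ hc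
    rw [h2]; exact hf' d
  have hconj : ∀ τ ∈ T, ∀ k ∈ A, pm τ * k * (pm τ)⁻¹ ∈ A := by
    rintro τ hτ k ⟨hk, b, hb, h1⟩
    refine ⟨K.mul_mem (K.mul_mem (H.perm τ) hk) (K.inv_mem (H.perm τ)), pm τ b,
      hinv b hb τ (hTf τ hτ), ?_⟩
    have h2 := h1.conj_pm τ
    rwa [hTf τ hτ] at h2
  have hnorm : B ≤ Subgroup.normalizer (A : Set (GV Λ)) := by
    rintro _ ⟨τ, hτ, rfl⟩
    rw [Subgroup.mem_normalizer_iff]
    intro k
    refine ⟨fun hk => hconj τ hτ k hk, fun hk => ?_⟩
    have h2 := hconj τ⁻¹ (T.inv_mem hτ) _ hk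
    have h3 : pm τ⁻¹ * (pm τ * k * (pm τ)⁻¹) * (pm τ⁻¹)⁻¹ = k := by
      rw [map_inv]; group
    rwa [h3] at h2
  have hdis : Disjoint A B := by
    rw [Subgroup.disjoint_def]
    rintro _ ⟨_, b, hb, h1⟩ ⟨τ, _, rfl⟩
    rw [hper b hb τ h1, map_one]
  have hR2 : IsPGroup 2 (A ⊔ B : Subgroup (GV Λ)) := hA2.to_sup_of_normal_left' hB2 hnorm
  have hRK : A ⊔ B ≤ K := sup_le hAK hBK
  have h5 := H.count _ hRK hR2
  have h6 : Nat.card A * Nat.card B ≤ Nat.card (A ⊔ B : Subgroup (GV Λ)) := by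
    rw [← Nat.card_prod]
    refine Nat.card_le_card_of_injective
      (fun g : A × B => (⟨g.1 * g.2, Subgroup.mul_mem_sup g.1.2 g.2.2⟩ : (A ⊔ B : Subgroup (GV Λ)))) ?_
    intro g g' hg
    exact Subgroup.mul_injective_of_disjoint hdis (congrArg Subtype.val hg)
  rw [hBc] at h6
  have h7 : Nat.card A * 2 ^ ((Fintype.card Λ).factorial.factorization 2) ≤
      2 ^ (m - 1) * 2 ^ ((Fintype.card Λ).factorial.factorization 2) := h6.trans h5
  exact hAc.trans (Nat.le_of_mul_le_mul_right h7 (by positivity))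

theorem single_add_apply {i j l : Λ} (hij : i ≠ j) :
    (Pi.single i 1 + Pi.single j 1 : Λ → ZMod 2) l = 1 ↔ l = i ∨ l = j := by
  rw [Pi.add_apply]
  by_cases hi : l = i
  · subst hi
    rw [Pi.single_eq_same, Pi.single_eq_of_ne hij]; simp
  · by_cases hj : l = j
    · subst hj
      rw [Pi.single_eq_same, Pi.single_eq_of_ne hi]; simp
    · rw [Pi.single_eq_of_ne hi, Pi.single_eq_of_ne hj]; simp [hi, hj]

theorem single_add_ne {i j l : Λ} (hi : l ≠ i) (hj : l ≠ j) :
    (Pi.single i 1 + Pi.single j 1 : Λ → ZMod 2) l = 0 := by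
  rw [Pi.add_apply, Pi.single_eq_of_ne hi, Pi.single_eq_of_ne hj, add_zero]

theorem pm_swap_self {j l : Λ} {c : Λ → ZMod 2} (h : c j = c l) : pm (Equiv.swap j l) c = c := by
  ext r
  rw [pm_apply, Equiv.symm_swap]
  by_cases h1 : r = j
  · subst h1; rw [Equiv.swap_apply_left, h]
  · by_cases h2 : r = l
    · subst h2; rw [Equiv.swap_apply_right, h]
    · rw [Equiv.swap_apply_of_ne_of_ne h1 h2]

theorem pm_single (σ : Equiv.Perm Λ) (i : Λ) : pm σ (Pi.single i 1) = Pi.single (σ i) 1 := by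
  ext l
  rw [pm_apply]
  by_cases hl : l = σ i
  · subst hl
    rw [Equiv.symm_apply_apply, Pi.single_eq_same, Pi.single_eq_same]
  · rw [Pi.single_eq_of_ne hl, Pi.single_eq_of_ne]
    intro h3
    rw [Equiv.symm_apply_eq] at h3
    exact hl h3

/-- (B): if `{i, j}` is inside a class of `c` and the map is in `K`, the class is small -/
theorem Hyp.small (H : Hyp K m) {c : Λ → ZMod 2} {i j : Λ} (hij : i ≠ j) (hcij : c i = c j)
    (hc : c ≠ 0) (hc' : c ≠ Pi.single i 1 + Pi.single j 1)
    (h : Rc K (Pi.single i 1 + Pi.single j 1) c) :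
    (univ.filter fun l => c l = c i).card ≤ m := by
  set A : Finset Λ := univ.filter fun l => c l = c i with hA
  have hmA : ∀ l, l ∈ A ↔ c l = c i := fun l => by simp [hA]
  -- the group of even vectors supported in `A`
  let D : AddSubgroup (Λ → ZMod 2) :=
    { carrier := {b | ∑ l, b l = 0 ∧ ∀ l, l ∉ A → b l = 0}
      add_mem' := by
        rintro b d ⟨h1, h2⟩ ⟨h3, h4⟩
        refine ⟨?_, fun l hl => ?_⟩
        · simp only [Pi.add_apply, Finset.sum_add_distrib, h1, h3, add_zero]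
        · rw [Pi.add_apply, h2 l hl, h4 l hl, add_zero]
      zero_mem' := ⟨by simp, fun _ _ => rfl⟩
      neg_mem' := by
        rintro b ⟨h1, h2⟩
        refine ⟨?_, fun l hl => ?_⟩
        · simp only [Pi.neg_apply, Finset.sum_neg_distrib, h1, neg_zero]
        · rw [Pi.neg_apply, h2 l hl, neg_zero] }
  have hpair : ∀ l ∈ A, l ≠ i → Rc K (Pi.single i 1 + Pi.single l 1) c := by
    intro l hl hli
    by_cases hlj : l = j
    · subst hlj; exact h
    · have h1 := H.rc_pm h (Equiv.swap j l)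
      rw [pm_swap_self (c := c) (by rw [(hmA l).1 hl, hcij]), map_add, pm_single, pm_single,
        Equiv.swap_apply_left, Equiv.swap_apply_of_ne_of_ne hij (Ne.symm hli)] at h1
      exact h1
  have hD : ∀ b ∈ D, Rc K b c := by
    rintro b ⟨hb1, hb2⟩
    have h1 : b = ∑ l ∈ A.erase i, b l • (Pi.single i 1 + Pi.single l 1 : Λ → ZMod 2) := by
      ext r
      rw [Finset.sum_apply]
      simp only [Pi.smul_apply, Pi.add_apply, smul_eq_mul]
      by_cases hr : r = i
      · subst hr
        have h2 : ∑ l ∈ A.erase r, b l * ((Pi.single r 1 : Λ → ZMod 2) r + (Pi.single l 1 : Λ → ZMod 2) r) =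
            ∑ l ∈ A.erase r, b l := by
          refine Finset.sum_congr rfl fun l hl => ?_
          rw [Pi.single_eq_same, Pi.single_eq_of_ne (Finset.ne_of_mem_erase hl).symm, add_zero, mul_one]
        rw [h2]
        have h3 : ∑ l, b l = ∑ l ∈ A, b l := by
          symm
          apply Finset.sum_subset (Finset.subset_univ _)
          intro l _ hl
          exact hb2 l hl
        have h4 : r ∈ A := by rw [hmA]
        rw [h3, ← Finset.add_sum_erase A b h4] at hb1
        generalize (∑ l ∈ A.erase r, b l) = u at hb1 ⊢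
        generalize b r = v at hb1 ⊢
        revert u v; decide
      · by_cases hrA : r ∈ A
        · rw [Finset.sum_eq_single r]
          · rw [Pi.single_eq_of_ne hr, Pi.single_eq_same, zero_add, mul_one]
          · intro l _ hlr
            rw [Pi.single_eq_of_ne hr, Pi.single_eq_of_ne (Ne.symm hlr), add_zero, mul_zero]
          · intro hr2
            exact absurd (Finset.mem_erase.2 ⟨hr, hrA⟩) hr2
        · rw [hb2 r hrA, Finset.sum_eq_zero]
          intro l hl
          have hlr : r ≠ l := by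
            rintro rfl
            exact hrA (Finset.mem_of_mem_erase hl)
          rw [Pi.single_eq_of_ne hr, Pi.single_eq_of_ne hlr, add_zero, mul_zero]
    have h2 : b ∈ RcS K c hc := by
      rw [h1]
      apply AddSubgroup.sum_mem
      intro l hl
      rcases two_cases (b l) with h0 | h0
      · rw [h0, zero_smul]; exact (RcS K c hc).zero_mem
      · rw [h0, one_smul]
        exact hpair l (Finset.mem_of_mem_erase hl) (Finset.ne_of_mem_erase hl)
    exact h2
  have hinv : ∀ b ∈ D, ∀ σ : Equiv.Perm Λ, pm σ c = c → pm σ b ∈ D := by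
    rintro b ⟨hb1, hb2⟩ σ hσ
    refine ⟨by rw [sum_pm, hb1], fun l hl => ?_⟩
    rw [pm_apply]
    apply hb2
    intro hl2
    apply hl
    rw [hmA] at hl2 ⊢
    have := congrFun hσ l
    rw [pm_apply] at this
    rw [← this, hl2]
  have hper : ∀ b ∈ D, ∀ σ : Equiv.Perm Λ, IsT (pm σ) b c → σ = 1 := by
    rintro b ⟨hb1, hb2⟩ σ hσ
    rcases isT_pm hσ with h1 | ⟨i', j', hij', hbi, hcc⟩
    · exact h1
    · exfalso
      have h2 : i' ∈ A := by
        by_contra h3
        rw [hb2 i' h3] at hbi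
        exact zero_ne_one hbi
      have h3 : c i' = 1 := by
        rw [hcc, single_add_apply hij']; exact Or.inl rfl
      rw [hmA] at h2
      have h4 : c i = 1 := by rw [← h2, h3]
      have h5 : c j = 1 := by rw [← hcij, h4]
      rw [hcc, single_add_apply hij'] at h4 h5
      apply hc'
      rcases h4 with h4 | h4 <;> rcases h5 with h5 | h5
      · exact absurd (h4.trans h5.symm) hij
      · rw [hcc, h4, h5]
      · rw [hcc, h4, h5, add_comm]
      · exact absurd (h4.trans h5.symm) hij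
  have h1 := H.bound hc D hD hinv hper
  have hiA : i ∈ A := by rw [hmA]
  have h2 : 2 ^ (A.card - 1) ≤ Nat.card D := by
    rw [← Finset.card_erase_of_mem hiA, ← Finset.card_powerset, ← Nat.card_eq_finsetCard]
    refine Nat.card_le_card_of_injective
      (fun s : {s // s ∈ (A.erase i).powerset} =>
        (⟨ind s.1 + (s.1.card : ZMod 2) • Pi.single i 1, ?_, ?_⟩ : D)) ?_
    · have h3 : ∑ l, (Pi.single i 1 : Λ → ZMod 2) l = 1 := by simp
      simp only [Pi.add_apply, Finset.sum_add_distrib, sum_ind, Pi.smul_apply, smul_eq_mul,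
        ← Finset.mul_sum, h3, mul_one]
      generalize (s.1.card : ZMod 2) = u
      revert u; decide
    · intro l hl
      have h3 : l ∉ s.1 := fun h4 =>
        hl (Finset.mem_of_mem_erase (Finset.mem_powerset.1 s.2 h4))
      have h4 : l ≠ i := by
        rintro rfl
        exact hl hiA
      rw [Pi.add_apply, Pi.smul_apply, Pi.single_eq_of_ne h4, ind_of_not_mem h3, smul_zero, add_zero]
    · intro s t hst
      have h3 : ind s.1 + (s.1.card : ZMod 2) • Pi.single i 1 =
        ind t.1 + (t.1.card : ZMod 2) • Pi.single i 1 := congrArg Subtype.val hst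
      ext1
      apply ind_injective
      ext l
      by_cases hl : l = i
      · subst hl
        rw [ind_of_not_mem, ind_of_not_mem]
        · intro h4
          exact Finset.notMem_erase l A (Finset.mem_powerset.1 t.2 h4)
        · intro h4
          exact Finset.notMem_erase l A (Finset.mem_powerset.1 s.2 h4)
      · have h5 := congrFun h3 l
        rw [Pi.add_apply, Pi.smul_apply, Pi.add_apply, Pi.smul_apply, Pi.single_eq_of_ne hl,
          smul_zero, smul_zero, add_zero, add_zero] at h5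
        exact h5
  have h3 := h2.trans h1
  have h4 : A.card - 1 ≤ m - 1 := (Nat.pow_le_pow_iff_right (by norm_num)).1 h3
  have h5 : 0 < A.card := Finset.card_pos.2 ⟨i, hiA⟩
  have := H.hm
  omega

/-- (C) -/
theorem Hyp.pair (H : Hyp K m) {c : Λ → ZMod 2} {i j : Λ} (hij : i ≠ j) (hcij : c i = c j)
    (h : Rc K (Pi.single i 1 + Pi.single j 1) c) :
    c = 0 ∨ c = Pi.single i 1 + Pi.single j 1 := by
  by_contra hcon
  push Not at hcon
  obtain ⟨hc, hc'⟩ := hcon
  set w : Λ → ZMod 2 := Pi.single i 1 + Pi.single j 1 with hw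
  have h1 := H.small hij hcij hc hc' h
  have hwi : w i = 1 := (single_add_apply hij).2 (Or.inl rfl)
  have hwj : w j = 1 := (single_add_apply hij).2 (Or.inr rfl)
  have h2 := H.small (c := c + w) hij (by rw [Pi.add_apply, Pi.add_apply, hwi, hwj, hcij])
    (fun h3 => hc' (by
      have h4 := congrArg (fun x => x + w) h3
      simpa [add_assoc, add_self_W] using h4))
    (fun h3 => hc (by
      have h4 := congrArg (fun x => x + w) h3
      change c + w + w = w + w at h4
      rwa [add_assoc, add_self_W, add_zero] at h4))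
    (H.twist hij hcij h)
  have h3 : univ ⊆ (univ.filter fun l => c l = c i) ∪ (univ.filter fun l => (c + w) l = (c + w) i) := by
    intro l _
    rw [Finset.mem_union, Finset.mem_filter, Finset.mem_filter]
    by_cases hl : c l = c i
    · exact Or.inl ⟨Finset.mem_univ _, hl⟩
    · right
      refine ⟨Finset.mem_univ _, ?_⟩
      have h4 : l ≠ i := by rintro rfl; exact hl rfl
      have h5 : l ≠ j := by rintro rfl; exact hl hcij.symm
      rw [Pi.add_apply, Pi.add_apply, hwi, hw, single_add_ne h4 h5]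
      generalize c l = u at hl ⊢
      generalize c i = v at hl ⊢
      revert u v; decide
  have h4 := (Finset.card_le_card h3).trans (Finset.card_union_le _ _)
  rw [Finset.card_univ] at h4
  have h5 := H.card
  have h6 := H.hm
  have h7 : 2 * m + 1 < 2 ^ m := by
    clear_value w
    clear h1 h2 h3 h4 h5 h hcij hwi hwj hc hc' hw H
    induction m, h6 using Nat.le_induction with
    | base => norm_num
    | succ n hn ih => rw [pow_succ]; omega
  omega

/-- first part of (1b) -/
theorem Hyp.first (H : Hyp K m) {b c : Λ → ZMod 2} (h : Rc K b c) :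
    b = 0 ∨ c = 0 ∨ c = b ∨ c = b + 1 := by
  by_cases hc : c = 0
  · exact Or.inr (Or.inl hc)
  by_cases hb : b = 0
  · exact Or.inl hb
  right; right
  -- `b` is constant on the classes of `c`
  have hconst : ∀ i j, c i = c j → b i = b j := by
    intro i j hcij
    by_contra hbij
    have hij : i ≠ j := fun h0 => hbij (by rw [h0])
    have h1 := H.rc_pm h (Equiv.swap i j)
    rw [pm_swap_self hcij] at h1
    have h2 := h.add h1 hc
    have h3 : b + pm (Equiv.swap i j) b = Pi.single i 1 + Pi.single j 1 := by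
      have hsum : b i + b j = 1 := by
        generalize b i = u at hbij ⊢
        generalize b j = v at hbij ⊢
        revert u v; decide
      ext l
      rw [Pi.add_apply, pm_apply, Equiv.symm_swap]
      by_cases hl : l = i
      · subst hl
        rw [Equiv.swap_apply_left, hsum]
        exact ((single_add_apply hij).2 (Or.inl rfl)).symm
      · by_cases hl2 : l = j
        · subst hl2
          rw [Equiv.swap_apply_right, add_comm, hsum]
          exact ((single_add_apply hij).2 (Or.inr rfl)).symm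
        · rw [Equiv.swap_apply_of_ne_of_ne hl hl2, single_add_ne hl hl2]
          generalize b l = u
          revert u; decide
    rw [h3] at h2
    rcases H.pair hij hcij h2 with h4 | h4
    · exact hc h4
    · have h5 := h.dt_eq hc
      rw [h4, dt_add, dt_single, dt_single] at h5
      generalize b i = u at hbij h5
      generalize b j = v at hbij h5
      revert u v; decide
  -- `b` is not constant
  obtain ⟨hb0, _⟩ := h
  have hodd : ¬ Even (Fintype.card Λ) := by
    have h1 := H.card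
    have h2 := H.hm
    intro h3
    have h4 : Even (2 ^ m) := (Nat.even_pow).2 ⟨even_two, by omega⟩
    rw [← h1] at h4
    exact (Nat.even_add_one.1 h4) h3
  obtain ⟨i, hi⟩ : ∃ i, b i ≠ 0 := by
    by_contra h0
    push Not at h0
    exact hb (funext h0)
  have hi1 : b i = 1 := (two_cases _).resolve_left hi
  obtain ⟨j, hj⟩ : ∃ j, b j = 0 := by
    by_contra h0
    push Not at h0
    apply hodd
    rw [even_iff] at hb0
    have : spt b = univ := by
      ext l; rw [mem_spt]; simp [h0 l]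
    rwa [this, Finset.card_univ] at hb0
  have hcij : c i ≠ c j := fun h1 => by
    have h2 := hconst i j h1
    rw [hi1, hj] at h2
    exact one_ne_zero h2
  rcases two_cases (c i) with h1 | h1
  · right
    have h2 : c j = 1 := (two_cases _).resolve_left (fun h3 => hcij (by rw [h1, h3]))
    ext l
    rw [Pi.add_apply, Pi.one_apply]
    rcases two_cases (c l) with h3 | h3
    · rw [hconst l i (by rw [h3, h1]), hi1, h3]; decide
    · rw [hconst l j (by rw [h3, h2]), hj, h3]; decide
  · left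
    have h2 : c j = 0 := (two_cases _).resolve_right (fun h3 => hcij (by rw [h1, h3]))
    ext l
    rcases two_cases (c l) with h3 | h3
    · rw [hconst l j (by rw [h3, h2]), hj, h3]
    · rw [hconst l i (by rw [h3, h1]), hi1, h3]

/-! ### the weight of `b` -/

/-- the even `b` such that `x ↦ x + (b ⬝ x) (b + ε)` is in `K` for some `ε` -/
def Cen (K : Subgroup (GV Λ)) (b : Λ → ZMod 2) : Prop :=
  ∑ i, b i = 0 ∧ ∃ k ∈ K, ∃ e : ZMod 2, IsT k b (b + e • 1)

theorem Cen.add {b d : Λ → ZMod 2} (h : Cen K b) (h' : Cen K d) (hbd : dt b d = 1) :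
    Cen K (b + d) := by
  obtain ⟨hb, k, hk, e, h1⟩ := h
  obtain ⟨hd, l, hl, z, h2⟩ := h'
  have hb1 : dt b 1 = 0 := by rw [dt_one, hb]
  have hd1 : dt d 1 = 0 := by rw [dt_one, hd]
  have hbb : dt b b = 0 := by rw [dt_self, hb]
  have hdb : dt d b = 1 := by rw [dt_comm, hbd]
  refine ⟨?_, k * l * k⁻¹, K.mul_mem (K.mul_mem hk hl) (K.inv_mem hk), z + e, ?_⟩
  · simp only [Pi.add_apply, Finset.sum_add_distrib, hb, hd, add_zero]
  · have h3 : ∀ x, dt (b + d) x = dt d (k⁻¹ x) := by
      intro x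
      have h4 : k (k⁻¹ x) = x := by
        change (k * k⁻¹) x = x
        rw [mul_inv_cancel]; rfl
      conv_lhs => rw [← h4, h1.apply]
      rw [add_dt, dt_add, dt_add, dt_smul, dt_smul, dt_add, dt_add, dt_smul, dt_smul, hbb, hb1,
        hdb, hd1, mul_zero, add_zero, add_zero, mul_one, mul_zero, add_zero]
      generalize dt b (k⁻¹ x) = u
      generalize dt d (k⁻¹ x) = v
      revert u v; decide
    have h4 := h2.conj h3
    have h5 : k (d + z • 1) = b + d + (z + e) • 1 := by
      rw [h1.apply, dt_add, dt_smul, hb1, hbd, mul_zero, add_zero, one_smul, add_smul]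
      abel
    rwa [h5] at h4

theorem Hyp.cen_pm (H : Hyp K m) {b : Λ → ZMod 2} (h : Cen K b) (σ : Equiv.Perm Λ) :
    Cen K (pm σ b) := by
  obtain ⟨h1, k, hk, e, h2⟩ := h
  refine ⟨by rw [sum_pm, h1], pm σ * k * (pm σ)⁻¹,
    K.mul_mem (K.mul_mem (H.perm σ) hk) (K.inv_mem (H.perm σ)), e, ?_⟩
  have h3 := h2.conj_pm σ
  rw [map_add, map_smul] at h3
  exact h3

theorem dt_ind (s t : Finset Λ) : dt (ind s) (ind t) = ((s ∩ t).card : ZMod 2) := by
  rw [← sum_ind]
  simp only [dt, ind_apply, Finset.mem_inter]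
  refine Finset.sum_congr rfl fun i _ => ?_
  by_cases h1 : i ∈ s <;> by_cases h2 : i ∈ t <;> simp [h1, h2]

/-- all vectors of weight `a` are in `Cen` -/
def CW (K : Subgroup (GV Λ)) (a : ℕ) : Prop := ∀ s : Finset Λ, s.card = a → Cen K (ind s)

theorem Hyp.cw_of (H : Hyp K m) {s : Finset Λ} (h : Cen K (ind s)) : CW K s.card := by
  intro t ht
  obtain ⟨σ, hσ⟩ := exists_perm ht.symm
  rw [← hσ]
  exact H.cen_pm h σ

theorem Hyp.cw_step (H : Hyp K m) {a a' t : ℕ} (h : CW K a) (h' : CW K a') (ht : Odd t)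
    (hta : t ≤ a) (hta' : t ≤ a') (hc : a + a' ≤ Fintype.card Λ + t) :
    CW K (a + a' - 2 * t) := by
  obtain ⟨T, _, hT⟩ := Finset.exists_subset_card_eq (s := (univ : Finset Λ)) (n := t)
    (by rw [Finset.card_univ]; omega)
  obtain ⟨U, hU1, hU⟩ := Finset.exists_subset_card_eq (s := (univ \ T : Finset Λ)) (n := a - t)
    (by rw [Finset.card_sdiff_of_subset (Finset.subset_univ _), Finset.card_univ]; omega)
  obtain ⟨V, hV1, hV⟩ := Finset.exists_subset_card_eq (s := ((univ \ T) \ U : Finset Λ)) (n := a' - t)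
    (by
      rw [Finset.card_sdiff_of_subset hU1, Finset.card_sdiff_of_subset (Finset.subset_univ _),
        Finset.card_univ]; omega)
  have hTU : Disjoint T U := by
    rw [Finset.disjoint_left]
    intro i hi hi2
    exact (Finset.mem_sdiff.1 (hU1 hi2)).2 hi
  have hTV : Disjoint T V := by
    rw [Finset.disjoint_left]
    intro i hi hi2
    exact (Finset.mem_sdiff.1 (Finset.mem_sdiff.1 (hV1 hi2)).1).2 hi
  have hUV : Disjoint U V := by
    rw [Finset.disjoint_left]
    intro i hi hi2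
    exact (Finset.mem_sdiff.1 (hV1 hi2)).2 hi
  have h1 : Cen K (ind (T ∪ U)) := h _ (by rw [Finset.card_union_of_disjoint hTU]; omega)
  have h2 : Cen K (ind (T ∪ V)) := h' _ (by rw [Finset.card_union_of_disjoint hTV]; omega)
  have h3 : (T ∪ U) ∩ (T ∪ V) = T := by
    rw [← Finset.union_inter_distrib_left, Finset.disjoint_iff_inter_eq_empty.1 hUV,
      Finset.union_empty]
  have h4 : dt (ind (T ∪ U)) (ind (T ∪ V)) = 1 := by
    rw [dt_ind, h3, hT]
    exact (ZMod.natCast_eq_one_iff_odd).2 ht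
  have h5 := h1.add h2 h4
  have h6 : ind (T ∪ U) + ind (T ∪ V) = (ind (U ∪ V) : Λ → ZMod 2) := by
    ext i
    rw [Pi.add_apply, ind_apply, ind_apply, ind_apply]
    simp only [Finset.mem_union]
    by_cases hiT : i ∈ T
    · have hiU := Finset.disjoint_left.1 hTU hiT
      have hiV := Finset.disjoint_left.1 hTV hiT
      simp only [hiT, hiU, hiV, or_false, if_true, if_false]; decide
    · by_cases hiU : i ∈ U
      · have hiV := Finset.disjoint_left.1 hUV hiU
        simp [hiT, hiU, hiV]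
      · simp [hiT, hiU]
  rw [h6] at h5
  have h7 := H.cw_of h5
  rw [Finset.card_union_of_disjoint hUV, hU, hV] at h7
  have h8 : a + a' - 2 * t = a - t + (a' - t) := by omega
  rw [h8]; exact h7

theorem Hyp.cw_top (H : Hyp K m) {a : ℕ} (ha : Even a) (ha4 : 4 ≤ a) (ha' : a + 2 ≤ 2 ^ m)
    (h : CW K a) : CW K (2 ^ m - 2) := by
  have hcard := H.card
  have hm := H.hm
  have h8 : 8 ∣ 2 ^ m := ⟨2 ^ (m - 3), by
    rw [show (8 : ℕ) = 2 ^ 3 from rfl, ← pow_add]; congr 1; omega⟩
  obtain ⟨q, hq⟩ := h8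
  obtain ⟨a1, ha1⟩ := ha
  by_cases h0 : a + 2 = 2 ^ m
  · have : 2 ^ m - 2 = a := by omega
    rw [this]; exact h
  · have h6 : CW K 6 := by
      have h1 := H.cw_step (t := a - 3) h h (by
        rw [Nat.odd_iff]; omega) (by omega) (by omega) (by omega)
      have h2 : a + a - 2 * (a - 3) = 6 := by omega
      rwa [h2] at h1
    have hr : ∀ r, 6 + 4 * r + 2 ≤ 2 ^ m → CW K (6 + 4 * r) := by
      intro r
      induction r with
      | zero => intro _; exact h6
      | succ r ih =>
        intro h1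
        have h2 := H.cw_step (t := 1) (ih (by omega)) h6 odd_one (by omega) (by omega) (by omega)
        have h3 : 6 + 4 * r + 6 - 2 * 1 = 6 + 4 * (r + 1) := by omega
        rwa [h3] at h2
    have h1 := hr (2 * q - 2) (by omega)
    have h2 : 6 + 4 * (2 * q - 2) = 2 ^ m - 2 := by omega
    rwa [h2] at h1

/-! ### the full symmetric group on `Option Λ` is too big -/

theorem dt_one_add_single (k : Λ) (x : Λ → ZMod 2) :
    dt (1 + Pi.single k 1) x = (∑ i, x i) + x k := by
  rw [add_dt, single_dt, dt_comm, dt_one]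

theorem pm_one_vec (σ : Equiv.Perm Λ) : pm σ (1 : Λ → ZMod 2) = 1 := by
  ext i; rw [pm_apply]; rfl

/-- (1b), the final count -/
theorem Hyp.no_top (H : Hyp K m) (h : CW K (2 ^ m - 2)) : False := by
  have hp2 : Fact (Nat.Prime 2) := ⟨Nat.prime_two⟩
  have hcard := H.card
  have hm := H.hm
  have h8 : 8 ≤ 2 ^ m := by
    calc 8 = 2 ^ 3 := by norm_num
      _ ≤ 2 ^ m := Nat.pow_le_pow_right (by norm_num) hm
  have hn1 : ((Fintype.card Λ : ℕ) : ZMod 2) = 1 := by
    rw [ZMod.natCast_eq_one_iff_odd, Nat.odd_iff]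
    have h9 : 2 ∣ 2 ^ m := dvd_pow_self 2 (by omega)
    omega
  have hsone : ∑ i : Λ, (1 : Λ → ZMod 2) i = 1 := by
    simp only [Pi.one_apply, Finset.sum_const, Finset.card_univ, nsmul_eq_mul, mul_one]
    exact hn1
  have hssingle : ∀ k : Λ, ∑ i : Λ, (Pi.single k 1 : Λ → ZMod 2) i = 1 := fun k => by simp
  obtain ⟨k0⟩ : Nonempty Λ := Fintype.card_pos_iff.1 (by omega)
  -- the complement of a point
  have hind : ∀ k : Λ, ind (univ.erase k) = (1 + Pi.single k 1 : Λ → ZMod 2) := by
    intro k; ext i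
    rw [ind_apply, Pi.add_apply, Pi.one_apply]
    by_cases hi : i = k
    · subst hi; rw [Pi.single_eq_same, if_neg (Finset.notMem_erase _ _)]
      exact z_one_one.symm
    · rw [Pi.single_eq_of_ne hi, if_pos (Finset.mem_erase.2 ⟨hi, Finset.mem_univ _⟩), add_zero]
  have hcen : Cen K (1 + Pi.single k0 1 : Λ → ZMod 2) := by
    rw [← hind]
    apply h
    rw [Finset.card_erase_of_mem (Finset.mem_univ _), Finset.card_univ]; omega
  obtain ⟨_, t0, ht0, e, he⟩ := hcen
  have hall : ∀ k : Λ, ∃ t ∈ K, IsT t (1 + Pi.single k 1) (1 + Pi.single k 1 + e • 1) := by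
    intro k
    refine ⟨pm (Equiv.swap k0 k) * t0 * (pm (Equiv.swap k0 k))⁻¹,
      K.mul_mem (K.mul_mem (H.perm _) ht0) (K.inv_mem (H.perm _)), ?_⟩
    have h1 := he.conj_pm (Equiv.swap k0 k)
    rwa [map_add, map_add, map_add, map_smul, pm_single, pm_one_vec, Equiv.swap_apply_left] at h1
  choose t htK ht using hall
  have he2 := two_cases e
  -- the centre `c k`
  have hcne : ∀ k : Λ, (1 + Pi.single k 1 + e • 1 : Λ → ZMod 2) ≠ 0 := by
    intro k h1
    rcases he2 with h2 | h2
    · rw [h2, zero_smul, add_zero, ← hind] at h1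
      have h3 := congrArg (fun x => (spt x).card) h1
      simp only [spt_ind] at h3
      rw [Finset.card_erase_of_mem (Finset.mem_univ _), Finset.card_univ] at h3
      have h4 : (spt (0 : Λ → ZMod 2)).card = 0 := by simp [spt]
      omega
    · rw [h2, one_smul] at h1
      have h3 := congrFun h1 k
      rw [Pi.add_apply, Pi.add_apply, Pi.single_eq_same, Pi.one_apply, Pi.zero_apply] at h3
      exact z_three h3
  have hcpair : ∀ k i j : Λ, i ≠ j →
      (1 + Pi.single k 1 + e • 1 : Λ → ZMod 2) ≠ Pi.single i 1 + Pi.single j 1 := by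
    intro k i j hij h1
    rcases he2 with h2 | h2
    · rw [h2, zero_smul, add_zero, ← hind] at h1
      have h3 : (Pi.single i 1 + Pi.single j 1 : Λ → ZMod 2) = ind {i, j} := by
        ext l
        rw [ind_apply]
        by_cases hl : l = i ∨ l = j
        · rw [(single_add_apply hij).2 hl, if_pos (by simpa using hl)]
        · push Not at hl
          rw [single_add_ne hl.1 hl.2, if_neg (by simpa using hl)]
      rw [h3] at h1
      have h4 := congrArg Finset.card (ind_injective h1)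
      rw [Finset.card_erase_of_mem (Finset.mem_univ _), Finset.card_univ,
        Finset.card_pair hij] at h4
      omega
    · have h3 := congrArg (fun x : Λ → ZMod 2 => ∑ l, x l) h1
      simp only [h2, one_smul, Pi.add_apply, Finset.sum_add_distrib, hssingle, hsone] at h3
      exact z_three' h3
  have htpm : ∀ (k : Λ) (σ : Equiv.Perm Λ), pm σ ≠ t k := by
    intro k σ h1
    have h2 := ht k
    rw [← h1] at h2
    rcases isT_pm h2 with h3 | ⟨i, j, hij, _, h3⟩
    · rw [h3] at h2
      obtain ⟨l, hl⟩ : ∃ l : Λ, l ≠ k := by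
        have : 1 < Fintype.card Λ := by omega
        obtain ⟨l, hl⟩ := Fintype.exists_ne_of_one_lt_card this k
        exact ⟨l, hl⟩
      have h4 := h2.apply (Pi.single l 1)
      rw [map_one, dt_single, Pi.add_apply, Pi.single_eq_of_ne hl, add_zero, Pi.one_apply,
        one_smul] at h4
      apply hcne k
      change (Pi.single l 1 : Λ → ZMod 2) = _ at h4
      exact (left_eq_add.1 h4)
    · exact hcpair k i j hij h3
  have hsq : ∀ k, t k * t k = 1 := fun k => (ht k).sq (hcne k)
  have hconj : ∀ (σ : Equiv.Perm Λ) (k : Λ), pm σ * t k * (pm σ)⁻¹ = t (σ k) := by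
    intro σ k
    have h1 := (ht k).conj_pm σ
    rw [map_add, map_add, map_add, map_smul, pm_single, pm_one_vec] at h1
    exact h1.ext (ht (σ k))
  have hconj' : ∀ (σ : Equiv.Perm Λ) (k : Λ), t k * pm σ = pm σ * t (σ⁻¹ k) := by
    intro σ k
    rw [← hconj σ⁻¹ k, map_inv]; group
  have hmul : ∀ k l : Λ, k ≠ l → t k * t l = pm (Equiv.swap k l) * t k := by
    intro k l hkl
    ext1 x
    change t k (t l x) = pm (Equiv.swap k l) (t k x)
    have h1 : dt (1 + Pi.single k 1) (1 : Λ → ZMod 2) = 0 := by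
      rw [dt_one_add_single, hsone]; exact z_one_one
    have h2 : dt (1 + Pi.single l 1) (1 : Λ → ZMod 2) = 0 := by
      rw [dt_one_add_single, hsone]; exact z_one_one
    have h3 : dt (1 + Pi.single k 1) (1 + Pi.single l 1 : Λ → ZMod 2) = 1 := by
      rw [dt_add, h1, dt_one_add_single, hssingle, Pi.single_eq_of_ne hkl, zero_add, add_zero]
    have h4 : dt (1 + Pi.single k 1) (1 + Pi.single k 1 : Λ → ZMod 2) = 0 := by
      rw [dt_add, h1, dt_one_add_single, hssingle, Pi.single_eq_same, zero_add]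
      exact z_one_one
    have h5 : dt (1 + Pi.single l 1) (1 + Pi.single k 1 : Λ → ZMod 2) = 1 := by
      rw [dt_comm, h3]
    have hw : (Pi.single k 1 + Pi.single l 1 : Λ → ZMod 2) =
        (1 + Pi.single k 1) + (1 + Pi.single l 1) := by
      rw [add_add_add_comm, add_self_W, zero_add]
    rw [(isT_swap k l hkl).apply, (ht k).apply x, (ht l).apply, (ht k).apply, hw]
    generalize (1 + Pi.single k 1 : Λ → ZMod 2) = sk at h1 h3 h4 h5 ⊢
    generalize (1 + Pi.single l 1 : Λ → ZMod 2) = sl at h2 h3 h5 ⊢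
    simp only [dt_add, add_dt, dt_smul, h1, h2, h3, h4, h5, mul_one, mul_zero, add_zero, zero_add]
    generalize dt sk x = u
    generalize dt sl x = v
    have h6 : u + v + u = v := by
      have : u + v + u = v + (u + u) := by ring
      rw [this, CharTwo.add_self_eq_zero, add_zero]
    rw [h6]
    ext i
    simp only [Pi.add_apply, Pi.smul_apply, smul_eq_mul, Pi.one_apply]
    have h7 : v * e + v * e = 0 := CharTwo.add_self_eq_zero _
    linear_combination h7
  -- the group of order `|Λ|! * (|Λ| + 1)`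
  let f : Equiv.Perm Λ × Option Λ → GV Λ := fun p => pm p.1 * p.2.elim 1 t
  have hf : Function.Injective f := by
    rintro ⟨σ, a⟩ ⟨τ, b⟩ hab
    change pm σ * a.elim 1 t = pm τ * b.elim 1 t at hab
    rcases a with _ | k <;> rcases b with _ | l
    · change pm σ * 1 = pm τ * 1 at hab
      rw [mul_one, mul_one] at hab
      rw [pm_injective hab]
    · exfalso
      change pm σ * 1 = pm τ * t l at hab
      apply htpm l (τ⁻¹ * σ)
      rw [map_mul, map_inv, ← mul_one (pm σ), hab, inv_mul_cancel_left]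
    · exfalso
      change pm σ * t k = pm τ * 1 at hab
      apply htpm k (σ⁻¹ * τ)
      rw [map_mul, map_inv, ← mul_one (pm τ), ← hab, inv_mul_cancel_left]
    · change pm σ * t k = pm τ * t l at hab
      by_cases hkl : k = l
      · subst hkl
        rw [pm_injective (mul_right_cancel hab)]
      · exfalso
        -- `t k t l = pm (σ⁻¹ τ)`
        have h1 : t k * t l = pm (σ⁻¹ * τ) := by
          have h2 : t l * t l = 1 := hsq l
          have h3 : t k = (pm σ)⁻¹ * (pm τ * t l) := by rw [← hab, inv_mul_cancel_left]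
          rw [h3, map_mul, map_inv, mul_assoc, mul_assoc, h2, mul_one]
        rw [hmul k l hkl] at h1
        apply htpm k ((Equiv.swap k l)⁻¹ * (σ⁻¹ * τ))
        rw [map_mul, ← h1, map_inv, inv_mul_cancel_left]
  let X : Subgroup (GV Λ) :=
    { carrier := Set.range f
      mul_mem' := by
        rintro _ _ ⟨⟨σ, a⟩, rfl⟩ ⟨⟨τ, b⟩, rfl⟩
        rcases a with _ | k
        · refine ⟨⟨σ * τ, b⟩, ?_⟩
          change pm (σ * τ) * b.elim 1 t = pm σ * 1 * (pm τ * b.elim 1 t)
          rw [map_mul, mul_one, mul_assoc]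
        · rcases b with _ | l
          · refine ⟨⟨σ * τ, some (τ⁻¹ k)⟩, ?_⟩
            change pm (σ * τ) * t (τ⁻¹ k) = pm σ * t k * (pm τ * 1)
            rw [mul_one, mul_assoc, hconj', map_mul, mul_assoc]
          · by_cases hkl : τ⁻¹ k = l
            · refine ⟨⟨σ * τ, none⟩, ?_⟩
              change pm (σ * τ) * 1 = pm σ * t k * (pm τ * t l)
              rw [mul_one, mul_assoc, ← mul_assoc (t k), hconj', hkl, mul_assoc (pm τ), hsq,
                mul_one, map_mul]
            · refine ⟨⟨σ * τ * Equiv.swap (τ⁻¹ k) l, some (τ⁻¹ k)⟩, ?_⟩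
              change pm (σ * τ * Equiv.swap (τ⁻¹ k) l) * t (τ⁻¹ k) = pm σ * t k * (pm τ * t l)
              rw [mul_assoc (pm σ) (t k), ← mul_assoc (t k), hconj', mul_assoc (pm τ), hmul _ _ hkl,
                map_mul, map_mul]
              simp only [mul_assoc]
      one_mem' := ⟨⟨1, none⟩, by change pm 1 * 1 = 1; rw [map_one, mul_one]⟩
      inv_mem' := by
        rintro _ ⟨⟨σ, a⟩, rfl⟩
        rcases a with _ | k
        · refine ⟨⟨σ⁻¹, none⟩, ?_⟩
          change pm σ⁻¹ * 1 = (pm σ * 1)⁻¹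
          rw [mul_one, mul_one, map_inv]
        · refine ⟨⟨σ⁻¹, some (σ k)⟩, ?_⟩
          change pm σ⁻¹ * t (σ k) = (pm σ * t k)⁻¹
          have h1 : (t k)⁻¹ = t k := by rw [inv_eq_iff_mul_eq_one]; exact hsq k
          rw [mul_inv_rev, h1, ← map_inv, hconj', inv_inv] }
  have hXK : X ≤ K := by
    rintro _ ⟨⟨σ, a⟩, rfl⟩
    rcases a with _ | k
    · exact K.mul_mem (H.perm σ) K.one_mem
    · exact K.mul_mem (H.perm σ) (htK k)
  have hXc : Nat.card X = (Fintype.card Λ).factorial * 2 ^ m := by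
    have h1 : Nat.card X = Nat.card (Equiv.Perm Λ × Option Λ) :=
      (Nat.card_congr (Equiv.ofInjective f hf)).symm
    rw [h1, Nat.card_prod, Nat.card_perm, Nat.card_eq_fintype_card, Nat.card_eq_fintype_card,
      Fintype.card_option, H.card]
  obtain ⟨P⟩ : Nonempty (Sylow 2 X) := inferInstance
  have hPc : Nat.card P = 2 ^ ((Fintype.card Λ).factorial.factorization 2 + m) := by
    rw [P.card_eq_multiplicity, hXc, Nat.factorization_mul (Nat.factorial_ne_zero _) (by positivity)]
    congr 1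
    rw [Finsupp.add_apply, Nat.Prime.factorization_pow Nat.prime_two, Finsupp.single_eq_same]
  have h1 := H.count ((P : Subgroup X).map X.subtype) ((Subgroup.map_subtype_le _).trans hXK)
    (P.isPGroup'.map _)
  rw [Subgroup.card_map_of_injective X.subtype_injective] at h1
  change Nat.card P ≤ _ at h1
  rw [hPc, ← pow_add] at h1
  have h2 := (Nat.pow_le_pow_iff_right (by norm_num)).1 h1
  omega

/-- **(1a) and (1b)** -/
theorem Hyp.main (H : Hyp K m) {k : GV Λ} {b c : Λ → ZMod 2} (hk : k ∈ K) (hb : ∑ i, b i = 0)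
    (hkb : ∀ x, k x = x + (∑ i, b i * x i) • c) :
    b = 0 ∨ c = 0 ∨ ((c = b ∨ c = b + 1) ∧ ∃ i j, i ≠ j ∧ b = Pi.single i 1 + Pi.single j 1) := by
  by_cases hb0 : b = 0
  · exact Or.inl hb0
  by_cases hc0 : c = 0
  · exact Or.inr (Or.inl hc0)
  right; right
  have h1 : Rc K b c := ⟨hb, k, hk, hkb⟩
  have h2 : c = b ∨ c = b + 1 := by
    rcases H.first h1 with h | h | h
    · exact absurd h hb0
    · exact absurd h hc0
    · exact h
  refine ⟨h2, ?_⟩
  have hcen : Cen K b := by
    rcases h2 with h3 | h3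
    · refine ⟨hb, k, hk, 0, ?_⟩
      rw [zero_smul, add_zero]
      subst h3; exact hkb
    · refine ⟨hb, k, hk, 1, ?_⟩
      rw [one_smul]
      subst h3; exact hkb
  have heven := (even_iff b).1 hb
  have hpos : (spt b).card ≠ 0 := by
    intro h3
    apply hb0
    rw [Finset.card_eq_zero] at h3
    rw [← ind_spt b, h3]
    ext i; rw [ind_of_not_mem (Finset.notMem_empty i)]; rfl
  by_cases h4 : (spt b).card = 2
  · obtain ⟨i, j, hij, h5⟩ := Finset.card_eq_two.1 h4
    refine ⟨i, j, hij, ?_⟩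
    rw [← ind_spt b, h5]
    ext l
    rw [ind_apply]
    by_cases hl : l = i ∨ l = j
    · rw [(single_add_apply hij).2 hl, if_pos (by simpa using hl)]
    · push Not at hl
      rw [single_add_ne hl.1 hl.2, if_neg (by simpa using hl)]
  · exfalso
    have h5 : (spt b).card ≤ Fintype.card Λ := Finset.card_le_univ _
    have h6 := H.card
    have h7 : 2 ∣ 2 ^ m := dvd_pow_self 2 (by have := H.hm; omega)
    have h8 : CW K (spt b).card := by
      apply H.cw_of
      rw [ind_spt]; exact hcen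
    have h9 := heven
    obtain ⟨r, hr⟩ := h9
    exact H.no_top (H.cw_top heven (by omega) (by omega) h8)

end Cfsg.Agent.Omega.NSix.SymF

end

section


/-!
# OMEGA N6 (H2): the end of (1b) of #16633

`Hyp.full` : under `SymF.Hyp K m`, if `K` fixes the all-one vector then `K = Sym Λ`.
-/

set_option autoImplicit false
set_option linter.unusedSectionVars false

namespace Cfsg.Agent.Omega.NSix.SymFull

open Finset Cfsg.Agent.Omega.NSix.SymF

variable {Λ : Type*} [Fintype Λ] [DecidableEq Λ]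

theorem ex_not (l : List Λ) (h : l.length < Fintype.card Λ) : ∃ x, ∀ y ∈ l, x ≠ y := by
  by_contra hc
  push Not at hc
  have h1 : l.toFinset = Finset.univ := by
    ext x
    obtain ⟨y, hy, rfl⟩ := hc x
    simpa using hy
  have h2 := l.toFinset_card_le
  rw [h1, Finset.card_univ] at h2
  omega

/-- a pair with two given coordinates -/
theorem pair_eq {v : Λ → ZMod 2} (hv : ∃ i j, i ≠ j ∧ v = Pi.single i 1 + Pi.single j 1) {b c : Λ}
    (hbc : b ≠ c) (hb : v b = 1) (hc : v c = 1) : v = Pi.single b 1 + Pi.single c 1 := by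
  obtain ⟨i, j, hij, rfl⟩ := hv
  rw [Pi.add_apply] at hb hc
  by_cases h1 : b = i
  · subst h1
    by_cases h2 : c = j
    · rw [h2]
    · rw [Pi.single_eq_of_ne hbc.symm, Pi.single_eq_of_ne h2] at hc
      exact absurd hc (by decide)
  · rw [Pi.single_eq_of_ne h1] at hb
    have h3 : b = j := by
      by_contra h3
      rw [Pi.single_eq_of_ne h3] at hb
      exact absurd hb (by decide)
    subst h3
    rw [Pi.single_eq_of_ne hbc.symm, add_zero] at hc
    have h4 : c = i := by
      by_contra h4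
      rw [Pi.single_eq_of_ne h4] at hc
      exact absurd hc (by decide)
    rw [h4, add_comm]

/-- a map on pairs which preserves the form and is additive comes from a permutation -/
theorem perm_of (h7 : 5 ≤ Fintype.card Λ) (μ : Λ → Λ → (Λ → ZMod 2))
    (hp : ∀ i j, i ≠ j → ∃ a b, a ≠ b ∧ μ i j = Pi.single a 1 + Pi.single b 1)
    (hs : ∀ i j, μ i j = μ j i)
    (ha : ∀ i j k, i ≠ j → j ≠ k → i ≠ k → μ i j = μ i k + μ j k)
    (hd : ∀ i j k, i ≠ j → i ≠ k → j ≠ k → dt (μ i j) (μ i k) = 1) :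
    ∃ σ : Equiv.Perm Λ, ∀ i j, i ≠ j → μ i j = Pi.single (σ i) 1 + Pi.single (σ j) 1 := by
  have star : ∀ i, ∃ a, ∀ j, j ≠ i → μ i j a = 1 := by
    intro i
    obtain ⟨j, hj⟩ := ex_not [i] (by simp; omega)
    obtain ⟨k, hk⟩ := ex_not [i, j] (by simp; omega)
    simp only [List.mem_cons, List.not_mem_nil, or_false, forall_eq_or_imp, forall_eq] at hj hk
    have h1 := hd i j k hj.symm hk.1.symm hk.2.symm
    obtain ⟨a, b, hab, e1⟩ := hp i j hj.symm
    -- the common letter
    have h2 : ∃ a b c, a ≠ b ∧ a ≠ c ∧ b ≠ c ∧ μ i j = Pi.single a 1 + Pi.single b 1 ∧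
        μ i k = Pi.single a 1 + Pi.single c 1 := by
      obtain ⟨c, d, hcd, e2⟩ := hp i k hk.1.symm
      rw [e1, add_dt, single_dt, single_dt, e2, Pi.add_apply, Pi.add_apply] at h1
      by_cases q1 : a = c
      · subst q1
        by_cases q2 : b = d
        · subst q2
          rw [Pi.single_eq_same, Pi.single_eq_same, Pi.single_eq_of_ne hab,
            Pi.single_eq_of_ne hab.symm] at h1
          exact absurd h1 (by decide)
        · exact ⟨a, b, d, hab, hcd, q2, e1, e2⟩
      · by_cases q2 : a = d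
        · subst q2
          by_cases q3 : b = c
          · subst q3
            rw [Pi.single_eq_same, Pi.single_eq_same, Pi.single_eq_of_ne hab,
              Pi.single_eq_of_ne hab.symm] at h1
            exact absurd h1 (by decide)
          · exact ⟨a, b, c, hab, q1, q3, e1, by rw [e2, add_comm]⟩
        · rw [Pi.single_eq_of_ne q1, Pi.single_eq_of_ne q2] at h1
          by_cases q3 : b = c
          · subst q3
            exact ⟨b, a, d, hab.symm, hcd, q2, by rw [e1, add_comm], e2⟩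
          · by_cases q4 : b = d
            · subst q4
              exact ⟨b, a, c, hab.symm, hcd.symm, q1, by rw [e1, add_comm],
                by rw [e2, add_comm]⟩
            · rw [Pi.single_eq_of_ne q3, Pi.single_eq_of_ne q4] at h1
              exact absurd h1 (by decide)
    clear e1 hab a b
    obtain ⟨a, b, c, hab, hac, hbc, e1, e2⟩ := h2
    refine ⟨a, fun l hl => ?_⟩
    rcases two_cases (μ i l a) with h0 | h0
    · exfalso
      have lj : l ≠ j := by
        rintro rfl
        rw [e1, Pi.add_apply, Pi.single_eq_same, Pi.single_eq_of_ne hab] at h0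
        exact absurd h0 (by decide)
      have lk : l ≠ k := by
        rintro rfl
        rw [e2, Pi.add_apply, Pi.single_eq_same, Pi.single_eq_of_ne hac] at h0
        exact absurd h0 (by decide)
      have l1 := hd i l j hl.symm hj.symm lj
      have l2 := hd i l k hl.symm hk.1.symm lk
      rw [e1, dt_add, dt_single, dt_single, h0, zero_add] at l1
      rw [e2, dt_add, dt_single, dt_single, h0, zero_add] at l2
      have e3 := pair_eq (hp i l hl.symm) hbc l1 l2
      obtain ⟨m, hm⟩ := ex_not [i, j, k, l] (by simp; omega)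
      simp only [List.mem_cons, List.not_mem_nil, or_false, forall_eq_or_imp, forall_eq] at hm
      have m1 := hd i m j hm.1.symm hj.symm hm.2.1
      have m2 := hd i m k hm.1.symm hk.1.symm hm.2.2.1
      have m3 := hd i m l hm.1.symm hl.symm hm.2.2.2
      rw [e1, dt_add, dt_single, dt_single] at m1
      rw [e2, dt_add, dt_single, dt_single] at m2
      rw [e3, dt_add, dt_single, dt_single] at m3
      rcases two_cases (μ i m a) with q1 | q1 <;> rcases two_cases (μ i m b) with q2 | q2 <;>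
        rcases two_cases (μ i m c) with q3 | q3 <;> rw [q1, q2] at m1 <;> rw [q1, q3] at m2 <;>
        rw [q2, q3] at m3 <;> revert m1 m2 m3 <;> decide
    · exact h0
  choose σ hσ using star
  have hinj : Function.Injective σ := by
    intro i j hij
    by_contra hne
    obtain ⟨k, hk⟩ := ex_not [i, j] (by simp; omega)
    simp only [List.mem_cons, List.not_mem_nil, or_false, forall_eq_or_imp, forall_eq] at hk
    have h1 := congrFun (ha i j k hne hk.2.symm hk.1.symm) (σ i)
    rw [Pi.add_apply, hσ i j (Ne.symm hne), hσ i k hk.1] at h1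
    rw [hij, hσ j k hk.2] at h1
    exact absurd h1 (by decide)
  refine ⟨Equiv.ofBijective σ (Finite.injective_iff_bijective.1 hinj), fun i j hij => ?_⟩
  refine pair_eq (hp i j hij) (fun h => hij (hinj h)) (hσ i j hij.symm) ?_
  rw [hs]
  exact hσ j i hij

variable {K : Subgroup (GV Λ)} {m : ℕ}

theorem card7 (H : Hyp K m) : 7 ≤ Fintype.card Λ := by
  have h1 := H.card
  have h2 : 2 ^ 3 ≤ 2 ^ m := Nat.pow_le_pow_right (by norm_num) H.hm
  omega

theorem card_odd (H : Hyp K m) : ((Fintype.card Λ : ℕ) : ZMod 2) = 1 := by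
  have h1 := H.card
  have h2 : 2 ∣ 2 ^ m := dvd_pow_self 2 (by have := H.hm; omega)
  have h3 : Fintype.card Λ % 2 = 1 := by omega
  have h4 : ((Fintype.card Λ : ℕ) : ZMod 2) = ((Fintype.card Λ % 2 : ℕ) : ZMod 2) :=
    (ZMod.natCast_mod _ _).symm
  rw [h4, h3]
  rfl

theorem dt_one_one (H : Hyp K m) : dt (1 : Λ → ZMod 2) 1 = 1 := by
  rw [dt_one, Finset.sum_congr rfl fun l _ => Pi.one_apply l, Finset.sum_const, Finset.card_univ,
    nsmul_eq_mul, mul_one, card_odd H]

/-- an element of `K` fixing all pairs modulo `1` -/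
theorem one_of (H : Hyp K m) {k : GV Λ} (hk : k ∈ K) (hp : ∀ i j, i ≠ j →
    k (Pi.single i 1 + Pi.single j 1) = Pi.single i 1 + Pi.single j 1 ∨
    k (Pi.single i 1 + Pi.single j 1) = Pi.single i 1 + Pi.single j 1 + 1) (h1 : k 1 = 1) :
    k = 1 := by
  have h7 := card7 H
  let S : AddSubgroup (Λ → ZMod 2) :=
    { carrier := {x | k x = x ∨ k x = x + 1}
      add_mem' := by
        rintro x y (h2 | h2) (h3 | h3)
        · left; rw [map_add, h2, h3]
        · right; rw [map_add, h2, h3, add_assoc]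
        · right; rw [map_add, h2, h3, add_right_comm]
        · left
          rw [map_add, h2, h3]
          have : x + 1 + (y + 1) = x + y + (1 + 1) := by abel
          rw [this, add_self_W, add_zero]
      zero_mem' := Or.inl (map_zero k)
      neg_mem' := by
        intro x h2
        have e : -x = x := by
          rw [neg_eq_iff_add_eq_zero, add_self_W]
        change k (-x) = -x ∨ k (-x) = -x + 1
        rw [e]
        exact h2 }
  have hS1 : (1 : Λ → ZMod 2) ∈ S := Or.inl h1
  have hSp : ∀ i j, (Pi.single i 1 + Pi.single j 1 : Λ → ZMod 2) ∈ S := by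
    intro i j
    by_cases hij : i = j
    · subst hij
      rw [add_self_W]
      exact zero_mem _
    · exact hp i j hij
  have hSs : ∀ i, (Pi.single i 1 : Λ → ZMod 2) ∈ S := by
    intro i
    have e : (Pi.single i 1 : Λ → ZMod 2) =
        1 + ∑ j, (Pi.single i 1 + Pi.single j 1 : Λ → ZMod 2) := by
      rw [Finset.sum_add_distrib, Finset.sum_const, Finset.card_univ]
      have e2 : (∑ j, Pi.single j 1 : Λ → ZMod 2) = 1 := by
        funext l
        rw [Finset.sum_apply, Pi.one_apply]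
        simp [Pi.single_apply]
      have e3 : (Fintype.card Λ • (Pi.single i 1 : Λ → ZMod 2)) = Pi.single i 1 := by
        have : (Fintype.card Λ • (Pi.single i 1 : Λ → ZMod 2)) =
            ((Fintype.card Λ : ℕ) : ZMod 2) • (Pi.single i 1 : Λ → ZMod 2) :=
          (Nat.cast_smul_eq_nsmul (ZMod 2) _ _).symm
        rw [this, card_odd H, one_smul]
      rw [e2, e3, add_comm (Pi.single i 1) 1, ← add_assoc, add_self_W, zero_add]
    rw [e]
    exact add_mem hS1 (sum_mem fun j _ => hSp i j)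
  let b : Λ → ZMod 2 := fun l => if k (Pi.single l 1) = Pi.single l 1 then 0 else 1
  have hb : ∀ l, k (Pi.single l 1) = Pi.single l 1 + b l • (1 : Λ → ZMod 2) := by
    intro l
    by_cases h5 : k (Pi.single l 1) = Pi.single l 1
    · have : b l = 0 := if_pos h5
      rw [this, zero_smul, add_zero, h5]
    · have : b l = 1 := if_neg h5
      rw [this, one_smul]
      exact (hSs l).resolve_left h5
  have hx : ∀ x, k x = x + (∑ i, b i * x i) • (1 : Λ → ZMod 2) := by
    intro x
    have e : x = ∑ l, Pi.single l (x l) := (Finset.univ_sum_single x).symm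
    have e1 : k x = ∑ l, k (Pi.single l (x l)) := by
      conv_lhs => rw [e]
      rw [map_sum]
    have e2 : ∀ l, k (Pi.single l (x l)) = Pi.single l (x l) + (b l * x l) • (1 : Λ → ZMod 2) := by
      intro l
      rcases two_cases (x l) with h5 | h5 <;> rw [h5]
      · rw [Pi.single_zero, map_zero, mul_zero, zero_smul, add_zero]
      · rw [mul_one, hb]
    rw [e1, Finset.sum_congr rfl fun l _ => e2 l, Finset.sum_add_distrib, ← e,
      ← Finset.sum_smul]
  have one_ne : (1 : Λ → ZMod 2) ≠ 0 := by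
    obtain ⟨a, -⟩ := ex_not ([] : List Λ) (by simp; omega)
    intro h0
    have := congrFun h0 a
    rw [Pi.one_apply, Pi.zero_apply] at this
    exact absurd this (by decide)
  have hs : ∑ i, b i = 0 := by
    have h5 := hx 1
    rw [h1] at h5
    have h6 : (∑ i, b i * (1 : Λ → ZMod 2) i) = ∑ i, b i :=
      Finset.sum_congr rfl fun i _ => by rw [Pi.one_apply, mul_one]
    rw [h6] at h5
    by_contra h7
    rw [(two_cases _).resolve_left h7, one_smul, add_self_W] at h5
    exact one_ne h5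
  have hb0 : b = 0 := by
    rcases H.main hk hs hx with h5 | h5 | ⟨h5, i, j, hij, h6⟩
    · exact h5
    · exact absurd h5 one_ne
    · exfalso
      obtain ⟨l, hl⟩ := ex_not [i, j] (by simp; omega)
      simp only [List.mem_cons, List.not_mem_nil, or_false, forall_eq_or_imp, forall_eq] at hl
      rcases h5 with h5 | h5
      · have := congrFun h5 l
        rw [h6, Pi.add_apply, Pi.single_eq_of_ne hl.1, Pi.single_eq_of_ne hl.2,
          Pi.one_apply] at this
        exact absurd this (by decide)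
      · have := congrFun h5 i
        rw [h6, Pi.add_apply, Pi.add_apply, Pi.single_eq_same, Pi.single_eq_of_ne hij,
          Pi.one_apply] at this
        exact absurd this (by decide)
  apply LinearEquiv.ext
  intro x
  rw [hx, hb0]
  simp

/-- every element of `K` is a permutation -/
theorem full (H : Hyp K m) {k : GV Λ} (hk : k ∈ K) (hfix : k 1 = 1) : ∃ σ, k = pm σ := by
  have h7 := card7 H
  have ki : k⁻¹ 1 = 1 := by
    have h1 : k⁻¹ (k 1) = 1 := LinearEquiv.symm_apply_apply k 1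
    rwa [hfix] at h1
  -- the images of the pairs
  have main : ∀ i j, i ≠ j → ∃ b' : Λ → ZMod 2, (∀ x, dt b' (k x) =
      dt (Pi.single i 1 + Pi.single j 1) x) ∧ (k (Pi.single i 1 + Pi.single j 1) = b' ∨
      k (Pi.single i 1 + Pi.single j 1) = b' + 1) ∧
      ∃ a b, a ≠ b ∧ b' = Pi.single a 1 + Pi.single b 1 := by
    intro i j hij
    have hbne : (Pi.single i 1 + Pi.single j 1 : Λ → ZMod 2) ≠ 0 := by
      intro h0
      have := congrFun h0 i
      rw [Pi.add_apply, Pi.single_eq_same, Pi.single_eq_of_ne hij, Pi.zero_apply] at this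
      exact absurd this (by decide)
    let b' : Λ → ZMod 2 := fun l => dt (Pi.single i 1 + Pi.single j 1) (k⁻¹ (Pi.single l 1))
    have hb' : ∀ x, dt b' x = dt (Pi.single i 1 + Pi.single j 1) (k⁻¹ x) := by
      intro x
      have e : x = ∑ l, x l • (Pi.single l 1 : Λ → ZMod 2) := by
        conv_lhs => rw [← Finset.univ_sum_single x]
        refine Finset.sum_congr rfl fun l _ => ?_
        rcases two_cases (x l) with h | h <;> rw [h]
        · rw [Pi.single_zero, zero_smul]
        · rw [one_smul]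
      have e2 : ∀ (s : Finset Λ) (f : Λ → Λ → ZMod 2), dt (Pi.single i 1 + Pi.single j 1)
          (∑ l ∈ s, f l) = ∑ l ∈ s, dt (Pi.single i 1 + Pi.single j 1) (f l) := by
        intro s f
        induction s using Finset.induction_on with
        | empty => rw [Finset.sum_empty, Finset.sum_empty, dt_zero]
        | insert l s hl ih => rw [Finset.sum_insert hl, Finset.sum_insert hl, dt_add, ih]
      conv_rhs => rw [e]
      rw [map_sum, e2]
      unfold dt
      refine Finset.sum_congr rfl fun l _ => ?_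
      rw [map_smul]
      change b' l * x l = dt (Pi.single i 1 + Pi.single j 1) (x l • k⁻¹ (Pi.single l 1))
      rw [dt_smul, mul_comm]
    have hT := (isT_swap i j hij).conj (g := k) hb'
    have hmem : k * pm (Equiv.swap i j) * k⁻¹ ∈ K :=
      mul_mem (mul_mem hk (H.perm _)) (inv_mem hk)
    have hsum : ∑ l, b' l = 0 := by
      rw [← dt_one, hb', ki, add_dt, single_dt, single_dt, Pi.one_apply, Pi.one_apply]
      decide
    refine ⟨b', fun x => ?_, ?_⟩
    · rw [hb']
      congr 1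
      exact LinearEquiv.symm_apply_apply k x
    · rcases H.main hmem hsum hT with h1 | h1 | h1
      · exfalso
        have h2 : dt b' (k (Pi.single i 1)) = 0 := by rw [h1, zero_dt]
        rw [hb'] at h2
        have h3 : k⁻¹ (k (Pi.single i 1)) = Pi.single i 1 := LinearEquiv.symm_apply_apply k _
        rw [h3, dt_single, Pi.add_apply, Pi.single_eq_same, Pi.single_eq_of_ne hij] at h2
        exact absurd h2 (by decide)
      · exfalso
        apply hbne
        exact (LinearEquiv.map_eq_zero_iff k).1 h1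
      · exact h1
  choose! μ h1 h2 h3 using main
  have one_ne : (1 : ZMod 2) ≠ 0 := by decide
  have ev : ∀ i j, i ≠ j → dt (μ i j) 1 = 0 := by
    intro i j hij
    rw [← hfix, h1 i j hij, add_dt, single_dt, single_dt, Pi.one_apply, Pi.one_apply]
    decide
  -- the pair is determined by the image
  have un : ∀ u v w : Λ → ZMod 2, dt v 1 = 0 → dt w 1 = 0 → (u = v ∨ u = v + 1) →
      (u = w ∨ u = w + 1) → v = w := by
    intro u v w hv hw h4 h5
    rcases h4 with rfl | rfl <;> rcases h5 with h5 | h5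
    · exact h5
    · rw [h5, add_dt, hw, dt_one_one H] at hv
      exact absurd hv (by decide)
    · rw [← h5, add_dt, hv, dt_one_one H] at hw
      exact absurd hw (by decide)
    · exact add_right_cancel h5
  have hsymm : ∀ i j, i ≠ j → μ i j = μ j i := by
    intro i j hij
    refine un _ _ _ (ev i j hij) (ev j i hij.symm) (h2 i j hij) ?_
    rw [add_comm]
    exact h2 j i hij.symm
  -- make `μ` total
  have hd : ∀ i j k', i ≠ j → i ≠ k' → j ≠ k' → dt (μ i j) (μ i k') = 1 := by
    intro i j k' hij hik hjk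
    have e1 : dt (μ i j) (k (Pi.single i 1 + Pi.single k' 1)) = 1 := by
      rw [h1 i j hij, add_dt, single_dt, single_dt, Pi.add_apply, Pi.add_apply,
        Pi.single_eq_same, Pi.single_eq_of_ne hik, Pi.single_eq_of_ne hij.symm,
        Pi.single_eq_of_ne hjk]
      decide
    rcases h2 i k' hik with h4 | h4
    · rwa [h4] at e1
    · rwa [h4, dt_add, ev i j hij, add_zero] at e1
  have hadd : ∀ i j k', i ≠ j → j ≠ k' → i ≠ k' → μ i j = μ i k' + μ j k' := by
    intro i j k' hij hjk hik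
    refine un _ _ _ (ev i j hij) ?_ (h2 i j hij) ?_
    · rw [add_dt, ev i k' hik, ev j k' hjk, add_zero]
    · have e1 : (Pi.single i 1 + Pi.single j 1 : Λ → ZMod 2) =
          (Pi.single i 1 + Pi.single k' 1) + (Pi.single j 1 + Pi.single k' 1) := by
        have : (Pi.single i 1 + Pi.single k' 1 : Λ → ZMod 2) + (Pi.single j 1 + Pi.single k' 1) =
          Pi.single i 1 + Pi.single j 1 + (Pi.single k' 1 + Pi.single k' 1) := by abel
        rw [this, add_self_W, add_zero]
      rw [e1, map_add]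
      rcases h2 i k' hik with h4 | h4 <;> rcases h2 j k' hjk with h5 | h5 <;> rw [h4, h5]
      · exact Or.inl rfl
      · right; rw [add_assoc]
      · right; rw [add_right_comm]
      · left
        have : μ i k' + 1 + (μ j k' + 1) = μ i k' + μ j k' + (1 + 1) := by abel
        rw [this, add_self_W, add_zero]
  obtain ⟨σ, hσ⟩ := perm_of (by omega) (fun i j => if i = j then 0 else μ i j)
    (fun i j hij => by
      simp only [if_neg hij]
      exact h3 i j hij)
    (fun i j => by
      by_cases hij : i = j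
      · subst hij; rfl
      · simp only [if_neg hij, if_neg (Ne.symm hij)]
        exact hsymm i j hij)
    (fun i j k' hij hjk hik => by
      simp only [if_neg hij, if_neg hjk, if_neg hik]
      exact hadd i j k' hij hjk hik)
    (fun i j k' hij hik hjk => by
      simp only [if_neg hij, if_neg hik]
      exact hd i j k' hij hik hjk)
  refine ⟨σ, ?_⟩
  -- `k' = k σ⁻¹`
  have hk' : k * (pm σ)⁻¹ ∈ K := mul_mem hk (inv_mem (H.perm σ))
  have hpair : ∀ i j, i ≠ j → (k * (pm σ)⁻¹) (Pi.single i 1 + Pi.single j 1) =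
      Pi.single i 1 + Pi.single j 1 ∨ (k * (pm σ)⁻¹) (Pi.single i 1 + Pi.single j 1) =
      Pi.single i 1 + Pi.single j 1 + 1 := by
    intro i j hij
    have hne : σ⁻¹ i ≠ σ⁻¹ j := fun h => hij (σ⁻¹.injective h)
    have e1 : (pm σ)⁻¹ (Pi.single i 1 + Pi.single j 1 : Λ → ZMod 2) =
        Pi.single (σ⁻¹ i) 1 + Pi.single (σ⁻¹ j) 1 := by
      rw [← map_inv, map_add, pm_single, pm_single]
    have e2 : (k * (pm σ)⁻¹) (Pi.single i 1 + Pi.single j 1) =
        k (Pi.single (σ⁻¹ i) 1 + Pi.single (σ⁻¹ j) 1) := by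
      change k ((pm σ)⁻¹ _) = _
      rw [e1]
    have e3 := hσ _ _ hne
    simp only [if_neg hne] at e3
    have e5 : ∀ i, σ (σ⁻¹ i) = i := fun i => Equiv.apply_symm_apply σ i
    rw [e5, e5] at e3
    have e4 := h2 _ _ hne
    rw [e3] at e4
    rw [e2]
    exact e4
  have hone : (k * (pm σ)⁻¹) 1 = 1 := by
    change k ((pm σ)⁻¹ 1) = 1
    have : (pm σ)⁻¹ (1 : Λ → ZMod 2) = 1 := by
      rw [← map_inv, pm_one_vec]
    rw [this, hfix]
  have e6 := one_of H hk' hpair hone
  rw [mul_inv_eq_one] at e6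
  exact e6

end Cfsg.Agent.Omega.NSix.SymFull

end

section


/-!
# OMEGA N6 (H2): #16633 in the group

`Sy S V P ε m` : `Engine.Hyp V P ε`, `S ∈ Syl₂(G)`, `S ≤ P`, `n = 2 ^ m + 1`, `m ≥ 3`.
* `Sy.oneB` : (1b);
* `Sy.no_tv` : (3): if disjoint `U`'s do not commute, no element of `N_ij` induces a transvection `≠ 1` with centre in
  `V_ij - ⟨r_ij⟩` killing `V_ij`;
* `Sy.three` : `⋂ {U_kl : k, l ∉ {i, j}} ≤ V` (three blocks);
* `Sy.CV_le` : `C_G(V_ij) ≤ L`;
* `Sy.norm_le` : `N_{N_ij}(V_ij) ≤ L` (the hypothesis `hX` of `Engine.Hyp.thmT`).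
-/

set_option autoImplicit false
set_option linter.unusedSectionVars false

namespace Cfsg.Agent.Omega.NSix.TLEnd

open Subgroup Cfsg.Agent.Omega.S5.Def Cfsg.Agent.Omega.NSix.Base Cfsg.Agent.Omega.NSix.Basic
open Cfsg.Agent.Omega.NSix.Tv (z2 z2_one z2_zero z2_add)
open Cfsg.Agent.Omega.NSix.TLg Cfsg.Agent.Omega.NSix.TLCount
open Cfsg.Agent.Omega.NSix.Engine (D4 KK LL Lab)
open Cfsg.Agent.Omega.TTn.Di (cm cj)

universe u

variable {G : Type u} [Group G] {n : ℕ} {V P : Subgroup G} {ε : (Fin n → ZMod 2) → G} {i j : Fin n}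

/-- the linear map induced by `g` -/
theorem exists_GV (h : Engine.Hyp V P ε) {g : G} {f : (Lt i j → ZMod 2) → (Lt i j → ZMod 2)}
    (hf : ∀ x, g * ε (ext i j x) * g⁻¹ = ε (ext i j (f x))) :
    ∃ k : GV (Lt i j), (∀ x, k x = f x) ∧ Ind ε i j g k := by
  have hadd : ∀ x y, f (x + y) = f x + f y := by
    intro x y
    apply eps_inj_ext h
    rw [← hf, ext_add, ext_add, h.ev.add, h.ev.add, ← hf, ← hf]
    group
  have hinj : Function.Injective f := by
    intro x y hxy
    apply eps_inj_ext h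
    have h1 := hf x
    rw [hxy, ← hf y] at h1
    exact mul_left_cancel (mul_right_cancel h1)
  let L : (Lt i j → ZMod 2) →ₗ[ZMod 2] (Lt i j → ZMod 2) :=
    (AddMonoidHom.mk' f hadd).toZModLinearMap 2
  have hL : ∀ x, L x = f x := fun x => rfl
  have hLi : Function.Injective L := hinj
  refine ⟨LinearEquiv.ofInjectiveEndo L hLi, fun x => ?_, fun x => ?_⟩
  · rw [LinearEquiv.coe_ofInjectiveEndo, hL]
  · rw [hf, LinearEquiv.coe_ofInjectiveEndo, hL]

/-- the situation -/
structure Sy (S : Sylow 2 G) (V P : Subgroup G) (ε : (Fin n → ZMod 2) → G) (m : ℕ) : Prop where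
  hyp : Engine.Hyp V P ε
  le : (S : Subgroup G) ≤ P
  m3 : 3 ≤ m
  hn : n = 2 ^ m + 1

/-- some disjoint `U`'s do not commute -/
def Nc (ε : (Fin n → ZMod 2) → G) : Prop :=
  ∃ i j k l, D4 i j k l ∧ ∃ u ∈ UU ε i j, ∃ y ∈ UU ε k l, u * y ≠ y * u

namespace Sy

variable {S : Sylow 2 G} {m : ℕ} (s : Sy S V P ε m)

include s

theorem nine : 9 ≤ n := by
  have h1 : 2 ^ 3 ≤ 2 ^ m := Nat.pow_le_pow_right (by norm_num) s.m3
  have := s.hn
  omega

theorem symHyp [Finite G] (hij : i ≠ j) : SymF.Hyp (KV ε i j) m where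
  hm := s.m3
  card := by
    rw [card_Lt hij]
    have := s.hn
    have := s.nine
    omega
  perm := by
    intro σ
    obtain ⟨τ, ti, tj, ht⟩ := exists_perm_ext (i := i) (j := j) σ⁻¹
    obtain ⟨g, hg, hga⟩ := s.hyp.ev.full τ⁻¹
    have hgN : g ∈ NN ε i j := by
      refine s.hyp.acts_NN hga ?_ ?_
      · rw [Equiv.Perm.inv_eq_iff_eq, ti]
      · rw [Equiv.Perm.inv_eq_iff_eq, tj]
    refine ⟨g, hgN, fun x => ?_⟩
    have h1 := hga (ext i j x)
    have h2 : ext i j x ∘ (τ⁻¹ : Equiv.Perm (Fin n)).symm = ext i j x ∘ τ := rfl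
    rw [h2, ht x] at h1
    exact h1
  count := fun R hR hRp => count s.hyp hij S s.le (by have := s.m3; omega) s.hn R hR hRp

/-- **(1b)** -/
theorem oneB [Finite G] (hij : i ≠ j) : OneB ε i j := by
  intro g hg b c hb hc hx
  obtain ⟨k, hk, hki⟩ := exists_GV s.hyp hx
  rcases (s.symHyp hij).main (k := k) ⟨g, hg, hki⟩ hb hk with h1 | h1 | h1
  · exact Or.inl h1
  · exact absurd h1 hc
  · exact Or.inr h1

theorem exists_D4 (hij : i ≠ j) : ∃ k l, D4 i j k l := by
  obtain ⟨k, hk1, hk2, -, -⟩ := Engine.exists_fifth (by have := s.nine; omega) i j i j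
  obtain ⟨l, hl1, hl2, hl3, -⟩ := Engine.exists_fifth (by have := s.nine; omega) i j k k
  exact ⟨k, l, hij, hk1.symm, hl1.symm, hk2.symm, hl2.symm, hl3.symm⟩

/-- **(3)** -/
theorem no_tv [Finite G] (hnc : Nc ε) (hij : i ≠ j) {g : G} (hg : g ∈ NN ε i j)
    {v : Fin n → ZMod 2} (hv : v i = v j) (hv1 : ε v ≠ 1) (hv2 : ε v ≠ rr ε i j)
    (hu : ∀ u ∈ UU ε i j, g * u * g⁻¹ = u ∨ g * u * g⁻¹ = u * ε v)
    (hk : ∀ y : Fin n → ZMod 2, y i = y j → g * ε y = ε y * g) :
    ∀ u ∈ UU ε i j, g * u = u * g := by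
  by_contra hne
  push Not at hne
  obtain ⟨k, l, hD⟩ := s.exists_D4 hij
  have h1 : ∀ u ∈ UU ε i j, ∀ y ∈ UU ε k l, u * y = y * u := fun u hU y hy =>
    TLg.no_tv s.hyp hij s.nine (s.oneB hij) hg hv hv1 hv2 hu hk hne hD hU hy
  obtain ⟨a, b, c, d, hD', u, hU, y, hy, hne'⟩ := hnc
  exact hne' (s.hyp.comm_transfer hD hD' h1 u hU y hy)

/-- no transvection with centre `r_ij` (`O₂(N_ij / C_ij) = 1` for such elements); `Nc` is not needed -/
theorem cen_rr [Finite G] (hij : i ≠ j) {g : G} (hg : g ∈ NN ε i j)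
    (hu : ∀ u ∈ UU ε i j, g * u * g⁻¹ = u ∨ g * u * g⁻¹ = u * rr ε i j) :
    ∀ u ∈ UU ε i j, g * u = u * g := by
  have h := s.hyp
  have D := dat h hij s.nine (s.oneB hij)
  obtain ⟨e, he, he1⟩ := hh_ex (M := UU ε i j) (hc := fun _ hu _ hv => h.Uab hij hu hv)
    (h2 := fun _ hu => h.Usq hij hu) (N := NN ε i j) (fun g hg => nn_norm hg) hg
  have fx : ∀ f ∈ HA h hij (NN ε i j), ∀ r ∈ AddSubgroup.closure {zt h hij 1}, f r = r := by
    intro f hf r hr
    refine AddSubgroup.closure_induction (p := fun r _ => f r = r) ?_ ?_ ?_ ?_ hr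
    · rintro x rfl
      exact D.fix f hf
    · exact map_zero f
    · intro x y _ _ hx hy
      rw [map_add, hx, hy]
    · intro x _ hx
      rw [map_neg, hx]
  have key := o2_of_irr D (fun R hR h1 hne => irr h hij R hR h1 hne)
    (AddSubgroup.closure {zt h hij 1}) (fun f hf r hr => by rw [fx f hf r hr]; exact hr) e he
    (fun a => by
      rcases hu _ (val_mem a) with h1 | h1
      · have h2 : e a = a := val_inj (by rw [he1, h1])
        rw [h2, TL.two]
        exact zero_mem _
      · have h2 : e a = a + zt h hij 1 := val_inj (by rw [he1, h1, val_add, val_zt_one])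
        rw [h2, add_right_comm, TL.two, zero_add]
        exact AddSubgroup.subset_closure rfl)
    (fun r hr => fx e he r hr)
  intro u hU
  have h1 := he1 (TLg.mk _ _ hU)
  rw [key, val_mk, eq_mul_inv_iff_mul_eq] at h1
  exact h1.symm

/-- the elements of `V_ij` -/
theorem single_ne {k : Fin n} (hki : k ≠ i) (hkj : k ≠ j) : zz ε k ≠ rr ε i j := by
  intro h1
  have h2 : ε (Pi.single k 1) = ε (Pi.single i 1 + Pi.single j 1) := by
    rw [s.hyp.ev.add]; exact h1
  have h9 := s.nine
  obtain ⟨l, l1, l2, l3, -⟩ := Engine.exists_fifth (by omega) i j k k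
  rcases s.hyp.ev.eq_iff.1 h2 with h3 | h3
  · have := congrFun h3 k
    rw [Pi.single_eq_same, Pi.add_apply, Pi.single_eq_of_ne hki, Pi.single_eq_of_ne hkj] at this
    exact absurd this (by decide)
  · have := congrFun h3 l
    rw [Pi.single_eq_of_ne l3, Pi.add_apply, Pi.add_apply, Pi.single_eq_of_ne l1,
      Pi.single_eq_of_ne l2, Pi.one_apply] at this
    exact absurd this (by decide)

theorem three_aux [Finite G] {w : Fin n → Fin n → G}
    (F : Engine.Fr ε (UU ε) (Engine.W2 ε) (fun i j => Cfsg.Agent.ZN.o2 (NN ε i j)) w)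
    (hnc : Nc ε) (hij : i ≠ j) {x : G} (hx : ∀ k l, k ≠ i → k ≠ j → l ≠ i → l ≠ j → k ≠ l → x ∈ UU ε k l)
    {k : Fin n} (hki : k ≠ i) (hkj : k ≠ j) : ∀ u ∈ UU ε i k, x * u = u * x := by
  have h := s.hyp
  -- `x ∈ C_G(V)`
  obtain ⟨l, l1, l2, l3, -⟩ := Engine.exists_fifth (by have := s.nine; omega) i j k k
  have hxK : x ∈ KK ε := h.UK l3.symm (hx k l hki hkj l1 l2 l3.symm)
  have lx : ∀ a b, a ≠ i → a ≠ j → b ≠ i → b ≠ j → Lab (UU ε) x a b := by
    intro a b a1 a2 b1 b2
    by_cases hab : a = b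
    · exact Or.inl hab
    · exact Or.inr (hx a b a1 a2 b1 b2 hab)
  have key : ∀ u ∈ UU ε i k, x * u * x⁻¹ = u ∨ x * u * x⁻¹ = u * ε (Pi.single j 1) := by
    intro u hu
    have huK : u ∈ KK ε := h.UK hki.symm hu
    -- the commutator is labelled by one block and `j`
    have lc : ∀ b, b ≠ j → Lab (UU ε) (cm x u) k b := by
      intro b hb
      by_cases hbi : b = i
      · subst hbi
        have h1 : Lab (UU ε) u b k := Or.inr hu
        exact F.lab_cm_right hxK (F.lab_symm h1)
      · exact F.lab_cm_left (lx k b hki hkj hbi hb) huK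
    have hcK : cm x u ∈ KK ε := by
      unfold cm
      exact mul_mem (mul_mem (mul_mem hxK huK) (inv_mem hxK)) (inv_mem huK)
    have hcU : cm x u ∈ UU ε i k := by
      have h1 := F.lab_symm (lc i hij)
      exact h1.resolve_left hki.symm
    obtain ⟨y, yi, yk, hy⟩ := h.fix_V hki.symm hcU (fun a hai hak z hz => by
      left
      by_cases haj : a = j
      · subst haj
        -- `[c, z]` has all labels
        apply F.star (i := k)
        intro b
        by_cases hb : b = a
        · subst hb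
          have h1 : Lab (UU ε) (cm (cm x u) z) k i := F.lab_cm_left (lc i hij) (h.UK hai.symm hz)
          exact F.lab_trans h1 (F.lab_cm_right hcK (Or.inr hz))
        · exact F.lab_cm_left (lc b hb) (h.UK hai.symm hz)
      · have h1 : cm x u ∈ UU ε i a :=
          (F.lab_trans (F.lab_symm (lc i hij)) (lc a haj)).resolve_left hai.symm
        exact Cfsg.Agent.Omega.TTn.Di.cm_one_iff.2 (h.Uab hai.symm h1 hz))
    have hyv : ∀ b, b ≠ j → y b = 0 := by
      intro b hb
      have h1 := lc b hb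
      rw [hy, F.lab_e, yk] at h1
      exact h1.symm
    have hc : cm x u * u = x * u * x⁻¹ := by unfold cm; group
    rcases z2 (y j) with h0 | h0
    · left
      have h1 : y = 0 := by
        funext b
        by_cases hb : b = j
        · rw [hb, h0]; rfl
        · rw [hyv b hb]; rfl
      rw [← hc, hy, h1, h.ev.zero, one_mul]
    · right
      have h1 : y = Pi.single j 1 := by
        funext b
        by_cases hb : b = j
        · rw [hb, h0, Pi.single_eq_same]
        · rw [hyv b hb, Pi.single_eq_of_ne hb]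
      rw [← hc, hy, h1]
      exact (Engine.mem_KK'.1 huK _).symm
  have hxe : ∀ y : Fin n → ZMod 2, x * ε y = ε y * x := Engine.mem_KK'.1 hxK
  refine s.no_tv hnc hki.symm (h.KK_le_NN i k hxK) (v := Pi.single j 1) ?_ ?_ ?_ key
    (fun y _ => hxe y)
  · rw [Pi.single_eq_of_ne hij, Pi.single_eq_of_ne hkj]
  · exact zz_ne_one h.ev h.n3 j
  · exact s.single_ne hij.symm hkj.symm

/-- three blocks -/
theorem three [Finite G] (hnc : Nc ε) (hij : i ≠ j) {x : G}
    (hx : ∀ k l, k ≠ i → k ≠ j → l ≠ i → l ≠ j → k ≠ l → x ∈ UU ε k l) :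
    ∃ y : Fin n → ZMod 2, (∀ k l, k ≠ i → k ≠ j → l ≠ i → l ≠ j → y k = y l) ∧ x = ε y := by
  have h := s.hyp
  obtain ⟨w, F⟩ := h.exists_fr
  obtain ⟨k, l, hD⟩ := s.exists_D4 hij
  have hkl := hD.kl
  have hxU := hx k l hD.ik.symm hD.jk.symm hD.il.symm hD.jl.symm hkl
  obtain ⟨y, yk, yl, hy⟩ := h.fix_V hkl hxU (fun a hak hal z hz => by
    left
    apply Cfsg.Agent.Omega.TTn.Di.cm_one_iff.2
    by_cases hai : a = i
    · subst hai
      rw [UU_symm h.ev] at hz
      exact s.three_aux F hnc hij hx hak.symm hD.jk.symm z hz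
    · by_cases haj : a = j
      · subst haj
        rw [UU_symm h.ev] at hz
        exact s.three_aux F hnc hij.symm (fun k l h1 h2 h3 h4 h5 => hx k l h2 h1 h4 h3 h5)
          hak.symm hD.ik.symm z hz
      · exact h.Uab hak.symm (hx k a hD.ik.symm hD.jk.symm hai haj hak.symm) hz)
  refine ⟨y, fun a b a1 a2 b1 b2 => ?_, hy⟩
  by_cases hab : a = b
  · rw [hab]
  · rw [← h.eU hab, ← hy]
    exact hx a b a1 a2 b1 b2 hab

/-- **`C_G(V_ij) ≤ L`** -/
theorem CV_le [Finite G] (hnc : Nc ε) (hij : i ≠ j) : CV ε i j ≤ LL ε := by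
  intro g hg
  have h := s.hyp
  have h9 := s.nine
  have hgN : g ∈ NN ε i j := CV_le_NN h hij hg
  -- `g` commutes with `z_k`, `k ≠ i, j`
  have gz : ∀ k, k ≠ i → k ≠ j → g * zz ε k = zz ε k * g := by
    intro k h1 h2
    have h3 := hg (Pi.single ⟨k, h1, h2⟩ 1)
    rwa [ext_single] at h3
  have gN : ∀ k l, k ≠ i → k ≠ j → l ≠ i → l ≠ j → g ∈ NN ε k l := by
    intro k l k1 k2 l1 l2
    rw [mem_NN]
    unfold rr
    rw [← mul_assoc, gz k k1 k2, mul_assoc, gz l l1 l2, mul_assoc]
  obtain ⟨y, hy1, hy2⟩ := s.three hnc hij (x := g * zz ε i * g⁻¹) (fun k l k1 k2 l1 l2 hkl =>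
    UU_normal (gN k l k1 k2 l1 l2) (zz_mem_UU k1.symm l1.symm))
  obtain ⟨k0, l0, hD⟩ := s.exists_D4 hij
  -- normalise `y` to `0` off `i`, `j`
  obtain ⟨y', hy1', hy2'⟩ : ∃ y' : Fin n → ZMod 2, (∀ k, k ≠ i → k ≠ j → y' k = 0) ∧
      g * zz ε i * g⁻¹ = ε y' := by
    rcases z2 (y k0) with h0 | h0
    · exact ⟨y, fun k k1 k2 => by rw [hy1 k k0 k1 k2 hD.ik.symm hD.jk.symm, h0], hy2⟩
    · refine ⟨y + 1, fun k k1 k2 => ?_, ?_⟩
      · rw [Pi.add_apply, Pi.one_apply, hy1 k k0 k1 k2 hD.ik.symm hD.jk.symm, h0]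
        decide
      · rw [h.ev.add, h.ev.one, mul_one, hy2]
  have hzi : zz ε i ≠ 1 := zz_ne_one h.ev h.n3 i
  have hzj : zz ε j ≠ 1 := zz_ne_one h.ev h.n3 j
  have hne1 : g * zz ε i * g⁻¹ ≠ 1 := by
    intro h1
    apply hzi
    rw [mul_inv_eq_one, mul_eq_left] at h1
    exact h1
  have cases : g * zz ε i * g⁻¹ = zz ε i ∨ g * zz ε i * g⁻¹ = zz ε j := by
    have e : y' = y' i • Pi.single i 1 + y' j • Pi.single j 1 := by
      funext k
      rw [Pi.add_apply, Pi.smul_apply, Pi.smul_apply, smul_eq_mul, smul_eq_mul]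
      by_cases h1 : k = i
      · subst h1
        rw [Pi.single_eq_same, Pi.single_eq_of_ne hij, mul_one, mul_zero, add_zero]
      · by_cases h2 : k = j
        · subst h2
          rw [Pi.single_eq_same, Pi.single_eq_of_ne h1, mul_one, mul_zero, zero_add]
        · rw [hy1' k h1 h2, Pi.single_eq_of_ne h1, Pi.single_eq_of_ne h2, mul_zero, mul_zero,
            add_zero]
    rcases z2 (y' i) with h1 | h1 <;> rcases z2 (y' j) with h2 | h2 <;> rw [h1, h2] at e
    · rw [zero_smul, zero_smul, add_zero] at e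
      rw [hy2', e, h.ev.zero] at hne1
      exact absurd rfl hne1
    · right
      rw [zero_smul, one_smul, zero_add] at e
      rw [hy2', e]; rfl
    · left
      rw [zero_smul, one_smul, add_zero] at e
      rw [hy2', e]; rfl
    · exfalso
      rw [one_smul, one_smul] at e
      have h3 : g * zz ε i * g⁻¹ = rr ε i j := by
        rw [hy2', e, h.ev.add]; rfl
      rw [← mem_NN'.1 hgN] at h3
      have h4 : zz ε i = rr ε i j := mul_left_cancel (mul_right_cancel h3)
      unfold rr at h4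
      exact hzj (left_eq_mul.1 h4)
  -- an element fixing all points is in `C_G(V)`
  have fixK : ∀ t : G, (∀ k, t * zz ε k = zz ε k * t) → t ∈ LL ε := by
    intro t ht
    apply Engine.KK_le_LL
    rw [Engine.mem_KK']
    have h1 : V ≤ centralizer {t} := by
      intro v hv
      obtain ⟨x, rfl⟩ := h.ev.surj v hv
      have e : x = ∑ k, Pi.single k (x k) := (Finset.univ_sum_single x).symm
      rw [e]
      refine Finset.sum_induction _ (fun y => ε y ∈ centralizer ({t} : Set G)) ?_ ?_ ?_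
      · intro a b ha hb
        rw [h.ev.add]
        exact mul_mem ha hb
      · rw [h.ev.zero]; exact one_mem _
      · intro k _
        rcases z2 (x k) with h2 | h2 <;> rw [h2]
        · rw [Pi.single_zero, h.ev.zero]; exact one_mem _
        · rw [mem_centralizer_singleton_iff]
          exact (ht k).symm
    intro x
    have h2 := h1 (h.ev.mem x)
    rw [mem_centralizer_singleton_iff] at h2
    exact h2.symm
  rcases cases with h1 | h1
  · apply fixK
    intro k
    by_cases hki : k = i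
    · subst hki
      rwa [mul_inv_eq_iff_eq_mul] at h1
    · by_cases hkj : k = j
      · subst hkj
        have e : zz ε k = zz ε i * rr ε i k := by
          unfold rr
          rw [← mul_assoc, zz_sq h.ev, one_mul]
        rw [mul_inv_eq_iff_eq_mul] at h1
        rw [e, ← mul_assoc, h1, mul_assoc, mem_NN.1 hgN, mul_assoc]
      · exact gz k hki hkj
  · obtain ⟨w, hw, hwA⟩ := h.exists_w hij
    have hwg : w * g ∈ LL ε := by
      apply fixK
      have w1 : w * zz ε j * w⁻¹ = zz ε i := by rw [zz_conj hwA, Equiv.swap_apply_right]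
      have w2 : ∀ k, k ≠ i → k ≠ j → w * zz ε k = zz ε k * w := by
        intro k k1 k2
        have h2 := zz_conj hwA k
        rwa [Equiv.swap_apply_of_ne_of_ne k1 k2, mul_inv_eq_iff_eq_mul] at h2
      have w3 : w * rr ε i j = rr ε i j * w := by
        have h2 := rr_conj hwA i j
        rw [Equiv.swap_apply_left, Equiv.swap_apply_right, rr_symm h.ev j i,
          mul_inv_eq_iff_eq_mul] at h2
        exact h2
      have e1 : w * g * zz ε i = zz ε i * (w * g) := by
        have e2 : w * g * zz ε i = (w * (g * zz ε i * g⁻¹) * w⁻¹) * (w * g) := by group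
        rw [e2, h1, w1]
      intro k
      by_cases hki : k = i
      · subst hki; exact e1
      · by_cases hkj : k = j
        · subst hkj
          have e : zz ε k = zz ε i * rr ε i k := by
            unfold rr
            rw [← mul_assoc, zz_sq h.ev, one_mul]
          have e3 : w * g * rr ε i k = rr ε i k * (w * g) := by
            rw [mul_assoc, mem_NN.1 hgN, ← mul_assoc, w3, mul_assoc]
          rw [e, ← mul_assoc, e1, mul_assoc, e3, mul_assoc]
        · rw [mul_assoc, gz k hki hkj, ← mul_assoc, w2 k hki hkj, mul_assoc]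
    have hwL : w ∈ LL ε := ⟨_, hwA⟩
    have := mul_mem (inv_mem hwL) hwg
    rwa [inv_mul_cancel_left] at this

/-- **`N_{N_ij}(V_ij) ≤ L`** -/
theorem norm_le [Finite G] (hnc : Nc ε) (hij : i ≠ j) {g : G} (hg : g ∈ NN ε i j)
    (hn : ∀ x : Fin n → ZMod 2, x i = x j → ∃ y : Fin n → ZMod 2, y i = y j ∧ cj g (ε x) = ε y) :
    g ∈ LL ε := by
  have h := s.hyp
  have h1 : ∀ x : Lt i j → ZMod 2, ∃ y : Lt i j → ZMod 2,
      g * ε (ext i j x) * g⁻¹ = ε (ext i j y) := by
    intro x
    obtain ⟨y, hy, hy'⟩ := hn (ext i j x) (by rw [ext_i, ext_j])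
    obtain ⟨γ, hγ⟩ := exists_zt h hy
    exact ⟨γ, by rw [hγ, ← hy']; rfl⟩
  choose f hf using h1
  obtain ⟨k, hk, hki⟩ := exists_GV h hf
  have hkK : k ∈ KV ε i j := ⟨g, hg, hki⟩
  have hk1 : k 1 = 1 := by
    apply eps_inj_ext h
    rw [← hki 1]
    have h2 : ε (ext i j 1) = rr ε i j := by rw [← val_zt h hij, val_zt_one h hij]
    rw [h2]
    exact mem_NN'.1 hg
  obtain ⟨σ, hσ⟩ := SymFull.full (s.symHyp hij) hkK hk1
  obtain ⟨τ, ti, tj, ht⟩ := exists_perm_ext (i := i) (j := j) σ⁻¹
  obtain ⟨l, hl, hla⟩ := h.ev.full τ⁻¹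
  have hlL : l ∈ LL ε := ⟨_, hla⟩
  have hlI : Ind ε i j l k := by
    intro x
    have h1 := hla (ext i j x)
    have h2 : ext i j x ∘ (τ⁻¹ : Equiv.Perm (Fin n)).symm = ext i j x ∘ τ := rfl
    rw [h2, ht x] at h1
    rw [h1, hσ]
    rfl
  have h3 : l⁻¹ * g ∈ CV ε i j := by
    rw [← ind_one_iff]
    have h4 := hlI.inv.mul hki
    rwa [inv_mul_cancel] at h4
  have h5 := mul_mem hlL (s.CV_le hnc hij h3)
  rwa [mul_inv_cancel_left] at h5

end Sy

end Cfsg.Agent.Omega.NSix.TLEnd

end

section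


/-!
# OMEGA N6 (#16105 of helper147, #16370): `Ω₁(Z(O₂(P))) = V`, without `J` and `(H2)`

`Sys V L Y ε Q w`: `Y ≥ V` is elementary abelian and centralised by the elements of the `Q i j = O₂(C_G(r_ij))` which
centralise `V`; `w i j ∈ Q i j` induces the transposition on `V` and centralises `Q i j / ⟨r_ij⟩`.
`Sys.le_V : Y ≤ V`.

Application: `zc_le` for any `P`-invariant `Y`, `zc_o2_eq : zc (o2 P) = V`,
`zc_o2_centralizer : zc (o2 (centralizer V)) = V`.
-/

set_option autoImplicit false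

namespace Cfsg.Agent.Omega.NSix.OmegaOne

open Subgroup Cfsg
open Cfsg.Agent.ZN (o2 zc)
open Cfsg.Agent.MinSimple.VModule (o2_le o2_isPGroup le_normalizer_o2 le_o2 mem_zc zc_le zc_comm
  normalizer_le_normalizer_zc)
open Cfsg.Agent.MinSimple.Geo (mem_o2_of_stab)
open Cfsg.Agent.Omega.S5.Def
open Cfsg.Agent.Omega.NSix.Base Cfsg.Agent.Omega.NSix.Basic Cfsg.Agent.Omega.NSix.Zero

universe u

variable {G : Type u} [Group G] {n : ℕ}

/-- see the head of the file -/
structure Sys (V L Y : Subgroup G) (ε : (Fin n → ZMod 2) → G) (Q : Fin n → Fin n → Subgroup G)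
    (w : Fin n → Fin n → G) : Prop where
  ev : EvenSet n V L ε
  comm : ∀ a ∈ Y, ∀ b ∈ Y, a * b = b * a
  sq : ∀ a ∈ Y, a * a = 1
  le : V ≤ Y
  symm : ∀ i j, Q i j = Q j i
  wQ : ∀ i j, i ≠ j → w i j ∈ Q i j
  wa : ∀ i j, i ≠ j → Acts ε (w i j) (Equiv.swap i j)
  nrm : ∀ i j, i ≠ j → ∀ q ∈ Q i j, ∀ y ∈ Y, q * y * q⁻¹ ∈ Y
  act : ∀ i j, i ≠ j → ∀ q ∈ Q i j, Acts ε q 1 ∨ Acts ε q (Equiv.swap i j)
  cd : ∀ i j, i ≠ j → ∀ q ∈ Q i j, Acts ε q 1 → ∀ y ∈ Y, q * y = y * q
  cj : ∀ i j k l, i ≠ j → k ≠ l →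
    w k l * w i j * (w k l)⁻¹ ∈ Q (Equiv.swap k l i) (Equiv.swap k l j)
  qn : ∀ i j, i ≠ j → ∀ y ∈ Y, ∀ q ∈ Q i j, y * q * y⁻¹ ∈ Q i j
  wq : ∀ i j, i ≠ j → ∀ x ∈ Q i j,
    w i j * x * (w i j)⁻¹ = x ∨ w i j * x * (w i j)⁻¹ = x * rr ε i j
  zq : ∀ i j k, i ≠ j → k ≠ i → k ≠ j → ∀ q ∈ Q i j, q * zz ε k = zz ε k * q
  vq : ∀ i j, i ≠ j → V ≤ Q i j
  z0 : ∀ i j k l, i ≠ j → k ≠ l → k ≠ i → k ≠ j → l ≠ i → l ≠ j → ∀ x ∈ Y, x ∈ Q i j →
    (∀ q ∈ Q i j, q * x = x * q) → x ∈ Q k l
  fx : ∀ y ∈ Y, (∀ i j, i ≠ j → w i j * y = y * w i j) → y = 1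

/-- the action of `w i j` -/
def tt (w : Fin n → Fin n → G) (i j : Fin n) (y : G) : G := w i j * y * (w i j)⁻¹

theorem tt_mul (w : Fin n → Fin n → G) (i j : Fin n) (x y : G) : tt w i j (x * y) = tt w i j x * tt w i j y := by
  unfold tt
  group

theorem z2_add_one {a b : ZMod 2} (h : ¬ a = b) : a + b = 1 := by
  revert a b
  decide

theorem comp_swap {i j : Fin n} (hij : i ≠ j) (y : Fin n → ZMod 2) :
    y ∘ (Equiv.swap i j).symm = y + (y i + y j) • (Pi.single i 1 + Pi.single j 1) := by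
  funext k
  rw [Function.comp_apply, Equiv.symm_swap, Pi.add_apply, Pi.smul_apply, Pi.add_apply]
  by_cases h1 : k = i
  · subst h1
    rw [Equiv.swap_apply_left, Pi.single_eq_same, Pi.single_eq_of_ne hij, add_zero,
      smul_eq_mul, mul_one, ← add_assoc, Tv.z2_add, zero_add]
  by_cases h2 : k = j
  · subst h2
    rw [Equiv.swap_apply_right, Pi.single_eq_same, Pi.single_eq_of_ne h1, zero_add,
      smul_eq_mul, mul_one, add_comm (y i), ← add_assoc, Tv.z2_add, zero_add]
  · rw [Equiv.swap_apply_of_ne_of_ne h1 h2, Pi.single_eq_of_ne h1, Pi.single_eq_of_ne h2,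
      add_zero, smul_zero, add_zero]

namespace Sys

variable {V L Y : Subgroup G} {ε : (Fin n → ZMod 2) → G} {Q : Fin n → Fin n → Subgroup G}
  {w : Fin n → Fin n → G} (s : Sys V L Y ε Q w)
include s

theorem t_mem {i j : Fin n} (hij : i ≠ j) {y : G} (hy : y ∈ Y) : tt w i j y ∈ Y :=
  s.nrm i j hij _ (s.wQ i j hij) y hy

theorem eq_t {i j : Fin n} (hij : i ≠ j) {q : G} (hq : q ∈ Q i j) (ha : Acts ε q (Equiv.swap i j))
    {y : G} (hy : y ∈ Y) : q * y * q⁻¹ = tt w i j y := by
  have h1 : q⁻¹ * w i j ∈ Q i j := mul_mem (inv_mem hq) (s.wQ i j hij)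
  have h2 : Acts ε (q⁻¹ * w i j) 1 := by
    have h3 := ha.inv.mul (s.wa i j hij)
    rwa [inv_mul_cancel] at h3
  have h3 := s.cd i j hij _ h1 h2 y hy
  unfold tt
  calc q * y * q⁻¹ = q * (y * (q⁻¹ * w i j)) * (w i j)⁻¹ := by group
    _ = q * (q⁻¹ * w i j * y) * (w i j)⁻¹ := by rw [h3]
    _ = _ := by group

theorem t_t {i j : Fin n} (hij : i ≠ j) {y : G} (hy : y ∈ Y) : tt w i j (tt w i j y) = y := by
  have h1 : w i j * w i j ∈ Q i j := mul_mem (s.wQ i j hij) (s.wQ i j hij)
  have h2 : Acts ε (w i j * w i j) 1 := by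
    have h3 := (s.wa i j hij).mul (s.wa i j hij)
    rwa [Equiv.swap_mul_self] at h3
  have h3 := s.cd i j hij _ h1 h2 y hy
  unfold tt
  calc w i j * (w i j * y * (w i j)⁻¹) * (w i j)⁻¹ = w i j * w i j * y * (w i j * w i j)⁻¹ := by group
    _ = y := by rw [h3, mul_inv_cancel_right]

theorem t_inv {i j : Fin n} (hij : i ≠ j) {y : G} (hy : y ∈ Y) : (w i j)⁻¹ * y * w i j = tt w i j y := by
  have h1 := s.t_t hij hy
  calc (w i j)⁻¹ * y * w i j = (w i j)⁻¹ * tt w i j (tt w i j y) * w i j := by rw [h1]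
    _ = tt w i j y := by unfold tt; group

theorem t_symm {i j : Fin n} (hij : i ≠ j) {y : G} (hy : y ∈ Y) : tt w i j y = tt w j i y := by
  have h1 := s.wQ i j hij
  rw [s.symm] at h1
  have h2 := s.wa i j hij
  rw [Equiv.swap_comm] at h2
  exact s.eq_t hij.symm h1 h2 hy

theorem t_conj {i j k l : Fin n} (hij : i ≠ j) (hkl : k ≠ l) {y : G} (hy : y ∈ Y) :
    tt w k l (tt w i j (tt w k l y)) = tt w (Equiv.swap k l i) (Equiv.swap k l j) y := by
  have h0 : Equiv.swap k l i ≠ Equiv.swap k l j := fun h => hij ((Equiv.swap k l).injective h)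
  have h1 := s.cj i j k l hij hkl
  have h2 : Acts ε (w k l * w i j * (w k l)⁻¹)
      (Equiv.swap (Equiv.swap k l i) (Equiv.swap k l j)) := by
    have h3 := (s.wa k l hkl).conj (s.wa i j hij)
    rwa [← Equiv.swap_apply_apply] at h3
  rw [← s.eq_t h0 h1 h2 hy, ← s.t_inv hkl hy]
  unfold tt
  group

theorem t_eps {i j : Fin n} (hij : i ≠ j) (x : Fin n → ZMod 2) (h : x i = x j) : tt w i j (ε x) = ε x := by
  have h1 : w i j * ε x * (w i j)⁻¹ = ε (x ∘ (Equiv.swap i j).symm) := s.wa i j hij x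
  unfold tt
  rw [h1, comp_swap hij, h, Tv.z2_add, zero_smul, add_zero]

theorem t_eps_ne {i j : Fin n} (hij : i ≠ j) (x : Fin n → ZMod 2) (h : x i ≠ x j) :
    tt w i j (ε x) = ε x * rr ε i j := by
  have h1 : w i j * ε x * (w i j)⁻¹ = ε (x ∘ (Equiv.swap i j).symm) := s.wa i j hij x
  have h2 : x i + x j = 1 := by
    revert h
    generalize x i = a
    generalize x j = b
    revert a b
    decide
  unfold tt
  rw [h1, comp_swap hij, h2, one_smul, s.ev.add, s.ev.add]
  rfl

theorem t_rr_self {i j : Fin n} (hij : i ≠ j) : tt w i j (rr ε i j) = rr ε i j := by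
  have h1 : rr ε i j = ε (Pi.single i 1 + Pi.single j 1) := (s.ev.add _ _).symm
  rw [h1]
  apply s.t_eps hij
  rw [Pi.add_apply, Pi.add_apply, Pi.single_eq_same, Pi.single_eq_same, Pi.single_eq_of_ne hij,
    Pi.single_eq_of_ne hij.symm, add_comm]

/-- fixed by a star -/
theorem star (c : Fin n) (Λ : Fin n → Prop) (hc : Λ c) {y : G} (hy : y ∈ Y)
    (h : ∀ a, Λ a → a ≠ c → tt w a c y = y) : ∀ a b, Λ a → Λ b → a ≠ b → tt w a b y = y := by
  intro a b ha hb hab
  by_cases hac : a = c
  · subst hac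
    rw [s.t_symm hab hy]
    exact h b hb hab.symm
  by_cases hbc : b = c
  · subst hbc
    exact h a ha hab
  have h1 := s.t_conj (i := b) (j := c) (k := a) (l := c) hbc hac hy
  rw [Equiv.swap_apply_right, Equiv.swap_apply_of_ne_of_ne hab.symm hbc, h a ha hac, h b hb hbc,
    h a ha hac] at h1
  rw [s.t_symm hab hy, ← h1]

/-- a vector of `V` with the same commutators -/
theorem fit (c : Fin n) (Λ : Fin n → Prop) (hc : Λ c) {y : G} (hy : y ∈ Y)
    (h : ∀ a, Λ a → a ≠ c → tt w a c y = y ∨ tt w a c y = y * rr ε a c) :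
    ∃ x : Fin n → ZMod 2, (∀ a, ¬ Λ a → x a = 0) ∧
      ∀ a b, Λ a → Λ b → a ≠ b → tt w a b (y * ε x) = y * ε x := by
  classical
  let x : Fin n → ZMod 2 := fun a => if Λ a ∧ a ≠ c ∧ tt w a c y ≠ y then 1 else 0
  have hx0 : ∀ a, ¬ (Λ a ∧ a ≠ c ∧ tt w a c y ≠ y) → x a = 0 := fun a ha => if_neg ha
  have hx1 : ∀ a, (Λ a ∧ a ≠ c ∧ tt w a c y ≠ y) → x a = 1 := fun a ha => if_pos ha
  have hxV : ε x ∈ Y := s.le (s.ev.mem x)
  have hxc : x c = 0 := hx0 c fun h1 => h1.2.1 rfl
  refine ⟨x, fun a ha => hx0 a fun h1 => ha h1.1, s.star c Λ hc (mul_mem hy hxV) fun a ha hac => ?_⟩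
  rw [tt_mul]
  by_cases h1 : tt w a c y = y
  · have h2 : x a = x c := by rw [hxc, hx0 a fun h2 => h2.2.2 h1]
    rw [h1, s.t_eps hac x h2]
  · have h2 : x a ≠ x c := by
      rw [hxc, hx1 a ⟨ha, hac, h1⟩]
      exact one_ne_zero
    have hr : rr ε a c ∈ Y := s.le (rr_mem s.ev a c)
    rw [(h a ha hac).resolve_left h1, s.t_eps_ne hac x h2, mul_assoc, ← mul_assoc (rr ε a c),
      s.comm _ hr _ hxV, mul_assoc (ε x), rr_sq s.ev, mul_one]

/-- elements of `Q i j` central for an element of `Y` -/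
theorem cen_of {i j : Fin n} (hij : i ≠ j) {y : G} (hy : y ∈ Y) (h : tt w i j y = y) :
    ∀ q ∈ Q i j, q * y = y * q := by
  intro q hq
  rcases s.act i j hij q hq with h1 | h1
  · exact s.cd i j hij q hq h1 y hy
  · have h2 := s.eq_t hij hq h1 hy
    rw [h, mul_inv_eq_iff_eq_mul] at h2
    exact h2

/-- (1): a central element of `Q i j` in `Y` and a disjoint pair -/
theorem disj {i j k l : Fin n} (hij : i ≠ j) (hkl : k ≠ l) (h1 : k ≠ i) (h2 : k ≠ j) (h3 : l ≠ i)
    (h4 : l ≠ j) {y : G} (hy : y ∈ Y) (hq : y ∈ Q i j) (hc : ∀ q ∈ Q i j, q * y = y * q) :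
    tt w k l y = y ∨ tt w k l y = y * rr ε k l :=
  s.wq k l hkl y (s.z0 i j k l hij hkl h1 h2 h3 h4 y hy hq hc)

/-- (2): a central element of `Q i j` in `Y`, fixed by the disjoint pairs -/
theorem pair (hn : 5 ≤ n) {i j : Fin n} (hij : i ≠ j) {c : G} (hy : c ∈ Y) (hq : c ∈ Q i j)
    (hc : ∀ q ∈ Q i j, q * c = c * q)
    (hf : ∀ a b, a ≠ i → a ≠ j → b ≠ i → b ≠ j → a ≠ b → tt w a b c = c) :
    c = 1 ∨ c = rr ε i j := by
  -- if also fixed by one more pair, then trivial
  have key : ∀ (c : G), c ∈ Y → tt w i j c = c →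
      (∀ a b, a ≠ i → a ≠ j → b ≠ i → b ≠ j → a ≠ b → tt w a b c = c) →
      ∀ k, k ≠ i → k ≠ j → tt w i k c = c → c = 1 := by
    intro c hy h0 hf k hki hkj hk
    apply s.fx c hy
    have h1 := s.star i (fun _ => True) trivial hy (fun a _ hai => by
      by_cases haj : a = j
      · subst haj
        rw [s.t_symm hai hy]
        exact h0
      by_cases hak : a = k
      · subst hak
        rw [s.t_symm hai hy]
        exact hk
      have h2 := s.t_conj (i := i) (j := k) (k := a) (l := k) hki.symm hak hy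
      rw [Equiv.swap_apply_right, Equiv.swap_apply_of_ne_of_ne (Ne.symm hai) hki.symm,
        hf a k hai haj hki hkj hak, hk, hf a k hai haj hki hkj hak] at h2
      rw [s.t_symm hai hy, ← h2])
    intro a b hab
    have h2 := h1 a b trivial trivial hab
    unfold tt at h2
    rwa [mul_inv_eq_iff_eq_mul] at h2
  -- three more letters
  obtain ⟨a, ha⟩ : ∃ a, a ∉ ({i, j} : Finset (Fin n)) := by
    by_contra hcon
    push Not at hcon
    have h1 : (Finset.univ : Finset (Fin n)).card ≤ ({i, j} : Finset (Fin n)).card :=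
      Finset.card_le_card fun a _ => hcon a
    have h2 := h1.trans Finset.card_le_two
    rw [Finset.card_univ, Fintype.card_fin] at h2
    omega
  obtain ⟨b, hb⟩ : ∃ b, b ∉ ({i, j, a} : Finset (Fin n)) := by
    by_contra hcon
    push Not at hcon
    have h1 : (Finset.univ : Finset (Fin n)).card ≤ ({i, j, a} : Finset (Fin n)).card :=
      Finset.card_le_card fun a _ => hcon a
    have h2 := h1.trans Finset.card_le_three
    rw [Finset.card_univ, Fintype.card_fin] at h2
    omega
  obtain ⟨k, hk⟩ : ∃ k, k ∉ ({i, j, a, b} : Finset (Fin n)) := by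
    by_contra hcon
    push Not at hcon
    have h1 : (Finset.univ : Finset (Fin n)).card ≤ ({i, j, a, b} : Finset (Fin n)).card :=
      Finset.card_le_card fun a _ => hcon a
    have h2 := h1.trans Finset.card_le_four
    rw [Finset.card_univ, Fintype.card_fin] at h2
    omega
  simp only [Finset.mem_insert, Finset.mem_singleton, not_or] at ha hb hk
  obtain ⟨hai, haj⟩ := ha
  obtain ⟨hbi, hbj, hba⟩ := hb
  obtain ⟨hki, hkj, hka, hkb⟩ := hk
  have hab : a ≠ b := Ne.symm hba
  have hcQ : c ∈ Q a b := s.z0 i j a b hij hab hai haj hbi hbj c hy hq hc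
  have hcc : ∀ q ∈ Q a b, q * c = c * q := s.cen_of hab hy (hf a b hai haj hbi hbj hab)
  have hik : i ≠ k := Ne.symm hki
  have h1 := s.disj hab hik (k := i) (l := k) (Ne.symm hai) (Ne.symm hbi) hka hkb hy hcQ hcc
  have h0 : tt w i j c = c := by
    unfold tt
    rw [hc _ (s.wQ i j hij), mul_inv_cancel_right]
  rcases h1 with h1 | h1
  · left
    exact key c hy h0 hf k hki hkj h1
  · right
    have hr : rr ε i j ∈ Y := s.le (rr_mem s.ev i j)
    have hrr : rr ε i j = ε (Pi.single i 1 + Pi.single j 1) := (s.ev.add _ _).symm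
    have h2 := key (c * rr ε i j) (mul_mem hy hr) (by rw [tt_mul, h0, s.t_rr_self hij])
      (fun a b h1 h2 h3 h4 h5 => by
        rw [tt_mul, hf a b h1 h2 h3 h4 h5, hrr, s.t_eps h5]
        rw [Pi.add_apply, Pi.add_apply, Pi.single_eq_of_ne h1, Pi.single_eq_of_ne h2,
          Pi.single_eq_of_ne h3, Pi.single_eq_of_ne h4]) k hki hkj (by
        rw [tt_mul, h1, hrr, s.t_eps_ne hik, ← hrr, mul_assoc, ← mul_assoc (rr ε i k),
          s.comm (rr ε i k) (s.le (rr_mem s.ev i k)) _ hr, mul_assoc, rr_sq s.ev, mul_one]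
        rw [Pi.add_apply, Pi.add_apply, Pi.single_eq_same, Pi.single_eq_of_ne hij,
          Pi.single_eq_of_ne hki, Pi.single_eq_of_ne hkj, add_zero, add_zero]
        exact one_ne_zero)
    rw [mul_eq_one_iff_eq_inv, rr_inv s.ev] at h2
    exact h2

theorem zq_eps {i j : Fin n} (hij : i ≠ j) {x : Fin n → ZMod 2} (hi : x i = 0) (hj : x j = 0) :
    ∀ q ∈ Q i j, q * ε x = ε x * q := by
  intro q hq
  apply s.cen_of hij (s.le (s.ev.mem x)) _ q hq
  exact s.t_eps hij x (by rw [hi, hj])

/-- (2): the central elements of `Q i j` in `Y` -/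
theorem mem (hn : 5 ≤ n) {i j : Fin n} (hij : i ≠ j) {c : G} (hy : c ∈ Y) (hq : c ∈ Q i j)
    (hc : ∀ q ∈ Q i j, q * c = c * q) : ∃ x : Fin n → ZMod 2, x i = x j ∧ c = ε x := by
  obtain ⟨k, hk⟩ : ∃ a, a ∉ ({i, j} : Finset (Fin n)) := by
    by_contra hcon
    push Not at hcon
    have h1 : (Finset.univ : Finset (Fin n)).card ≤ ({i, j} : Finset (Fin n)).card :=
      Finset.card_le_card fun a _ => hcon a
    have h2 := h1.trans Finset.card_le_two
    rw [Finset.card_univ, Fintype.card_fin] at h2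
    omega
  simp only [Finset.mem_insert, Finset.mem_singleton, not_or] at hk
  obtain ⟨x, hx0, hx⟩ := s.fit k (fun a => a ≠ i ∧ a ≠ j) hk hy fun a ha hak =>
    s.disj hij hak ha.1 ha.2 hk.1 hk.2 hy hq hc
  have hxi : x i = 0 := hx0 i fun h => h.1 rfl
  have hxj : x j = 0 := hx0 j fun h => h.2 rfl
  have hxV : ε x ∈ V := s.ev.mem x
  have h1 := s.pair hn hij (mul_mem hy (s.le hxV)) (mul_mem hq (s.vq i j hij hxV))
    (fun q hq => by rw [← mul_assoc, hc q hq, mul_assoc, s.zq_eps hij hxi hxj q hq, mul_assoc])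
    (fun a b h1 h2 h3 h4 h5 => hx a b ⟨h1, h2⟩ ⟨h3, h4⟩ h5)
  rcases h1 with h1 | h1
  · refine ⟨x, by rw [hxi, hxj], ?_⟩
    rw [mul_eq_one_iff_eq_inv, s.ev.inv] at h1
    exact h1
  · refine ⟨Pi.single i 1 + Pi.single j 1 + x, ?_, ?_⟩
    · change (Pi.single i 1 : Fin n → ZMod 2) i + (Pi.single j 1 : Fin n → ZMod 2) i + x i =
        (Pi.single i 1 : Fin n → ZMod 2) j + (Pi.single j 1 : Fin n → ZMod 2) j + x j
      rw [hxi, hxj, Pi.single_eq_same, Pi.single_eq_same, Pi.single_eq_of_ne hij,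
        Pi.single_eq_of_ne hij.symm, add_comm (0 : ZMod 2)]
    · rw [s.ev.add, s.ev.add]
      change c = rr ε i j * ε x
      rw [← h1, mul_assoc, s.ev.sq, mul_one]

theorem mem_V (hn : 5 ≤ n) {i j : Fin n} (hij : i ≠ j) {y : G} (hy : y ∈ Y) :
    ∃ x : Fin n → ZMod 2, x i = x j ∧ y * tt w i j y = ε x := by
  have hw := s.wQ i j hij
  have hty := s.t_mem hij hy
  have hyi : y⁻¹ = y := inv_eq_of_mul_eq_one_left (s.sq y hy)
  refine s.mem hn hij (mul_mem hy hty) ?_ (s.cen_of hij (mul_mem hy hty) ?_)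
  · have h1 := s.qn i j hij y hy _ hw
    have h2 : y * tt w i j y = y * w i j * y⁻¹ * (w i j)⁻¹ := by
      rw [hyi]
      unfold tt
      group
    rw [h2]
    exact mul_mem h1 (inv_mem hw)
  · rw [tt_mul, s.t_t hij hy, s.comm _ hty _ hy]

/-- (3): the `w i j` are transvections of `Y` -/
theorem tr (hn : 5 ≤ n) {i j : Fin n} (hij : i ≠ j) {y : G} (hy : y ∈ Y) :
    tt w i j y = y ∨ tt w i j y = y * rr ε i j := by
  obtain ⟨x, hxij, hx⟩ := s.mem_V hn hij hy
  have hn3 : 3 ≤ n := by omega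
  have hty := s.t_mem hij hy
  -- constant off `i`, `j`
  have hconst : ∀ a b, a ≠ i → a ≠ j → b ≠ i → b ≠ j → a ≠ b → x a = x b := by
    intro a b hai haj hbi hbj hab
    by_contra hne
    obtain ⟨x', hxab, hx'⟩ := s.mem_V hn hab hy
    have htab := s.t_mem hab hy
    have hcomm : tt w a b (tt w i j y) = tt w i j (tt w a b y) := by
      have h1 := s.t_conj (i := i) (j := j) (k := a) (l := b) hij hab (y := tt w a b y) htab
      rw [s.t_t hab hy, Equiv.swap_apply_of_ne_of_ne hai.symm hbi.symm,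
        Equiv.swap_apply_of_ne_of_ne haj.symm hbj.symm] at h1
      exact h1
    have h1 : tt w a b (ε x) * ε x = tt w i j (ε x') * ε x' := by
      rw [← hx, ← hx', tt_mul, tt_mul, hcomm]
      have c1 := s.comm _ htab _ hy
      have h3 := s.comm _ (s.t_mem hij htab) _ (mul_mem hy hty)
      have h4 := s.comm _ (s.t_mem hij htab) _ (mul_mem hy htab)
      calc tt w a b y * tt w i j (tt w a b y) * (y * tt w i j y)
          = tt w a b y * (tt w i j (tt w a b y) * (y * tt w i j y)) := by group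
        _ = tt w a b y * (y * tt w i j y * tt w i j (tt w a b y)) := by rw [h3]
        _ = (tt w a b y * y) * tt w i j y * tt w i j (tt w a b y) := by group
        _ = (y * tt w a b y) * tt w i j y * tt w i j (tt w a b y) := by rw [c1]
        _ = tt w i j y * (y * tt w a b y) * tt w i j (tt w a b y) := by
            rw [s.comm _ (mul_mem hy htab) _ hty]
        _ = tt w i j y * (y * tt w a b y * tt w i j (tt w a b y)) := by group
        _ = tt w i j y * (tt w i j (tt w a b y) * (y * tt w a b y)) := by rw [h4]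
        _ = _ := by group
    have h2 : tt w a b (ε x) * ε x = rr ε a b := by
      rw [s.t_eps_ne hab x hne, s.ev.comm_mem (s.ev.mem x) (rr_mem s.ev a b), mul_assoc, s.ev.sq, mul_one]
    have h3 : tt w i j (ε x') * ε x' = 1 ∨ tt w i j (ε x') * ε x' = rr ε i j := by
      by_cases h : x' i = x' j
      · left
        rw [s.t_eps hij x' h, s.ev.sq]
      · right
        rw [s.t_eps_ne hij x' h, s.ev.comm_mem (s.ev.mem x') (rr_mem s.ev i j), mul_assoc, s.ev.sq, mul_one]
    rw [← h1, h2] at h3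
    rcases h3 with h3 | h3
    · exact rr_ne_one s.ev hn3 hab h3
    · -- `r_ab = r_ij`
      have h4 : tt w a i (rr ε a b) = tt w a i (rr ε i j) := by rw [h3]
      have e1 : rr ε a b = ε (Pi.single a 1 + Pi.single b 1) := (s.ev.add _ _).symm
      have e2 : rr ε i j = ε (Pi.single i 1 + Pi.single j 1) := (s.ev.add _ _).symm
      have h5 : (Pi.single a 1 + Pi.single b 1 : Fin n → ZMod 2) = Pi.single i 1 + Pi.single j 1 ∨
          (Pi.single a 1 + Pi.single b 1 : Fin n → ZMod 2) = Pi.single i 1 + Pi.single j 1 + 1 := by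
        rw [← s.ev.eq_iff, ← e1, ← e2, h3]
      rcases h5 with h5 | h5
      · have h6 := congrFun h5 a
        rw [Pi.add_apply, Pi.add_apply, Pi.single_eq_same, Pi.single_eq_of_ne hab,
          Pi.single_eq_of_ne hai, Pi.single_eq_of_ne haj, add_zero, add_zero] at h6
        exact one_ne_zero h6
      · obtain ⟨k, hk⟩ : ∃ k, k ∉ ({i, j, a, b} : Finset (Fin n)) := by
          by_contra hcon
          push Not at hcon
          have h1 : (Finset.univ : Finset (Fin n)).card ≤ ({i, j, a, b} : Finset (Fin n)).card :=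
            Finset.card_le_card fun a _ => hcon a
          have h2 := h1.trans Finset.card_le_four
          rw [Finset.card_univ, Fintype.card_fin] at h2
          omega
        simp only [Finset.mem_insert, Finset.mem_singleton, not_or] at hk
        have h6 := congrFun h5 k
        rw [Pi.add_apply, Pi.add_apply, Pi.add_apply, Pi.single_eq_of_ne hk.2.2.1,
          Pi.single_eq_of_ne hk.2.2.2, Pi.single_eq_of_ne hk.1, Pi.single_eq_of_ne hk.2.1, add_zero,
          Pi.one_apply, zero_add] at h6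
        exact zero_ne_one h6
  -- so `ε x ∈ {1, r_ij}`
  have hyi : y * y = 1 := s.sq y hy
  have hfin : ε x = 1 ∨ ε x = rr ε i j := by
    obtain ⟨k, hk⟩ : ∃ a, a ∉ ({i, j} : Finset (Fin n)) := by
      by_contra hcon
      push Not at hcon
      have h1 : (Finset.univ : Finset (Fin n)).card ≤ ({i, j} : Finset (Fin n)).card :=
        Finset.card_le_card fun a _ => hcon a
      have h2 := h1.trans Finset.card_le_two
      rw [Finset.card_univ, Fintype.card_fin] at h2
      omega
    simp only [Finset.mem_insert, Finset.mem_singleton, not_or] at hk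
    have hxk : ∀ a, a ≠ i → a ≠ j → x a = x k := by
      intro a h1 h2
      by_cases h3 : a = k
      · rw [h3]
      · exact hconst a k h1 h2 hk.1 hk.2 h3
    by_cases hik : x i = x k
    · left
      rw [s.ev.ker]
      have h1 : ∀ a, x a = x k := by
        intro a
        by_cases ha : a = i
        · rw [ha, hik]
        by_cases ha' : a = j
        · rw [ha', ← hxij, hik]
        exact hxk a ha ha'
      rcases Tv.z2 (x k) with h2 | h2
      · left; funext a; rw [h1 a, h2]; rfl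
      · right; funext a; rw [h1 a, h2]; rfl
    · right
      have e2 : rr ε i j = ε (Pi.single i 1 + Pi.single j 1) := (s.ev.add _ _).symm
      rw [e2, s.ev.eq_iff]
      have hv : ∀ a b : ZMod 2, a ≠ b → (a = 1 ∧ b = 0) ∨ (a = 0 ∧ b = 1) := by decide
      have hsum : ∀ a, (Pi.single i 1 + Pi.single j 1 : Fin n → ZMod 2) a = if a = i ∨ a = j then 1 else 0 := by
        intro a
        rw [Pi.add_apply]
        by_cases ha : a = i
        · rw [if_pos (Or.inl ha), ha, Pi.single_eq_same, Pi.single_eq_of_ne hij, add_zero]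
        by_cases ha' : a = j
        · rw [if_pos (Or.inr ha'), ha', Pi.single_eq_same, Pi.single_eq_of_ne hij.symm, zero_add]
        rw [if_neg (by tauto), Pi.single_eq_of_ne ha, Pi.single_eq_of_ne ha', add_zero]
      rcases hv _ _ hik with ⟨h1, h2⟩ | ⟨h1, h2⟩
      · left
        funext a
        rw [hsum]
        by_cases ha : a = i
        · rw [if_pos (Or.inl ha), ha, h1]
        by_cases ha' : a = j
        · rw [if_pos (Or.inr ha'), ha', ← hxij, h1]
        rw [if_neg (by tauto), hxk a ha ha', h2]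
      · right
        funext a
        rw [Pi.add_apply, hsum, Pi.one_apply]
        by_cases ha : a = i
        · rw [if_pos (Or.inl ha), ha, h1]
          decide
        by_cases ha' : a = j
        · rw [if_pos (Or.inr ha'), ha', ← hxij, h1]
          decide
        rw [if_neg (by tauto), hxk a ha ha', h2]
        decide
  have h1 : tt w i j y = y * ε x := by rw [← hx, ← mul_assoc, hyi, one_mul]
  rcases hfin with h2 | h2
  · left
    rw [h1, h2, mul_one]
  · right
    rw [h1, h2]

/-- **`Y ≤ V`** -/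
theorem le_V (hn : 5 ≤ n) : Y ≤ V := by
  intro y hy
  have h0 : 0 < n := by omega
  obtain ⟨x, -, hx⟩ := s.fit ⟨0, h0⟩ (fun _ => True) trivial hy fun a _ ha => s.tr hn ha hy
  have hxV : ε x ∈ V := s.ev.mem x
  have h1 := s.fx _ (mul_mem hy (s.le hxV)) fun a b hab => by
    have h2 := hx a b trivial trivial hab
    unfold tt at h2
    rwa [mul_inv_eq_iff_eq_mul] at h2
  rw [mul_eq_one_iff_eq_inv, s.ev.inv] at h1
  rw [h1]
  exact hxV

end Sys

/-! ### Application -/

/-- the hypotheses of `Zero.sixL` without `(H2)` and without `Fix0` -/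
structure Hyp (V P : Subgroup G) (S : Sylow 2 G) (ε : (Fin n → ZMod 2) → G) : Prop where
  ev : EvenSet n V P ε
  le : (S : Subgroup G) ≤ P
  zS : zc (S : Subgroup G) ≤ V
  pair : ∀ i j k, i ≠ j → k ≠ i → k ≠ j → ∀ q ∈ o2 (NN ε i j), q * zz ε k = zz ε k * q
  hle : ∀ i j, i ≠ j → o2 (NN ε i j) ≤ P
  hN : ∃ i j, i ≠ j ∧ ∃ g ∈ WP ε i j, ¬ g ∈ centralizer (V : Set G)

namespace Hyp

variable {V P : Subgroup G} {S : Sylow 2 G} {ε : (Fin n → ZMod 2) → G} (h : Hyp V P S ε)
include h

/-- `O₂(C_G(r_ij))` acts as `⟨(i j)⟩`. -/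
theorem act (hn : 3 ≤ n) : ∀ i j, i ≠ j → ∀ q ∈ o2 (NN ε i j), Acts ε q 1 ∨ Acts ε q (Equiv.swap i j) := by
  intro i j hij q hqQ
  obtain ⟨σ, hσ⟩ := h.ev.perm q (h.hle i j hij hqQ)
  have hfix : ∀ k, k ≠ i → k ≠ j → σ k = k := by
    intro k h1 h2
    apply h.ev.single_inj hn
    have h3 := h.pair i j k hij h1 h2 q hqQ
    have h4 := zz_conj hσ k
    rw [h3, mul_inv_cancel_right] at h4
    exact h4.symm
  have hdich : σ = 1 ∨ σ = Equiv.swap i j := by
    have hpres : σ i = i ∨ σ i = j := by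
      by_contra hc
      rw [not_or] at hc
      have h1 := hfix _ hc.1 hc.2
      exact hc.1 (σ.injective h1)
    have hpres' : σ j = i ∨ σ j = j := by
      by_contra hc
      rw [not_or] at hc
      have h1 := hfix _ hc.1 hc.2
      exact hc.2 (σ.injective h1)
    rcases hpres with h1 | h1
    · left
      have h2 : σ j = j := hpres'.resolve_left fun h2 => hij (σ.injective (h1.trans h2.symm))
      ext k
      by_cases hk1 : k = i
      · rw [hk1, h1]; rfl
      by_cases hk2 : k = j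
      · rw [hk2, h2]; rfl
      rw [hfix k hk1 hk2]; rfl
    · right
      have h2 : σ j = i := hpres'.resolve_right fun h2 => hij (σ.injective (h1.trans h2.symm))
      ext k
      by_cases hk1 : k = i
      · rw [hk1, h1, Equiv.swap_apply_left]
      by_cases hk2 : k = j
      · rw [hk2, h2, Equiv.swap_apply_right]
      rw [hfix k hk1 hk2, Equiv.swap_apply_of_ne_of_ne hk1 hk2]
  rcases hdich with h1 | h1
  · left; rwa [h1] at hσ
  · right; rwa [h1] at hσ

theorem wp_le [Finite G] (hG : IsCharacteristicTwoType G) (hn : 3 ≤ n) {i j : Fin n} (hij : i ≠ j) :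
    WP ε i j ≤ o2 (NN ε i j) := fun _ hg =>
  mem_o2_of_stab hG (rr_sq h.ev i j) (rr_ne_one h.ev hn hij) hg.1 hg.2

theorem v_le_wp (hn : 3 ≤ n) {i j : Fin n} (hij : i ≠ j) : V ≤ WP ε i j := by
  intro v hv
  rw [mem_WP]
  have hvN : v ∈ NN ε i j := by
    rw [mem_NN]
    exact h.ev.comm_mem hv (rr_mem h.ev i j)
  refine ⟨hvN, fun q hqQ => ?_⟩
  obtain ⟨x, rfl⟩ := h.ev.surj v hv
  have hcase : q * ε x * q⁻¹ = ε x ∨ q * ε x * q⁻¹ = ε x * rr ε i j := by
    rcases h.act hn i j hij q hqQ with h1 | h1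
    · left; exact h1 x
    · have h2 : q * ε x * q⁻¹ = ε (x ∘ (Equiv.swap i j).symm) := h1 x
      rw [h2, comp_swap hij, h.ev.add]
      rcases Tv.z2 (x i + x j) with h2 | h2
      · left
        rw [h2, zero_smul, h.ev.zero, mul_one]
      · right
        rw [h2, one_smul, h.ev.add]
        rfl
  have h2 : ε x * q * (ε x)⁻¹ * q⁻¹ = ε x * (q * ε x * q⁻¹) := by
    rw [h.ev.inv]
    group
  rw [h2]
  rcases hcase with h1 | h1
  · rw [h1, h.ev.sq]
    exact one_mem _
  · rw [h1, ← mul_assoc, h.ev.sq, one_mul]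
    exact mem_zpowers _

theorem mov [Finite G] (hG : IsCharacteristicTwoType G) (hn : 3 ≤ n) :
    ∀ i j, i ≠ j → ∃ w ∈ WP ε i j, Acts ε w (Equiv.swap i j) := by
  obtain ⟨i0, j0, hij0, g, hg, hgV⟩ := h.hN
  have hgs : Acts ε g (Equiv.swap i0 j0) :=
    (h.act hn i0 j0 hij0 g (h.wp_le hG hn hij0 hg)).resolve_left
      fun h1 => hgV (h.ev.acts_one_iff.mp h1)
  intro i j hij
  obtain ⟨σ, h1, h2, -⟩ := exists_perm hij0 hij
  obtain ⟨p, -, hp⟩ := h.ev.full σ
  refine ⟨p * g * p⁻¹, ?_, ?_⟩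
  · have := WP_conj hp hg
    rwa [h1, h2] at this
  · have h3 := hp.conj hgs
    have h4 : σ * Equiv.swap i0 j0 * σ⁻¹ = Equiv.swap i j := by
      rw [← Equiv.swap_apply_apply, h1, h2]
    rwa [h4] at h3

theorem cv_le_NN (i j : Fin n) : centralizer (V : Set G) ≤ NN ε i j := fun g hg => by
  rw [mem_NN]
  exact (mem_centralizer_iff.mp hg _ (rr_mem h.ev i j)).symm

/-- (0) -/
theorem zero {i j k l : Fin n} (hki : k ≠ i) (hkj : k ≠ j)
    (hli : l ≠ i) (hlj : l ≠ j) (hkl : k ≠ l) (hV : V ≤ o2 (NN ε i j)) {x : G} (hx : x ∈ zc (o2 (NN ε i j)))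
    (hc : ∀ z ∈ zc (o2 (NN ε k l)), x * z = z * x) (hV' : V ≤ o2 (NN ε k l)) : x ∈ o2 (NN ε k l) := by
  let C : Subgroup G := NN ε k l ⊓ centralizer (zc (o2 (NN ε k l)) : Set G)
  have hNz : NN ε k l ≤ normalizer (zc (o2 (NN ε k l)) : Set G) :=
    (le_normalizer_o2 _).trans (normalizer_le_normalizer_zc _)
  have hCn : NN ε k l ≤ normalizer (C : Set G) := by
    have key : ∀ g ∈ NN ε k l, ∀ c ∈ C, g * c * g⁻¹ ∈ C := by
      intro g hg c hc0
      have hc1 : c ∈ NN ε k l := hc0.1
      have hc2 := mem_centralizer_iff.mp hc0.2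
      refine mem_inf.mpr ⟨mul_mem (mul_mem hg hc1) (inv_mem hg), ?_⟩
      rw [mem_centralizer_iff]
      intro z hz
      have h1 : g⁻¹ * z * g ∈ zc (o2 (NN ε k l)) := by
        have := (mem_normalizer_iff.mp (hNz (inv_mem hg)) z).mp hz
        rwa [inv_inv] at this
      have h2 := hc2 _ h1
      calc z * (g * c * g⁻¹) = g * (g⁻¹ * z * g * c) * g⁻¹ := by group
        _ = g * (c * (g⁻¹ * z * g)) * g⁻¹ := by rw [h2]
        _ = _ := by group
    intro g hg
    rw [mem_normalizer_iff]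
    refine fun c => ⟨key g hg c, fun hc => ?_⟩
    have h1 := key g⁻¹ (inv_mem hg) _ hc
    have h2 : g⁻¹ * (g * c * g⁻¹) * g⁻¹⁻¹ = c := by group
    rwa [h2] at h1
  -- `z_i`, `z_j ∈ Z(O₂(N_kl))`
  have hzk : ∀ a, a ≠ k → a ≠ l → zz ε a ∈ zc (o2 (NN ε k l)) := by
    intro a h1 h2
    refine mem_zc.mpr ⟨hV' (zz_mem h.ev a), fun q hq => (h.pair k l a hkl h1 h2 q hq), ?_⟩
    rw [pow_two]
    exact zz_sq h.ev a
  have hr : rr ε i j ∈ zc (o2 (NN ε k l)) :=
    mul_mem (hzk i hki.symm hli.symm) (hzk j hkj.symm hlj.symm)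
  have hCN : C ≤ NN ε i j := by
    rintro c ⟨-, hc2⟩
    rw [mem_NN]
    exact (mem_centralizer_iff.mp hc2 _ hr).symm
  have hZV : zc (o2 (NN ε i j)) ≤ centralizer (V : Set G) := fun z hz => by
    rw [mem_centralizer_iff]
    intro v hv
    exact (mem_zc.mp hz).2.1 v (hV hv)
  let M : Subgroup G := zc (o2 (NN ε i j)) ⊓ C
  have hM2 : IsPGroup 2 M := (o2_isPGroup (NN ε i j)).to_le (inf_le_left.trans (zc_le _))
  have hMn : C ≤ normalizer (M : Set G) := by
    intro g hg
    have h1 : g ∈ normalizer (zc (o2 (NN ε i j)) : Set G) :=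
      ((le_normalizer_o2 _).trans (normalizer_le_normalizer_zc _)) (hCN hg)
    have h2 : g ∈ normalizer (C : Set G) := le_normalizer hg
    rw [mem_normalizer_iff] at h1 h2 ⊢
    exact fun x => and_congr (h1 x) (h2 x)
  have hxM : x ∈ M := by
    have h1 : x ∈ centralizer (zc (o2 (NN ε k l)) : Set G) := by
      rw [mem_centralizer_iff]
      intro z hz
      exact (hc z hz).symm
    exact ⟨hx, h.cv_le_NN k l (hZV hx), h1⟩
  have h1 : M ≤ o2 C := le_o2 inf_le_right hM2 hMn
  have h2 : o2 C ≤ o2 (NN ε k l) :=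
    le_o2 ((o2_le C).trans inf_le_left) (o2_isPGroup C) (hCn.trans (End.Six.norm_o2 C))
  exact h2 (h1 hxM)

/-- an element of a `P`-invariant elementary abelian group, fixed by the transvections, is 1 -/
theorem fixed [Finite G] (hn : 3 ≤ n) {F : Subgroup G} (hF2 : ∀ a ∈ F, a * a = 1)
    (hFP : ∀ g ∈ P, ∀ a ∈ F, g * a * g⁻¹ ∈ F)
    (hFw : ∀ a ∈ F, ∀ i j, i ≠ j → ∃ w, Acts ε w (Equiv.swap i j) ∧ w * a = a * w) : F = ⊥ := by
  by_contra hFne
  have h2 : Fact (Nat.Prime 2) := ⟨Nat.prime_two⟩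
  have hFp : IsPGroup 2 F := by
    intro a
    refine ⟨1, ?_⟩
    rw [pow_one, pow_two]
    exact Subtype.ext (hF2 a a.2)
  let act : MulAction (S : Subgroup G) F :=
    { smul := fun s a => ⟨(s : G) * a * (s : G)⁻¹, hFP s (h.le s.2) a a.2⟩
      one_smul := fun a => Subtype.ext (by change (1 : G) * a * (1 : G)⁻¹ = a; group)
      mul_smul := fun s t a => Subtype.ext (by
        change ((s : G) * t) * a * ((s : G) * t)⁻¹ = (s : G) * (t * a * (t : G)⁻¹) * (s : G)⁻¹
        group) }
  have hdvd : 2 ∣ Nat.card F := by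
    rcases hFp.card_eq_or_dvd with h1 | h1
    · exact absurd ((card_eq_one (H := F)).mp h1) hFne
    · exact h1
  have hfix1 : (1 : F) ∈ MulAction.fixedPoints (S : Subgroup G) F := by
    intro s
    exact Subtype.ext (by change (s : G) * 1 * (s : G)⁻¹ = 1; group)
  obtain ⟨a, haf, hane⟩ := S.isPGroup'.exists_fixed_point_of_prime_dvd_card_of_fixed_point F
    hdvd hfix1
  have hac : ∀ s ∈ (S : Subgroup G), s * (a : G) = a * s := by
    intro s hs
    have h1 := congrArg Subtype.val (haf ⟨s, hs⟩)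
    have h3 : s * (a : G) * s⁻¹ = a := h1
    exact mul_inv_eq_iff_eq_mul.mp h3
  have hane' : (a : G) ≠ 1 := fun h1 => hane (Subtype.ext h1).symm
  have haS : (a : G) ∈ (S : Subgroup G) := by
    refine MinPar.le_of_le_normalizer S hFp (fun s hs => ?_) a.2
    rw [mem_normalizer_iff]
    refine fun x => ⟨hFP s (h.le hs) x, fun hx => ?_⟩
    have h1 := hFP s⁻¹ (inv_mem (h.le hs)) _ hx
    have h3 : s⁻¹ * (s * x * s⁻¹) * s⁻¹⁻¹ = x := by group
    rwa [h3] at h1
  have haV : (a : G) ∈ V := h.zS (mem_zc.mpr ⟨haS, hac, by rw [pow_two]; exact hF2 a a.2⟩)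
  obtain ⟨x, hx⟩ := h.ev.surj a haV
  -- `x` is constant
  have hconst : ∀ i j, i ≠ j → x i = x j := by
    intro i j hij
    by_contra hne
    obtain ⟨w, hw, hwa⟩ := hFw a a.2 i j hij
    have h1 : w * ε x * w⁻¹ = ε (x ∘ (Equiv.swap i j).symm) := hw x
    rw [hx, hwa, mul_inv_cancel_right, comp_swap hij] at h1
    have h3 : x i + x j = 1 := by
      exact z2_add_one hne
    rw [h3, one_smul, h.ev.add, h.ev.add, hx] at h1
    have h4 : rr ε i j = 1 := by
      have h5 : (a : G) * rr ε i j = a := h1.symm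
      exact mul_eq_left.mp h5
    exact rr_ne_one h.ev hn hij h4
  apply hane'
  rw [← hx, h.ev.ker]
  have h0 : 0 < n := by omega
  have hall : ∀ i, x i = x ⟨0, h0⟩ := by
    intro i
    by_cases hi : i = ⟨0, h0⟩
    · rw [hi]
    · exact hconst i _ hi
  rcases Tv.z2 (x ⟨0, h0⟩) with h1 | h1
  · left; funext k; rw [hall k, h1]; rfl
  · right; funext k; rw [hall k, h1]; rfl

/-- **(1)-(3)**: a `P`-invariant elementary abelian group `Y ≥ V` centralised by the `O₂(C_G(r_ij)) ∩ C_G(V)` is `V`. -/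
theorem le_V [Finite G] (hG : IsCharacteristicTwoType G) (hn : 5 ≤ n) {Y : Subgroup G}
    (hYc : ∀ a ∈ Y, ∀ b ∈ Y, a * b = b * a) (hY2 : ∀ a ∈ Y, a * a = 1) (hVY : V ≤ Y)
    (hYP : ∀ g ∈ P, ∀ y ∈ Y, g * y * g⁻¹ ∈ Y)
    (hYD : ∀ i j, i ≠ j → ∀ q ∈ o2 (NN ε i j), q ∈ centralizer (V : Set G) → ∀ y ∈ Y, q * y = y * q) :
    Y ≤ V := by
  classical
  have hn3 : 3 ≤ n := by omega
  have hmov := h.mov hG hn3
  have hwQ : ∀ i j, i ≠ j → WP ε i j ≤ o2 (NN ε i j) := fun i j hij => h.wp_le hG hn3 hij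
  have hVQ : ∀ i j, i ≠ j → V ≤ o2 (NN ε i j) := fun i j hij => (h.v_le_wp hn3 hij).trans (hwQ i j hij)
  let w : Fin n → Fin n → G := fun i j => if hij : i ≠ j then (hmov i j hij).choose else 1
  have hw : ∀ i j, i ≠ j → w i j ∈ WP ε i j ∧ Acts ε (w i j) (Equiv.swap i j) := by
    intro i j hij
    have h1 : w i j = (hmov i j hij).choose := dif_pos hij
    rw [h1]
    exact (hmov i j hij).choose_spec
  have hYV : Y ≤ centralizer (V : Set G) := fun y hy => by
    rw [mem_centralizer_iff]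
    exact fun v hv => hYc v (hVY hv) y hy
  have hcd : ∀ i j, i ≠ j → ∀ q ∈ o2 (NN ε i j), Acts ε q 1 → ∀ y ∈ Y, q * y = y * q :=
    fun i j hij q hq h1 => hYD i j hij q hq (h.ev.acts_one_iff.mp h1)
  refine Sys.le_V (L := P) (ε := ε) (Q := fun i j => o2 (NN ε i j)) (w := w)
    { ev := h.ev
      comm := hYc
      sq := hY2
      le := hVY
      symm := fun i j => by rw [NN_symm h.ev]
      wQ := fun i j hij => hwQ i j hij (hw i j hij).1
      wa := fun i j hij => (hw i j hij).2
      nrm := fun i j hij q hq y hy => hYP q (h.hle i j hij hq) y hy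
      act := h.act hn3
      cd := hcd
      cj := fun i j k l hij hkl => o2_NN_conj (hw k l hkl).2 (hwQ i j hij (hw i j hij).1)
      qn := fun i j hij y hy q hq =>
        (mem_normalizer_iff.mp (le_normalizer_o2 _ (h.cv_le_NN i j (hYV hy))) q).mp hq
      wq := fun i j hij x hx => ?_
      zq := h.pair
      vq := hVQ
      z0 := fun i j k l hij hkl h1 h2 h3 h4 x hxY hxQ hxc => ?_
      fx := fun y hy hyw => ?_ } hn
  · rcases zpow_cases (rr_sq h.ev i j) ((hw i j hij).1.2 x hx) with h1 | h1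
    · left
      rwa [mul_inv_eq_one] at h1
    · right
      rw [mul_inv_eq_iff_eq_mul] at h1
      rw [h1]
      exact (mem_NN.mp (o2_le _ hx)).symm
  · refine h.zero h1 h2 h3 h4 hkl (hVQ i j hij) (mem_zc.mpr ⟨hxQ, fun q hq => hxc q hq, ?_⟩)
      (fun z hz => ?_) (hVQ k l hkl)
    · rw [pow_two]
      exact hY2 x hxY
    · refine (hYD k l hkl z (zc_le _ hz) ?_ x hxY).symm
      rw [mem_centralizer_iff]
      intro v hv
      exact (mem_zc.mp hz).2.1 v (hVQ k l hkl hv)
  · -- `C_Y(F_L) = 1`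
    let F : Subgroup G :=
      { carrier := {y | y ∈ Y ∧ ∀ i j, i ≠ j → ∀ g ∈ WP ε i j, g * y = y * g}
        one_mem' := ⟨one_mem _, fun i j _ g _ => by rw [mul_one, one_mul]⟩
        mul_mem' := by
          rintro a b ⟨ha, ha'⟩ ⟨hb, hb'⟩
          refine ⟨mul_mem ha hb, fun i j hij g hg => ?_⟩
          rw [← mul_assoc, ha' i j hij g hg, mul_assoc, hb' i j hij g hg, mul_assoc]
        inv_mem' := by
          rintro a ⟨ha, ha'⟩
          refine ⟨inv_mem ha, fun i j hij g hg => ?_⟩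
          have h1 := ha' i j hij g hg
          rw [eq_inv_mul_iff_mul_eq, ← mul_assoc, ← h1, mul_inv_cancel_right] }
    have hF : F = ⊥ := by
      refine h.fixed hn3 (fun a ha => hY2 a ha.1) (fun g hg a ha => ⟨hYP g hg a ha.1, fun i j hij x hx => ?_⟩)
        (fun a ha i j hij => ⟨w i j, (hw i j hij).2, ha.2 i j hij _ (hw i j hij).1⟩)
      obtain ⟨σ, hσ⟩ := h.ev.perm g⁻¹ (inv_mem hg)
      have h1 := WP_conj hσ hx
      rw [inv_inv] at h1
      have h2 := ha.2 _ _ (fun h3 => hij (σ.injective h3)) _ h1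
      calc x * (g * a * g⁻¹) = g * (g⁻¹ * x * g * a) * g⁻¹ := by group
        _ = g * (a * (g⁻¹ * x * g)) * g⁻¹ := by rw [h2]
        _ = _ := by group
    have hyF : y ∈ F := by
      refine ⟨hy, fun i j hij g hg => ?_⟩
      rcases h.act hn3 i j hij g (hwQ i j hij hg) with h1 | h1
      · exact hcd i j hij g (hwQ i j hij hg) h1 y hy
      · have h2 : (w i j)⁻¹ * g ∈ o2 (NN ε i j) :=
          mul_mem (inv_mem (hwQ i j hij (hw i j hij).1)) (hwQ i j hij hg)
        have h3 : Acts ε ((w i j)⁻¹ * g) 1 := by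
          have h3 := (hw i j hij).2.inv.mul h1
          rwa [inv_mul_cancel] at h3
        have h4 := hcd i j hij _ h2 h3 y hy
        have h5 := hyw i j hij
        calc g * y = w i j * ((w i j)⁻¹ * g * y) := by group
          _ = w i j * (y * ((w i j)⁻¹ * g)) := by rw [h4]
          _ = w i j * y * ((w i j)⁻¹ * g) := by group
          _ = y * w i j * ((w i j)⁻¹ * g) := by rw [h5]
          _ = _ := by group
    rw [hF] at hyF
    exact mem_bot.mp hyF

/-- `O₂(C_G(r_ij)) ∩ C_G(V) ≤ O₂(C_G(V))` -/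
theorem d_le {i j : Fin n} {q : G} (hq : q ∈ o2 (NN ε i j)) (hqV : q ∈ centralizer (V : Set G)) :
    q ∈ o2 (centralizer (V : Set G)) := by
  have h1 : o2 (NN ε i j) ⊓ centralizer (V : Set G) ≤ o2 (centralizer (V : Set G)) := by
    refine le_o2 inf_le_right ((o2_isPGroup (NN ε i j)).to_le inf_le_left) fun g hg => ?_
    have h1 : g ∈ normalizer (o2 (NN ε i j) : Set G) := le_normalizer_o2 _ (h.cv_le_NN i j hg)
    have h2 : g ∈ normalizer (centralizer (V : Set G) : Set G) := le_normalizer hg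
    rw [mem_normalizer_iff] at h1 h2 ⊢
    exact fun x => and_congr (h1 x) (h2 x)
  exact h1 ⟨hq, hqV⟩

theorem cv_norm : P ≤ normalizer (centralizer (V : Set G) : Set G) := by
  have key : ∀ g ∈ P, ∀ c ∈ centralizer (V : Set G), g * c * g⁻¹ ∈ centralizer (V : Set G) := by
    intro g hg c hc
    replace hc := mem_centralizer_iff.mp hc
    rw [mem_centralizer_iff]
    intro v hv
    have h1 : g⁻¹ * v * g ∈ V := by
      have := (mem_normalizer_iff.mp (h.ev.le_normalizer (inv_mem hg)) v).mp hv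
      rwa [inv_inv] at this
    have h2 := hc _ h1
    calc v * (g * c * g⁻¹) = g * (g⁻¹ * v * g * c) * g⁻¹ := by group
      _ = g * (c * (g⁻¹ * v * g)) * g⁻¹ := by rw [h2]
      _ = _ := by group
  intro g hg
  rw [mem_normalizer_iff]
  refine fun c => ⟨key g hg c, fun hc => ?_⟩
  have h1 := key g⁻¹ (inv_mem hg) _ hc
  have h2 : g⁻¹ * (g * c * g⁻¹) * g⁻¹⁻¹ = c := by group
  rwa [h2] at h1

/-- **`Ω₁(Z(O₂(C_G(V)))) = V`** -/
theorem zc_o2_centralizer [Finite G] (hG : IsCharacteristicTwoType G) (hn : 5 ≤ n) :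
    zc (o2 (centralizer (V : Set G))) = V := by
  have hVC : V ≤ centralizer (V : Set G) := fun v hv => by
    rw [mem_centralizer_iff]
    exact fun v' hv' => h.ev.comm_mem hv' hv
  have hVO : V ≤ o2 (centralizer (V : Set G)) :=
    le_o2 hVC h.ev.isPGroup fun g hg => centralizer_le_normalizer _ hg
  have hV : V ≤ zc (o2 (centralizer (V : Set G))) := fun v hv => by
    refine mem_zc.mpr ⟨hVO hv, fun q hq => ?_, ?_⟩
    · exact (mem_centralizer_iff.mp (o2_le _ hq) v hv).symm
    · rw [pow_two]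
      exact h.ev.sq_mem hv
  refine le_antisymm (h.le_V hG hn (zc_comm _) (fun a ha => ?_) hV (fun g hg y hy => ?_)
    fun i j _ q hq hqV y hy => (mem_zc.mp hy).2.1 q (h.d_le hq hqV)) hV
  · have := (mem_zc.mp ha).2.2
    rwa [pow_two] at this
  · exact (mem_normalizer_iff.mp (((h.cv_norm).trans (End.Six.norm_o2 _)).trans
      (normalizer_le_normalizer_zc _) hg) y).mp hy

/-- **`Ω₁(Z(O₂(P))) = V`** -/
theorem zc_o2 [Finite G] (hG : IsCharacteristicTwoType G) (hn : 5 ≤ n) (hV : V ≤ zc (o2 P))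
    (hC : (S : Subgroup G) ⊓ centralizer (V : Set G) ≤ o2 P) : zc (o2 P) = V := by
  have hO : o2 (centralizer (V : Set G)) ≤ o2 P := by
    have h1 : o2 (centralizer (V : Set G)) ≤ (S : Subgroup G) :=
      MinPar.le_of_le_normalizer S (o2_isPGroup _) (h.le.trans (h.cv_norm.trans (End.Six.norm_o2 _)))
    exact (le_inf h1 (o2_le _)).trans hC
  refine le_antisymm (h.le_V hG hn (zc_comm _) (fun a ha => ?_) hV (fun g hg y hy => ?_)
    fun i j _ q hq hqV y hy => (mem_zc.mp hy).2.1 q (hO (h.d_le hq hqV))) hV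
  · have := (mem_zc.mp ha).2.2
    rwa [pow_two] at this
  · exact (mem_normalizer_iff.mp ((le_normalizer_o2 P).trans (normalizer_le_normalizer_zc _) hg) y).mp hy

end Hyp

/-- **`Ω₁(Z(O₂(P))) = V`** for `V = ⟨Ω₁(Z(S)) ^ P⟩`, `P` a star minimal parabolic. -/
theorem zc_o2_par [Finite G] (hG : IsCharacteristicTwoType G) (hn : 5 ≤ n) {S : Sylow 2 G} {P : Subgroup G}
    {ε : (Fin n → ZMod 2) → G} (hP : MinPar.IsParS (S : Subgroup G) P)
    (h : Hyp (ZN.zl (S : Subgroup G) P) P S ε) :
    zc (o2 P) = ZN.zl (S : Subgroup G) P :=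
  h.zc_o2 hG hn (hP.isLoc.zl_le S hG) (hP.inf_centralizer S hG).le

end Cfsg.Agent.Omega.NSix.OmegaOne

end
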