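import Cfsg.Agent.Mrg.Omega.S5.Pair
import Cfsg.Agent.Mrg.Omega.S5.Def
import Cfsg.Agent.Mrg.Omega.NSix.MatchApp
import Cfsg.Agent.Mrg.Omega.BTwo.Conj
import Cfsg.Agent.Mrg.Omega.F4Leaf.Split
import Cfsg.Agent.Mrg.Omega.S5.NatBig
import Cfsg.Agent.PLocal.OffenderStep
import Cfsg.Agent.MinSimple.Basic
import Cfsg.Agent.Mrg.Omega.S5.Syl
import Cfsg.Agent.MinSimple.VModule
import Cfsg.Agent.ZN.ChoiceBase

section


/-!
# OMEGA N6 (B1), #14749 (helper666): no mutual pair of type `T^k`, `k ≥ 2`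

* `matching` : two transpositions `(i j)`, `(k l)` induced by `V'` on `V` and the corresponding transpositions induced
  by `V` on `V'`, with the same commutators `r_ij = r'_i'j'`, `r_kl = r'_k'l'`;
* `eq_swap` : all transpositions induced by `V'` on `V` are equal;
* `acts_or`, `twoAct`, `labTwo`.
-/

set_option autoImplicit false

namespace Cfsg.Agent.Omega.NSix.TkPair

open Subgroup Cfsg Cfsg.Agent.ZN Cfsg.Agent.ZN.ChoiceBase
open Cfsg.Agent.Omega.S5.Def Cfsg.Agent.Omega.S5.Syl Cfsg.Agent.Omega.S5.Pair Cfsg.Agent.Omega.S5.Main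
open Cfsg.Agent.Omega.NSix.Base Cfsg.Agent.Omega.NSix.Basic

universe u

variable {G : Type u} [Group G]

/-! ### Transpositions -/

theorem swap_comm_disj {ι : Type*} [DecidableEq ι] {i j k l : ι} (hij : i ≠ j) (hkl : k ≠ l)
    (hc : Equiv.swap i j * Equiv.swap k l = Equiv.swap k l * Equiv.swap i j) :
    Equiv.swap i j = Equiv.swap k l ∨ (k ≠ i ∧ k ≠ j ∧ l ≠ i ∧ l ≠ j) := by
  by_cases h1 : k = i
  · subst h1
    left
    have h2 := Equiv.ext_iff.mp hc k
    rw [Equiv.Perm.mul_apply, Equiv.Perm.mul_apply, Equiv.swap_apply_left, Equiv.swap_apply_left] at h2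
    by_cases h3 : l = j
    · rw [h3]
    · rw [Equiv.swap_apply_of_ne_of_ne hkl.symm h3, Equiv.swap_apply_of_ne_of_ne hij.symm (Ne.symm h3)] at h2
      exact absurd h2 h3
  by_cases h2 : k = j
  · subst h2
    left
    have h3 := Equiv.ext_iff.mp hc k
    rw [Equiv.Perm.mul_apply, Equiv.Perm.mul_apply, Equiv.swap_apply_left, Equiv.swap_apply_right] at h3
    by_cases h4 : l = i
    · rw [h4, Equiv.swap_comm]
    · rw [Equiv.swap_apply_of_ne_of_ne h4 hkl.symm, Equiv.swap_apply_of_ne_of_ne hij (Ne.symm h4)] at h3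
      exact absurd h3 h4
  by_cases h3 : l = i
  · subst h3
    have h4 := Equiv.ext_iff.mp hc l
    rw [Equiv.Perm.mul_apply, Equiv.Perm.mul_apply, Equiv.swap_apply_left, Equiv.swap_apply_right,
      Equiv.swap_apply_of_ne_of_ne h1 h2, Equiv.swap_apply_of_ne_of_ne (Ne.symm h2) hij.symm] at h4
    exact absurd h4 h2
  by_cases h4 : l = j
  · subst h4
    have h5 := Equiv.ext_iff.mp hc l
    rw [Equiv.Perm.mul_apply, Equiv.Perm.mul_apply, Equiv.swap_apply_right, Equiv.swap_apply_right,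
      Equiv.swap_apply_of_ne_of_ne h1 h2, Equiv.swap_apply_of_ne_of_ne (Ne.symm h1) hij] at h5
    exact absurd h5 h1
  exact Or.inr ⟨h1, h2, h3, h4⟩

section

variable {n n' : ℕ} {V V' L L' : Subgroup G} {ε : (Fin n → ZMod 2) → G} {ε' : (Fin n' → ZMod 2) → G}

theorem rr_eq (h : EvenSet n V L ε) (i j : Fin n) : rr ε i j = ε (Pi.single i 1 + Pi.single j 1) :=
  (h.add _ _).symm

/-- the pair is determined by the transposition -/
theorem rr_of_swap (h : EvenSet n V L ε) {i j k l : Fin n} (hij : i ≠ j) (hs : Equiv.swap i j = Equiv.swap k l) :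
    rr ε i j = rr ε k l := by
  have h1 : Equiv.swap k l i = j := by rw [← hs, Equiv.swap_apply_left]
  by_cases hk : i = k
  · subst hk
    rw [Equiv.swap_apply_left] at h1
    rw [h1]
  by_cases hl : i = l
  · subst hl
    rw [Equiv.swap_apply_right] at h1
    rw [h1, rr_symm h]
  · rw [Equiv.swap_apply_of_ne_of_ne hk hl] at h1
    exact absurd h1 hij

/-- disjoint pairs are different (five points) -/
theorem rr_ne (h : EvenSet n V L ε) (hn : 5 ≤ n) {i j k l : Fin n} (hij : i ≠ j)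
    (hki : k ≠ i) (hli : l ≠ i) : rr ε i j ≠ rr ε k l := by
  intro h0
  rw [rr_eq h, rr_eq h, h.eq_iff] at h0
  obtain ⟨q, hq⟩ : ∃ q : Fin n, q ∉ ({i, j, k, l} : Finset (Fin n)) := by
    by_contra hc
    push Not at hc
    have h1 : (Finset.univ : Finset (Fin n)).card ≤ ({i, j, k, l} : Finset (Fin n)).card :=
      Finset.card_le_card fun x _ => hc x
    have h2 : ({i, j, k, l} : Finset (Fin n)).card ≤ 4 := Finset.card_le_four
    rw [Finset.card_univ, Fintype.card_fin] at h1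
    omega
  simp only [Finset.mem_insert, Finset.mem_singleton, not_or] at hq
  obtain ⟨q1, q2, q3, q4⟩ := hq
  rcases h0 with h0 | h0
  · have h1 := congrFun h0 i
    rw [Pi.add_apply, Pi.add_apply, Pi.single_eq_same, Pi.single_eq_of_ne hij, Pi.single_eq_of_ne hki.symm,
      Pi.single_eq_of_ne hli.symm, add_zero, add_zero] at h1
    exact one_ne_zero h1
  · have h1 := congrFun h0 q
    rw [Pi.add_apply, Pi.add_apply, Pi.add_apply, Pi.single_eq_of_ne q1, Pi.single_eq_of_ne q2,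
      Pi.single_eq_of_ne q3, Pi.single_eq_of_ne q4, Pi.one_apply, add_zero, zero_add] at h1
    exact zero_ne_one h1

/-- commuting elements acting as transpositions -/
theorem disj_of_comm (h : EvenSet n V L ε) (hn : 3 ≤ n) {a b : G} {i j k l : Fin n} (hij : i ≠ j) (hkl : k ≠ l)
    (ha : Acts ε a (Equiv.swap i j)) (hb : Acts ε b (Equiv.swap k l)) (hab : a * b = b * a) :
    Equiv.swap i j = Equiv.swap k l ∨ (k ≠ i ∧ k ≠ j ∧ l ≠ i ∧ l ≠ j) := by
  have h1 := ha.mul hb
  rw [hab] at h1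
  exact swap_comm_disj hij hkl (h.acts_unique hn h1 (hb.mul ha))

/-- **Matching.** -/
theorem matching (h : EvenSet n V L ε) (h' : EvenSet n' V' L' ε') (hn : 5 ≤ n) (hn' : 3 ≤ n')
    (hs : Side V ε') {b₁ b₂ : G} (hb₁ : b₁ ∈ V') (hb₂ : b₂ ∈ V') {i j k l : Fin n} (hij : i ≠ j) (hkl : k ≠ l)
    (hki : k ≠ i) (hli : l ≠ i) (a₁ : Acts ε b₁ (Equiv.swap i j)) (a₂ : Acts ε b₂ (Equiv.swap k l)) :
    ∃ i' j' k' l' : Fin n', i' ≠ j' ∧ k' ≠ l' ∧ (k' ≠ i' ∧ k' ≠ j' ∧ l' ≠ i' ∧ l' ≠ j') ∧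
      rr ε i j = rr ε' i' j' ∧ rr ε k l = rr ε' k' l' ∧ (∃ c ∈ V, Acts ε' c (Equiv.swap i' j')) ∧
      ∃ z, b₂ = ε' z ∧ z i' = z j' := by
  have hn3 : 3 ≤ n := by omega
  obtain ⟨i', j', hij', e1, c₁, hc₁, s₁, -⟩ := match_swap h h' hn3 hn' hs hb₁ hij a₁
  obtain ⟨k', l', hkl', e2, c₂, hc₂, s₂, -⟩ := match_swap h h' hn3 hn' hs hb₂ hkl a₂
  rw [← rr_eq h, ← rr_eq h'] at e1 e2
  have hne : rr ε i j ≠ rr ε k l := rr_ne h hn hij hki hli
  have hdis : k' ≠ i' ∧ k' ≠ j' ∧ l' ≠ i' ∧ l' ≠ j' := by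
    rcases disj_of_comm h' hn' hij' hkl' s₁ s₂ (h.comm_mem hc₁ hc₂) with h0 | h0
    · exact absurd (by rw [e1, e2, rr_of_swap h' hij' h0]) hne
    · exact h0
  refine ⟨i', j', k', l', hij', hkl', hdis, e1, e2, ⟨c₁, hc₁, s₁⟩, ?_⟩
  obtain ⟨z, rfl⟩ := h'.surj b₂ hb₂
  refine ⟨z, rfl, ?_⟩
  by_contra hz
  obtain ⟨u, rfl⟩ := h.surj c₁ hc₁
  -- `[c₁, b₂] = r'_i'j'`
  have f1 := (acts_swap h' s₁ z).2 hz
  rw [← rr_eq h', ← e1] at f1
  have hu : u k ≠ u l := by
    intro h0
    have f3 := (acts_swap h a₂ u).1 h0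
    rw [← f3, mul_inv_cancel_right, left_eq_mul] at f1
    exact rr_ne_one h hn3 hij f1
  have f2 := (acts_swap h a₂ u).2 hu
  rw [← rr_eq h] at f2
  -- both are the commutator
  apply hne
  have g1 : ε' z * rr ε i j = rr ε i j * ε' z := by
    rw [e1]; exact h'.comm_mem (h'.mem z) (rr_mem h' _ _)
  have g2 : ε u * rr ε k l = rr ε k l * ε u := h.comm_mem (h.mem u) (rr_mem h _ _)
  have g3 : ε u * ε' z * (ε u)⁻¹ * (ε' z)⁻¹ = rr ε i j := by rw [f1, g1]; group
  have g4 : ε' z * ε u * (ε' z)⁻¹ * (ε u)⁻¹ = rr ε k l := by rw [f2, g2]; group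
  calc rr ε i j = ε u * ε' z * (ε u)⁻¹ * (ε' z)⁻¹ := g3.symm
    _ = (ε' z * ε u * (ε' z)⁻¹ * (ε u)⁻¹)⁻¹ := by group
    _ = rr ε k l := by rw [g4, rr_inv h]

/-- The output of `CosetAct` for the pair `{i, j}`, `W = O₂(C_G(r_ij))`: `[W, v]` centralises `V` and
`C_W(r_kl) = C_W(v)` for `v ∈ r_ij^⊥`. -/
structure OneSide (V : Subgroup G) (ε : (Fin n → ZMod 2) → G) (i j : Fin n) : Prop where
  p1 : ∀ x : Fin n → ZMod 2, x i = x j → ∀ w ∈ o2 (centralizer ({rr ε i j} : Set G)),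
    w⁻¹ * ε x * w * (ε x)⁻¹ ∈ centralizer (V : Set G)
  p2 : ∀ w ∈ o2 (centralizer ({rr ε i j} : Set G)), ∀ k l : Fin n, k ≠ l →
    (k ≠ i ∧ k ≠ j ∧ l ≠ i ∧ l ≠ j) → w * rr ε k l = rr ε k l * w →
    ∀ x : Fin n → ZMod 2, x i = x j → w * ε x = ε x * w

/-- Two disjoint transpositions are impossible. -/
theorem false_of_two [Finite G] (hG : IsCharacteristicTwoType G) (h : EvenSet n V L ε)
    (h' : EvenSet n' V' L' ε') (hn : 5 ≤ n) (hn' : 3 ≤ n') (hs : Side V ε') {b₁ b₂ : G} (hb₁ : b₁ ∈ V')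
    (hb₂ : b₂ ∈ V') {i j k l : Fin n} (hij : i ≠ j) (hkl : k ≠ l)
    (hd : k ≠ i ∧ k ≠ j ∧ l ≠ i ∧ l ≠ j) (a₁ : Acts ε b₁ (Equiv.swap i j)) (a₂ : Acts ε b₂ (Equiv.swap k l))
    (q : OneSide V ε i j)
    (q' : ∀ i' j' : Fin n', i' ≠ j' → (∃ c ∈ V, Acts ε' c (Equiv.swap i' j')) → OneSide V' ε' i' j') : False := by
  have hn3 : 3 ≤ n := by omega
  obtain ⟨i', j', k', l', hij', hkl', hd', e1, e2, hc, z, hz, hz2⟩ :=
    matching h h' hn hn' hs hb₁ hb₂ hij hkl hd.1 hd.2.2.1 a₁ a₂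
  have Q := q' i' j' hij' hc
  have e1' : rr ε' i' j' = rr ε i j := e1.symm
  have hu : (Pi.single k 1 : Fin n → ZMod 2) i = (Pi.single k 1 : Fin n → ZMod 2) j := by
    rw [Pi.single_eq_of_ne hd.1.symm, Pi.single_eq_of_ne hd.2.1.symm]
  refine KillTwo.kill (H := centralizer ({rr ε i j} : Set G)) (W := o2 (centralizer ({rr ε i j} : Set G)))
    (x := rr ε k l) (u := zz ε k) (u' := b₂) (MinSimple.VModule.o2_isPGroup _)
    (MinSimple.VModule.le_normalizer_o2 _) ?_ ?_ ?_ ?_ ?_ ?_ ?_ ?_ (rr_ne_one h hn3 hkl)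
  · refine MinSimple.Basic.char2_centralizer hG ?_ (rr_ne_one h hn3 hij)
    rw [pow_two, rr_sq h]
  · rw [mem_centralizer_singleton_iff]
    exact h.comm_mem (zz_mem h k) (rr_mem h i j)
  · rw [mem_centralizer_singleton_iff, hz, e1]
    exact h'.comm_mem (h'.mem z) (rr_mem h' i' j')
  · intro w hw
    exact (mem_centralizer_iff.mp (q.p1 _ hu w hw) _ (rr_mem h k l)).symm
  · intro w hw
    rw [hz]
    have h1 := mem_centralizer_iff.mp (Q.p1 z hz2 w (by rw [e1']; exact hw)) _ (rr_mem h' k' l')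
    rw [← e2] at h1
    exact h1.symm
  · intro w hw hwx
    exact q.p2 w hw k l hkl hd hwx _ hu
  · intro w hw hwx
    rw [hz]
    exact Q.p2 w (by rw [e1']; exact hw) k' l' hkl' hd' (by rw [← e2]; exact hwx) z hz2
  · have h1 : b₂ * zz ε k * b₂⁻¹ = zz ε l := by rw [zz_conj a₂, Equiv.swap_apply_left]
    calc zz ε k * b₂ * (zz ε k)⁻¹ * b₂⁻¹ = zz ε k * (b₂ * zz ε k * b₂⁻¹)⁻¹ := by group
      _ = rr ε k l := by rw [h1, zz_inv h]; rfl

/-! ### The index form -/

/-- All elements of `V'` act on `V` trivially or as one transposition. -/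
theorem acts_or (hs : Side V' ε)
    (hq : ∀ b₁ ∈ V', ∀ b₂ ∈ V', ∀ i j k l : Fin n, i ≠ j → k ≠ l → Acts ε b₁ (Equiv.swap i j) →
      Acts ε b₂ (Equiv.swap k l) → Equiv.swap i j = Equiv.swap k l) {b : G} (hb : b ∈ V') :
    Acts ε b 1 ∨ ∃ i j, i ≠ j ∧ Acts ε b (Equiv.swap i j) := by
  obtain ⟨τ, hτ, h2⟩ := hs b hb
  by_cases h1 : τ = 1
  · left; rw [← h1]; exact hτ
  right
  obtain ⟨i, hi⟩ : ∃ i, τ i ≠ i := by
    by_contra hc
    push Not at hc
    exact h1 (Equiv.ext hc)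
  refine ⟨i, τ i, hi.symm, ?_⟩
  obtain ⟨hii, c, hc, hcs⟩ := h2 i hi
  have h3 : τ = Equiv.swap i (τ i) := by
    ext j
    congr 1
    by_cases hj : τ j = j
    · have h4 : j ≠ i := by rintro rfl; exact hi hj
      have h5 : j ≠ τ i := by rintro rfl; exact hi (τ.injective hj)
      rw [hj, Equiv.swap_apply_of_ne_of_ne h4 h5]
    · obtain ⟨-, d, hd, hds⟩ := h2 j hj
      rw [hq c hc d hd i (τ i) j (τ j) hi.symm (Ne.symm hj) hcs hds, Equiv.swap_apply_left]
  rw [← h3]
  exact hτ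

theorem twoAct_of (h : EvenSet n V L ε) (hs : Side V' ε)
    (hq : ∀ b₁ ∈ V', ∀ b₂ ∈ V', ∀ i j k l : Fin n, i ≠ j → k ≠ l → Acts ε b₁ (Equiv.swap i j) →
      Acts ε b₂ (Equiv.swap k l) → Equiv.swap i j = Equiv.swap k l) : S5.Types.TwoAct V' V := by
  intro w hw w' hw' h1 h2
  rcases acts_or hs hq hw with h3 | ⟨i, j, hij, h3⟩
  · exact absurd (h.acts_one_iff.mp h3) h1
  rcases acts_or hs hq hw' with h4 | ⟨k, l, hkl, h4⟩
  · exact absurd (h.acts_one_iff.mp h4) h2
  rw [← hq w hw w' hw' i j k l hij hkl h3 h4] at h4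
  exact h.mem_centralizer_of_acts h4 h3

end

end Cfsg.Agent.Omega.NSix.TkPair

end

section


/-!
# The four-group of the even subsets of `{i, j, p}` (helper994)

* `E3`, `card_E3`, `norm_E3`;
* `le_of_E3` : `L ≤ H` if `C_L(r_ij) ≤ H` and `N_L(E3) ≤ H`.
-/

set_option autoImplicit false
set_option linter.unusedSectionVars false

namespace Cfsg.Agent.Omega.IId.Cv

open Subgroup Cfsg.Agent.Omega.S5.Def
open Cfsg.Agent.Omega.NSix.Base Cfsg.Agent.Omega.NSix.Basic
open Cfsg.Agent.Omega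

universe u

section E3

variable {G : Type u} [Group G] {n : ℕ} {A L : Subgroup G} {ε : (Fin n → ZMod 2) → G}

/-- the four-group of the even subsets of `{i, j, p}` -/
def E3 (h : EvenSet n A L ε) (i j p : Fin n) : Subgroup G where
  carrier := {x | x = 1 ∨ x = rr ε i j ∨ x = rr ε i p ∨ x = rr ε j p}
  one_mem' := Or.inl rfl
  mul_mem' := by
    have e1 := rr_sq h i j
    have e2 := rr_sq h i p
    have e3 := rr_sq h j p
    have f1 : rr ε i j * rr ε j p = rr ε i p := rr_add h i j p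
    have f2 : rr ε j p * rr ε i j = rr ε i p := by
      rw [h.comm_mem (rr_mem h j p) (rr_mem h i j), f1]
    have f3 : rr ε i j * rr ε i p = rr ε j p := by
      rw [rr_symm h i j]; exact rr_add h j i p
    have f4 : rr ε i p * rr ε i j = rr ε j p := by
      rw [h.comm_mem (rr_mem h i p) (rr_mem h i j), f3]
    have f5 : rr ε i p * rr ε j p = rr ε i j := by
      rw [rr_symm h j p]; exact rr_add h i p j
    have f6 : rr ε j p * rr ε i p = rr ε i j := by
      rw [h.comm_mem (rr_mem h j p) (rr_mem h i p), f5]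
    rintro x y (rfl | rfl | rfl | rfl) (rfl | rfl | rfl | rfl)
    · left; rw [one_mul]
    · right; left; rw [one_mul]
    · right; right; left; rw [one_mul]
    · right; right; right; rw [one_mul]
    · right; left; rw [mul_one]
    · left; exact e1
    · right; right; right; exact f3
    · right; right; left; exact f1
    · right; right; left; rw [mul_one]
    · right; right; right; exact f4
    · left; exact e2
    · right; left; exact f5
    · right; right; right; rw [mul_one]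
    · right; right; left; exact f2
    · right; left; exact f6
    · left; exact e3
  inv_mem' := by
    rintro x (rfl | rfl | rfl | rfl)
    · left; rw [inv_one]
    · right; left; exact rr_inv h _ _
    · right; right; left; exact rr_inv h _ _
    · right; right; right; exact rr_inv h _ _

theorem mem_E3 {h : EvenSet n A L ε} {i j p : Fin n} {x : G} :
    x ∈ E3 h i j p ↔ x = 1 ∨ x = rr ε i j ∨ x = rr ε i p ∨ x = rr ε j p := Iff.rfl

theorem card_E3 (h : EvenSet n A L ε) (hn : 5 ≤ n) {i j p : Fin n} (hij : i ≠ j) (hip : i ≠ p) (hjp : j ≠ p) :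
    Nat.card (E3 h i j p) = 4 := by
  classical
  have a1 : rr ε i j ≠ 1 := rr_ne_one h (by omega) hij
  have a2 : rr ε i p ≠ 1 := rr_ne_one h (by omega) hip
  have a3 : rr ε j p ≠ 1 := rr_ne_one h (by omega) hjp
  have b1 : rr ε i j ≠ rr ε i p := by
    rw [rr_symm h i j]
    exact NSix.TkPair.rr_ne h hn hij.symm hij hjp.symm
  have b2 : rr ε i j ≠ rr ε j p := NSix.TkPair.rr_ne h hn hij hij.symm hip.symm
  have b3 : rr ε i p ≠ rr ε j p := NSix.TkPair.rr_ne h hn hip hij.symm hip.symm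
  have h1 : ({1, rr ε i j, rr ε i p, rr ε j p} : Finset G).card = 4 := by
    rw [Finset.card_insert_of_notMem, Finset.card_insert_of_notMem, Finset.card_insert_of_notMem,
      Finset.card_singleton]
    · simp only [Finset.mem_singleton]
      exact b3
    · simp only [Finset.mem_insert, Finset.mem_singleton, not_or]
      exact ⟨b1, b2⟩
    · simp only [Finset.mem_insert, Finset.mem_singleton, not_or]
      exact ⟨a1.symm, a2.symm, a3.symm⟩
  have h2 : (({1, rr ε i j, rr ε i p, rr ε j p} : Finset G) : Set G) = (E3 h i j p : Set G) := by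
    ext x
    simp only [Finset.coe_insert, Finset.coe_singleton, Set.mem_insert_iff, Set.mem_singleton_iff,
      SetLike.mem_coe, mem_E3]
  have h4 : (E3 h i j p : Set G).ncard = Nat.card (E3 h i j p) := rfl
  rw [← h4, ← h2, Set.ncard_coe_finset, h1]

/-- a permutation of `{i, j, p}` normalises `E3` -/
theorem norm_E3 [Finite G] (h : EvenSet n A L ε) {i j p : Fin n} {g : G} {σ : Equiv.Perm (Fin n)} (hg : Acts ε g σ)
    (h1 : rr ε (σ i) (σ j) ∈ E3 h i j p) (h2 : rr ε (σ i) (σ p) ∈ E3 h i j p) (h3 : rr ε (σ j) (σ p) ∈ E3 h i j p) :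
    g ∈ normalizer (E3 h i j p : Set G) := by
  refine BTwo.mem_normalizer_of_conj fun x hx => ?_
  rcases mem_E3.1 hx with rfl | rfl | rfl | rfl
  · rw [mul_one, mul_inv_cancel]; exact one_mem _
  · rw [rr_conj hg]; exact h1
  · rw [rr_conj hg]; exact h2
  · rw [rr_conj hg]; exact h3

end E3

section gen

variable {G : Type u} [Group G] [Finite G] {n : ℕ} {A L : Subgroup G} {ε : (Fin n → ZMod 2) → G}

/-- the permutations all of whose representatives in `L` lie in `H` -/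
def permsIn (h : EvenSet n A L ε) (H : Subgroup G) (h1 : L ⊓ centralizer (A : Set G) ≤ H) :
    Subgroup (Equiv.Perm (Fin n)) where
  carrier := {σ | ∀ g ∈ L, Acts ε g σ → g ∈ H}
  one_mem' := fun g hg hσ => h1 ⟨hg, h.acts_one_iff.1 hσ⟩
  mul_mem' := by
    intro σ τ hσ hτ g hg hg2
    obtain ⟨k, hk, hk2⟩ := h.full τ
    have h3 : Acts ε (g * k⁻¹) σ := by
      have := hg2.mul hk2.inv
      rwa [mul_inv_cancel_right] at this
    have h4 := hσ _ (mul_mem hg (inv_mem hk)) h3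
    have h5 := mul_mem h4 (hτ k hk hk2)
    rwa [inv_mul_cancel_right] at h5
  inv_mem' := by
    intro σ hσ g hg hg2
    have h3 := hg2.inv
    rw [inv_inv] at h3
    exact inv_mem_iff.1 (hσ _ (inv_mem hg) h3)

/-- `L ≤ H` if `C_L(r_ij)` and `N_L(E3)` lie in `H` -/
theorem le_of_E3 (h : EvenSet n A L ε) {i j p : Fin n} (hij : i ≠ j) (hip : i ≠ p) (hjp : j ≠ p) {H : Subgroup G}
    (h1 : L ⊓ NN ε i j ≤ H) (h2 : L ⊓ normalizer (E3 h i j p : Set G) ≤ H) : L ≤ H := by
  classical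
  have hA : L ⊓ centralizer (A : Set G) ≤ H := by
    rintro g ⟨hg, hg2⟩
    refine h1 ⟨hg, ?_⟩
    change g ∈ NN ε i j
    rw [mem_NN]
    exact (mem_centralizer_iff.1 hg2 _ (rr_mem h i j)).symm
  set SS := permsIn h H hA with hSS
  have mem : ∀ σ, σ ∈ SS ↔ ∀ g ∈ L, Acts ε g σ → g ∈ H := fun σ => Iff.rfl
  have m1 : rr ε i j ∈ E3 h i j p := mem_E3.2 (Or.inr (Or.inl rfl))
  have m2 : rr ε i p ∈ E3 h i j p := mem_E3.2 (Or.inr (Or.inr (Or.inl rfl)))
  have m3 : rr ε j p ∈ E3 h i j p := mem_E3.2 (Or.inr (Or.inr (Or.inr rfl)))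
  -- transpositions which fix `{i, j}`
  have s0 : ∀ x y, x ≠ i → x ≠ j → y ≠ i → y ≠ j → Equiv.swap x y ∈ SS := by
    intro x y hxi hxj hyi hyj
    rw [mem]
    intro g hg hσ
    refine h1 (mem_inf.2 ⟨hg, ?_⟩)
    rw [mem_NN', rr_conj hσ, Equiv.swap_apply_of_ne_of_ne hxi.symm hyi.symm,
      Equiv.swap_apply_of_ne_of_ne hxj.symm hyj.symm]
  have s1 : Equiv.swap i j ∈ SS := by
    rw [mem]
    intro g hg hσ
    refine h1 (mem_inf.2 ⟨hg, ?_⟩)
    rw [mem_NN', rr_conj hσ, Equiv.swap_apply_left, Equiv.swap_apply_right, rr_symm h]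
  have s2 : Equiv.swap i p ∈ SS := by
    rw [mem]
    intro g hg hσ
    have e1 : Equiv.swap i p j = j := Equiv.swap_apply_of_ne_of_ne hij.symm hjp
    have e2 : Equiv.swap i p i = p := Equiv.swap_apply_left _ _
    have e3 : Equiv.swap i p p = i := Equiv.swap_apply_right _ _
    refine h2 ⟨hg, norm_E3 h hσ ?_ ?_ ?_⟩
    · rw [e1, e2, rr_symm h]; exact m3
    · rw [e2, e3, rr_symm h]; exact m2
    · rw [e1, e3, rr_symm h]; exact m1
  -- `swap i x`
  have s3 : ∀ x, x ≠ i → Equiv.swap i x ∈ SS := by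
    intro x hxi
    by_cases hxj : x = j
    · rw [hxj]; exact s1
    by_cases hxp : x = p
    · rw [hxp]; exact s2
    · have e : Equiv.swap p x * Equiv.swap i p * Equiv.swap p x = Equiv.swap i x := by
        rw [Equiv.swap_mul_swap_mul_swap hip (Ne.symm hxi), Equiv.swap_comm]
      rw [← e]
      have h3 := s0 p x hip.symm hjp.symm hxi hxj
      exact mul_mem (mul_mem h3 s2) h3
  have s4 : ∀ x y, x ≠ y → Equiv.swap x y ∈ SS := by
    intro x y hxy
    by_cases hx : x = i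
    · subst hx; exact s3 y hxy.symm
    by_cases hy : y = i
    · subst hy
      rw [Equiv.swap_comm]
      exact s3 x hx
    · have e : Equiv.swap i y * Equiv.swap x i * Equiv.swap i y = Equiv.swap y x :=
        Equiv.swap_mul_swap_mul_swap hx hxy
      rw [Equiv.swap_comm x y, ← e]
      have h3 := s3 y hy
      have h4 : Equiv.swap x i ∈ SS := by
        rw [Equiv.swap_comm]; exact s3 x hx
      exact mul_mem (mul_mem h3 h4) h3
  have htop : SS = ⊤ := by
    rw [eq_top_iff, ← Equiv.Perm.closure_isSwap, closure_le]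
    rintro σ ⟨x, y, hxy, rfl⟩
    exact s4 x y hxy
  intro g hg
  obtain ⟨σ, hσ⟩ := h.perm g hg
  have h3 : σ ∈ SS := by rw [htop]; exact mem_top σ
  exact (mem σ).1 h3 g hg hσ

end gen

end Cfsg.Agent.Omega.IId.Cv

end

section


/-!
# OMEGA N6 (B1), #14749 (helper666): no mutual pair of type `T^k`, `k ≥ 2`

* `eq_swap` : `V`, `V'` even-subset modules of degree `2^m + 1`, `2^m' + 1` (`m, m' ≥ 2`) over Sylow 2-subgroups
  `T ≥ V'`, `T' ≥ V` of `G`, acting on each other by products of disjoint transpositions: all transpositions induced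
  by `V'` on `V` are equal;
* `acts_or`, `twoAct`: the elements of `V'` act on `V` trivially or as this transposition;
* `labTwo` : the same for `S5.Main.LabTwo`.
-/

set_option autoImplicit false

namespace Cfsg.Agent.Omega.NSix.NoTk

open Subgroup Cfsg Cfsg.Agent.ZN Cfsg.Agent.ZN.ChoiceBase
open Cfsg.Agent.Omega.S5.Def Cfsg.Agent.Omega.S5.Syl Cfsg.Agent.Omega.S5.Pair Cfsg.Agent.Omega.S5.Main
open Cfsg.Agent.Omega.NSix.Base Cfsg.Agent.Omega.NSix.Basic

universe u

variable {G : Type u} [Group G]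

theorem card_le_sylow [Finite G] (S : Sylow 2 G) {T : Subgroup G} (hT : IsPGroup 2 T) :
    Nat.card T ≤ Nat.card (S : Subgroup G) := by
  have h2 : Fact (Nat.Prime 2) := ⟨Nat.prime_two⟩
  obtain ⟨R, hR⟩ := hT.exists_le_sylow
  have h1 : Nat.card (R : Subgroup G) = Nat.card (S : Subgroup G) := by
    rw [R.card_eq_multiplicity, S.card_eq_multiplicity]
  rw [← h1]
  exact Subgroup.card_le_of_le hR

/-- A 2-group normalised by a Sylow 2-subgroup is contained in it. -/
theorem le_sylow (S : Sylow 2 G) {V : Subgroup G} (hV : IsPGroup 2 V)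
    (hn : (S : Subgroup G) ≤ normalizer (V : Set G)) : V ≤ (S : Subgroup G) := by
  have h1 : IsPGroup 2 ((S : Subgroup G) ⊔ V : Subgroup G) := S.isPGroup'.to_sup_of_normal_right' hV hn
  have h2 := S.is_maximal' h1 le_sup_left
  rw [← h2]
  exact le_sup_right

theorem hyp [Finite G] (S : Sylow 2 G) {m : ℕ} (hm : 2 ≤ m) {V P : Subgroup G}
    {ε : (Fin (2 ^ m + 1) → ZMod 2) → G} (h : EvenSet (2 ^ m + 1) V P ε) (hSP : (S : Subgroup G) ≤ P)
    (hf : Fix0 ε (S : Subgroup G)) {i j : Fin (2 ^ m + 1)} (hij : i ≠ j)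
    (hsw : ∃ a ∈ (S : Subgroup G), Acts ε a (Equiv.swap i j)) :
    CosetAct.Hyp V P (S : Subgroup G) (o2 (centralizer ({rr ε i j} : Set G))) ε i j where
  even := h
  VP := (le_sylow S h.isPGroup (hSP.trans h.le_normalizer)).trans hSP
  two_le := hm
  le := hSP
  isP := S.isPGroup'
  max _ hT := card_le_sylow S hT
  fix0 := hf
  ne := hij
  swap := hsw
  isPW := MinSimple.VModule.o2_isPGroup _
  leW := MinSimple.VModule.o2_le _
  norm := MinSimple.VModule.le_normalizer_o2 _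

theorem oneSide [Finite G] (S : Sylow 2 G) {m : ℕ} (hm : 2 ≤ m) {V P : Subgroup G}
    {ε : (Fin (2 ^ m + 1) → ZMod 2) → G} (h : EvenSet (2 ^ m + 1) V P ε) (hSP : (S : Subgroup G) ≤ P)
    (hf : Fix0 ε (S : Subgroup G)) {i j : Fin (2 ^ m + 1)} (hij : i ≠ j)
    (hsw : ∃ a ∈ (S : Subgroup G), Acts ε a (Equiv.swap i j)) : TkPair.OneSide V ε i j where
  p1 _ hx _ hw := (hyp S hm h hSP hf hij hsw).p1 (CosetAct.mem_V0 h hx) hw
  p2 _ hw _ _ hkl hd hc _ hx := (hyp S hm h hSP hf hij hsw).p2 hw ⟨hd.1, hd.2.1⟩ ⟨hd.2.2.1, hd.2.2.2⟩ hkl hc _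
    (CosetAct.mem_V0 h hx)

/-- The position of `V`, `V'`. -/
structure Two {n n' : ℕ} [NeZero n] [NeZero n'] (V V' L L' T T' : Subgroup G)
    (ε : (Fin n → ZMod 2) → G) (ε' : (Fin n' → ZMod 2) → G) : Prop where
  even : EvenSet n V L ε
  even' : EvenSet n' V' L' ε'
  le : T ≤ L
  le' : T' ≤ L'
  fix : Fix0 ε T
  fix' : Fix0 ε' T'
  in' : V' ≤ T
  in_ : V ≤ T'
  side : Side V' ε
  side' : Side V ε'

theorem Two.symm {n n' : ℕ} [NeZero n] [NeZero n'] {V V' L L' T T' : Subgroup G}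
    {ε : (Fin n → ZMod 2) → G} {ε' : (Fin n' → ZMod 2) → G} (h : Two V V' L L' T T' ε ε') :
    Two V' V L' L T' T ε' ε :=
  ⟨h.even', h.even, h.le', h.le, h.fix', h.fix, h.in_, h.in', h.side', h.side⟩

section

variable {m m' : ℕ} {V V' L L' : Subgroup G} {T T' : Sylow 2 G} {ε : (Fin (2 ^ m + 1) → ZMod 2) → G}
  {ε' : (Fin (2 ^ m' + 1) → ZMod 2) → G}

/-- **(B1).** All transpositions induced by `V'` on `V` are equal. -/
theorem eq_swap [Finite G] (hG : IsCharacteristicTwoType G) (hm : 2 ≤ m) (hm' : 2 ≤ m')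
    (h : Two V V' L L' (T : Subgroup G) (T' : Subgroup G) ε ε') :
    ∀ b₁ ∈ V', ∀ b₂ ∈ V', ∀ i j k l : Fin (2 ^ m + 1), i ≠ j → k ≠ l → Acts ε b₁ (Equiv.swap i j) →
      Acts ε b₂ (Equiv.swap k l) → Equiv.swap i j = Equiv.swap k l := by
  intro b₁ hb₁ b₂ hb₂ i j k l hij hkl a₁ a₂
  have h5 := five_le hm
  have h3' := three_le (by omega : 1 ≤ m')
  rcases TkPair.disj_of_comm h.even (by omega) hij hkl a₁ a₂ (h.even'.comm_mem hb₁ hb₂) with h0 | hd
  · exact h0
  exfalso
  exact TkPair.false_of_two hG h.even h.even' h5 h3' h.side' hb₁ hb₂ hij hkl hd a₁ a₂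
    (oneSide T hm h.even h.le h.fix hij ⟨b₁, h.in' hb₁, a₁⟩)
    fun i' j' hij' ⟨c, hc, ha⟩ => oneSide T' hm' h.even' h.le' h.fix' hij' ⟨c, h.in_ hc, ha⟩

/-- The elements of `V'` act on `V` trivially or as a transposition. -/
theorem acts_or [Finite G] (hG : IsCharacteristicTwoType G) (hm : 2 ≤ m) (hm' : 2 ≤ m')
    (h : Two V V' L L' (T : Subgroup G) (T' : Subgroup G) ε ε') {b : G} (hb : b ∈ V') :
    Acts ε b 1 ∨ ∃ i j, i ≠ j ∧ Acts ε b (Equiv.swap i j) :=
  TkPair.acts_or h.side (eq_swap hG hm hm' h) hb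

/-- All elements of `V'` act on `V` trivially or as one fixed transposition. -/
theorem acts_one_or [Finite G] (hG : IsCharacteristicTwoType G) (hm : 2 ≤ m) (hm' : 2 ≤ m')
    (h : Two V V' L L' (T : Subgroup G) (T' : Subgroup G) ε ε') (hne : ¬ V' ≤ centralizer (V : Set G)) :
    ∃ i j, i ≠ j ∧ (∃ b ∈ V', Acts ε b (Equiv.swap i j)) ∧
      ∀ b ∈ V', Acts ε b 1 ∨ Acts ε b (Equiv.swap i j) := by
  obtain ⟨b, hb, hbV⟩ := SetLike.not_le_iff_exists.mp hne
  rcases acts_or hG hm hm' h hb with h1 | ⟨i, j, hij, h1⟩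
  · exact absurd (h.even.acts_one_iff.mp h1) hbV
  refine ⟨i, j, hij, ⟨b, hb, h1⟩, fun c hc => ?_⟩
  rcases acts_or hG hm hm' h hc with h2 | ⟨k, l, hkl, h2⟩
  · exact Or.inl h2
  · rw [← eq_swap hG hm hm' h b hb c hc i j k l hij hkl h1 h2] at h2
    exact Or.inr h2

theorem twoAct [Finite G] (hG : IsCharacteristicTwoType G) (hm : 2 ≤ m) (hm' : 2 ≤ m')
    (h : Two V V' L L' (T : Subgroup G) (T' : Subgroup G) ε ε') : S5.Types.TwoAct V' V :=
  TkPair.twoAct_of h.even h.side (eq_swap hG hm hm' h)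

end

/-! ### `LabTwo` -/

theorem coe_smul (S : Sylow 2 G) (y : G) : ((y • S : Sylow 2 G) : Subgroup G) = cj y (S : Subgroup G) := by
  rw [Sylow.coe_subgroup_smul]
  rfl

theorem fix0_conj {n : ℕ} [NeZero n] {ε : (Fin n → ZMod 2) → G} {S : Subgroup G} (h : Fix0 ε S) (y : G) :
    Fix0 (fun x => y * ε x * y⁻¹) (cj y S) := by
  intro s hs σ hσ
  rw [mem_cj] at hs
  refine h _ hs σ ?_
  have e : y * (y⁻¹ * s * y) * y⁻¹ = s := by group
  rw [← acts_conj_label_iff y, e]
  exact hσ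

variable {S : Sylow 2 G} {P₁ P₂ : Subgroup G} {y : G} {m m' : ℕ} {ε : (Fin (2 ^ m + 1) → ZMod 2) → G}
  {ε₂ : (Fin (2 ^ m' + 1) → ZMod 2) → G}

theorem two_of_lab [Finite G] (hl : LabTwo S P₁ P₂ y m m' ε ε₂) :
    Two (zl (S : Subgroup G) P₁) (cj y (zl (S : Subgroup G) P₂)) P₁ (cj y P₂) (S : Subgroup G)
      ((y • S : Sylow 2 G) : Subgroup G) ε fun x => y * ε₂ x * y⁻¹ where
  even := hl.even
  even' := hl.even₂.conj y
  le := hl.pair.star₁.le
  le' := by rw [coe_smul]; exact cj_mono y hl.pair.star₂.le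
  fix := hl.fix0
  fix' := by rw [coe_smul]; exact fix0_conj hl.fix0₂ y
  in' := hl.le
  in_ := by rw [coe_smul]; exact hl.ge
  side := hl.side
  side' := hl.side₂

/-- **(B1) for `LabTwo`**: `|V' : C_V'(V)| ≤ 2`, `|V : C_V(V')| ≤ 2`. -/
theorem labTwo [Finite G] (hG : IsCharacteristicTwoType G) (hm : 2 ≤ m) (hm' : 2 ≤ m')
    (hl : LabTwo S P₁ P₂ y m m' ε ε₂) :
    S5.Types.TwoAct (cj y (zl (S : Subgroup G) P₂)) (zl (S : Subgroup G) P₁) ∧
      S5.Types.TwoAct (zl (S : Subgroup G) P₁) (cj y (zl (S : Subgroup G) P₂)) :=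
  ⟨twoAct hG hm hm' (two_of_lab hl), twoAct hG hm' hm (two_of_lab hl).symm⟩

theorem not_cent₁ [Finite G] (hl : LabTwo S P₁ P₂ y m m' ε ε₂) :
    ¬ cj y (zl (S : Subgroup G) P₂) ≤ centralizer (zl (S : Subgroup G) P₁ : Set G) := fun h =>
  hl.pair.ne (commutator_eq_bot_iff_le_centralizer.mpr (le_centralizer_iff.mp h))

theorem not_cent₂ [Finite G] (hl : LabTwo S P₁ P₂ y m m' ε ε₂) :
    ¬ zl (S : Subgroup G) P₁ ≤ centralizer (cj y (zl (S : Subgroup G) P₂) : Set G) := fun h =>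
  hl.pair.ne (commutator_eq_bot_iff_le_centralizer.mpr h)

/-- Elementwise: `V'` acts on `V` as `⟨(i j)⟩`. -/
theorem labTwo_acts₁ [Finite G] (hG : IsCharacteristicTwoType G) (hm : 2 ≤ m) (hm' : 2 ≤ m')
    (hl : LabTwo S P₁ P₂ y m m' ε ε₂) : ∃ i j, i ≠ j ∧
      (∃ b ∈ cj y (zl (S : Subgroup G) P₂), Acts ε b (Equiv.swap i j)) ∧
      ∀ b ∈ cj y (zl (S : Subgroup G) P₂), Acts ε b 1 ∨ Acts ε b (Equiv.swap i j) :=
  acts_one_or hG hm hm' (two_of_lab hl) (not_cent₁ hl)

/-- Elementwise: `V` acts on `V'` as `⟨(i' j')⟩`. -/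
theorem labTwo_acts₂ [Finite G] (hG : IsCharacteristicTwoType G) (hm : 2 ≤ m) (hm' : 2 ≤ m')
    (hl : LabTwo S P₁ P₂ y m m' ε ε₂) : ∃ i j, i ≠ j ∧
      (∃ b ∈ zl (S : Subgroup G) P₁, Acts (fun x => y * ε₂ x * y⁻¹) b (Equiv.swap i j)) ∧
      ∀ b ∈ zl (S : Subgroup G) P₁, Acts (fun x => y * ε₂ x * y⁻¹) b 1 ∨
        Acts (fun x => y * ε₂ x * y⁻¹) b (Equiv.swap i j) :=
  acts_one_or hG hm' hm (two_of_lab hl).symm (not_cent₂ hl)

end Cfsg.Agent.Omega.NSix.NoTk

end

section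


/-!
# OMEGA N6: the facts (F1), (F2), (H1) (bb #13506, #13864, #14103, #14675)

`Sit S V P ε` : `G` has characteristic 2 type, `S ∈ Syl₂(G)`, `V ≥ Ω₁(Z(S))` is the even-subset module of degree
`2 ^ m + 1`, `m ≥ 3`, for `P ≥ S`, `S` fixes the label 0.

* `Sit.pt` : `z_j ∈ O₂(C_G(z_i))`;
* `Sit.pair` : `O₂(C_G(r_ij))` centralises `z_k`, `k ≠ i, j`;
* `Sit.o2_le_P` : `O₂(C_G(r_ij)) ≤ P`;
* `Sit.facts` : `S5.NatBig.Facts ε P`;
* `allFacts` : `S5.NatBig.AllFacts`.
-/

set_option autoImplicit false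
set_option linter.dupNamespace false

namespace Cfsg.Agent.Omega.NSix.AllFacts

open Subgroup Pointwise Cfsg Cfsg.Agent.ZN Cfsg.Agent.Omega.S5.Def Cfsg.Agent.Omega.S5.Syl
open Cfsg.Agent.Omega.NSix.Base Cfsg.Agent.Omega.NSix.Basic Cfsg.Agent.Omega.NSix.CosetAct
open Cfsg.Agent.Omega.NSix.FixApp Cfsg.Agent.Omega.NSix.StabPerm
open Cfsg.Agent.Omega.NSix.Match (ind)
open Cfsg.Agent.MinSimple.VModule (o2_isPGroup o2_le le_o2 le_normalizer_o2 o2_le_of_sylow mem_zc zc_le
  normalizer_le_normalizer_zc zc_le_zl)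

universe u

variable {G : Type u} [Group G]

/-! ### Permutations and subsets -/

theorem ind_comp {n : ℕ} (σ : Equiv.Perm (Fin n)) (A : Finset (Fin n)) :
    ind A ∘ σ.symm = ind (σ • A) := by
  funext x
  have h1 : σ.symm x ∈ A ↔ x ∈ σ • A := by
    rw [← Finset.inv_smul_mem_iff]
    rfl
  simp only [ind, Function.comp, h1]

theorem ind_swap {n : ℕ} {A : Finset (Fin n)} {k l : Fin n} (hk : k ∈ A) (hl : l ∉ A) :
    ind A ∘ (Equiv.swap k l).symm = ind A + (Pi.single k 1 + Pi.single l 1) := by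
  have hkl : k ≠ l := fun h => hl (h ▸ hk)
  funext x
  rw [Equiv.symm_swap]
  simp only [Function.comp, Pi.add_apply, ind]
  by_cases h1 : x = k
  · subst h1
    rw [Equiv.swap_apply_left, if_neg hl, if_pos hk, Pi.single_eq_same, Pi.single_eq_of_ne hkl]
    decide
  · by_cases h2 : x = l
    · subst h2
      rw [Equiv.swap_apply_right, if_neg hl, if_pos hk, Pi.single_eq_same, Pi.single_eq_of_ne hkl.symm]
      decide
    · rw [Equiv.swap_apply_of_ne_of_ne h1 h2, Pi.single_eq_of_ne h1, Pi.single_eq_of_ne h2, add_zero, add_zero]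

/-- Even subsets off `{i, j}` are in `V_n`. -/
theorem ind_mem_Vn {n : ℕ} {V P : Subgroup G} {ε : (Fin n → ZMod 2) → G} (h : EvenSet n V P ε) {i j : Fin n}
    {A : Finset (Fin n)} (hi : i ∉ A) (hj : j ∉ A) (hA : Even A.card) : ε (ind A) ∈ Vn ε i j := by
  classical
  rcases A.eq_empty_or_nonempty with h0 | ⟨k, hk⟩
  · subst h0
    have h1 : (ind (∅ : Finset (Fin n))) = 0 := by
      funext x
      simp [ind]
    rw [h1, h.zero]
    exact one_mem _
  have h1 : (∑ a ∈ A, (Pi.single a 1 + Pi.single k 1 : Fin n → ZMod 2)) = ind A := by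
    rw [Finset.sum_add_distrib, Finset.sum_const]
    obtain ⟨r, hr⟩ := hA
    have h2 : A.card • (Pi.single k 1 : Fin n → ZMod 2) = 0 := by
      rw [hr, add_smul]
      exact S5.Def.add_self _
    rw [h2, add_zero]
    funext x
    rw [Finset.sum_apply]
    simp only [ind]
    by_cases hx : x ∈ A
    · rw [if_pos hx, Finset.sum_eq_single x]
      · rw [Pi.single_eq_same]
      · intro b _ hb
        rw [Pi.single_eq_of_ne hb.symm]
      · intro h3
        exact absurd hx h3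
    · rw [if_neg hx]
      refine Finset.sum_eq_zero fun b hb => ?_
      rw [Pi.single_eq_of_ne]
      rintro rfl
      exact hx hb
  rw [← h1]
  have h2 : (∑ a ∈ A, (Pi.single a 1 + Pi.single k 1 : Fin n → ZMod 2)) ∈ pre h (Vn ε i j) := by
    refine sum_mem fun a ha => ?_
    rw [mem_pre, h.add]
    exact rr_mem_Vn ⟨fun h3 => hi (h3 ▸ ha), fun h3 => hj (h3 ▸ ha)⟩
      ⟨fun h3 => hi (h3 ▸ hk), fun h3 => hj (h3 ▸ hk)⟩
  exact h2

theorem mem_St_of_smul {n : ℕ} {σ : Equiv.Perm (Fin n)} {i j : Fin n} (hij : i ≠ j)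
    (h : σ • ({i, j} : Finset (Fin n)) = {i, j}) : σ ∈ St i j := by
  rw [Match.pair_smul] at h
  have h1 : σ i ∈ ({i, j} : Finset (Fin n)) := h ▸ Finset.mem_insert_self _ _
  have h2 : σ j ∈ ({i, j} : Finset (Fin n)) := by
    rw [← h]
    exact Finset.mem_insert_of_mem (Finset.mem_singleton_self _)
  rw [Finset.mem_insert, Finset.mem_singleton] at h1 h2
  have h3 : σ i ≠ σ j := fun h0 => hij (σ.injective h0)
  rcases h1 with h1 | h1 <;> rcases h2 with h2 | h2
  · exact absurd (h1.trans h2.symm) h3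
  · exact Or.inl ⟨h1, h2⟩
  · exact Or.inr ⟨h1, h2⟩
  · exact absurd (h1.trans h2.symm) h3

/-- `S` induces a transposition. -/
theorem exists_swap [Finite G] {m : ℕ} (hm : 1 ≤ m) {S V P : Subgroup G} {ε : (Fin (2 ^ m + 1) → ZMod 2) → G}
    (h : EvenSet (2 ^ m + 1) V P ε) (hSP : S ≤ P) (hS2 : ¬ 2 ∣ S.relIndex P) :
    ∃ i j, i ≠ j ∧ ∃ a ∈ S, Acts ε a (Equiv.swap i j) := by
  have hn := three_le hm
  let π := h.hom hn
  let H : Subgroup (Equiv.Perm (Fin (2 ^ m + 1))) := (S.subgroupOf P).map π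
  have hodd : ¬ 2 ∣ H.relIndex ⊤ := by
    rw [relIndex_top_right]
    exact fun h2 => hS2 (h2.trans (index_map_dvd _ (h.hom_surjective hn)))
  let a : Fin (2 ^ m + 1) := ⟨0, by omega⟩
  let b : Fin (2 ^ m + 1) := ⟨1, by omega⟩
  have hab : a ≠ b := by
    intro h0
    have h1 := congrArg Fin.val h0
    change 0 = 1 at h1
    exact zero_ne_one h1
  obtain ⟨g, -, s, hs, hg⟩ := exists_conj hodd (mem_top (Equiv.swap a b)) (Equiv.swap_mul_self a b)
  rw [conj_swap] at hg
  refine ⟨g⁻¹ a, g⁻¹ b, fun h0 => hab (g⁻¹.injective h0), s, hs, ?_⟩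
  rw [← hg]
  exact h.acts_hom hn s

theorem exists_mul_of_mem_sup {A B : Subgroup G} (hn : ∀ a ∈ A, ∀ b ∈ B, a * b * a⁻¹ ∈ B) {x : G}
    (hx : x ∈ A ⊔ B) : ∃ a ∈ A, ∃ c ∈ B, x = a * c := by
  have hn' : ∀ a ∈ A, ∀ b ∈ B, a⁻¹ * b * a ∈ B := by
    intro a ha b hb
    have := hn a⁻¹ (inv_mem ha) b hb
    rwa [inv_inv] at this
  let T : Subgroup G :=
    { carrier := {x | ∃ a ∈ A, ∃ c ∈ B, x = a * c}
      one_mem' := ⟨1, one_mem _, 1, one_mem _, by group⟩
      mul_mem' := by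
        rintro _ _ ⟨a, ha, c, hc, rfl⟩ ⟨a', ha', c', hc', rfl⟩
        exact ⟨a * a', mul_mem ha ha', a'⁻¹ * c * a' * c', mul_mem (hn' a' ha' c hc) hc', by group⟩
      inv_mem' := by
        rintro _ ⟨a, ha, c, hc, rfl⟩
        exact ⟨a⁻¹, inv_mem ha, a * c⁻¹ * a⁻¹, hn a ha _ (inv_mem hc), by group⟩ }
  have hT : A ⊔ B ≤ T := sup_le (fun a ha => ⟨a, ha, 1, one_mem _, by group⟩)
    (fun c hc => ⟨1, one_mem _, c, hc, by group⟩)
  exact hT hx

/-! ### The setting -/

structure Sit (S : Sylow 2 G) (V P : Subgroup G) {m : ℕ} (ε : (Fin (2 ^ m + 1) → ZMod 2) → G) : Prop where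
  c2 : IsCharacteristicTwoType G
  m3 : 3 ≤ m
  ev : EvenSet (2 ^ m + 1) V P ε
  le : (S : Subgroup G) ≤ P
  fix0 : Fix0 ε (S : Subgroup G)
  zc_le : zc (S : Subgroup G) ≤ V

/-- `C_S(V)` -/
def TT (S : Sylow 2 G) (V : Subgroup G) : Subgroup G := (S : Subgroup G) ⊓ centralizer (V : Set G)

/-- `N_P(C_S(V))` -/
def PP (S : Sylow 2 G) (V P : Subgroup G) : Subgroup G := P ⊓ normalizer (TT S V : Set G)

namespace Sit

variable {S : Sylow 2 G} {V P : Subgroup G} {m : ℕ} {ε : (Fin (2 ^ m + 1) → ZMod 2) → G} (h : Sit S V P ε)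
include h

theorem three : 3 ≤ 2 ^ m + 1 := three_le (by have := h.m3; omega)

theorem nine : 9 ≤ 2 ^ m + 1 := by
  have h1 : 2 ^ 3 ≤ 2 ^ m := Nat.pow_le_pow_right (by norm_num) h.m3
  omega

/-- **(F1)** -/
theorem pt [Finite G] (i j : Fin (2 ^ m + 1)) : zz ε j ∈ o2 (centralizer ({zz ε i} : Set G)) :=
  PtCen.le_o2_cent h.c2 S h.m3 h.ev h.le h.fix0 i (zz_mem h.ev j)

theorem V_le_S : V ≤ (S : Subgroup G) := NoTk.le_sylow S h.ev.isPGroup (h.le.trans h.ev.le_normalizer)

theorem V_le_T : V ≤ TT S V := fun v hv =>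
  ⟨h.V_le_S hv, mem_centralizer_iff.mpr fun w hw => h.ev.comm_mem hw hv⟩

theorem V_ne_bot : V ≠ ⊥ := by
  intro h0
  have h1 := zz_mem h.ev 0
  rw [h0, mem_bot] at h1
  exact h.ev.single_ne_one h.three 0 h1

/-- `C_G(T) ≤ T` -/
theorem cent_T [Finite G] {g : G} (hg : ∀ q ∈ TT S V, g * q = q * g) : g ∈ TT S V := by
  have hM := MinSimple.Basic.char2_normalizer h.c2 h.ev.isPGroup h.V_ne_bot
  have hSM : (S : Subgroup G) ≤ normalizer (V : Set G) := h.le.trans h.ev.le_normalizer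
  have h1 : o2 (normalizer (V : Set G)) ≤ (S : Subgroup G) :=
    o2_le_of_sylow S.isPGroup' (MinSimple.Basic.not_dvd_relIndex S hSM)
  have h2 : o2 (normalizer (V : Set G)) ≤ centralizer (V : Set G) :=
    PtCen.norm_two (by have := h.nine; omega) h.ev (h1.trans h.le) (o2_isPGroup _)
      (h.ev.le_normalizer.trans (le_normalizer_o2 _))
  have h3 : o2 (normalizer (V : Set G)) ≤ TT S V := le_inf h1 h2
  have h4 : g ∈ centralizer (V : Set G) := mem_centralizer_iff.mpr fun v hv => (hg v (h.V_le_T hv)).symm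
  have h5 : g ∈ normalizer (V : Set G) := centralizer_le_normalizer _ h4
  exact h3 (hM ⟨h5, mem_centralizer_iff.mpr fun x hx => (hg x (h3 hx)).symm⟩)

theorem S_le_PP : (S : Subgroup G) ≤ PP S V P := by
  refine le_inf h.le ?_
  intro s hs
  have key : ∀ s ∈ (S : Subgroup G), ∀ x ∈ TT S V, s * x * s⁻¹ ∈ TT S V := by
    rintro s hs x ⟨hx1, hx2⟩
    exact ⟨(S : Subgroup G).mul_mem ((S : Subgroup G).mul_mem hs hx1) ((S : Subgroup G).inv_mem hs),
      conj_cent (h.ev.le_normalizer (h.le hs)) hx2⟩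
  rw [mem_normalizer_iff]
  refine fun x => ⟨key s hs x, fun hx => ?_⟩
  have h1 := key s⁻¹ (inv_mem hs) _ hx
  have h2 : s⁻¹ * (s * x * s⁻¹) * s⁻¹⁻¹ = x := by group
  rwa [h2] at h1

theorem ev1 [Finite G] : EvenSet (2 ^ m + 1) V (PP S V P) ε := by
  refine h.ev.change (fun g hg => h.ev.perm g hg.1) fun σ => ?_
  obtain ⟨g, hg, hσ⟩ := h.ev.full σ
  have hPC : P ≤ normalizer (centralizer (V : Set G) : Set G) := by
    intro p hp
    rw [mem_normalizer_iff]
    refine fun x => ⟨conj_cent (h.ev.le_normalizer hp), fun hx => ?_⟩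
    have h1 := conj_cent (h.ev.le_normalizer (inv_mem hp)) hx
    have h2 : p⁻¹ * (p * x * p⁻¹) * p⁻¹⁻¹ = x := by group
    rwa [h2] at h1
  have h1 := MinSimple.Basic.frattini h.le S.isPGroup' (MinSimple.Basic.not_dvd_relIndex S h.le) hPC hg
  rw [sup_comm] at h1
  have h4 : ∀ a ∈ P ⊓ normalizer (((S : Subgroup G) ⊓ centralizer (V : Set G) : Subgroup G) : Set G),
      ∀ c ∈ centralizer (V : Set G), a * c * a⁻¹ ∈ centralizer (V : Set G) :=
    fun a ha c hc => (mem_normalizer_iff.mp (hPC ha.1) c).mp hc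
  obtain ⟨a, ha, c, hc, hac⟩ := exists_mul_of_mem_sup h4 h1
  refine ⟨a, ha, ?_⟩
  have h2 : a = g * c⁻¹ := by rw [hac]; group
  have h3 := hσ.mul (h.ev.acts_one_iff.mpr (inv_mem hc))
  rwa [← h2, mul_one] at h3

theorem sit1 [Finite G] : Sit S V (PP S V P) ε := ⟨h.c2, h.m3, h.ev1, h.S_le_PP, h.fix0, h.zc_le⟩

/-- `Y = Ω₁(Z(C_S(V)))` -/
theorem big [Finite G] : MatchApp.Big (S : Subgroup G) (PP S V P) V (zc (TT S V)) ε where
  ev := h.ev1
  fix0 := h.fix0
  le := h.S_le_PP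
  comm := MinSimple.VModule.zc_comm _
  sq y hy := by
    rw [← pow_two]
    exact MinSimple.VModule.zc_sq _ y hy
  ge v hv := mem_zc.mpr ⟨h.V_le_T hv, fun t ht => (mem_centralizer_iff.mp ht.2 v hv).symm, by
    rw [pow_two]; exact h.ev.sq_mem hv⟩
  nrm g hg y hy := (mem_normalizer_iff.mp (normalizer_le_normalizer_zc _ hg.2) y).mp hy
  syl s hs hsV := mem_centralizer_iff.mpr fun y hy => ((mem_zc.mp hy).2.1 s ⟨hs, hsV⟩).symm
  fixed y hy hS := by
    have hy' := mem_zc.mp hy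
    have h1 : y ∈ zc (S : Subgroup G) := mem_zc.mpr ⟨hy'.1.1, hS, hy'.2.2⟩
    exact S5.Syl.fixed (by have := h.m3; omega) h.ev h.le (MinSimple.Basic.not_dvd_relIndex S h.le) h.fix0
      (h.zc_le h1) hS

/-- The matching lemma for a transposition of `S`. -/
theorem pair0 [Finite G] {i j : Fin (2 ^ m + 1)} (hij : i ≠ j)
    (hsw : ∃ a ∈ (S : Subgroup G), Acts ε a (Equiv.swap i j)) :
    ∀ w ∈ o2 (centralizer ({rr ε i j} : Set G)), ∀ u ∈ V0 ε i j, w * u = u * w := by
  classical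
  have hm := h.m3
  have hn := h.three
  have h9 := h.nine
  have H : Hyp V (PP S V P) (S : Subgroup G) (o2 (centralizer ({rr ε i j} : Set G))) ε i j :=
    NoTk.hyp S (by omega) h.ev1 h.S_le_PP h.fix0 hij hsw
  have hS2 : ¬ 2 ∣ (S : Subgroup G).relIndex (PP S V P) := MinSimple.Basic.not_dvd_relIndex S h.S_le_PP
  obtain ⟨φ, fmul, finj, fval, fperm⟩ := FixApp.exists_phi H (Q := TT S V)
    (fun g hg hgw => MinSimple.Basic.char2_centralizer h.c2 (z := rr ε i j)
      (by rw [pow_two]; exact rr_sq h.ev i j) (rr_ne_one h.ev hn hij)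
      ⟨hg, mem_centralizer_iff.mpr fun w hw => (hgw w hw).symm⟩)
    (inf_le_left.trans h.S_le_PP) (S.isPGroup'.to_le inf_le_left) inf_le_right (fun g hg => h.cent_T hg)
  -- the set `A`
  have h2m : 2 ^ m = 2 * 2 ^ (m - 1) := by
    rw [← pow_succ']
    congr 1
    omega
  have h2m' : 4 ≤ 2 ^ (m - 1) := by
    have : 2 ^ 2 ≤ 2 ^ (m - 1) := Nat.pow_le_pow_right (by norm_num) (by omega)
    omega
  have hccard : (({i, j} : Finset (Fin (2 ^ m + 1)))ᶜ).card = 2 ^ m - 1 := by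
    rw [Finset.card_compl, Fintype.card_fin, Finset.card_pair hij]
    omega
  obtain ⟨A, hAsub, hA⟩ := Finset.exists_subset_card_eq (s := ({i, j} : Finset (Fin (2 ^ m + 1)))ᶜ)
    (n := 2 ^ (m - 1)) (by rw [hccard]; omega)
  have hAn : ∀ {a}, a ∈ A → a ≠ i ∧ a ≠ j := by
    intro a ha
    have h1 := hAsub ha
    simp only [Finset.mem_compl, Finset.mem_insert, Finset.mem_singleton, not_or] at h1
    exact h1
  have hd : Disjoint ({i, j} : Finset (Fin (2 ^ m + 1))) A := by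
    rw [Finset.disjoint_left]
    intro a ha hA'
    rw [Finset.mem_insert, Finset.mem_singleton] at ha
    rcases ha with ha | ha
    · exact (hAn hA').1 ha
    · exact (hAn hA').2 ha
  have hv : ε (ind A) ∈ Vn ε i j := by
    refine ind_mem_Vn h.ev (fun h0 => (hAn h0).1 rfl) (fun h0 => (hAn h0).2 rfl) ?_
    rw [hA]
    exact (Nat.even_pow.mpr ⟨even_two, by omega⟩)
  -- labels inside and outside of `A`
  obtain ⟨k, hk⟩ : A.Nonempty := Finset.card_pos.mp (by omega)
  obtain ⟨l, hl, hlA⟩ := Finset.exists_mem_notMem_of_card_lt_card (s := A)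
    (t := ({i, j} : Finset (Fin (2 ^ m + 1)))ᶜ) (by rw [hccard, hA]; omega)
  simp only [Finset.mem_compl, Finset.mem_insert, Finset.mem_singleton, not_or] at hl
  have hkl : k ≠ l := fun h0 => hlA (h0 ▸ hk)
  have hkn := hAn hk
  obtain ⟨-, hcW, hT, hTc, hsq⟩ := fval _ hv
  have hxY : φ (ε (ind A)) ∈ zc (TT S V) := mem_zc.mpr ⟨hT, fun q hq => (hTc q hq).symm, by rw [pow_two]; exact hsq⟩
  have hbig := h.big
  have key := hbig.mem h.m3 hS2 S.isPGroup' hA (Finset.card_pair hij) hd hxY (by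
    intro g hg σ hσ hσA hσe
    obtain ⟨g', ⟨hg'P, -⟩, hg'σ, hφ⟩ := fperm σ (mem_St_of_smul hij hσe)
    rw [hbig.act_eq hS2 S.isPGroup' hg hg'P hσ hg'σ hxY, ← (hφ _ hv).2, hg'σ, ind_comp, hσA])
  -- `v` and its conjugate under `(k l)`
  have hconj : ∀ g, Acts ε g (Equiv.swap k l) → g * ε (ind A) * g⁻¹ = ε (ind A) * rr ε k l := by
    intro g hg
    rw [hg, ind_swap hk hlA, h.ev.add, h.ev.add]
    rfl
  have hrij : ∀ w ∈ o2 (centralizer ({rr ε i j} : Set G)), rr ε i j * w = w * rr ε i j := fun w hw =>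
    (mem_centralizer_singleton_iff.mp (o2_le _ hw)).symm
  have hind : ε (ind ({i, j} : Finset (Fin (2 ^ m + 1)))) = rr ε i j := by
    unfold rr zz
    rw [← h.ev.add]
    congr 1
    funext x
    simp only [ind, Pi.add_apply]
    by_cases h1 : x = i
    · subst h1
      rw [if_pos (Finset.mem_insert_self _ _), Pi.single_eq_same, Pi.single_eq_of_ne hij, add_zero]
    · by_cases h2 : x = j
      · subst h2
        rw [if_pos (Finset.mem_insert_of_mem (Finset.mem_singleton_self _)), Pi.single_eq_same,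
          Pi.single_eq_of_ne hij.symm, zero_add]
      · rw [if_neg (by rw [Finset.mem_insert, Finset.mem_singleton]; tauto), Pi.single_eq_of_ne h1,
          Pi.single_eq_of_ne h2, add_zero]
  -- `W` commutes with `v`
  have hvW : ∀ w ∈ o2 (centralizer ({rr ε i j} : Set G)), w * ε (ind A) = ε (ind A) * w := by
    intro w hw
    have hne : ∀ x, φ (ε (ind A)) = x → (∀ g ∈ NN ε i j, g * x * g⁻¹ = x) → False := by
      intro x hx hfix
      obtain ⟨g, ⟨-, hgN⟩, hgσ, hφ⟩ := fperm _ (swap_mem_St hkn hl)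
      have h1 := (hφ _ hv).2
      rw [hx, hfix g hgN, hconj g hgσ, fmul _ hv _ (rr_mem_Vn hkn hl), hx] at h1
      have h2 : φ (rr ε k l) = 1 := by
        have h3 : x * φ (rr ε k l) = x * 1 := by rw [h1, mul_one]
        exact mul_left_cancel h3
      exact rr_ne_one h.ev hn hkl (finj _ (rr_mem_Vn hkn hl) h2)
    rcases key with h1 | h1 | h1 | h1
    · exact (hne 1 h1 fun g _ => by group).elim
    · have h2 := hcW w hw
      rw [h1] at h2
      exact h2.symm
    · rw [hind] at h1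
      exact (hne _ h1 fun g hg => mem_NN'.mp hg).elim
    · rw [hind] at h1
      have h2 := hcW w hw
      rw [h1] at h2
      have h3 : ε (ind A) * w * rr ε i j = w * ε (ind A) * rr ε i j := by
        calc ε (ind A) * w * rr ε i j = ε (ind A) * (w * rr ε i j) := by group
          _ = ε (ind A) * rr ε i j * w := by rw [← hrij w hw]; group
          _ = w * (ε (ind A) * rr ε i j) := h2
          _ = _ := by group
      exact (mul_right_cancel h3).symm
  -- `W` commutes with `r_kl`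
  have hrW : ∀ w ∈ o2 (centralizer ({rr ε i j} : Set G)), w * rr ε k l = rr ε k l * w := by
    intro w hw
    obtain ⟨g, hg, hgσ⟩ := h.ev.full (Equiv.swap k l)
    have hgN : g ∈ NN ε i j := mem_NN_of h.ev hgσ (swap_mem_St hkn hl)
    have h1 : g⁻¹ * w * g ∈ o2 (centralizer ({rr ε i j} : Set G)) := by
      have := H.conjW (inv_mem hgN) hw
      rwa [inv_inv] at this
    have h2 := hvW _ h1
    have h3 : w * (g * ε (ind A) * g⁻¹) = g * ε (ind A) * g⁻¹ * w := by
      calc w * (g * ε (ind A) * g⁻¹) = g * (g⁻¹ * w * g * ε (ind A)) * g⁻¹ := by group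
        _ = g * (ε (ind A) * (g⁻¹ * w * g)) * g⁻¹ := by rw [h2]
        _ = _ := by group
    rw [hconj g hgσ] at h3
    have h4 : ε (ind A) * (w * rr ε k l) = ε (ind A) * (rr ε k l * w) := by
      calc ε (ind A) * (w * rr ε k l) = w * ε (ind A) * rr ε k l := by rw [hvW w hw]; group
        _ = w * (ε (ind A) * rr ε k l) := by group
        _ = ε (ind A) * rr ε k l * w := h3
        _ = _ := by group
    exact mul_left_cancel h4
  exact fun w hw => H.p2 hw hkn hl hkl (hrW w hw)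

/-- **(F2)**: `O₂(C_G(r_ij))` centralises `z_k`, `k ≠ i, j`. -/
theorem pair [Finite G] {i j : Fin (2 ^ m + 1)} (hij : i ≠ j) {k : Fin (2 ^ m + 1)} (hki : k ≠ i) (hkj : k ≠ j)
    {q : G} (hq : q ∈ o2 (centralizer ({rr ε i j} : Set G))) : q * zz ε k = zz ε k * q := by
  obtain ⟨i0, j0, h0, hsw⟩ := exists_swap (by have := h.m3; omega) h.ev h.le
    (MinSimple.Basic.not_dvd_relIndex S h.le)
  obtain ⟨σ, h1, h2, -⟩ := exists_perm hij h0
  obtain ⟨g, -, hσ⟩ := h.ev.full σ
  have h3 := PtCen.conj_o2_cent (g := g) hq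
  rw [rr_conj hσ, h1, h2] at h3
  have h4 := h.pair0 h0 hsw _ h3 (zz ε (σ k)) (subset_closure ⟨σ k, fun h5 => hki (σ.injective (h5.trans h1.symm)),
    fun h5 => hkj (σ.injective (h5.trans h2.symm)), rfl⟩)
  rw [← zz_conj hσ] at h4
  have h5 : g * (q * zz ε k) * g⁻¹ = g * (zz ε k * q) * g⁻¹ := by
    calc g * (q * zz ε k) * g⁻¹ = g * q * g⁻¹ * (g * zz ε k * g⁻¹) := by group
      _ = g * zz ε k * g⁻¹ * (g * q * g⁻¹) := h4
      _ = _ := by group
  exact mul_left_cancel (mul_right_cancel h5)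

/-- `O₂(C_G(r_ij))` centralises `r_kl`. -/
theorem pair_rr [Finite G] {i j k l : Fin (2 ^ m + 1)} (hij : i ≠ j) (h1 : i ≠ k) (h2 : i ≠ l) (h3 : j ≠ k)
    (h4 : j ≠ l) {q : G} (hq : q ∈ o2 (NN ε i j)) : q * rr ε k l = rr ε k l * q := by
  have h5 := h.pair hij h1.symm h3.symm hq
  have h6 := h.pair hij h2.symm h4.symm hq
  unfold rr
  calc q * (zz ε k * zz ε l) = q * zz ε k * zz ε l := by group
    _ = zz ε k * (q * zz ε l) := by rw [h5]; group
    _ = zz ε k * zz ε l * q := by rw [h6]; group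

/-- **(H1)**: `O₂(C_G(r_ij)) ≤ P`. -/
theorem o2_le_P [Finite G] {i j : Fin (2 ^ m + 1)} (hij : i ≠ j) :
    o2 (centralizer ({rr ε i j} : Set G)) ≤ P := by
  have hf : Fact (Nat.Prime 2) := ⟨Nat.prime_two⟩
  exact F4Leaf.HOne.o2_le_P (by have := h.m3; omega) h.ev h.fix0 h.le S.isPGroup' S.not_dvd_index
    (fun i j k l hij _ h1 h2 h3 h4 x hx => h.pair_rr hij h1 h2 h3 h4 hx) hij

theorem facts [Finite G] : S5.NatBig.Facts ε P where
  pt := h.pt
  pair _ _ hij _ hki hkj _ hq := h.pair hij hki hkj hq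
  le _ _ hij := h.o2_le_P hij

end Sit

/-- The facts (F1), (F2), (H1) for all even-subset modules of degree `2^m + 1`, `m ≥ 3`. -/
theorem allFacts : S5.NatBig.AllFacts.{u} := by
  intro G _ _ hG S P m ε hm hP hev h0
  have h : Sit S (zl (S : Subgroup G) P) P ε := ⟨hG, hm, hev, hP.le, h0, zc_le_zl _ _⟩
  exact h.facts

end Cfsg.Agent.Omega.NSix.AllFacts

end

section


/-!
# OMEGA N6: the member of degree 5

`Hyp V P S W ε i j` with `m = 2` and `|Ω₁ Z(S)| = 2`: `W ≤ C_S(r_ij)` (`le_T`), so `W` acts on `V` as a subgroup of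
`⟨(i j)⟩` (`acts`) and `[W, g] ≤ ⟨r_ij⟩` for `g ∈ V` (`comm_eq`).  No matter whether `r_ij` is 2-central.
-/

set_option autoImplicit false
set_option linter.dupNamespace false

namespace Cfsg.Agent.Omega.NSix.TwoSup

open Subgroup Pointwise Cfsg.Agent.Omega.S5.Def Cfsg.Agent.Omega.S5.Syl Cfsg.Agent.Omega.NSix.Base
open Cfsg.Agent.Omega.NSix.Basic Cfsg.Agent.Omega.NSix.CosetAct

universe u

variable {G : Type u} [Group G]

/-- `Ω₁ Z(S) ≤ {1, z}`: the same for every 2-group of this order. -/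
theorem uniq [Finite G] (S : Sylow 2 G) {z : G}
    (hz : ∀ x : G, x * x = 1 → (∀ s ∈ (S : Subgroup G), s * x = x * s) → x = 1 ∨ x = z)
    {T : Subgroup G} (hT : IsPGroup 2 T) (hc : Nat.card (S : Subgroup G) ≤ Nat.card T) {x y : G}
    (hx : x * x = 1) (hx1 : x ≠ 1) (hxT : ∀ t ∈ T, t * x = x * t) (hy : y * y = 1) (hy1 : y ≠ 1)
    (hyT : ∀ t ∈ T, t * y = y * t) : x = y := by
  have h2 : Fact (Nat.Prime 2) := ⟨Nat.prime_two⟩
  obtain ⟨Q, hQ⟩ := hT.exists_le_sylow
  have hcQ : Nat.card (Q : Subgroup G) = Nat.card (S : Subgroup G) := Nat.card_congr (Q.equiv S).toEquiv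
  have hTQ : T = Q := Subgroup.eq_of_le_of_card_ge hQ (by rw [hcQ]; exact hc)
  obtain ⟨g, hg⟩ := MulAction.exists_smul_eq G Q S
  have key : ∀ w : G, w * w = 1 → w ≠ 1 → (∀ t ∈ T, t * w = w * t) → g * w * g⁻¹ = z := by
    intro w hw hw1 hwT
    have h3 := hz (g * w * g⁻¹) (by
      calc g * w * g⁻¹ * (g * w * g⁻¹) = g * (w * w) * g⁻¹ := by group
        _ = 1 := by rw [hw]; group) (by
      intro s hs
      have h4 : g⁻¹ * s * g ∈ T := by
        rw [hTQ]
        rw [← hg, Sylow.smul_def, Sylow.pointwise_smul_def, mem_pointwise_smul_iff_inv_smul_mem] at hs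
        rw [← map_inv, MulAut.smul_def, MulAut.conj_apply, inv_inv] at hs
        exact hs
      have h5 := hwT _ h4
      calc s * (g * w * g⁻¹) = g * ((g⁻¹ * s * g) * w) * g⁻¹ := by group
        _ = g * (w * (g⁻¹ * s * g)) * g⁻¹ := by rw [h5]
        _ = g * w * g⁻¹ * s := by group)
    rcases h3 with h3 | h3
    · exfalso
      apply hw1
      calc w = g⁻¹ * (g * w * g⁻¹) * g := by group
        _ = 1 := by rw [h3]; group
    · exact h3
  have h3 := (key x hx hx1 hxT).trans (key y hy hy1 hyT).symm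
  exact mul_left_cancel (mul_right_cancel h3)

/-! ### The group `⟨V0^W⟩` -/

section BB

variable {m : ℕ} {V P S W : Subgroup G} {ε : (Fin (2 ^ m + 1) → ZMod 2) → G} {i j : Fin (2 ^ m + 1)}

/-- `⟨w v w⁻¹ : v ∈ V0, w ∈ W⟩` -/
def BB {n : ℕ} (W : Subgroup G) (ε : (Fin n → ZMod 2) → G) (i j : Fin n) : Subgroup G :=
  closure {x | ∃ w ∈ W, ∃ v ∈ V0 ε i j, x = w * v * w⁻¹}

theorem V0_le (h : EvenSet (2 ^ m + 1) V P ε) : V0 ε i j ≤ V := by
  unfold V0
  rw [closure_le]
  rintro x ⟨k, -, -, rfl⟩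
  exact zz_mem h k

theorem gen_comm [Finite G] (h : Hyp V P S W ε i j) {w v w' v' : G} (hw : w ∈ W) (hv : v ∈ V0 ε i j)
    (hw' : w' ∈ W) (hv' : v' ∈ V0 ε i j) :
    w * v * w⁻¹ * (w' * v' * w'⁻¹) = w' * v' * w'⁻¹ * (w * v * w⁻¹) := by
  have h1 := h.comm_V (V0_le h.even hv) hv' (mul_mem (inv_mem hw) hw')
  calc w * v * w⁻¹ * (w' * v' * w'⁻¹) = w * (v * ((w⁻¹ * w') * v' * (w⁻¹ * w')⁻¹)) * w⁻¹ := by group
    _ = w * ((w⁻¹ * w') * v' * (w⁻¹ * w')⁻¹ * v) * w⁻¹ := by rw [h1]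
    _ = w' * v' * w'⁻¹ * (w * v * w⁻¹) := by group

theorem BB_comm [Finite G] (h : Hyp V P S W ε i j) {x y : G} (hx : x ∈ BB W ε i j) (hy : y ∈ BB W ε i j) :
    x * y = y * x := by
  have h1 : BB W ε i j ≤ centralizer (BB W ε i j : Set G) := by
    nth_rewrite 1 [BB]
    rw [closure_le]
    rintro x ⟨w, hw, v, hv, rfl⟩
    change w * v * w⁻¹ ∈ centralizer (BB W ε i j : Set G)
    have h2 : BB W ε i j ≤ centralizer ({w * v * w⁻¹} : Set G) := by
      unfold BB
      rw [closure_le]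
      rintro y ⟨w', hw', v', hv', rfl⟩
      change w' * v' * w'⁻¹ ∈ centralizer ({w * v * w⁻¹} : Set G)
      rw [mem_centralizer_singleton_iff]
      exact gen_comm h hw' hv' hw hv
    rw [mem_centralizer_iff]
    intro y hy
    exact mem_centralizer_singleton_iff.mp (h2 hy)
  exact (mem_centralizer_iff.mp (h1 hx) y hy).symm

theorem mem_BB {w v : G} (hw : w ∈ W) (hv : v ∈ V0 ε i j) : w * v * w⁻¹ ∈ BB W ε i j :=
  subset_closure ⟨w, hw, v, hv, rfl⟩

/-- `⟨w a w⁻¹ : w ∈ W⟩` -/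
def Aa (W : Subgroup G) (a : G) : Subgroup G := closure {x | ∃ w ∈ W, x = w * a * w⁻¹}

theorem Aa_le {a : G} (ha : a ∈ V0 ε i j) : Aa W a ≤ BB W ε i j := by
  unfold Aa
  rw [closure_le]
  rintro x ⟨w, hw, rfl⟩
  exact mem_BB hw ha

theorem Aa_sq [Finite G] (h : Hyp V P S W ε i j) {a : G} (ha : a ∈ V0 ε i j) {x : G} (hx : x ∈ Aa W a) :
    x * x = 1 := by
  have key : x ∈ BB W ε i j ∧ x * x = 1 := by
    unfold Aa at hx
    induction hx using closure_induction with
    | mem x hx =>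
      obtain ⟨w, hw, rfl⟩ := hx
      refine ⟨mem_BB hw ha, ?_⟩
      calc w * a * w⁻¹ * (w * a * w⁻¹) = w * (a * a) * w⁻¹ := by group
        _ = 1 := by rw [h.even.sq_mem (V0_le h.even ha)]; group
    | one => exact ⟨one_mem _, one_mul _⟩
    | mul x y _ _ hx hy =>
      refine ⟨mul_mem hx.1 hy.1, ?_⟩
      calc x * y * (x * y) = x * (y * x) * y := by group
        _ = x * (x * y) * y := by rw [BB_comm h hy.1 hx.1]
        _ = (x * x) * (y * y) := by group
        _ = 1 := by rw [hx.2, hy.2, one_mul]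
    | inv x _ hx =>
      refine ⟨inv_mem hx.1, ?_⟩
      rw [← mul_inv_rev, hx.2, inv_one]
  exact key.2

/-- `x x^e x^(e²) = 1` on `⟨a^W⟩` if this is true for `a`. -/
theorem Aa_cyc [Finite G] (h : Hyp V P S W ε i j) {a b c e : G} (ha : a ∈ V0 ε i j) (hb : b ∈ V0 ε i j)
    (hc : c ∈ V0 ε i j) (he : e ∈ h.E) (hab : e * a * e⁻¹ = b) (hbc : e * b * e⁻¹ = c)
    (habc : a * b * c = 1) {x : G} (hx : x ∈ Aa W a) :
    x * (e * x * e⁻¹) * (e * (e * x * e⁻¹) * e⁻¹) = 1 := by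
  have hV := V0_le (i := i) (j := j) h.even
  have key : x ∈ BB W ε i j ∧ e * x * e⁻¹ ∈ BB W ε i j ∧ e * (e * x * e⁻¹) * e⁻¹ ∈ BB W ε i j ∧
      x * (e * x * e⁻¹) * (e * (e * x * e⁻¹) * e⁻¹) = 1 := by
    unfold Aa at hx
    induction hx using closure_induction with
    | mem x hx =>
      obtain ⟨w, hw, rfl⟩ := hx
      have h1 := h.equiv he hw (hV ha)
      have h2 := h.equiv he hw (hV hb)
      rw [hab] at h1
      rw [hbc] at h2
      rw [h1, h2]
      refine ⟨mem_BB hw ha, mem_BB hw hb, mem_BB hw hc, ?_⟩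
      calc w * a * w⁻¹ * (w * b * w⁻¹) * (w * c * w⁻¹) = w * (a * b * c) * w⁻¹ := by group
        _ = 1 := by rw [habc]; group
    | one =>
      have h1 : e * 1 * e⁻¹ = 1 := by group
      rw [h1, h1]
      exact ⟨one_mem _, one_mem _, one_mem _, by group⟩
    | mul x y _ _ hx hy =>
      obtain ⟨hx1, hx2, hx3, hx4⟩ := hx
      obtain ⟨hy1, hy2, hy3, hy4⟩ := hy
      set x' := e * x * e⁻¹ with hx'
      set x'' := e * x' * e⁻¹ with hx''
      set y' := e * y * e⁻¹ with hy'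
      set y'' := e * y' * e⁻¹ with hy''
      have e1 : e * (x * y) * e⁻¹ = x' * y' := by rw [hx', hy']; group
      have e2 : e * (x' * y') * e⁻¹ = x'' * y'' := by rw [hx'', hy'']; group
      rw [e1, e2]
      refine ⟨mul_mem hx1 hy1, mul_mem hx2 hy2, mul_mem hx3 hy3, ?_⟩
      calc x * y * (x' * y') * (x'' * y'') = x * (y * x') * (y' * x'') * y'' := by group
        _ = x * (x' * y) * (x'' * y') * y'' := by rw [BB_comm h hy1 hx2, BB_comm h hy2 hx3]
        _ = x * x' * (y * x'') * y' * y'' := by group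
        _ = x * x' * (x'' * y) * y' * y'' := by rw [BB_comm h hy1 hx3]
        _ = (x * x' * x'') * (y * y' * y'') := by group
        _ = 1 := by rw [hx4, hy4, one_mul]
    | inv x _ hx =>
      obtain ⟨hx1, hx2, hx3, hx4⟩ := hx
      set x' := e * x * e⁻¹ with hx'
      set x'' := e * x' * e⁻¹ with hx''
      have e1 : e * x⁻¹ * e⁻¹ = x'⁻¹ := by rw [hx']; group
      have e2 : e * x'⁻¹ * e⁻¹ = x''⁻¹ := by rw [hx'']; group
      rw [e1, e2]
      refine ⟨inv_mem hx1, inv_mem hx2, inv_mem hx3, ?_⟩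
      calc x⁻¹ * x'⁻¹ * x''⁻¹ = (x'' * (x' * x))⁻¹ := by group
        _ = (x * x' * x'')⁻¹ := by rw [BB_comm h hx2 hx1, BB_comm h hx3 (mul_mem hx1 hx2)]
        _ = 1 := by rw [hx4, inv_one]
  exact key.2.2.2

end BB

/-! ### The theorem -/

theorem exists_kl' : ∀ i j : Fin (2 ^ 2 + 1), i ≠ 0 → j ≠ 0 → i ≠ j →
    ∃ k l : Fin (2 ^ 2 + 1), k ≠ l ∧ k ≠ 0 ∧ l ≠ 0 ∧ (k ≠ i ∧ k ≠ j) ∧ (l ≠ i ∧ l ≠ j) ∧
    ∀ a : Fin (2 ^ 2 + 1), a = 0 ∨ a = i ∨ a = j ∨ a = k ∨ a = l := by
  decide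

section two

variable {V P W : Subgroup G} {S : Sylow 2 G} {ε : (Fin (2 ^ 2 + 1) → ZMod 2) → G}
  {i j : Fin (2 ^ 2 + 1)} (h : Hyp (m := 2) V P (S : Subgroup G) W ε i j)
include h

/-- the other two letters -/
theorem exists_kl : ∃ k l : Fin (2 ^ 2 + 1), k ≠ l ∧ k ≠ 0 ∧ l ≠ 0 ∧ (k ≠ i ∧ k ≠ j) ∧ (l ≠ i ∧ l ≠ j) ∧
    ∀ a : Fin (2 ^ 2 + 1), a = 0 ∨ a = i ∨ a = j ∨ a = k ∨ a = l :=
  exists_kl' i j h.i_ne_zero h.j_ne_zero h.ne

/-- **The theorem**: `W ≤ C_S(r_ij)`. -/
theorem le_T [Finite G] {z : G}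
    (hz : ∀ x : G, x * x = 1 → (∀ s ∈ (S : Subgroup G), s * x = x * s) → x = 1 ∨ x = z) :
    W ≤ (S : Subgroup G) ⊓ centralizer ({rr ε i j} : Set G) := by
  classical
  have h2 : Fact (Nat.Prime 2) := ⟨Nat.prime_two⟩
  have hev := h.even
  set T := (S : Subgroup G) ⊓ centralizer ({rr ε i j} : Set G) with hT
  by_contra hWT
  obtain ⟨k, l, hkl, hk0, hl0, hk, hl, hall⟩ := exists_kl h
  -- `W ⊔ T` is a Sylow 2-subgroup
  have hTW : T ≤ normalizer (W : Set G) := inf_le_right.trans h.norm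
  have hTp : IsPGroup 2 T := h.isP.to_le inf_le_left
  have hp : IsPGroup 2 (W ⊔ T : Subgroup G) := h.isPW.to_sup_of_normal_left' hTp hTW
  have hcard : Nat.card (S : Subgroup G) ≤ Nat.card (W ⊔ T : Subgroup G) := by
    have h4 := Hyp.card_sup_mul' hTW
    have h5 : Nat.card T * T.relIndex S = Nat.card (S : Subgroup G) := Hyp.card_mul_relIndex' inf_le_left
    have h6 : Nat.card (W ⊓ T : Subgroup G) * (W ⊓ T).relIndex W = Nat.card W :=
      Hyp.card_mul_relIndex' inf_le_left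
    rw [inf_relIndex_left] at h6
    have h7 : T.relIndex S ≤ 2 := h.relIndex_S_le
    have h8 : 2 ≤ T.relIndex W := by
      have h9 : T.relIndex W ≠ 0 := by
        rw [relIndex]
        exact FiniteIndex.index_ne_zero
      have h10 : T.relIndex W ≠ 1 := fun h0 => hWT (relIndex_eq_one.mp h0)
      omega
    have hWpos : 0 < Nat.card (W ⊓ T : Subgroup G) := Nat.card_pos
    refine Nat.le_of_mul_le_mul_right (c := Nat.card (W ⊓ T : Subgroup G)) ?_ hWpos
    calc Nat.card (S : Subgroup G) * Nat.card (W ⊓ T : Subgroup G)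
        = Nat.card T * T.relIndex S * Nat.card (W ⊓ T : Subgroup G) := by rw [h5]
      _ ≤ Nat.card T * T.relIndex W * Nat.card (W ⊓ T : Subgroup G) :=
          Nat.mul_le_mul_right _ (Nat.mul_le_mul_left _ (h7.trans h8))
      _ = (Nat.card (W ⊓ T : Subgroup G) * T.relIndex W) * Nat.card T := by ring
      _ = _ := by rw [h6, h4]
  -- the vector `a = r_kl`
  have ha : rr ε k l ∈ V0 ε i j := mul_mem (subset_closure ⟨k, hk.1, hk.2, rfl⟩)
    (subset_closure ⟨l, hl.1, hl.2, rfl⟩)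
  have h0ij : (0 : Fin (2 ^ 2 + 1)) ≠ i ∧ (0 : Fin (2 ^ 2 + 1)) ≠ j := ⟨h.i_ne_zero.symm, h.j_ne_zero.symm⟩
  have hz0 : zz ε 0 ∈ V0 ε i j := subset_closure ⟨0, h0ij.1, h0ij.2, rfl⟩
  have hb : rr ε l 0 ∈ V0 ε i j := mul_mem (subset_closure ⟨l, hl.1, hl.2, rfl⟩) hz0
  have hc : rr ε 0 k ∈ V0 ε i j := mul_mem hz0 (subset_closure ⟨k, hk.1, hk.2, rfl⟩)
  have hfixa : ∀ t ∈ T, t * rr ε k l * t⁻¹ = rr ε k l := by
    intro t ht
    obtain ⟨σ, hσ⟩ := hev.perm t (h.le ht.1)
    have hs0 := h.fix0 t ht.1 σ hσ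
    have hpair := h.pair_of_acts hσ (mem_centralizer_singleton_iff.mp ht.2)
    have hoff : ∀ a : Fin (2 ^ 2 + 1), a ≠ 0 → a ≠ i → a ≠ j → σ a ≠ 0 ∧ σ a ≠ i ∧ σ a ≠ j := by
      intro a ha0 hai haj
      refine ⟨fun h0 => ha0 (σ.injective (h0.trans hs0.symm)), ?_, ?_⟩
      · intro h0
        rcases hpair with ⟨h1, -⟩ | ⟨-, h1⟩
        · exact hai (σ.injective (h0.trans h1.symm))
        · exact haj (σ.injective (h0.trans h1.symm))
      · intro h0
        rcases hpair with ⟨-, h1⟩ | ⟨h1, -⟩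
        · exact haj (σ.injective (h0.trans h1.symm))
        · exact hai (σ.injective (h0.trans h1.symm))
    have hk' := hoff k hk0 hk.1 hk.2
    have hl' := hoff l hl0 hl.1 hl.2
    have hk'' : σ k = k ∨ σ k = l := by
      rcases hall (σ k) with h1 | h1 | h1 | h1 | h1
      · exact absurd h1 hk'.1
      · exact absurd h1 hk'.2.1
      · exact absurd h1 hk'.2.2
      · exact Or.inl h1
      · exact Or.inr h1
    have hl'' : σ l = k ∨ σ l = l := by
      rcases hall (σ l) with h1 | h1 | h1 | h1 | h1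
      · exact absurd h1 hl'.1
      · exact absurd h1 hl'.2.1
      · exact absurd h1 hl'.2.2
      · exact Or.inl h1
      · exact Or.inr h1
    rw [rr_conj hσ]
    rcases hk'' with h1 | h1 <;> rcases hl'' with h3 | h3
    · exact absurd (σ.injective (h1.trans h3.symm)) hkl
    · rw [h1, h3]
    · rw [h1, h3, rr_symm hev]
    · exact absurd (σ.injective (h1.trans h3.symm)) hkl
  -- `W ⊔ T` normalises `⟨a^W⟩`
  have hWn : W ≤ normalizer (Aa W (rr ε k l) : Set G) := by
    have key : ∀ g ∈ W, ∀ x ∈ Aa W (rr ε k l), g * x * g⁻¹ ∈ Aa W (rr ε k l) := by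
      intro g hg x hx
      unfold Aa at hx ⊢
      induction hx using closure_induction with
      | mem x hx =>
        obtain ⟨w, hw, rfl⟩ := hx
        exact subset_closure ⟨g * w, mul_mem hg hw, by group⟩
      | one => rw [mul_one, mul_inv_cancel]; exact one_mem _
      | mul x y _ _ hx hy =>
        have : g * (x * y) * g⁻¹ = (g * x * g⁻¹) * (g * y * g⁻¹) := by group
        rw [this]; exact mul_mem hx hy
      | inv x _ hx =>
        have : g * x⁻¹ * g⁻¹ = (g * x * g⁻¹)⁻¹ := by group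
        rw [this]; exact inv_mem hx
    intro g hg
    rw [mem_normalizer_iff]
    refine fun x => ⟨key g hg x, fun hx => ?_⟩
    have h1 := key g⁻¹ (inv_mem hg) _ hx
    have h3 : g⁻¹ * (g * x * g⁻¹) * g⁻¹⁻¹ = x := by group
    rwa [h3] at h1
  have hTn : T ≤ normalizer (Aa W (rr ε k l) : Set G) := by
    have key : ∀ g ∈ T, ∀ x ∈ Aa W (rr ε k l), g * x * g⁻¹ ∈ Aa W (rr ε k l) := by
      intro g hg x hx
      unfold Aa at hx ⊢
      induction hx using closure_induction with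
      | mem x hx =>
        obtain ⟨w, hw, rfl⟩ := hx
        refine subset_closure ⟨g * w * g⁻¹, h.conjW hg.2 hw, ?_⟩
        calc g * (w * rr ε k l * w⁻¹) * g⁻¹
            = g * w * g⁻¹ * (g * rr ε k l * g⁻¹) * (g * w * g⁻¹)⁻¹ := by group
          _ = _ := by rw [hfixa g hg]
      | one => rw [mul_one, mul_inv_cancel]; exact one_mem _
      | mul x y _ _ hx hy =>
        have : g * (x * y) * g⁻¹ = (g * x * g⁻¹) * (g * y * g⁻¹) := by group
        rw [this]; exact mul_mem hx hy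
      | inv x _ hx =>
        have : g * x⁻¹ * g⁻¹ = (g * x * g⁻¹)⁻¹ := by group
        rw [this]; exact inv_mem hx
    intro g hg
    rw [mem_normalizer_iff]
    refine fun x => ⟨key g hg x, fun hx => ?_⟩
    have h1 := key g⁻¹ (inv_mem hg) _ hx
    have h3 : g⁻¹ * (g * x * g⁻¹) * g⁻¹⁻¹ = x := by group
    rwa [h3] at h1
  have hA2 : IsPGroup 2 (Aa W (rr ε k l)) := by
    intro x
    refine ⟨1, Subtype.ext ?_⟩
    have h1 := Aa_sq h ha x.2
    rw [← pow_two] at h1
    simpa using h1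
  have haA : rr ε k l ∈ Aa W (rr ε k l) := subset_closure ⟨1, one_mem _, by group⟩
  have hAne : Aa W (rr ε k l) ≠ ⊥ := by
    intro h0
    rw [h0, mem_bot] at haA
    exact rr_ne_one hev h.three hkl haA
  have hfix := Cfsg.Agent.PLocal.OffenderStep.inf_centralizer_ne_bot _ _ hA2 hp (sup_le hWn hTn) hAne
  rcases Subgroup.bot_or_exists_ne_one (Aa W (rr ε k l) ⊓ centralizer ((W ⊔ T : Subgroup G) : Set G)) with
    h0 | ⟨x, hx, hx1⟩
  · exact hfix h0
  -- `x = r_ij`
  have hxr : x = rr ε i j := by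
    refine uniq S hz hp hcard (Aa_sq h ha hx.1) hx1 (mem_centralizer_iff.mp hx.2) (rr_sq hev i j)
      (rr_ne_one hev h.three h.ne) ?_
    have h1 : W ⊔ T ≤ centralizer ({rr ε i j} : Set G) := sup_le h.leW inf_le_right
    intro t ht
    exact mem_centralizer_singleton_iff.mp (h1 ht)
  obtain ⟨e, he, he1, he2, he3⟩ := h.cycle_mem_E hk hl h0ij hkl hk0 hl0
  have hab : e * rr ε k l * e⁻¹ = rr ε l 0 := by
    unfold rr
    rw [← he2]
    nth_rewrite 2 [← he1]
    group
  have hbc : e * rr ε l 0 * e⁻¹ = rr ε 0 k := by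
    unfold rr
    rw [← he3]
    nth_rewrite 2 [← he2]
    group
  have habc : rr ε k l * rr ε l 0 * rr ε 0 k = 1 := by
    rw [rr_add hev, rr_add hev]
    exact zz_sq hev k
  have h3 := Aa_cyc h ha hb hc he hab hbc habc hx.1
  rw [hxr] at h3
  have h4 : e * rr ε i j * e⁻¹ = rr ε i j := by
    have h5 := (Hyp.mem_A.mp he.1).2
    rw [h5, mul_inv_cancel_right]
  rw [h4, h4, rr_sq hev, one_mul] at h3
  exact rr_ne_one hev h.three h.ne h3

/-- `W` acts on `V` as a subgroup of `⟨(i j)⟩`. -/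
theorem acts [Finite G] {z : G}
    (hz : ∀ x : G, x * x = 1 → (∀ s ∈ (S : Subgroup G), s * x = x * s) → x = 1 ∨ x = z) {w : G} (hw : w ∈ W) :
    w ∈ P ∧ (Acts ε w 1 ∨ Acts ε w (Equiv.swap i j)) := by
  have h1 : w ∈ P := h.le ((le_T h hz) hw).1
  exact ⟨h1, h.acts_WP ⟨hw, h1⟩⟩

/-- `[W, V] ≤ ⟨r_ij⟩` -/
theorem comm_eq [Finite G] {z : G}
    (hz : ∀ x : G, x * x = 1 → (∀ s ∈ (S : Subgroup G), s * x = x * s) → x = 1 ∨ x = z) {w v : G} (hw : w ∈ W)
    (hv : v ∈ V) : v * w * v⁻¹ = w ∨ v * w * v⁻¹ = w * rr ε i j := by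
  rcases (acts h hz hw).2 with h1 | h1
  · left
    have h2 := mem_centralizer_iff.mp (h.even.acts_one_iff.mp h1) v hv
    rw [h2, mul_inv_cancel_right]
  · have h2 : w * v * w⁻¹ = v ∨ w * v * w⁻¹ = v * rr ε i j := by
      obtain ⟨u, rfl⟩ := h.even.surj v hv
      obtain ⟨h3, h4⟩ := Cfsg.Agent.Omega.S5.Pair.acts_swap h.even h1 u
      by_cases hu : u i = u j
      · left
        rw [h3 hu, mul_inv_cancel_right]
      · right
        rw [h4 hu, h.even.add]
        rfl
    rcases h2 with h2 | h2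
    · left
      have h3 : w * v = v * w := by
        calc w * v = w * v * w⁻¹ * w := by group
          _ = v * w := by rw [h2]
      rw [← h3, mul_inv_cancel_right]
    · right
      have hwr : w * rr ε i j = rr ε i j * w := mem_centralizer_singleton_iff.mp (h.leW hw)
      have hv1 : v⁻¹ = v := inv_eq_of_mul_eq_one_left (h.even.sq_mem hv)
      calc v * w * v⁻¹ = v * (w * v * w⁻¹) * w := by rw [hv1]; group
        _ = (v * v) * (rr ε i j * w) := by rw [h2]; group
        _ = w * rr ε i j := by rw [h.even.sq_mem hv, one_mul, hwr]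

end two

end Cfsg.Agent.Omega.NSix.TwoSup

end

section


/-!
# OMEGA N6: `N_G(V)` acts on the even-subset module `V` as the symmetric group

`V` is the even-subset module of odd degree `n ≥ 5` for `P ≥ S`, `S` a Sylow 2-subgroup of `G` which fixes a
label.  Then every element of `N_G(V)` permutes the labels.

Proof: the elements of `N_G(V)` which act on `V` as transvections are conjugate in `N_G(V)` into `S`, where they act
as transpositions; commuting ones have independent centres; so every centre is one of the pairs `r_ij`, and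
`N_G(V)` permutes the pairs.
-/

set_option autoImplicit false
set_option linter.dupNamespace false

namespace Cfsg.Agent.Omega.NSix.Norm

open Subgroup

universe u

/-! ### commuting involutions -/

theorem closure_sq {M : Type u} [Group M] {B : Set M} (hc : ∀ a ∈ B, ∀ b ∈ B, a * b = b * a)
    (hs : ∀ a ∈ B, a * a = 1) : ∀ x ∈ closure B, x * x = 1 := by
  have h1 : closure B ≤ centralizer B := by
    rw [closure_le]
    intro a ha
    exact mem_centralizer_iff.mpr fun b hb => hc b hb a ha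
  have h2 : closure B ≤ centralizer (closure B : Set M) := by
    rw [closure_le]
    intro a ha
    exact mem_centralizer_iff.mpr fun b hb => (mem_centralizer_iff.mp (h1 hb) a ha).symm
  intro x hx
  induction hx using closure_induction with
  | mem x hx => exact hs x hx
  | one => rw [one_mul]
  | mul x y hx hy h3 h4 =>
    have h5 : x * y = y * x := mem_centralizer_iff.mp (h2 hy) x hx
    calc x * y * (x * y) = x * (y * x) * y := by group
      _ = (x * x) * (y * y) := by rw [← h5]; group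
      _ = 1 := by rw [h3, h4, one_mul]
  | inv x _ h3 =>
    rw [← mul_inv_rev, h3, inv_one]

theorem closure_isPGroup {M : Type u} [Group M] {B : Set M} (hc : ∀ a ∈ B, ∀ b ∈ B, a * b = b * a)
    (hs : ∀ a ∈ B, a * a = 1) : IsPGroup 2 (closure B) := by
  intro x
  refine ⟨1, ?_⟩
  rw [pow_one, pow_two]
  exact Subtype.ext (closure_sq hc hs x x.2)

/-! ### the module -/

section abs

variable {A : Type u} [CommGroup A] {n : ℕ}

/-- `α` acts as the permutation `σ` -/
def Ac (e : (Fin n → ZMod 2) → A) (α : MulAut A) (σ : Equiv.Perm (Fin n)) : Prop :=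
  ∀ x, α (e x) = e (x ∘ σ.symm)

/-- the pair `{i, j}` -/
def pr (e : (Fin n → ZMod 2) → A) (i j : Fin n) : A := e (Pi.single i 1 + Pi.single j 1)

/-- `A` is `F₂ⁿ` modulo the all-one vector; `L ≥ Sb` is a group of automorphisms which induces all permutations, `Sb`
acts by permutations fixing `o`, and every 2-subgroup of `L` is conjugate in `L` into `Sb`. -/
structure Md (e : (Fin n → ZMod 2) → A) (L Sb : Subgroup (MulAut A)) (o : Fin n) : Prop where
  add : ∀ x y, e (x + y) = e x * e y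
  surj : ∀ a, ∃ x, e x = a
  ker : ∀ x, e x = 1 ↔ x = 0 ∨ x = 1
  full : ∀ σ, ∃ α ∈ L, Ac e α σ
  sub : Sb ≤ L
  two : IsPGroup 2 Sb
  perm : ∀ α ∈ Sb, ∃ σ : Equiv.Perm (Fin n), Ac e α σ ∧ σ o = o
  conj : ∀ X ≤ L, IsPGroup 2 X → ∃ h ∈ L, ∀ x ∈ X, h * x * h⁻¹ ∈ Sb

/-- `α` is a transvection with centre `c` -/
structure Tr (α : MulAut A) (c : A) : Prop where
  act : ∀ v, α v = v ∨ α v = v * c
  ne : ∃ v, α v ≠ v

/-- the sum of the coordinates -/
def tot (x : Fin n → ZMod 2) : ZMod 2 := ∑ i, x i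

theorem tot_add (x y : Fin n → ZMod 2) : tot (x + y) = tot x + tot y := by
  unfold tot
  rw [← Finset.sum_add_distrib]
  rfl

theorem tot_single (i : Fin n) : tot (Pi.single i 1 : Fin n → ZMod 2) = 1 := by
  unfold tot
  rw [Finset.sum_pi_single' i (1 : ZMod 2) Finset.univ, if_pos (Finset.mem_univ _)]

theorem tot_one (hodd : Odd n) : tot (1 : Fin n → ZMod 2) = 1 := by
  unfold tot
  simp only [Pi.one_apply, Finset.sum_const, Finset.card_univ, Fintype.card_fin, nsmul_eq_mul, mul_one]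
  obtain ⟨k, rfl⟩ := hodd
  push_cast
  rw [show (2 : ZMod 2) = 0 from rfl]
  ring

theorem z2 (c : ZMod 2) : c = 0 ∨ c = 1 := by revert c; decide

theorem z2_ne {a b : ZMod 2} (h : a ≠ b) : a = b + 1 := by revert a b; decide


theorem z2_self (a : ZMod 2) : a + a = 0 := by revert a; decide

theorem vec_self (x : Fin n → ZMod 2) : x + x = 0 := funext fun i => z2_self _

theorem Ac.mul {e : (Fin n → ZMod 2) → A} {α β : MulAut A} {σ τ : Equiv.Perm (Fin n)} (h1 : Ac e α σ)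
    (h2 : Ac e β τ) : Ac e (α * β) (σ * τ) := by
  intro x
  rw [MulAut.mul_apply, h2 x, h1]
  rfl

theorem Ac.inv {e : (Fin n → ZMod 2) → A} {α : MulAut A} {σ : Equiv.Perm (Fin n)} (h1 : Ac e α σ) :
    Ac e α⁻¹ σ⁻¹ := by
  intro x
  have h2 : α (e (x ∘ σ)) = e x := by
    rw [h1]
    congr 1
    funext i
    simp
  have h3 : x ∘ (σ⁻¹).symm = x ∘ σ := rfl
  rw [h3, ← h2, ← MulAut.mul_apply, inv_mul_cancel, MulAut.one_apply]

theorem single_comp (σ : Equiv.Perm (Fin n)) (i : Fin n) :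
    (Pi.single i 1 : Fin n → ZMod 2) ∘ σ.symm = Pi.single (σ i) 1 := by
  funext j
  by_cases hj : j = σ i
  · subst hj
    simp
  · have h1 : σ.symm j ≠ i := fun h0 => hj (by rw [← h0, Equiv.apply_symm_apply])
    simp [Function.comp, hj, h1]

theorem Ac.single {e : (Fin n → ZMod 2) → A} {α : MulAut A} {σ : Equiv.Perm (Fin n)} (h1 : Ac e α σ) (i : Fin n) :
    α (e (Pi.single i 1)) = e (Pi.single (σ i) 1) := by
  rw [h1, single_comp]

theorem Ac.pr {e : (Fin n → ZMod 2) → A} {α : MulAut A} {σ : Equiv.Perm (Fin n)} (h1 : Ac e α σ) (i j : Fin n) :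
    α (pr e i j) = Norm.pr e (σ i) (σ j) := by
  unfold Norm.pr
  rw [h1]
  congr 1
  have h2 : ((Pi.single i 1 : Fin n → ZMod 2) + Pi.single j 1) ∘ σ.symm =
      (Pi.single i 1 : Fin n → ZMod 2) ∘ σ.symm + (Pi.single j 1 : Fin n → ZMod 2) ∘ σ.symm := rfl
  rw [h2, single_comp, single_comp]

namespace Md

variable {e : (Fin n → ZMod 2) → A} {L Sb : Subgroup (MulAut A)} {o : Fin n} (h : Md e L Sb o)
include h

theorem zero : e 0 = 1 := (h.ker 0).mpr (Or.inl rfl)

theorem one : e 1 = 1 := (h.ker 1).mpr (Or.inr rfl)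

theorem sq (a : A) : a * a = 1 := by
  obtain ⟨x, rfl⟩ := h.surj a
  rw [← h.add, vec_self, h.zero]

theorem eq_iff {x y : Fin n → ZMod 2} : e x = e y ↔ x = y ∨ x = y + 1 := by
  constructor
  · intro h0
    have h1 : e (x + y) = 1 := by rw [h.add, h0, h.sq]
    have h2 : x = x + y + y := by rw [add_assoc, vec_self, add_zero]
    rcases (h.ker _).mp h1 with h3 | h3
    · left; rw [h2, h3, zero_add]
    · right; rw [h2, h3, add_comm]
  · rintro (rfl | rfl)
    · rfl
    · rw [h.add, h.one, mul_one]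

theorem inj_tot (hodd : Odd n) {x y : Fin n → ZMod 2} (h1 : e x = e y) (h2 : tot x = tot y) : x = y := by
  rcases h.eq_iff.mp h1 with h3 | h3
  · exact h3
  · exfalso
    rw [h3, tot_add, tot_one hodd] at h2
    have : ∀ a : ZMod 2, a + 1 ≠ a := by decide
    exact this _ h2

theorem exists_even (hodd : Odd n) (a : A) : ∃ x, e x = a ∧ tot x = 0 := by
  obtain ⟨x, rfl⟩ := h.surj a
  rcases z2 (tot x) with h1 | h1
  · exact ⟨x, rfl, h1⟩
  · refine ⟨x + 1, ?_, ?_⟩
    · rw [h.add, h.one, mul_one]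
    · rw [tot_add, h1, tot_one hodd]
      decide

omit h in
theorem tot_pr (i j : Fin n) : tot (Pi.single i 1 + Pi.single j 1 : Fin n → ZMod 2) = 0 := by
  rw [tot_add, tot_single, tot_single]
  decide

theorem pr_symm (i j : Fin n) : pr e i j = pr e j i := by
  unfold pr
  rw [add_comm]

theorem pr_add (i j k : Fin n) : pr e i j * pr e j k = pr e i k := by
  unfold pr
  rw [← h.add]
  congr 1
  rw [add_assoc, ← add_assoc (Pi.single j 1 : Fin n → ZMod 2), vec_self, zero_add]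

theorem pr_eq (hodd : Odd n) {i j k l : Fin n} (hij : i ≠ j) (h1 : pr e i j = pr e k l) :
    (i = k ∧ j = l) ∨ (i = l ∧ j = k) := by
  have h2 := h.inj_tot hodd h1 (by rw [tot_pr, tot_pr])
  have hi := congrFun h2 i
  have hj := congrFun h2 j
  simp only [Pi.add_apply, Pi.single_apply, if_true, if_neg hij, if_neg hij.symm, add_zero, zero_add] at hi hj
  by_cases e1 : i = k
  · subst e1
    rw [if_neg hij.symm] at hj
    by_cases e2 : j = l
    · exact Or.inl ⟨rfl, e2⟩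
    · rw [if_neg e2] at hj
      exact absurd hj (by decide)
  · rw [if_neg e1] at hi
    by_cases e2 : i = l
    · subst e2
      rw [if_neg hij.symm] at hj
      by_cases e3 : j = k
      · exact Or.inr ⟨rfl, e3⟩
      · rw [if_neg e3] at hj
        exact absurd hj (by decide)
    · rw [if_neg e2] at hi
      exact absurd hi (by decide)

theorem pr_ne (hodd : Odd n) {i j : Fin n} (hij : i ≠ j) : pr e i j ≠ 1 := by
  intro h1
  have h2 : pr e i j = pr e i i := by
    rw [h1]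
    unfold pr
    rw [vec_self, h.zero]
  rcases h.pr_eq hodd hij h2 with ⟨-, h3⟩ | ⟨-, h3⟩ <;> exact hij h3.symm

/-- the transposition -/
theorem ac_swap {α : MulAut A} {i j : Fin n} (h1 : Ac e α (Equiv.swap i j)) (x : Fin n → ZMod 2) :
    (x i = x j → α (e x) = e x) ∧ (x i ≠ x j → α (e x) = e x * pr e i j) := by
  constructor
  · intro h2
    rw [h1]
    congr 1
    funext k
    rw [Function.comp_apply, Equiv.symm_swap]
    by_cases e1 : k = i
    · subst e1; rw [Equiv.swap_apply_left, h2]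
    by_cases e2 : k = j
    · subst e2; rw [Equiv.swap_apply_right, h2]
    rw [Equiv.swap_apply_of_ne_of_ne e1 e2]
  · intro h2
    have hij : i ≠ j := fun h0 => h2 (by rw [h0])
    rw [h1]
    unfold pr
    rw [← h.add]
    congr 1
    funext k
    rw [Function.comp_apply, Equiv.symm_swap, Pi.add_apply, Pi.add_apply]
    by_cases e1 : k = i
    · subst e1
      rw [Equiv.swap_apply_left, Pi.single_eq_same, Pi.single_eq_of_ne hij, add_zero]
      exact z2_ne h2.symm
    by_cases e2 : k = j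
    · subst e2
      rw [Equiv.swap_apply_right, Pi.single_eq_same, Pi.single_eq_of_ne e1, zero_add]
      exact z2_ne h2
    rw [Equiv.swap_apply_of_ne_of_ne e1 e2, Pi.single_eq_of_ne e1, Pi.single_eq_of_ne e2, add_zero, add_zero]

end Md

/-! ### transvections -/

namespace Tr

variable {α β γ : MulAut A} {c d : A}

theorem ne_one (h : Tr α c) : c ≠ 1 := by
  rintro rfl
  obtain ⟨v, hv⟩ := h.ne
  rcases h.act v with h1 | h1
  · exact hv h1
  · rw [mul_one] at h1; exact hv h1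

theorem conj (h : Tr α c) (β : MulAut A) : Tr (β * α * β⁻¹) (β c) where
  act v := by
    have h1 : (β * α * β⁻¹) v = β (α (β⁻¹ v)) := rfl
    have h2 : β (β⁻¹ v) = v := by rw [← MulAut.mul_apply, mul_inv_cancel, MulAut.one_apply]
    rw [h1]
    rcases h.act (β⁻¹ v) with h3 | h3
    · left; rw [h3, h2]
    · right; rw [h3, map_mul, h2]
  ne := by
    obtain ⟨v, hv⟩ := h.ne
    refine ⟨β v, ?_⟩
    have h1 : (β * α * β⁻¹) (β v) = β (α (β⁻¹ (β v))) := rfl
    have h2 : β⁻¹ (β v) = v := by rw [← MulAut.mul_apply, inv_mul_cancel, MulAut.one_apply]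
    rw [h1, h2]
    exact fun h3 => hv (β.injective h3)

variable (hsq : ∀ a : A, a * a = 1)
include hsq

theorem fix (h : Tr α c) : α c = c := by
  rcases h.act c with h1 | h1
  · exact h1
  · rw [hsq c] at h1
    have h2 : c = 1 := by
      have := α.injective (h1.trans (map_one α).symm)
      exact this
    exact absurd h2 h.ne_one

theorem sq (h : Tr α c) : α * α = 1 := by
  ext v
  rw [MulAut.mul_apply, MulAut.one_apply]
  rcases h.act v with h1 | h1
  · rw [h1, h1]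
  · rw [h1, map_mul, h1, h.fix hsq, mul_assoc, hsq, mul_one]

theorem inv (h : Tr α c) : α⁻¹ = α := inv_eq_of_mul_eq_one_left (h.sq hsq)

theorem comm (h1 : Tr α c) (h2 : Tr β d) (h3 : α d = d) (h4 : β c = c) : α * β = β * α := by
  ext v
  rw [MulAut.mul_apply, MulAut.mul_apply]
  rcases h1.act v with h5 | h5 <;> rcases h2.act v with h6 | h6
  · rw [h6, h5, h6]
  · rw [h6, h5, h6, map_mul, h5, h3]
  · rw [h6, h5, map_mul, h6, h4]
  · rw [h6, h5, map_mul, map_mul, h5, h6, h3, h4, mul_assoc, mul_assoc, mul_comm c d]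

end Tr


theorem swap_ne_swap_mul {i j k l a b : Fin n} (hij : i ≠ j) (hkl : k ≠ l) (hab : a ≠ b) :
    Equiv.swap i j * Equiv.swap k l ≠ Equiv.swap a b := by
  intro h
  have h1 := congrArg Equiv.Perm.sign h
  rw [map_mul, Equiv.Perm.sign_swap hij, Equiv.Perm.sign_swap hkl, Equiv.Perm.sign_swap hab] at h1
  revert h1
  decide

namespace Md

variable {e : (Fin n → ZMod 2) → A} {L Sb : Subgroup (MulAut A)} {o : Fin n} (h : Md e L Sb o)
include h

theorem tr_pair (hn : 3 ≤ n) (hodd : Odd n) {i j : Fin n} (hij : i ≠ j) {α : MulAut A} (h1 : Ac e α (Equiv.swap i j)) :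
    Tr α (pr e i j) where
  act v := by
    obtain ⟨x, rfl⟩ := h.surj v
    by_cases h2 : x i = x j
    · exact Or.inl ((h.ac_swap h1 x).1 h2)
    · exact Or.inr ((h.ac_swap h1 x).2 h2)
  ne := by
    refine ⟨e (Pi.single i 1), fun h2 => ?_⟩
    have h3 := (h.ac_swap h1 (Pi.single i 1)).2 (by
      rw [Pi.single_eq_same, Pi.single_eq_of_ne hij.symm]; exact one_ne_zero)
    rw [h2] at h3
    exact h.pr_ne hodd hij (left_eq_mul.mp h3)

/-- (1) -/
theorem tr_perm (hodd : Odd n) {α : MulAut A} {σ : Equiv.Perm (Fin n)} (hα : Ac e α σ) {c : A} (ht : Tr α c) :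
    ∃ i j, i ≠ j ∧ σ = Equiv.swap i j ∧ c = pr e i j := by
  have key : ∀ k, σ k ≠ k → c = pr e k (σ k) := by
    intro k hk
    have h1 := hα.single k
    rcases ht.act (e (Pi.single k 1)) with h2 | h2
    · exfalso
      rw [h2] at h1
      have h3 := h.inj_tot hodd h1 (by rw [tot_single, tot_single])
      have h4 := congrFun h3 k
      rw [Pi.single_eq_same, Pi.single_eq_of_ne (Ne.symm hk)] at h4
      exact one_ne_zero h4
    · rw [h2] at h1
      unfold pr
      rw [h.add, ← h1, ← mul_assoc, h.sq, one_mul]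
  have hne : ∃ k, σ k ≠ k := by
    by_contra hc
    push Not at hc
    obtain ⟨v, hv⟩ := ht.ne
    obtain ⟨x, rfl⟩ := h.surj v
    apply hv
    rw [hα]
    congr 1
    funext k
    rw [Function.comp_apply]
    congr 1
    rw [Equiv.symm_apply_eq, hc]
  obtain ⟨k, hk⟩ := hne
  have hc := key k hk
  refine ⟨k, σ k, Ne.symm hk, ?_, hc⟩
  have hfix : ∀ m, m ≠ k → m ≠ σ k → σ m = m := by
    intro m h1 h2
    by_contra h3
    have h4 := key m h3
    rw [hc] at h4
    rcases h.pr_eq hodd (Ne.symm hk) h4 with ⟨h5, -⟩ | ⟨-, h5⟩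
    · exact h1 h5.symm
    · exact h2 h5.symm
  ext m
  congr 1
  by_cases h1 : m = k
  · subst h1; rw [Equiv.swap_apply_left]
  by_cases h2 : m = σ k
  · subst h2
    rw [Equiv.swap_apply_right]
    by_contra h3
    have h4 : σ (σ k) ≠ σ k := fun h5 => hk (σ.injective h5)
    have h5 := hfix (σ (σ k)) h3 h4
    exact h4 (σ.injective h5)
  · rw [Equiv.swap_apply_of_ne_of_ne h1 h2, hfix m h1 h2]

/-- the elements of a commuting set of transvections are conjugate to transpositions -/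
theorem fam (hodd : Odd n) {B : Set (MulAut A)} (hB : B ⊆ L) (hc : ∀ a ∈ B, ∀ b ∈ B, a * b = b * a)
    (ht : ∀ a ∈ B, ∃ c, Tr a c) : ∃ g ∈ L, (∀ a ∈ B, ∀ c, Tr a c → ∃ i j, i ≠ j ∧
      Ac e (g * a * g⁻¹) (Equiv.swap i j) ∧ g c = pr e i j) ∧
      ∀ a ∈ B, ∀ b ∈ B, ∀ c, Tr (a * b) c → ∃ i j, i ≠ j ∧
      Ac e (g * (a * b) * g⁻¹) (Equiv.swap i j) := by
  obtain ⟨g, hg, h1⟩ := h.conj (closure B) (by rwa [closure_le]) (closure_isPGroup hc fun a ha => by
    obtain ⟨c, hc⟩ := ht a ha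
    exact hc.sq h.sq)
  refine ⟨g, hg, fun a ha c hac => ?_, fun a ha b hb c habc => ?_⟩
  · obtain ⟨σ, h2, -⟩ := h.perm _ (h1 a (subset_closure ha))
    obtain ⟨i, j, h3, rfl, h4⟩ := h.tr_perm hodd h2 (hac.conj g)
    exact ⟨i, j, h3, h2, h4⟩
  · obtain ⟨σ, h2, -⟩ := h.perm _ (h1 (a * b) (mul_mem (subset_closure ha) (subset_closure hb)))
    obtain ⟨i, j, h3, rfl, h4⟩ := h.tr_perm hodd h2 (habc.conj g)
    exact ⟨i, j, h3, h2⟩

theorem ac_unique (hn : 3 ≤ n) (hodd : Odd n) {α : MulAut A} {σ τ : Equiv.Perm (Fin n)} (h1 : Ac e α σ) (h2 : Ac e α τ) :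
    σ = τ := by
  ext k
  congr 1
  have h3 := (h1.single k).symm.trans (h2.single k)
  have h4 := congrFun (h.inj_tot hodd h3 (by rw [tot_single, tot_single])) (σ k)
  rw [Pi.single_eq_same] at h4
  by_contra h5
  rw [Pi.single_eq_of_ne h5] at h4
  exact one_ne_zero h4

/-- (2) -/
theorem no_fours (hn : 3 ≤ n) (hodd : Odd n) {α β : MulAut A} (hα : α ∈ L) (hβ : β ∈ L) {c d f : A} (h1 : Tr α c)
    (h2 : Tr β d) (h3 : Tr (α * β) f) (h4 : α * β = β * α) : False := by
  obtain ⟨g, -, h5, h6⟩ := h.fam hodd (B := {α, β}) (by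
    rintro x (rfl | rfl)
    · exact hα
    · exact hβ) (by
    rintro x (rfl | rfl) y (rfl | rfl)
    · rfl
    · exact h4
    · exact h4.symm
    · rfl) (by
    rintro x (rfl | rfl)
    · exact ⟨c, h1⟩
    · exact ⟨d, h2⟩)
  obtain ⟨i, j, hij, h7, -⟩ := h5 α (Or.inl rfl) c h1
  obtain ⟨k, l, hkl, h8, -⟩ := h5 β (Or.inr rfl) d h2
  obtain ⟨a, b, hab, h9⟩ := h6 α (Or.inl rfl) β (Or.inr rfl) f h3
  have h10 := h7.mul h8
  have e1 : g * α * g⁻¹ * (g * β * g⁻¹) = g * (α * β) * g⁻¹ := by group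
  rw [e1] at h10
  exact swap_ne_swap_mul hij hkl hab (h.ac_unique hn hodd h10 h9)

/-- (3): `β` fixes the centre of `α` only if `α` fixes the centre of `β` -/
theorem symm (hn : 3 ≤ n) (hodd : Odd n) {α β : MulAut A} (hα : α ∈ L) (hβ : β ∈ L) {c d : A} (h1 : Tr α c)
    (h2 : Tr β d) (h3 : β c = c) : α d = d := by
  by_contra h4
  have h5 : α d = d * c := (h1.act d).resolve_left h4
  have hcc : ∀ v : A, v * c * c = v := fun v => by rw [mul_assoc, h.sq, mul_one]
  have hdd : ∀ v : A, v * d * d = v := fun v => by rw [mul_assoc, h.sq, mul_one]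
  have hαc := h1.fix h.sq
  have hβd := h2.fix h.sq
  have hai : α⁻¹ = α := h1.inv h.sq
  -- `γ = α β α⁻¹`
  have g0 : ∀ v, (α * β * α⁻¹) v = α (β (α v)) := by
    intro v
    rw [hai]
    rfl
  have g1 : ∀ v, β v = v → (α * β * α⁻¹) v = v := by
    intro v hv
    rw [g0]
    rcases h1.act v with h6 | h6
    · rw [h6, hv, h6]
    · rw [h6, map_mul, hv, h3, map_mul, h6, hαc, hcc]
  have g2 : ∀ v, β v = v * d → (α * β * α⁻¹) v = v * d * c := by
    intro v hv
    rw [g0]
    rcases h1.act v with h6 | h6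
    · rw [h6, hv, map_mul, h6, h5, mul_assoc]
    · rw [h6, map_mul, hv, h3, map_mul, map_mul, h6, h5, hαc, mul_assoc (v * c) (d * c) c, hcc d, mul_assoc v c d,
        mul_comm c d, mul_assoc v d c]
  have g3 : ∀ v, (β * (α * β * α⁻¹)) v = v ∨ (β * (α * β * α⁻¹)) v = v * c := by
    intro v
    rcases h2.act v with h6 | h6
    · left
      rw [MulAut.mul_apply, g1 v h6, h6]
    · right
      rw [MulAut.mul_apply, g2 v h6, map_mul, map_mul, h6, hβd, h3, hdd]
  have hL : α * β * α⁻¹ ∈ L := mul_mem (mul_mem hα hβ) (inv_mem hα)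
  refine h.no_fours hn hodd hβ hL h2 (h2.conj α) (f := c) ⟨g3, ?_⟩ ?_
  · obtain ⟨v, hv⟩ := h2.ne
    refine ⟨v, fun h7 => ?_⟩
    have h6 := (h2.act v).resolve_left hv
    rw [MulAut.mul_apply, g2 v h6, map_mul, map_mul, h6, hβd, h3, hdd] at h7
    exact h1.ne_one (mul_eq_left.mp h7)
  · ext v
    change β ((α * β * α⁻¹) v) = (α * β * α⁻¹) (β v)
    rcases h2.act v with h6 | h6
    · rw [g1 v h6, h6, g1 v h6]
    · rw [g2 v h6, h6, map_mul β, map_mul β, h6, hβd, h3, hdd, map_mul, g2 v h6, g1 d hβd]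
      rw [mul_assoc (v * d), mul_comm c, ← mul_assoc, hdd]


/-- the pairs generate -/
theorem gen (hodd : Odd n) (H : Subgroup A) (hH : ∀ i j, i ≠ j → pr e i j ∈ H) : ∀ a, a ∈ H := by
  have hpt : ∀ i, e (Pi.single i 1) ∈ H := by
    intro i
    have h1 : ∏ j : Fin n, (e (Pi.single j 1) * e (Pi.single i 1)) ∈ H := by
      refine Subgroup.prod_mem _ fun j _ => ?_
      by_cases hj : j = i
      · subst hj
        rw [h.sq]
        exact one_mem _
      · rw [← h.add]
        exact hH j i hj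
    rw [Finset.prod_mul_distrib, Finset.prod_const, Finset.card_univ, Fintype.card_fin] at h1
    have h2 : ∏ j : Fin n, e (Pi.single j 1) = 1 := by
      have h3 : ∀ s : Finset (Fin n), ∏ j ∈ s, e (Pi.single j 1) = e (∑ j ∈ s, Pi.single j 1) := by
        intro s
        induction s using Finset.induction_on with
        | empty => rw [Finset.prod_empty, Finset.sum_empty, h.zero]
        | insert a s ha ih => rw [Finset.prod_insert ha, Finset.sum_insert ha, h.add, ih]
      rw [h3, ← h.one]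
      congr 1
      funext k
      rw [Finset.sum_apply, Pi.one_apply, Finset.sum_eq_single k]
      · rw [Pi.single_eq_same]
      · intro j _ hj
        exact Pi.single_eq_of_ne (Ne.symm hj) _
      · intro h4
        exact absurd (Finset.mem_univ k) h4
    rw [h2, one_mul] at h1
    have h5 : ∀ a : A, a ^ n = a := by
      intro a
      obtain ⟨k, hk⟩ := hodd
      rw [hk, pow_succ, pow_mul, pow_two, h.sq, one_pow, one_mul]
    rwa [h5] at h1
  intro a
  obtain ⟨x, rfl⟩ := h.surj a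
  have h3 : x = ∑ j : Fin n, x j • (Pi.single j 1 : Fin n → ZMod 2) := by
    funext k
    rw [Finset.sum_apply, Finset.sum_eq_single k]
    · simp
    · intro j _ hj
      simp [Pi.single_apply, Ne.symm hj]
    · intro h4
      exact absurd (Finset.mem_univ k) h4
  rw [h3]
  have h4 : ∀ s : Finset (Fin n), e (∑ j ∈ s, x j • (Pi.single j 1 : Fin n → ZMod 2)) ∈ H := by
    intro s
    induction s using Finset.induction_on with
    | empty => rw [Finset.sum_empty, h.zero]; exact one_mem _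
    | insert a s ha ih =>
      rw [Finset.sum_insert ha, h.add]
      refine mul_mem ?_ ih
      rcases z2 (x a) with h5 | h5
      · rw [h5, zero_smul, h.zero]; exact one_mem _
      · rw [h5, one_smul]; exact hpt a
  exact h4 _

/-- two transvections of `L` with the same centre are equal -/
theorem unique (hn : 3 ≤ n) (hodd : Odd n) {α β : MulAut A} (hα : α ∈ L) (hβ : β ∈ L) {c : A} (h1 : Tr α c)
    (h2 : Tr β c) : α = β := by
  let H : Subgroup A :=
    { carrier := {a | α a = β a}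
      one_mem' := by
        change α 1 = β 1
        rw [map_one, map_one]
      mul_mem' := fun {x y} hx hy => by
        change α (x * y) = β (x * y)
        rw [map_mul, map_mul, show α x = β x from hx, show α y = β y from hy]
      inv_mem' := fun {x} hx => by
        change α x⁻¹ = β x⁻¹
        rw [map_inv, map_inv, show α x = β x from hx] }
  ext a
  refine h.gen hodd H (fun i j hij => ?_) a
  change α (pr e i j) = β (pr e i j)
  obtain ⟨τ, hτ, hτa⟩ := h.full (Equiv.swap i j)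
  have ht := h.tr_pair hn hodd hij hτa
  have key : ∀ {α' : MulAut A}, α' ∈ L → Tr α' c → (α' (pr e i j) = pr e i j ↔ τ c = c) := by
    intro α' hα' h1'
    exact ⟨fun h3 => h.symm hn hodd hτ hα' ht h1' h3, fun h3 => h.symm hn hodd hα' hτ h1' ht h3⟩
  by_cases h3 : τ c = c
  · rw [(key hα h1).mpr h3, (key hβ h2).mpr h3]
  · rw [(h1.act _).resolve_left (fun h4 => h3 ((key hα h1).mp h4)),
      (h2.act _).resolve_left (fun h4 => h3 ((key hβ h2).mp h4))]

/-- no point is a centre -/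
theorem point (hn : 5 ≤ n) (hodd : Odd n) [Finite A] {α : MulAut A} (hα : α ∈ L) (h1 : Tr α (e (Pi.single o 1))) : False := by
  have hcomm : ∀ s ∈ Sb, s * α * s⁻¹ = α := by
    intro s hs
    obtain ⟨σ, h2, h3⟩ := h.perm s hs
    have h4 := h1.conj s
    rw [h2.single, h3] at h4
    exact h.unique (by omega) hodd (mul_mem (mul_mem (h.sub hs) hα) (inv_mem (h.sub hs))) hα h4 h1
  -- `⟨Sb, α⟩` is a 2-group
  have hz : IsPGroup 2 (zpowers α) := by
    have h2 : α ^ 2 = 1 := by rw [pow_two]; exact h1.sq h.sq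
    intro x
    refine ⟨1, ?_⟩
    obtain ⟨k, hk⟩ := mem_zpowers_iff.mp x.2
    apply Subtype.ext
    rw [pow_one]
    change (x : MulAut A) ^ 2 = 1
    rw [← hk, ← zpow_natCast, ← zpow_mul, mul_comm, zpow_mul, zpow_natCast, h2, one_zpow]
  have hnorm : Sb ≤ normalizer (zpowers α : Set (MulAut A)) := by
    intro s hs
    have h2 := hcomm s hs
    rw [mem_normalizer_iff]
    intro x
    have h3 : ∀ k : ℤ, s * α ^ k * s⁻¹ = α ^ k := by
      intro k
      rw [← conj_zpow, h2]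
    constructor
    · rintro ⟨k, rfl⟩
      exact ⟨k, (h3 k).symm⟩
    · rintro ⟨k, hk⟩
      refine ⟨k, ?_⟩
      have h4 : x = s⁻¹ * (s * x * s⁻¹) * s := by group
      have h5 : s⁻¹ * α ^ k * s = α ^ k := by
        nth_rewrite 1 [← h3 k]
        group
      rw [h4, ← hk]
      exact h5.symm
  have hX : IsPGroup 2 (Sb ⊔ zpowers α : Subgroup (MulAut A)) :=
    IsPGroup.to_sup_of_normal_right' h.two hz hnorm
  obtain ⟨g, -, hg⟩ := h.conj (Sb ⊔ zpowers α) (sup_le h.sub ((zpowers_le).mpr hα)) hX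
  have hfin : Finite (MulAut A) := Finite.of_injective (fun f : MulAut A => (f : A → A)) fun f g h =>
    MulEquiv.ext fun y => congrFun h y
  have hle : Nat.card (Sb ⊔ zpowers α : Subgroup (MulAut A)) ≤ Nat.card Sb := by
    refine Nat.card_le_card_of_injective (fun x : (Sb ⊔ zpowers α : Subgroup (MulAut A)) =>
      (⟨g * x * g⁻¹, hg x x.2⟩ : Sb)) ?_
    intro x y hxy
    have h3 : g * (x : MulAut A) * g⁻¹ = g * y * g⁻¹ := congrArg Subtype.val hxy
    exact Subtype.ext (mul_left_cancel (mul_right_cancel h3))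
  have heq : Sb = Sb ⊔ zpowers α := Subgroup.eq_of_le_of_card_ge le_sup_left hle
  have hαS : α ∈ Sb := by
    rw [heq]
    exact (le_sup_right : zpowers α ≤ _) (mem_zpowers α)
  obtain ⟨σ, h2, -⟩ := h.perm α hαS
  obtain ⟨i, j, hij, -, h3⟩ := h.tr_perm hodd h2 h1
  unfold pr at h3
  rcases h.eq_iff.mp h3 with h4 | h4
  · have h5 := congrArg tot h4
    rw [tot_single, tot_pr] at h5
    exact one_ne_zero h5
  · have hcard : ({o, i, j} : Finset (Fin n)).card < (Finset.univ : Finset (Fin n)).card := by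
      rw [Finset.card_univ, Fintype.card_fin]
      exact lt_of_le_of_lt Finset.card_le_three (by omega)
    obtain ⟨k, -, hk⟩ := Finset.exists_mem_notMem_of_card_lt_card hcard
    simp only [Finset.mem_insert, Finset.mem_singleton, not_or] at hk
    have h5 := congrFun h4 k
    rw [Pi.single_eq_of_ne hk.1, Pi.add_apply, Pi.add_apply, Pi.single_eq_of_ne hk.2.1,
      Pi.single_eq_of_ne hk.2.2, Pi.one_apply] at h5
    revert h5
    decide


/-- an element of `L` inducing `σ`, and the transvections are permuted -/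
theorem exists_conj {α : MulAut A} (hα : α ∈ L) {x : Fin n → ZMod 2} (h1 : Tr α (e x)) (σ : Equiv.Perm (Fin n)) :
    ∃ β ∈ L, Tr β (e (x ∘ σ.symm)) := by
  obtain ⟨g, hg, hgσ⟩ := h.full σ
  have h2 := h1.conj g
  rw [hgσ] at h2
  exact ⟨_, mul_mem (mul_mem hg hα) (inv_mem hg), h2⟩

/-- (4): the centres are the pairs -/
theorem centre (hn : 5 ≤ n) (hodd : Odd n) [Finite A] {α : MulAut A} (hα : α ∈ L) {c : A} (h1 : Tr α c) :
    ∃ i j, i ≠ j ∧ c = pr e i j := by
  obtain ⟨x, rfl, hx⟩ := h.exists_even hodd c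
  have hx0 : x ≠ 0 := by
    rintro rfl
    exact h1.ne_one h.zero
  obtain ⟨i, hi⟩ : ∃ i, x i = 1 := by
    by_contra h2
    push Not at h2
    apply hx0
    funext k
    exact (z2 (x k)).resolve_right (h2 k)
  obtain ⟨j, hj, hji⟩ : ∃ j, x j = 1 ∧ j ≠ i := by
    by_contra h2
    push Not at h2
    have h3 : x = Pi.single i 1 := by
      funext k
      by_cases hk : k = i
      · subst hk; rw [Pi.single_eq_same, hi]
      · rw [Pi.single_eq_of_ne hk]
        exact (z2 (x k)).resolve_right fun h4 => hk (h2 k h4)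
    rw [h3, tot_single] at hx
    exact one_ne_zero hx
  by_cases h2 : ∀ k, x k = 1 → k = i ∨ k = j
  · refine ⟨i, j, Ne.symm hji, ?_⟩
    unfold pr
    congr 1
    funext k
    rw [Pi.add_apply]
    by_cases hk : k = i
    · subst hk; rw [Pi.single_eq_same, Pi.single_eq_of_ne (Ne.symm hji), hi, add_zero]
    by_cases hk' : k = j
    · subst hk'; rw [Pi.single_eq_same, Pi.single_eq_of_ne hk, hj, zero_add]
    rw [Pi.single_eq_of_ne hk, Pi.single_eq_of_ne hk', add_zero]
    exact (z2 (x k)).resolve_right fun h4 => by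
      rcases h2 k h4 with h5 | h5
      · exact hk h5
      · exact hk' h5
  exfalso
  push Not at h2
  obtain ⟨k, hk, hki, hkj⟩ := h2
  obtain ⟨a, ha⟩ : ∃ a, x a = 0 := by
    by_contra h3
    push Not at h3
    have h4 : x = 1 := by
      funext b
      exact (z2 (x b)).resolve_left (h3 b)
    rw [h4, tot_one hodd] at hx
    exact one_ne_zero hx
  by_cases h3 : ∀ b, x b = 0 → b = a
  · -- the centre is a point
    have h4 : x = Pi.single a 1 + 1 := by
      funext b
      rw [Pi.add_apply, Pi.one_apply]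
      by_cases hb : b = a
      · subst hb; rw [Pi.single_eq_same, ha]; decide
      · rw [Pi.single_eq_of_ne hb, zero_add]
        exact (z2 (x b)).resolve_left fun h5 => hb (h3 b h5)
    have h5 : e x = e (Pi.single a 1) := by rw [h4, h.add, h.one, mul_one]
    rw [h5] at h1
    obtain ⟨β, hβ, hβ1⟩ := h.exists_conj hα h1 (Equiv.swap a o)
    rw [single_comp, Equiv.swap_apply_left] at hβ1
    exact h.point hn hodd hβ hβ1
  push Not at h3
  obtain ⟨b, hb, hba⟩ := h3
  -- letters: `i, j, k` in the support, `a, b` outside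
  have hia : i ≠ a := fun h0 => by rw [h0, ha] at hi; exact zero_ne_one hi
  have hib : i ≠ b := fun h0 => by rw [h0, hb] at hi; exact zero_ne_one hi
  have hja : j ≠ a := fun h0 => by rw [h0, ha] at hj; exact zero_ne_one hj
  have hjb : j ≠ b := fun h0 => by rw [h0, hb] at hj; exact zero_ne_one hj
  have hka : k ≠ a := fun h0 => by rw [h0, ha] at hk; exact zero_ne_one hk
  have hkb : k ≠ b := fun h0 => by rw [h0, hb] at hk; exact zero_ne_one hk
  obtain ⟨β, hβ, hβ1⟩ := h.exists_conj hα h1 (Equiv.swap i a * Equiv.swap j b)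
  set y : Fin n → ZMod 2 := x + (Pi.single i 1 + Pi.single j 1) + (Pi.single a 1 + Pi.single b 1) with hy
  have hπ : (Equiv.swap i a * Equiv.swap j b).symm = Equiv.swap i a * Equiv.swap j b := by
    have h4 : Equiv.swap i a * Equiv.swap j b * (Equiv.swap i a * Equiv.swap j b) = 1 := by
      have h5 : Equiv.swap i a * Equiv.swap j b = Equiv.swap j b * Equiv.swap i a := by
        have h6 : (Equiv.swap i a).Disjoint (Equiv.swap j b) := by
          rw [Equiv.Perm.disjoint_iff_disjoint_support, Equiv.Perm.support_swap hia, Equiv.Perm.support_swap hjb]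
          simp [hji, Ne.symm hji, hib, Ne.symm hib, hja, Ne.symm hja, hba, Ne.symm hba]
        exact h6.commute
      calc Equiv.swap i a * Equiv.swap j b * (Equiv.swap i a * Equiv.swap j b)
          = Equiv.swap i a * Equiv.swap j b * (Equiv.swap j b * Equiv.swap i a) := by rw [← h5]
        _ = Equiv.swap i a * (Equiv.swap j b * Equiv.swap j b) * Equiv.swap i a := by group
        _ = 1 := by rw [Equiv.swap_mul_self, mul_one, Equiv.swap_mul_self]
    exact inv_eq_of_mul_eq_one_left h4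
  have hxy : x ∘ (Equiv.swap i a * Equiv.swap j b).symm = y := by
    funext m
    rw [hπ, Function.comp_apply, Equiv.Perm.mul_apply]
    simp only [hy, Pi.add_apply]
    by_cases m1 : m = i
    · subst m1
      rw [Equiv.swap_apply_of_ne_of_ne (Ne.symm hji) hib, Equiv.swap_apply_left, Pi.single_eq_same,
        Pi.single_eq_of_ne (Ne.symm hji), Pi.single_eq_of_ne hia, Pi.single_eq_of_ne hib, ha, hi]
      decide
    by_cases m2 : m = j
    · subst m2
      rw [Equiv.swap_apply_left, Equiv.swap_apply_of_ne_of_ne (Ne.symm hib) hba, Pi.single_eq_same,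
        Pi.single_eq_of_ne hji, Pi.single_eq_of_ne hja, Pi.single_eq_of_ne hjb, hb, hj]
      decide
    by_cases m3 : m = a
    · subst m3
      rw [Equiv.swap_apply_of_ne_of_ne (Ne.symm hja) (Ne.symm hba), Equiv.swap_apply_right, Pi.single_eq_same,
        Pi.single_eq_of_ne (Ne.symm hia), Pi.single_eq_of_ne (Ne.symm hja), Pi.single_eq_of_ne (Ne.symm hba), ha, hi]
      decide
    by_cases m4 : m = b
    · subst m4
      rw [Equiv.swap_apply_right, Equiv.swap_apply_of_ne_of_ne hji hja, Pi.single_eq_same,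
        Pi.single_eq_of_ne (Ne.symm hib), Pi.single_eq_of_ne (Ne.symm hjb), Pi.single_eq_of_ne hba, hb, hj]
      decide
    rw [Equiv.swap_apply_of_ne_of_ne m2 m4, Equiv.swap_apply_of_ne_of_ne m1 m3, Pi.single_eq_of_ne m1,
      Pi.single_eq_of_ne m2, Pi.single_eq_of_ne m3, Pi.single_eq_of_ne m4]
    simp
  rw [hxy] at hβ1
  obtain ⟨τ, hτ, hτa⟩ := h.full (Equiv.swap i j)
  obtain ⟨ρ, hρ, hρa⟩ := h.full (Equiv.swap a b)
  have hτ1 := h.tr_pair (by omega) hodd (Ne.symm hji) hτa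
  have hρ1 := h.tr_pair (by omega) hodd (Ne.symm hba) hρa
  have hyi : y i = 0 := by
    simp only [hy, Pi.add_apply]
    rw [Pi.single_eq_same, Pi.single_eq_of_ne (Ne.symm hji), Pi.single_eq_of_ne hia, Pi.single_eq_of_ne hib, hi]
    decide
  have hyj : y j = 0 := by
    simp only [hy, Pi.add_apply]
    rw [Pi.single_eq_same, Pi.single_eq_of_ne hji, Pi.single_eq_of_ne hja, Pi.single_eq_of_ne hjb, hj]
    decide
  have hya : y a = 1 := by
    simp only [hy, Pi.add_apply]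
    rw [Pi.single_eq_same, Pi.single_eq_of_ne (Ne.symm hia), Pi.single_eq_of_ne (Ne.symm hja),
      Pi.single_eq_of_ne (Ne.symm hba), ha]
    decide
  have hyb : y b = 1 := by
    simp only [hy, Pi.add_apply]
    rw [Pi.single_eq_same, Pi.single_eq_of_ne (Ne.symm hib), Pi.single_eq_of_ne (Ne.symm hjb),
      Pi.single_eq_of_ne hba, hb]
    decide
  have hyk : y k = 1 := by
    simp only [hy, Pi.add_apply]
    rw [Pi.single_eq_of_ne hki, Pi.single_eq_of_ne hkj, Pi.single_eq_of_ne hka, Pi.single_eq_of_ne hkb, hk]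
    decide
  -- the relation
  have hrel : e x * e y = pr e i j * pr e a b := by
    unfold pr
    rw [← h.add, ← h.add]
    congr 1
    rw [hy, add_assoc x, ← add_assoc x x, vec_self, zero_add]
  -- fixed centres
  have f1 : τ (e x) = e x := (h.ac_swap hτa x).1 (by rw [hi, hj])
  have f2 : ρ (e x) = e x := (h.ac_swap hρa x).1 (by rw [ha, hb])
  have f3 : τ (e y) = e y := (h.ac_swap hτa y).1 (by rw [hyi, hyj])
  have f4 : ρ (e y) = e y := (h.ac_swap hρa y).1 (by rw [hya, hyb])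
  have hn3 : 3 ≤ n := by omega
  have f5 : α (pr e i j) = pr e i j := h.symm hn3 hodd hα hτ h1 hτ1 f1
  have f6 : α (pr e a b) = pr e a b := h.symm hn3 hodd hα hρ h1 hρ1 f2
  have f7 : β (pr e i j) = pr e i j := h.symm hn3 hodd hβ hτ hβ1 hτ1 f3
  have f8 : β (pr e a b) = pr e a b := h.symm hn3 hodd hβ hρ hβ1 hρ1 f4
  have hyx : e y = e x * (pr e i j * pr e a b) := by
    rw [← hrel, ← mul_assoc, h.sq, one_mul]
  have f9 : α (e y) = e y := by
    rw [hyx, map_mul, map_mul, h1.fix h.sq, f5, f6]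
  have f10 : β (e x) = e x := h.symm hn3 hodd hβ hα hβ1 h1 f9
  have f11 : τ (pr e a b) = pr e a b := (h.ac_swap hτa _).1 (by
    rw [Pi.add_apply, Pi.add_apply, Pi.single_eq_of_ne hia, Pi.single_eq_of_ne hib, Pi.single_eq_of_ne hja,
      Pi.single_eq_of_ne hjb])
  have f12 : ρ (pr e i j) = pr e i j := h.symm hn3 hodd hρ hτ hρ1 hτ1 f11
  -- commuting
  have c1 := Tr.comm h.sq h1 hβ1 f9 f10
  have c2 := Tr.comm h.sq h1 hτ1 f5 f1
  have c3 := Tr.comm h.sq h1 hρ1 f6 f2
  have c4 := Tr.comm h.sq hβ1 hτ1 f7 f3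
  have c5 := Tr.comm h.sq hβ1 hρ1 f8 f4
  have c6 := Tr.comm h.sq hτ1 hρ1 f11 f12
  obtain ⟨g, hg, h5, -⟩ := h.fam hodd (B := {α, β, τ, ρ}) (by
    rintro u (rfl | rfl | rfl | rfl)
    · exact hα
    · exact hβ
    · exact hτ
    · exact hρ) (by
    rintro u (rfl | rfl | rfl | rfl) v (rfl | rfl | rfl | rfl)
    all_goals first | rfl | assumption | (symm; assumption)) (by
    rintro u (rfl | rfl | rfl | rfl)
    · exact ⟨_, h1⟩
    · exact ⟨_, hβ1⟩
    · exact ⟨_, hτ1⟩
    · exact ⟨_, hρ1⟩)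
  obtain ⟨i0, j0, n0, -, e0⟩ := h5 α (Or.inl rfl) _ h1
  obtain ⟨i1, j1, n1, a1, e1⟩ := h5 β (Or.inr (Or.inl rfl)) _ hβ1
  obtain ⟨i2, j2, n2, a2, e2⟩ := h5 τ (Or.inr (Or.inr (Or.inl rfl))) _ hτ1
  obtain ⟨i3, j3, n3, a3, e3⟩ := h5 ρ (Or.inr (Or.inr (Or.inr rfl))) _ hρ1
  -- a commuting transposition with another centre does not move `i0`
  have off : ∀ (γ : MulAut A) (k l : Fin n), Ac e (g * γ * g⁻¹) (Equiv.swap k l) → k ≠ l → γ (e x) = e x →
      pr e i0 j0 ≠ pr e k l → i0 ≠ k ∧ i0 ≠ l := by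
    intro γ k l h6 hkl h7 h8
    have h9 : (g * γ * g⁻¹) (pr e i0 j0) = pr e i0 j0 := by
      rw [← e0]
      change g (γ (g⁻¹ (g (e x)))) = g (e x)
      rw [← MulAut.mul_apply _ g⁻¹ g, inv_mul_cancel, MulAut.one_apply, h7]
    have h10 : (Pi.single i0 1 + Pi.single j0 1 : Fin n → ZMod 2) k =
        (Pi.single i0 1 + Pi.single j0 1 : Fin n → ZMod 2) l := by
      by_contra h11
      have h12 := (h.ac_swap h6 _).2 h11
      change (g * γ * g⁻¹) (pr e i0 j0) = pr e i0 j0 * pr e k l at h12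
      rw [h9] at h12
      exact h.pr_ne hodd hkl (left_eq_mul.mp h12)
    rw [Pi.add_apply, Pi.add_apply] at h10
    constructor
    · rintro rfl
      rw [Pi.single_eq_same, Pi.single_eq_of_ne n0, add_zero, Pi.single_eq_of_ne (Ne.symm hkl), zero_add] at h10
      by_cases h11 : l = j0
      · exact h8 (by rw [h11])
      · rw [Pi.single_eq_of_ne h11] at h10
        exact one_ne_zero h10
    · rintro rfl
      rw [Pi.single_eq_of_ne hkl, zero_add, Pi.single_eq_same, Pi.single_eq_of_ne n0, add_zero] at h10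
      by_cases h11 : k = j0
      · exact h8 (by rw [h11]; exact h.pr_symm _ _)
      · rw [Pi.single_eq_of_ne h11] at h10
        exact zero_ne_one h10
  have hty : tot y = 0 := by
    rw [hy, tot_add, tot_add, hx, tot_pr, tot_pr]
    decide
  have d1 : e x ≠ e y := by
    intro h6
    have h7 := congrFun (h.inj_tot hodd h6 (by rw [hx, hty])) i
    rw [hi, hyi] at h7
    exact one_ne_zero h7
  have d2 : e x ≠ pr e i j := by
    intro h6
    have h7 := congrFun (h.inj_tot hodd h6 (by rw [hx, tot_pr])) k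
    rw [hk, Pi.add_apply, Pi.single_eq_of_ne hki, Pi.single_eq_of_ne hkj] at h7
    exact one_ne_zero h7
  have d3 : e x ≠ pr e a b := by
    intro h6
    have h7 := congrFun (h.inj_tot hodd h6 (by rw [hx, tot_pr])) i
    rw [hi, Pi.add_apply, Pi.single_eq_of_ne hia, Pi.single_eq_of_ne hib] at h7
    exact one_ne_zero h7
  obtain ⟨o1, o1'⟩ := off β i1 j1 a1 n1 f10 (by rw [← e0, ← e1]; exact fun h6 => d1 (g.injective h6))
  obtain ⟨o2, o2'⟩ := off τ i2 j2 a2 n2 f1 (by rw [← e0, ← e2]; exact fun h6 => d2 (g.injective h6))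
  obtain ⟨o3, o3'⟩ := off ρ i3 j3 a3 n3 f2 (by rw [← e0, ← e3]; exact fun h6 => d3 (g.injective h6))
  have h6 := congrArg g hrel
  rw [map_mul, map_mul, e0, e1, e2, e3] at h6
  unfold pr at h6
  rw [← h.add, ← h.add] at h6
  have htt : ∀ p q r s : Fin n, tot (Pi.single p 1 + Pi.single q 1 + (Pi.single r 1 + Pi.single s 1) :
      Fin n → ZMod 2) = 0 := by
    intro p q r s
    rw [tot_add, tot_pr, tot_pr, add_zero]
  have h7 := congrFun (h.inj_tot hodd h6 (by rw [htt, htt])) i0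
  simp only [Pi.add_apply] at h7
  rw [Pi.single_eq_same, Pi.single_eq_of_ne n0, Pi.single_eq_of_ne o1, Pi.single_eq_of_ne o1', Pi.single_eq_of_ne o2,
    Pi.single_eq_of_ne o2', Pi.single_eq_of_ne o3, Pi.single_eq_of_ne o3'] at h7
  revert h7
  decide


theorem share (hodd : Odd n) {k l a b u v : Fin n} (hkl : k ≠ l) (h1 : pr e k l * pr e a b = pr e u v) :
    k = a ∨ k = b ∨ l = a ∨ l = b ∨ a = b := by
  by_contra h2
  push Not at h2
  obtain ⟨h3, h4, h5, h6, h7⟩ := h2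
  unfold pr at h1
  rw [← h.add] at h1
  have h8 := h.inj_tot hodd h1 (by rw [tot_add, tot_pr, tot_pr, tot_pr, add_zero])
  have hk := congrFun h8 k
  have hl := congrFun h8 l
  have ha := congrFun h8 a
  simp only [Pi.add_apply] at hk hl ha
  rw [Pi.single_eq_same, Pi.single_eq_of_ne hkl, Pi.single_eq_of_ne h3, Pi.single_eq_of_ne h4] at hk
  rw [Pi.single_eq_same, Pi.single_eq_of_ne hkl.symm, Pi.single_eq_of_ne h5, Pi.single_eq_of_ne h6] at hl
  rw [Pi.single_eq_same, Pi.single_eq_of_ne (Ne.symm h3), Pi.single_eq_of_ne (Ne.symm h5),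
    Pi.single_eq_of_ne h7] at ha
  have key : ∀ m : Fin n, (1 : ZMod 2) = (Pi.single u 1 : Fin n → ZMod 2) m + (Pi.single v 1 : Fin n → ZMod 2) m →
      m = u ∨ m = v := by
    intro m hm
    by_contra h9
    push Not at h9
    rw [Pi.single_eq_of_ne h9.1, Pi.single_eq_of_ne h9.2] at hm
    revert hm
    decide
  have k1 := key k (by rw [← hk]; decide)
  have k2 := key l (by rw [← hl]; decide)
  have k3 := key a (by rw [← ha]; decide)
  rcases k1 with rfl | rfl
  · rcases k2 with h9 | rfl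
    · exact hkl h9.symm
    · rcases k3 with h9 | h9
      · exact h3 h9.symm
      · exact h5 h9.symm
  · rcases k2 with rfl | h9
    · rcases k3 with h9 | h9
      · exact h5 h9.symm
      · exact h3 h9.symm
    · exact hkl h9.symm

/-- the star -/
theorem star (hn : 5 ≤ n) (hodd : Odd n) {α : MulAut A}
    (hα : ∀ i j, i ≠ j → ∃ k l, k ≠ l ∧ α (pr e i j) = pr e k l) (i : Fin n) :
    ∃ a, ∀ j, j ≠ i → ∃ b, b ≠ a ∧ α (pr e i j) = pr e a b := by
  obtain ⟨j₁, -, h1⟩ := Finset.exists_mem_notMem_of_card_lt_card (s := ({i} : Finset (Fin n)))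
    (t := Finset.univ) (by rw [Finset.card_univ, Fintype.card_fin, Finset.card_singleton]; omega)
  obtain ⟨j₂, -, h2⟩ := Finset.exists_mem_notMem_of_card_lt_card (s := ({i, j₁} : Finset (Fin n)))
    (t := Finset.univ) (by
      rw [Finset.card_univ, Fintype.card_fin]
      exact lt_of_le_of_lt Finset.card_le_two (by omega))
  simp only [Finset.mem_insert, Finset.mem_singleton, not_or] at h1 h2
  -- `{a, b}`, `{a, c}`
  have hab : ∃ a b c, a ≠ b ∧ a ≠ c ∧ b ≠ c ∧ α (pr e i j₁) = pr e a b ∧ α (pr e i j₂) = pr e a c := by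
    obtain ⟨k, l, hkl, e1⟩ := hα i j₁ (Ne.symm h1)
    obtain ⟨k', l', hkl', e2⟩ := hα i j₂ (Ne.symm h2.1)
    obtain ⟨u, v, -, e3⟩ := hα j₁ j₂ (Ne.symm h2.2)
    have h3 : pr e k l * pr e k' l' = pr e u v := by
      rw [← e1, ← e2, ← e3, ← map_mul, h.pr_symm i j₁, h.pr_add]
    have hne : pr e k l ≠ pr e k' l' := by
      rw [← e1, ← e2]
      intro h4
      rcases h.pr_eq hodd (Ne.symm h1) (α.injective h4) with ⟨-, h5⟩ | ⟨h5, h6⟩
      · exact h2.2 h5.symm
      · exact h1 h6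
    rcases h.share hodd hkl h3 with h4 | h4 | h4 | h4 | h4
    · subst h4
      exact ⟨k, l, l', hkl, hkl', fun h5 => hne (by rw [h5]), e1, e2⟩
    · subst h4
      exact ⟨k, l, k', hkl, hkl'.symm, fun h5 => hne (by rw [h5]; exact h.pr_symm _ _), e1,
        by rw [e2]; exact h.pr_symm _ _⟩
    · subst h4
      exact ⟨l, k, l', hkl.symm, hkl', fun h5 => hne (by rw [h5]; exact h.pr_symm _ _),
        by rw [e1]; exact h.pr_symm _ _, e2⟩
    · subst h4
      exact ⟨l, k, k', hkl.symm, hkl'.symm, fun h5 => hne (by rw [h5]), by rw [e1]; exact h.pr_symm _ _,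
        by rw [e2]; exact h.pr_symm _ _⟩
    · exact absurd h4 hkl'
  obtain ⟨a, b, c, n1, n2, n3, e1, e2⟩ := hab
  refine ⟨a, fun j hj => ?_⟩
  by_cases hj1 : j = j₁
  · subst hj1; exact ⟨b, n1.symm, e1⟩
  by_cases hj2 : j = j₂
  · subst hj2; exact ⟨c, n2.symm, e2⟩
  obtain ⟨k, l, hkl, e3⟩ := hα i j (Ne.symm hj)
  obtain ⟨u, v, -, e4⟩ := hα j j₁ hj1
  obtain ⟨u', v', -, e5⟩ := hα j j₂ hj2
  have h3 : pr e k l * pr e a b = pr e u v := by
    rw [← e1, ← e3, ← e4, ← map_mul, h.pr_symm i j, h.pr_add]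
  have h4 : pr e k l * pr e a c = pr e u' v' := by
    rw [← e2, ← e3, ← e5, ← map_mul, h.pr_symm i j, h.pr_add]
  by_cases hka : k = a
  · subst hka; exact ⟨l, hkl.symm, e3⟩
  by_cases hla : l = a
  · subst hla; exact ⟨k, hkl, by rw [e3]; exact h.pr_symm _ _⟩
  exfalso
  have h5 : pr e k l = pr e b c := by
    rcases h.share hodd hkl h3 with h5 | h5 | h5 | h5 | h5
    · exact absurd h5 hka
    · rcases h.share hodd hkl h4 with h6 | h6 | h6 | h6 | h6
      · exact absurd h6 hka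
      · exact absurd (h5.symm.trans h6) n3
      · exact absurd h6 hla
      · rw [h5, h6]
      · exact absurd h6 n2
    · exact absurd h5 hla
    · rcases h.share hodd hkl h4 with h6 | h6 | h6 | h6 | h6
      · exact absurd h6 hka
      · rw [h5, h6]; exact h.pr_symm _ _
      · exact absurd h6 hla
      · exact absurd (h5.symm.trans h6) n3
      · exact absurd h6 n2
    · exact absurd h5 n1
  have h6 : α (pr e j₁ j₂) = pr e b c := by
    have h7 : pr e j₁ j₂ = pr e i j₁ * pr e i j₂ := by rw [h.pr_symm i j₁, h.pr_add]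
    rw [h7, map_mul, e1, e2, h.pr_symm a b, h.pr_add]
  have h7 := α.injective (h6.trans (h5.symm.trans e3.symm))
  rcases h.pr_eq hodd (Ne.symm h2.2) h7 with ⟨h8, -⟩ | ⟨-, h8⟩
  · exact h1 h8
  · exact h2.1 h8

/-- **every element of `L` is a permutation.** -/
theorem main (hn : 5 ≤ n) (hodd : Odd n) [Finite A] {α : MulAut A} (hα : α ∈ L) : ∃ σ, Ac e α σ := by
  have hpair : ∀ i j, i ≠ j → ∃ k l, k ≠ l ∧ α (pr e i j) = pr e k l := by
    intro i j hij
    obtain ⟨τ, hτ, hτa⟩ := h.full (Equiv.swap i j)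
    exact h.centre hn hodd (mul_mem (mul_mem hα hτ) (inv_mem hα))
      ((h.tr_pair (by omega) hodd hij hτa).conj α)
  choose f hf using h.star hn hodd hpair
  have hinj : Function.Injective f := by
    intro i j hij
    by_contra hne
    obtain ⟨k, -, hk⟩ := Finset.exists_mem_notMem_of_card_lt_card (s := ({i, j} : Finset (Fin n)))
      (t := Finset.univ) (by
        rw [Finset.card_univ, Fintype.card_fin]
        exact lt_of_le_of_lt Finset.card_le_two (by omega))
    simp only [Finset.mem_insert, Finset.mem_singleton, not_or] at hk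
    obtain ⟨b, hb, e1⟩ := hf i j (Ne.symm hne)
    obtain ⟨c, hc, e2⟩ := hf i k hk.1
    obtain ⟨d, hd, e3⟩ := hf j k hk.2
    have h1 : pr e (f i) b = pr e c d := by
      have h2 : pr e i j = pr e i k * pr e j k := by rw [h.pr_symm j k, h.pr_add]
      rw [← e1, h2, map_mul, e2, e3, ← hij, h.pr_symm (f i) c, h.pr_add]
    rcases h.pr_eq hodd (Ne.symm hb) h1 with ⟨h2, -⟩ | ⟨h2, -⟩
    · exact hc h2.symm
    · rw [hij] at h2
      exact hd h2.symm
  let σ : Equiv.Perm (Fin n) := Equiv.ofBijective f ((Finite.injective_iff_bijective).mp hinj)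
  have hσ : ∀ i, σ i = f i := fun _ => rfl
  obtain ⟨τ, hτ, hτa⟩ := h.full σ
  have hpr : ∀ i j, i ≠ j → α (pr e i j) = τ (pr e i j) := by
    intro i j hij
    rw [hτa.pr, hσ, hσ]
    obtain ⟨b, hb, e1⟩ := hf i j (Ne.symm hij)
    obtain ⟨c, hc, e2⟩ := hf j i hij
    rw [h.pr_symm j i, e1] at e2
    rcases h.pr_eq hodd (Ne.symm hb) e2 with ⟨h2, -⟩ | ⟨-, h2⟩
    · exact absurd (hinj h2) hij
    · rw [e1, h2]
  let H : Subgroup A :=
    { carrier := {a | α a = τ a}
      one_mem' := by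
        change α 1 = τ 1
        rw [map_one, map_one]
      mul_mem' := fun {x y} hx hy => by
        change α (x * y) = τ (x * y)
        rw [map_mul, map_mul, show α x = τ x from hx, show α y = τ y from hy]
      inv_mem' := fun {x} hx => by
        change α x⁻¹ = τ x⁻¹
        rw [map_inv, map_inv, show α x = τ x from hx] }
  refine ⟨σ, fun x => ?_⟩
  have h1 : α (e x) = τ (e x) := h.gen hodd H hpr (e x)
  rw [h1, hτa]

end Md

end abs

/-! ### groups -/

section grp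

open Cfsg.Agent.Omega.S5.Def Cfsg.Agent.Omega.S5.Syl

variable {G : Type u} [Group G] {n : ℕ} {V P : Subgroup G} {ε : (Fin n → ZMod 2) → G}

/-- **`N_G(V)` acts as the symmetric group.** -/
theorem evenSet [Finite G] (hn : 5 ≤ n) (hodd : Odd n) (S : Sylow 2 G) (h : EvenSet n V P ε)
    (hSP : (S : Subgroup G) ≤ P) {o : Fin n}
    (ho : ∀ s ∈ (S : Subgroup G), ∀ σ : Equiv.Perm (Fin n), Acts ε s σ → σ o = o) :
    EvenSet n V (normalizer (V : Set G)) ε := by
  classical
  have hf : Fact (Nat.Prime 2) := ⟨Nat.prime_two⟩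
  letI : CommGroup V := { (inferInstance : Group V) with mul_comm := fun a b => Subtype.ext (h.comm_mem a.2 b.2) }
  have hPN : P ≤ normalizer (V : Set G) := h.le_normalizer
  have hSN : (S : Subgroup G) ≤ normalizer (V : Set G) := hSP.trans hPN
  let π : normalizer (V : Set G) →* MulAut V := V.normalizerMonoidHom
  have hπ : ∀ (g : normalizer (V : Set G)) (v : V), ((π g v : V) : G) = g * v * (g : G)⁻¹ := fun _ _ => rfl
  let e : (Fin n → ZMod 2) → V := fun x => ⟨ε x, h.mem x⟩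
  have hAc : ∀ (g : normalizer (V : Set G)) (σ : Equiv.Perm (Fin n)), Ac e (π g) σ ↔ Acts ε (g : G) σ := by
    intro g σ
    constructor
    · intro h1 x
      exact congrArg Subtype.val (h1 x)
    · intro h1 x
      exact Subtype.ext (h1 x)
  let T : Subgroup (normalizer (V : Set G)) := (S : Subgroup G).subgroupOf (normalizer (V : Set G))
  have hT : IsPGroup 2 T := S.isPGroup'.comap_of_injective _ (Subgroup.subtype_injective _)
  have hTi : ¬ 2 ∣ T.index := MinSimple.Basic.not_dvd_relIndex S hSN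
  let π' : normalizer (V : Set G) →* π.range := π.rangeRestrict
  have hπ' : Function.Surjective π' := π.rangeRestrict_surjective
  have hM : Md e π.range (T.map π) o :=
    { add := fun x y => Subtype.ext (h.add x y)
      surj := fun a => by
        obtain ⟨x, hx⟩ := h.surj a a.2
        exact ⟨x, Subtype.ext hx⟩
      ker := fun x => by
        rw [← h.ker x]
        exact ⟨fun h1 => congrArg Subtype.val h1, fun h1 => Subtype.ext h1⟩
      full := fun σ => by
        obtain ⟨g, hg, hσ⟩ := h.full σ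
        exact ⟨π ⟨g, hPN hg⟩, ⟨_, rfl⟩, (hAc ⟨g, hPN hg⟩ σ).mpr hσ⟩
      sub := by
        rintro _ ⟨g, -, rfl⟩
        exact ⟨g, rfl⟩
      two := hT.map π
      perm := by
        rintro _ ⟨g, hg, rfl⟩
        have hgS : (g : G) ∈ (S : Subgroup G) := hg
        obtain ⟨σ, hσ⟩ := h.perm g (hSP hgS)
        exact ⟨σ, (hAc g σ).mpr hσ, ho g hgS σ hσ⟩
      conj := by
        intro X hX hX2
        have hX' : IsPGroup 2 (X.subgroupOf π.range) := hX2.comap_of_injective _ (Subgroup.subtype_injective _)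
        obtain ⟨Q, hQ⟩ := hX'.exists_le_sylow
        obtain ⟨g, hg⟩ := MulAction.exists_smul_eq π.range Q ((hT.toSylow hTi).mapSurjective hπ')
        refine ⟨g, g.2, fun x hx => ?_⟩
        have h1 : (⟨x, hX hx⟩ : π.range) ∈ (Q : Subgroup π.range) := hQ hx
        have h2 : g * ⟨x, hX hx⟩ * g⁻¹ ∈ ((g • Q : Sylow 2 π.range) : Subgroup π.range) := by
          rw [Sylow.coe_subgroup_smul]
          exact Subgroup.smul_mem_pointwise_smul _ (MulAut.conj g) _ h1
        rw [hg] at h2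
        obtain ⟨t, ht, h3⟩ := h2
        exact ⟨t, ht, congrArg Subtype.val h3⟩ }
  refine h.change (fun g hg => ?_) (fun σ => ?_)
  · obtain ⟨σ, hσ⟩ := hM.main hn hodd (α := π ⟨g, hg⟩) ⟨_, rfl⟩
    exact ⟨σ, (hAc ⟨g, hg⟩ σ).mp hσ⟩
  · obtain ⟨g, hg, hσ⟩ := h.full σ
    exact ⟨g, hPN hg, hσ⟩

/-- The version with `Fix0`. -/
theorem evenSet' [Finite G] {m : ℕ} (hm : 2 ≤ m) (S : Sylow 2 G) {ε : (Fin (2 ^ m + 1) → ZMod 2) → G}
    (h : EvenSet (2 ^ m + 1) V P ε) (hSP : (S : Subgroup G) ≤ P) (h0 : Fix0 ε (S : Subgroup G)) :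
    EvenSet (2 ^ m + 1) V (normalizer (V : Set G)) ε := by
  have h4 : 2 ^ 2 ≤ 2 ^ m := Nat.pow_le_pow_right (by norm_num) hm
  refine evenSet (by omega) ?_ S h hSP (o := 0) fun s hs σ hσ => h0 s hs σ hσ
  exact ⟨2 ^ (m - 1), by rw [← pow_succ']; congr 2; omega⟩

end grp

end Cfsg.Agent.Omega.NSix.Norm

end

section


/-!
# OMEGA N6, the end for a pair `V`, `V'` of any two types (#15496 (r3), helper864)

`V`, `V'` are even-subset modules of degrees `2^m + 1`, `2^m' + 1`, acting on each other as one transposition, with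
the common pair `r = r_ij = r'_i'j'`.

* `TT.le_of_nn` : `C_G(r) ≤ N_G(V)` implies `m ≤ m'`;
* `TT.false` : `m = m'` and `C_G(r_kl) ≤ N_G(V)`, `C_G(r'_kl) ≤ N_G(V')` for all pairs is impossible.
-/

set_option autoImplicit false

namespace Cfsg.Agent.Omega.NSix.RThree

open Subgroup Cfsg Cfsg.Agent.ZN Cfsg.Agent.MinSimple.VModule
open Cfsg.Agent.Omega.S5.Def Cfsg.Agent.Omega.S5.Syl Cfsg.Agent.Omega.NSix.Base Cfsg.Agent.Omega.NSix.Basic
open Cfsg.Agent.Omega.NSix.CosetAct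

universe u

variable {G : Type u} [Group G]

/-- one member -/
structure Mem (S : Sylow 2 G) (V : Subgroup G) {m : ℕ} (ε : (Fin (2 ^ m + 1) → ZMod 2) → G) : Prop where
  two_le : 2 ≤ m
  ev : EvenSet (2 ^ m + 1) V (normalizer (V : Set G)) ε
  le : (S : Subgroup G) ≤ normalizer (V : Set G)
  fix0 : Fix0 ε (S : Subgroup G)
  zc : ∀ x : G, x * x = 1 → (∀ s ∈ (S : Subgroup G), s * x = x * s) → x = 1 ∨ x = zz ε 0

/-- a pair acting on each other as transpositions -/
structure TT (S S' : Sylow 2 G) (V V' : Subgroup G) {m m' : ℕ} (ε : (Fin (2 ^ m + 1) → ZMod 2) → G)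
    (ε' : (Fin (2 ^ m' + 1) → ZMod 2) → G) (i j : Fin (2 ^ m + 1)) (i' j' : Fin (2 ^ m' + 1)) : Prop where
  mem : Mem S V ε
  mem' : Mem S' V' ε'
  ne : i ≠ j
  ne' : i' ≠ j'
  act : ∀ b ∈ V', Acts ε b 1 ∨ Acts ε b (Equiv.swap i j)
  mov : ∃ b ∈ V', Acts ε b (Equiv.swap i j)
  act' : ∀ b ∈ V, Acts ε' b 1 ∨ Acts ε' b (Equiv.swap i' j')
  mov' : ∃ b ∈ V, Acts ε' b (Equiv.swap i' j')
  in_ : V ≤ (S' : Subgroup G)
  in' : V' ≤ (S : Subgroup G)

theorem Mem.three {S : Sylow 2 G} {V : Subgroup G} {m : ℕ} {ε : (Fin (2 ^ m + 1) → ZMod 2) → G} (h : Mem S V ε) :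
    3 ≤ 2 ^ m + 1 := three_le (by have := h.two_le; omega)

/-- a transposition on `V` -/
theorem acts_swap' {n : ℕ} {V L : Subgroup G} {ε : (Fin n → ZMod 2) → G} (h : EvenSet n V L ε) {g : G} {i j : Fin n}
    (hg : Acts ε g (Equiv.swap i j)) (x : Fin n → ZMod 2) :
    (x i = x j → g * ε x * g⁻¹ = ε x) ∧ (x i ≠ x j → g * ε x * g⁻¹ = ε x * rr ε i j) := by
  constructor
  · intro h2
    rw [hg]
    congr 1
    funext k
    rw [Function.comp_apply, Equiv.symm_swap]
    by_cases e1 : k = i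
    · subst e1; rw [Equiv.swap_apply_left, h2]
    by_cases e2 : k = j
    · subst e2; rw [Equiv.swap_apply_right, h2]
    rw [Equiv.swap_apply_of_ne_of_ne e1 e2]
  · intro h2
    have hij : i ≠ j := fun h0 => h2 (by rw [h0])
    rw [hg]
    unfold rr zz
    rw [← h.add, ← h.add]
    congr 1
    funext k
    rw [Function.comp_apply, Equiv.symm_swap, Pi.add_apply, Pi.add_apply]
    by_cases e1 : k = i
    · subst e1
      rw [Equiv.swap_apply_left, Pi.single_eq_same, Pi.single_eq_of_ne hij, add_zero]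
      exact Norm.z2_ne h2.symm
    by_cases e2 : k = j
    · subst e2
      rw [Equiv.swap_apply_right, Pi.single_eq_same, Pi.single_eq_of_ne e1, zero_add]
      exact Norm.z2_ne h2
    rw [Equiv.swap_apply_of_ne_of_ne e1 e2, Pi.single_eq_of_ne e1, Pi.single_eq_of_ne e2, add_zero, add_zero]

namespace TT

variable {S S' : Sylow 2 G} {V V' : Subgroup G} {m m' : ℕ} {ε : (Fin (2 ^ m + 1) → ZMod 2) → G}
  {ε' : (Fin (2 ^ m' + 1) → ZMod 2) → G} {i j : Fin (2 ^ m + 1)} {i' j' : Fin (2 ^ m' + 1)}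
  (h : TT S S' V V' ε ε' i j i' j')
include h

theorem symm : TT S' S V' V ε' ε i' j' i j :=
  ⟨h.mem', h.mem, h.ne', h.ne, h.act', h.mov', h.act, h.mov, h.in', h.in_⟩

/-- the common pair -/
theorem rr_eq : rr ε i j = rr ε' i' j' := by
  obtain ⟨b, hb, hb1⟩ := h.mov
  obtain ⟨a, ha, ha1⟩ := h.mov'
  have n1 : b ∉ centralizer (V : Set G) := by
    intro h0
    have h1 := h.mem.ev.acts_unique h.mem.three (h.mem.ev.acts_one_iff.mpr h0) hb1
    exact h.ne (Equiv.swap_eq_one_iff.mp h1.symm)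
  -- a common witness: `a` moved by `b`
  obtain ⟨x, rfl⟩ := h.mem.ev.surj a ha
  obtain ⟨y, rfl⟩ := h.mem'.ev.surj b hb
  by_cases hx : x i = x j
  · -- `a` is fixed by `V'`
    exfalso
    have h1 : ∀ c ∈ V', c * ε x * c⁻¹ = ε x := by
      intro c hc
      rcases h.act c hc with h2 | h2
      · exact h2 x
      · exact (acts_swap' h.mem.ev h2 x).1 hx
    have h2 : ε x ∈ centralizer (V' : Set G) := by
      rw [mem_centralizer_iff]
      intro c hc
      rw [← h1 c hc]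
      have h3 := h1 c hc
      rw [h3]
      rw [mul_inv_eq_iff_eq_mul] at h3
      exact h3
    have h3 := h.mem'.ev.acts_unique h.mem'.three (h.mem'.ev.acts_one_iff.mpr h2) ha1
    exact h.ne' (Equiv.swap_eq_one_iff.mp h3.symm)
  by_cases hy : y i' = y j'
  · exfalso
    have h1 := (acts_swap' h.mem'.ev ha1 y).1 hy
    have h2 := (acts_swap' h.mem.ev hb1 x).2 hx
    have h3 : ε' y * ε x * (ε' y)⁻¹ = ε x := by
      rw [mul_inv_eq_iff_eq_mul] at h1 ⊢
      exact h1.symm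
    rw [h3] at h2
    exact rr_ne_one h.mem.ev h.mem.three h.ne (left_eq_mul.mp h2)
  · have h1 := (acts_swap' h.mem'.ev ha1 y).2 hy
    have h2 := (acts_swap' h.mem.ev hb1 x).2 hx
    -- `ε y * ε x * ε y⁻¹ = ε x * r`, `ε x * ε y * ε x⁻¹ = ε y * r'`
    have e1 : rr ε i j = (ε x)⁻¹ * (ε' y * ε x * (ε' y)⁻¹) := by rw [h2]; group
    have e2 : rr ε' i' j' = (ε' y)⁻¹ * (ε x * ε' y * (ε x)⁻¹) := by rw [h1]; group
    have e3 : (rr ε' i' j')⁻¹ = rr ε' i' j' := rr_inv h.mem'.ev _ _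
    rw [← e3, e2, e1, h.mem.ev.inv x]
    have e4 : (ε' y)⁻¹ = ε' y := h.mem'.ev.inv y
    rw [e4]
    simp only [mul_inv_rev, h.mem.ev.inv x, e4]
    group

end TT

/-! ### `m ≤ m'` -/

section count

variable [Finite G]

/-- `|C_S(r_kl)| ≤ |S| / 2^(m-1)` -/
theorem Mem.card_le {S : Sylow 2 G} {V : Subgroup G} {m : ℕ} {ε : (Fin (2 ^ m + 1) → ZMod 2) → G} (h : Mem S V ε)
    {k l : Fin (2 ^ m + 1)} (hkl : k ≠ l) :
    Nat.card ((S : Subgroup G) ⊓ centralizer {rr ε k l} : Subgroup G) * 2 ^ m ≤ 2 * Nat.card (S : Subgroup G) := by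
  classical
  -- one of the letters is not 0
  wlog hk : k ≠ 0 generalizing k l with H
  · have hl : l ≠ 0 := by
      push Not at hk
      intro h0
      exact hkl (hk.trans h0.symm)
    rw [rr_symm h.ev k l]
    exact H hkl.symm hl
  have hn := h.three
  have hm1 : 1 ≤ m := by have := h.two_le; omega
  let f : S →* Equiv.Perm (Fin (2 ^ m + 1)) := (h.ev.hom hn).comp (Subgroup.inclusion h.le)
  have hf : ∀ s : S, Acts ε (s : G) (f s) := fun s => h.ev.acts_hom hn (Subgroup.inclusion h.le s)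
  let act : MulAction S (Fin (2 ^ m + 1)) := MulAction.compHom _ f
  have hact : ∀ (s : S) (a : Fin (2 ^ m + 1)), s • a = f s a := fun _ _ => rfl
  have hS2 : ¬ 2 ∣ (S : Subgroup G).relIndex (normalizer (V : Set G)) := MinSimple.Basic.not_dvd_relIndex S h.le
  -- the orbit of `k`
  have horb : MulAction.orbit S k = {a | a ≠ 0} := by
    ext a
    constructor
    · rintro ⟨s, rfl⟩
      change f s k ≠ 0
      intro h0
      have h1 := h.fix0 s s.2 _ (hf s)
      exact hk ((f s).injective (h0.trans h1.symm))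
    · intro ha
      obtain ⟨s, hs, σ, hσ, h1⟩ := trans hm1 h.ev h.le hS2 h.fix0 hk ha
      refine ⟨⟨s, hs⟩, ?_⟩
      change f ⟨s, hs⟩ k = a
      rw [h.ev.acts_unique hn (hf ⟨s, hs⟩) hσ, h1]
  have hidx : (MulAction.stabilizer S k).index = 2 ^ m := by
    rw [MulAction.index_stabilizer, horb]
    have h1 : ({a | a ≠ 0} : Set (Fin (2 ^ m + 1))) = {0}ᶜ := by ext; simp
    rw [h1, Set.ncard_compl, Nat.card_fin, Set.ncard_singleton]
    omega
  set H : Subgroup S := ((S : Subgroup G) ⊓ centralizer {rr ε k l}).subgroupOf S with hH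
  have hHmem : ∀ s : S, s ∈ H ↔ (s : G) * rr ε k l = rr ε k l * s := by
    intro s
    rw [hH, mem_subgroupOf, mem_inf, mem_centralizer_singleton_iff]
    exact ⟨fun h1 => h1.2, fun h1 => ⟨s.2, h1⟩⟩
  -- the orbit of `k` under `H`
  have horbH : (MulAction.orbit H k) ⊆ {k, l} := by
    rintro _ ⟨s, rfl⟩
    have h1 := (hHmem s).mp s.2
    have h2 : ((s : S) : G) * rr ε k l * ((s : S) : G)⁻¹ = rr ε k l := by rw [h1, mul_inv_cancel_right]
    rw [rr_conj (hf s)] at h2
    have h4 : ε (Pi.single (f s k) 1 + Pi.single (f s l) 1) = ε (Pi.single k 1 + Pi.single l 1) := by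
      rw [h.ev.add, h.ev.add]
      exact h2
    have hne : f (s : S) k ≠ f s l := fun h5 => hkl ((f s).injective h5)
    have h5 : (Pi.single (f s k) 1 + Pi.single (f s l) 1 : Fin (2 ^ m + 1) → ZMod 2) =
        Pi.single k 1 + Pi.single l 1 := by
      rcases h.ev.eq_iff.mp h4 with h5 | h5
      · exact h5
      · exfalso
        have h6 := congrArg Norm.tot h5
        rw [Norm.tot_add, Norm.tot_add, Norm.tot_add, Norm.tot_single, Norm.tot_single, Norm.tot_single,
          Norm.tot_single, Norm.tot_one (odd_n hm1)] at h6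
        revert h6
        decide
    have h6 := congrFun h5 (f s k)
    rw [Pi.add_apply, Pi.single_eq_same, Pi.single_eq_of_ne hne] at h6
    change f (s : S) k ∈ ({k, l} : Set _)
    by_contra h7
    simp only [Set.mem_insert_iff, Set.mem_singleton_iff, not_or] at h7
    rw [Pi.add_apply, Pi.single_eq_of_ne h7.1, Pi.single_eq_of_ne h7.2] at h6
    revert h6
    decide
  have hidxH : (MulAction.stabilizer H k).index ≤ 2 := by
    rw [MulAction.index_stabilizer]
    refine (Set.ncard_le_ncard horbH (Set.toFinite _)).trans ?_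
    exact (Set.ncard_insert_le _ _).trans (by rw [Set.ncard_singleton])
  have hc1 : Nat.card H = Nat.card ((S : Subgroup G) ⊓ centralizer {rr ε k l} : Subgroup G) := by
    rw [hH]
    exact Nat.card_congr (subgroupOfEquivOfLe inf_le_left).toEquiv
  have hc2 : Nat.card (MulAction.stabilizer H k) * (MulAction.stabilizer H k).index = Nat.card H :=
    Subgroup.card_mul_index _
  have hc3 : Nat.card (MulAction.stabilizer S k) * (MulAction.stabilizer S k).index = Nat.card S :=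
    Subgroup.card_mul_index _
  have hc4 : Nat.card (MulAction.stabilizer H k) ≤ Nat.card (MulAction.stabilizer S k) := by
    refine Nat.card_le_card_of_injective (fun x : MulAction.stabilizer H k =>
      (⟨((x : H) : S), x.2⟩ : MulAction.stabilizer S k)) ?_
    intro x y hxy
    replace hxy : (⟨((x : H) : S), x.2⟩ : MulAction.stabilizer S k) = ⟨((y : H) : S), y.2⟩ := hxy
    have h1 : ((x : H) : S) = ((y : H) : S) := by
      injection hxy
    exact Subtype.ext (Subtype.ext h1)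
  rw [← hc1, ← hc2]
  have hc5 : Nat.card (MulAction.stabilizer S k) * 2 ^ m = Nat.card (S : Subgroup G) :=
    (congrArg (fun t => Nat.card (MulAction.stabilizer S k) * t) hidx).symm.trans hc3
  calc Nat.card (MulAction.stabilizer H k) * (MulAction.stabilizer H k).index * 2 ^ m
      ≤ Nat.card (MulAction.stabilizer S k) * 2 * 2 ^ m := by gcongr
    _ = 2 * (Nat.card (MulAction.stabilizer S k) * 2 ^ m) := by ring
    _ = 2 * Nat.card (S : Subgroup G) := by rw [hc5]

/-- 2-subgroups of `N_G(V)` are conjugate into `S`. -/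
theorem Mem.exists_conj {S : Sylow 2 G} {V : Subgroup G} {m : ℕ} {ε : (Fin (2 ^ m + 1) → ZMod 2) → G}
    (h : Mem S V ε) {T : Subgroup G} (hT : IsPGroup 2 T) (hTN : T ≤ normalizer (V : Set G)) :
    ∃ g ∈ normalizer (V : Set G), ∀ t ∈ T, g * t * g⁻¹ ∈ (S : Subgroup G) := by
  have : Fact (Nat.Prime 2) := ⟨Nat.prime_two⟩
  have hX : IsPGroup 2 (T.subgroupOf (normalizer (V : Set G))) := hT.comap_subtype
  obtain ⟨Q, hQ⟩ := hX.exists_le_sylow
  obtain ⟨g, hg⟩ := MulAction.exists_smul_eq (normalizer (V : Set G)) Q (S.subtype h.le)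
  refine ⟨g, g.2, fun t ht => ?_⟩
  have h1 : (⟨t, hTN ht⟩ : normalizer (V : Set G)) ∈ (Q : Subgroup (normalizer (V : Set G))) :=
    hQ (mem_subgroupOf.mpr ht)
  have h2 : g * ⟨t, hTN ht⟩ * g⁻¹ ∈ ((g • Q : Sylow 2 (normalizer (V : Set G))) : Subgroup (normalizer (V : Set G))) := by
    have := smul_mem_pointwise_smul _ (MulAut.conj g) (Q : Subgroup (normalizer (V : Set G))) h1
    rwa [Sylow.coe_subgroup_smul]
  rw [hg] at h2
  exact h2

/-- The 2-subgroups of `C_G(r)` are small. -/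
theorem Mem.card_le' {S : Sylow 2 G} {V : Subgroup G} {m : ℕ} {ε : (Fin (2 ^ m + 1) → ZMod 2) → G} (h : Mem S V ε)
    {i j : Fin (2 ^ m + 1)} (hij : i ≠ j) (hnn : NN ε i j ≤ normalizer (V : Set G)) {T : Subgroup G}
    (hT : IsPGroup 2 T) (hTN : T ≤ NN ε i j) : Nat.card T * 2 ^ m ≤ 2 * Nat.card (S : Subgroup G) := by
  obtain ⟨g, hg, h1⟩ := h.exists_conj hT (hTN.trans hnn)
  obtain ⟨σ, hσ⟩ := h.ev.perm g hg
  have h2 := h.card_le (k := σ i) (l := σ j) (fun h0 => hij (σ.injective h0))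
  refine le_trans (Nat.mul_le_mul_right _ ?_) h2
  refine Nat.card_le_card_of_injective (fun t : T => (⟨g * t * g⁻¹, h1 t t.2, ?_⟩ :
    ((S : Subgroup G) ⊓ centralizer {rr ε (σ i) (σ j)} : Subgroup G))) ?_
  · exact conj_NN hσ (hTN t.2)
  · intro t t' htt
    have h3 : g * (t : G) * g⁻¹ = g * t' * g⁻¹ := congrArg Subtype.val htt
    exact Subtype.ext (mul_left_cancel (mul_right_cancel h3))

end count

namespace TT

variable {S S' : Sylow 2 G} {V V' : Subgroup G} {m m' : ℕ} {ε : (Fin (2 ^ m + 1) → ZMod 2) → G}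
  {ε' : (Fin (2 ^ m' + 1) → ZMod 2) → G} {i j : Fin (2 ^ m + 1)} {i' j' : Fin (2 ^ m' + 1)}
  (h : TT S S' V V' ε ε' i j i' j')
include h

theorem swap_mem : ∃ a ∈ (S : Subgroup G), Acts ε a (Equiv.swap i j) := by
  obtain ⟨b, hb, h1⟩ := h.mov
  exact ⟨b, h.in' hb, h1⟩

theorem V_le : V ≤ (S : Subgroup G) := by
  have h1 : IsPGroup 2 ((S : Subgroup G) ⊔ V : Subgroup G) := S.isPGroup'.to_sup_of_normal_right' h.mem.ev.isPGroup h.mem.le
  have h2 := S.is_maximal' h1 le_sup_left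
  rw [← h2]
  exact le_sup_right

variable [Finite G]

theorem hyp : CosetAct.Hyp V (normalizer (V : Set G)) (S : Subgroup G) ⊥ ε i j where
  even := h.mem.ev
  VP := le_normalizer
  two_le := h.mem.two_le
  le := h.mem.le
  isP := S.isPGroup'
  max T hT := by
    have h2 : Fact (Nat.Prime 2) := ⟨Nat.prime_two⟩
    obtain ⟨R, hR⟩ := hT.exists_le_sylow
    have h1 : Nat.card (R : Subgroup G) = Nat.card (S : Subgroup G) := by
      rw [R.card_eq_multiplicity, S.card_eq_multiplicity]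
    rw [← h1]
    exact Subgroup.card_le_of_le hR
  fix0 := h.mem.fix0
  ne := h.ne
  swap := h.swap_mem
  isPW := IsPGroup.of_bot
  leW := bot_le
  norm := by
    intro g _
    rw [mem_normalizer_iff]
    intro x
    rw [mem_bot, mem_bot]
    constructor
    · rintro rfl
      group
    · intro h1
      have h2 : x = g⁻¹ * (g * x * g⁻¹) * g := by group
      rw [h2, h1]
      group

/-- **(i)** -/
theorem le_of_nn (hnn : NN ε i j ≤ normalizer (V : Set G)) : m ≤ m' := by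
  have h1 : (((S' : Subgroup G) ⊓ centralizer ({rr ε' i' j'} : Set G) : Subgroup G)).relIndex (S' : Subgroup G) ≤
      2 ^ (m' - 1) := h.symm.hyp.relIndex_S_le
  have hT : IsPGroup 2 ((S' : Subgroup G) ⊓ centralizer ({rr ε' i' j'} : Set G) : Subgroup G) :=
    S'.isPGroup'.to_le inf_le_left
  have h2 := h.mem.card_le' h.ne hnn hT (by
    unfold NN
    rw [h.rr_eq]
    exact inf_le_right)
  have h3 : Nat.card ((S' : Subgroup G) ⊓ centralizer ({rr ε' i' j'} : Set G) : Subgroup G) *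
      (((S' : Subgroup G) ⊓ centralizer ({rr ε' i' j'} : Set G) : Subgroup G)).relIndex (S' : Subgroup G) =
      Nat.card (S' : Subgroup G) := Hyp.card_mul_relIndex' inf_le_left
  have h4 : Nat.card (S : Subgroup G) = Nat.card (S' : Subgroup G) := by
    have : Fact (Nat.Prime 2) := ⟨Nat.prime_two⟩
    rw [S.card_eq_multiplicity, S'.card_eq_multiplicity]
  set c := Nat.card ((S' : Subgroup G) ⊓ centralizer ({rr ε' i' j'} : Set G) : Subgroup G) with hc
  have hc0 : 0 < c := Nat.card_pos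
  have h5 : c * 2 ^ m ≤ c * 2 ^ m' := by
    calc c * 2 ^ m ≤ 2 * Nat.card (S : Subgroup G) := h2
      _ = 2 * (c * (((S' : Subgroup G) ⊓ centralizer ({rr ε' i' j'} : Set G) : Subgroup G)).relIndex
          (S' : Subgroup G)) := by rw [h3, h4]
      _ ≤ 2 * (c * 2 ^ (m' - 1)) := by gcongr
      _ = c * (2 ^ (m' - 1) * 2) := by ring
      _ = c * 2 ^ m' := by
        rw [← pow_succ]
        congr 2
        have := h.mem'.two_le
        omega
  have h6 := Nat.le_of_mul_le_mul_left h5 hc0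
  exact (Nat.pow_le_pow_iff_right (by norm_num)).mp h6

end TT


end Cfsg.Agent.Omega.NSix.RThree

end

section


/-!
# OMEGA N6, the end (#15496 (r3)), CASE 1

`TT.fix_of_mem` : `K = C_G(V)` fixes the points `z'_a`, `a ≠ i', j'`, of `V'`.
-/

set_option autoImplicit false

namespace Cfsg.Agent.Omega.NSix.RThree

open Subgroup Cfsg Cfsg.Agent.ZN Cfsg.Agent.ZN.ChoiceBase Cfsg.Agent.MinSimple.VModule
open Cfsg.Agent.Omega.S5.Def Cfsg.Agent.Omega.S5.Syl Cfsg.Agent.Omega.NSix.Base Cfsg.Agent.Omega.NSix.Basic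
open Cfsg.Agent.Omega.NSix.CosetAct

universe u

variable {G : Type u} [Group G]

/-- `E = {ε x : x even, x_i = x_j = 0}` -/
def EE {n : ℕ} {V L : Subgroup G} {ε : (Fin n → ZMod 2) → G} (h : EvenSet n V L ε) (i j : Fin n) : Subgroup G where
  carrier := {g | ∃ x : Fin n → ZMod 2, Norm.tot x = 0 ∧ x i = 0 ∧ x j = 0 ∧ ε x = g}
  one_mem' := ⟨0, by simp [Norm.tot], rfl, rfl, h.zero⟩
  mul_mem' := by
    rintro _ _ ⟨x, hx, hi, hj, rfl⟩ ⟨y, hy, hi', hj', rfl⟩
    refine ⟨x + y, ?_, ?_, ?_, h.add x y⟩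
    · rw [Norm.tot_add, hx, hy, add_zero]
    · rw [Pi.add_apply, hi, hi', add_zero]
    · rw [Pi.add_apply, hj, hj', add_zero]
  inv_mem' := by
    rintro _ ⟨x, hx, hi, hj, rfl⟩
    exact ⟨x, hx, hi, hj, (h.inv x).symm⟩

theorem mem_EE {n : ℕ} {V L : Subgroup G} {ε : (Fin n → ZMod 2) → G} {h : EvenSet n V L ε} {i j : Fin n} {g : G} :
    g ∈ EE h i j ↔ ∃ x : Fin n → ZMod 2, Norm.tot x = 0 ∧ x i = 0 ∧ x j = 0 ∧ ε x = g := Iff.rfl

section

variable {n : ℕ} {V L : Subgroup G} {ε : (Fin n → ZMod 2) → G} (h : EvenSet n V L ε) {i j : Fin n}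
include h

theorem EE_le : EE h i j ≤ V := by
  rintro _ ⟨x, -, -, -, rfl⟩
  exact h.mem x

theorem rr_eq_eps (k l : Fin n) : rr ε k l = ε (Pi.single k 1 + Pi.single l 1) := (h.add _ _).symm

theorem rr_mem_EE {k l : Fin n} (ki : k ≠ i) (kj : k ≠ j) (li : l ≠ i) (lj : l ≠ j) : rr ε k l ∈ EE h i j := by
  refine ⟨Pi.single k 1 + Pi.single l 1, Norm.Md.tot_pr _ _, ?_, ?_, (rr_eq_eps h k l).symm⟩
  · rw [Pi.add_apply, Pi.single_eq_of_ne (Ne.symm ki), Pi.single_eq_of_ne (Ne.symm li), add_zero]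
  · rw [Pi.add_apply, Pi.single_eq_of_ne (Ne.symm kj), Pi.single_eq_of_ne (Ne.symm lj), add_zero]

/-- the pairs off `i, j` generate `E` -/
theorem EE_gen {B : Subgroup G} (hB : ∀ k l, k ≠ i → k ≠ j → l ≠ i → l ≠ j → k ≠ l → rr ε k l ∈ B) :
    EE h i j ≤ B := by
  rintro _ ⟨x, hx, hi, hj, rfl⟩
  by_cases hx0 : x = 0
  · rw [hx0, h.zero]; exact one_mem _
  obtain ⟨l, hl⟩ : ∃ l, x l ≠ 0 := by
    by_contra h1
    push Not at h1
    exact hx0 (funext h1)
  have hli : l ≠ i := fun h0 => hl (by rw [h0, hi])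
  have hlj : l ≠ j := fun h0 => hl (by rw [h0, hj])
  have key : ∀ s : Finset (Fin n), ε (∑ k ∈ s, x k • (Pi.single k 1 + Pi.single l 1 : Fin n → ZMod 2)) ∈ B := by
    intro s
    induction s using Finset.induction_on with
    | empty => rw [Finset.sum_empty, h.zero]; exact one_mem _
    | insert k s hk ih =>
      rw [Finset.sum_insert hk, h.add]
      refine mul_mem ?_ ih
      rcases Norm.z2 (x k) with h5 | h5
      · rw [h5, zero_smul, h.zero]; exact one_mem _
      · rw [h5, one_smul, ← rr_eq_eps h]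
        by_cases hkl : k = l
        · subst hkl
          unfold rr
          rw [zz_sq h]
          exact one_mem _
        · exact hB k l (fun h0 => by rw [h0, hi] at h5; exact zero_ne_one h5)
            (fun h0 => by rw [h0, hj] at h5; exact zero_ne_one h5) hli hlj hkl
  have h3 : x = ∑ k, x k • (Pi.single k 1 + Pi.single l 1 : Fin n → ZMod 2) := by
    have e1 : ∑ k, x k • (Pi.single k 1 + Pi.single l 1 : Fin n → ZMod 2) =
        ∑ k, x k • (Pi.single k 1 : Fin n → ZMod 2) + (∑ k, x k) • (Pi.single l 1 : Fin n → ZMod 2) := by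
      rw [Finset.sum_smul, ← Finset.sum_add_distrib]
      exact Finset.sum_congr rfl fun k _ => smul_add _ _ _
    have e2 : ∑ k, x k = 0 := hx
    rw [e1, e2, zero_smul, add_zero]
    funext a
    rw [Finset.sum_apply, Finset.sum_eq_single a]
    · simp
    · intro b _ hb
      simp [Pi.single_apply, Ne.symm hb]
    · intro h4
      exact absurd (Finset.mem_univ a) h4
  rw [h3]
  exact key _

/-- `K` induces the 3-cycles off `i, j` -/
def Cyc (K : Subgroup G) (ε : (Fin n → ZMod 2) → G) (i j : Fin n) : Prop :=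
  ∀ a b c : Fin n, a ≠ i → a ≠ j → b ≠ i → b ≠ j → c ≠ i → c ≠ j → a ≠ b → a ≠ c → b ≠ c →
    ∃ g ∈ K, ∃ σ : Equiv.Perm (Fin n), Acts ε g σ ∧ σ a = b ∧ σ b = c ∧ σ c = a ∧
      (∀ d, d ≠ i → d ≠ j → d ≠ a → d ≠ b → d ≠ c → σ d = d) ∧ ((σ i = i ∧ σ j = j) ∨ (σ i = j ∧ σ j = i))

/-- `E` is irreducible under `K` -/
theorem EE_irr (hodd : Odd n) (hn : 7 ≤ n) (hij : i ≠ j) {K : Subgroup G} (hK : Cyc K ε i j) {B : Subgroup G}
    (hBK : ∀ g ∈ K, ∀ x ∈ B, g * x * g⁻¹ ∈ B) {x : G} (hx : x ∈ EE h i j) (hx1 : x ≠ 1) (hxB : x ∈ B) :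
    EE h i j ≤ B := by
  obtain ⟨X, hX, hXi, hXj, rfl⟩ := hx
  obtain ⟨a, ha⟩ : ∃ a, X a = 1 := by
    by_contra h1
    push Not at h1
    apply hx1
    have : X = 0 := funext fun k => (Norm.z2 (X k)).resolve_right (h1 k)
    rw [this, h.zero]
  have hai : a ≠ i := fun h0 => by rw [h0, hXi] at ha; exact zero_ne_one ha
  have haj : a ≠ j := fun h0 => by rw [h0, hXj] at ha; exact zero_ne_one ha
  obtain ⟨b, hb, hbi, hbj⟩ : ∃ b, X b = 0 ∧ b ≠ i ∧ b ≠ j := by
    by_contra h1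
    push Not at h1
    have h2 : X = 1 + (Pi.single i 1 + Pi.single j 1) := by
      funext k
      rw [Pi.add_apply, Pi.add_apply, Pi.one_apply]
      by_cases hki : k = i
      · subst hki
        rw [Pi.single_eq_same, Pi.single_eq_of_ne hij, hXi]
        decide
      by_cases hkj : k = j
      · subst hkj
        rw [Pi.single_eq_same, Pi.single_eq_of_ne hki, hXj]
        decide
      rw [Pi.single_eq_of_ne hki, Pi.single_eq_of_ne hkj, add_zero, add_zero]
      rcases Norm.z2 (X k) with h3 | h3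
      · exact absurd (h1 k h3 hki) hkj
      · exact h3
    rw [h2, Norm.tot_add, Norm.tot_one hodd, Norm.Md.tot_pr] at hX
    revert hX
    decide
  have hab : a ≠ b := fun h0 => by rw [h0, hb] at ha; exact zero_ne_one ha
  -- a third letter
  have third : ∀ p q : Fin n, ∃ c, c ≠ i ∧ c ≠ j ∧ c ≠ p ∧ c ≠ q := by
    intro p q
    have hcard : ({i, j, p, q} : Finset (Fin n)).card < (Finset.univ : Finset (Fin n)).card := by
      rw [Finset.card_univ, Fintype.card_fin]
      exact lt_of_le_of_lt Finset.card_le_four (by omega)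
    obtain ⟨k, -, hk⟩ := Finset.exists_mem_notMem_of_card_lt_card hcard
    simp only [Finset.mem_insert, Finset.mem_singleton, not_or] at hk
    exact ⟨k, hk.1, hk.2.1, hk.2.2.1, hk.2.2.2⟩
  obtain ⟨c, hci, hcj, hca, hcb⟩ := third a b
  -- some pair is in `B`
  have hpair : ∃ k l, k ≠ i ∧ k ≠ j ∧ l ≠ i ∧ l ≠ j ∧ k ≠ l ∧ rr ε k l ∈ B := by
    obtain ⟨g, hg, σ, hσ, s1, s2, s3, s4, s5⟩ := hK a b c hai haj hbi hbj hci hcj hab (Ne.symm hca) (Ne.symm hcb)
    have hy := mul_mem hxB (hBK g hg _ hxB)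
    rw [hσ X, ← h.add] at hy
    have t1 : σ.symm b = a := by rw [Equiv.symm_apply_eq, s1]
    have t2 : σ.symm c = b := by rw [Equiv.symm_apply_eq, s2]
    have t3 : σ.symm a = c := by rw [Equiv.symm_apply_eq, s3]
    have t4 : ∀ d, d ≠ i → d ≠ j → d ≠ a → d ≠ b → d ≠ c → σ.symm d = d := by
      intro d d1 d2 d3 d4 d5
      rw [Equiv.symm_apply_eq, s4 d d1 d2 d3 d4 d5]
    have t5 : X (σ.symm i) = 0 ∧ X (σ.symm j) = 0 := by
      rcases s5 with ⟨e1, e2⟩ | ⟨e1, e2⟩
      · have e3 : σ.symm i = i := by rw [Equiv.symm_apply_eq, e1]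
        have e4 : σ.symm j = j := by rw [Equiv.symm_apply_eq, e2]
        rw [e3, e4]
        exact ⟨hXi, hXj⟩
      · have e3 : σ.symm i = j := by rw [Equiv.symm_apply_eq, e2]
        have e4 : σ.symm j = i := by rw [Equiv.symm_apply_eq, e1]
        rw [e3, e4]
        exact ⟨hXj, hXi⟩
    rcases Norm.z2 (X c) with hc | hc
    · -- `{a, b}`
      refine ⟨a, b, hai, haj, hbi, hbj, hab, ?_⟩
      have e : X + X ∘ σ.symm = Pi.single a 1 + Pi.single b 1 := by
        funext d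
        rw [Pi.add_apply, Pi.add_apply, Function.comp_apply]
        by_cases d1 : d = i
        · rw [d1, hXi, t5.1, Pi.single_eq_of_ne (Ne.symm hai), Pi.single_eq_of_ne (Ne.symm hbi)]
        by_cases d2 : d = j
        · rw [d2, hXj, t5.2, Pi.single_eq_of_ne (Ne.symm haj), Pi.single_eq_of_ne (Ne.symm hbj)]
        by_cases d3 : d = a
        · rw [d3, t3, ha, hc, Pi.single_eq_same, Pi.single_eq_of_ne hab]
        by_cases d4 : d = b
        · rw [d4, t1, hb, ha, Pi.single_eq_same, Pi.single_eq_of_ne (Ne.symm hab)]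
        by_cases d5 : d = c
        · rw [d5, t2, hc, hb, Pi.single_eq_of_ne hca, Pi.single_eq_of_ne hcb]
        rw [t4 d d1 d2 d3 d4 d5, Norm.z2_self, Pi.single_eq_of_ne d3, Pi.single_eq_of_ne d4, add_zero]
      rw [rr_eq_eps h, ← e]
      exact hy
    · -- `{b, c}`
      refine ⟨b, c, hbi, hbj, hci, hcj, Ne.symm hcb, ?_⟩
      have e : X + X ∘ σ.symm = Pi.single b 1 + Pi.single c 1 := by
        funext d
        rw [Pi.add_apply, Pi.add_apply, Function.comp_apply]
        by_cases d1 : d = i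
        · rw [d1, hXi, t5.1, Pi.single_eq_of_ne (Ne.symm hbi), Pi.single_eq_of_ne (Ne.symm hci)]
        by_cases d2 : d = j
        · rw [d2, hXj, t5.2, Pi.single_eq_of_ne (Ne.symm hbj), Pi.single_eq_of_ne (Ne.symm hcj)]
        by_cases d3 : d = a
        · rw [d3, t3, ha, hc, Pi.single_eq_of_ne hab, Pi.single_eq_of_ne (Ne.symm hca)]
          decide
        by_cases d4 : d = b
        · rw [d4, t1, hb, ha, Pi.single_eq_same, Pi.single_eq_of_ne (Ne.symm hcb)]
          decide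
        by_cases d5 : d = c
        · rw [d5, t2, hc, hb, Pi.single_eq_same, Pi.single_eq_of_ne hcb]
          decide
        rw [t4 d d1 d2 d3 d4 d5, Norm.z2_self, Pi.single_eq_of_ne d4, Pi.single_eq_of_ne d5, add_zero]
      rw [rr_eq_eps h, ← e]
      exact hy
  obtain ⟨k, l, ki, kj, li, lj, hkl, hklB⟩ := hpair
  have step : ∀ c, c ≠ i → c ≠ j → c ≠ k → c ≠ l → rr ε l c ∈ B := by
    intro c ci cj' ck cl
    obtain ⟨g, hg, σ, hσ, s1, s2, -⟩ := hK k l c ki kj li lj ci cj' hkl (Ne.symm ck) (Ne.symm cl)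
    have h1 := hBK g hg _ hklB
    rwa [rr_conj hσ, s1, s2] at h1
  have step' : ∀ c, c ≠ i → c ≠ j → c ≠ l → rr ε l c ∈ B := by
    intro c ci cj' cl
    by_cases ck : c = k
    · rw [ck, rr_symm h]; exact hklB
    · exact step c ci cj' ck cl
  refine EE_gen h fun p q pi' pj qi qj hpq => ?_
  by_cases hp : p = l
  · rw [hp]; exact step' q qi qj (fun h0 => hpq (hp.trans h0.symm))
  by_cases hq : q = l
  · rw [hq, rr_symm h]; exact step' p pi' pj hp
  have h1 := mul_mem (step' p pi' pj hp) (step' q qi qj hq)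
  rw [rr_symm h l p, rr_add h] at h1
  exact h1

end


/-- A nontrivial subgroup of exponent 2 normalised by `S` contains `z_0`. -/
theorem Mem.zz_mem [Finite G] {S : Sylow 2 G} {V : Subgroup G} {m : ℕ} {ε : (Fin (2 ^ m + 1) → ZMod 2) → G}
    (h : Mem S V ε) {A : Subgroup G} (hA : ∀ s ∈ (S : Subgroup G), ∀ a ∈ A, s * a * s⁻¹ ∈ A)
    (hsq : ∀ a ∈ A, a * a = 1) {a : G} (ha : a ∈ A) (ha1 : a ≠ 1) : zz ε 0 ∈ A := by
  have : Fact (Nat.Prime 2) := ⟨Nat.prime_two⟩
  let act : MulAction S A :=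
    { smul := fun s y => ⟨s * y * (s : G)⁻¹, hA s s.2 y y.2⟩
      one_smul := fun y => Subtype.ext (by change (1 : G) * y * (1 : G)⁻¹ = y; group)
      mul_smul := fun s t y => Subtype.ext (by
        change ((s : G) * t) * y * ((s : G) * t)⁻¹ = s * (t * y * (t : G)⁻¹) * (s : G)⁻¹
        group) }
  have hdvd : 2 ∣ Nat.card A := by
    have h1 : orderOf (⟨a, ha⟩ : A) ∣ Nat.card A := orderOf_dvd_natCard _
    have h2 : orderOf (⟨a, ha⟩ : A) = 2 := by
      apply orderOf_eq_prime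
      · rw [pow_two]
        exact Subtype.ext (hsq a ha)
      · intro h3
        exact ha1 (congrArg Subtype.val h3)
    rwa [h2] at h1
  have h1 : (1 : A) ∈ MulAction.fixedPoints S A := by
    intro s
    exact Subtype.ext (by change (s : G) * 1 * (s : G)⁻¹ = 1; group)
  obtain ⟨b, hb, hb1⟩ := S.isPGroup'.exists_fixed_point_of_prime_dvd_card_of_fixed_point A hdvd h1
  have h2 : ∀ s ∈ (S : Subgroup G), s * (b : G) = b * s := by
    intro s hs
    have h3 : s * (b : G) * s⁻¹ = b := congrArg Subtype.val (hb ⟨s, hs⟩)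
    exact mul_inv_eq_iff_eq_mul.mp h3
  rcases h.zc b (hsq b b.2) h2 with h3 | h3
  · exact absurd (Subtype.ext h3.symm) hb1
  · rw [← h3]
    exact b.2

namespace TT

variable {S S' : Sylow 2 G} {V V' : Subgroup G} {m m' : ℕ} {ε : (Fin (2 ^ m + 1) → ZMod 2) → G}
  {ε' : (Fin (2 ^ m' + 1) → ZMod 2) → G} {i j : Fin (2 ^ m + 1)} {i' j' : Fin (2 ^ m' + 1)}
  (h : TT S S' V V' ε ε' i j i' j')
include h

/-- the pair `r` is preserved by `C_G(r)` -/
theorem pair_fix' {g : G} (hg : g ∈ NN ε' i' j') {σ : Equiv.Perm (Fin (2 ^ m' + 1))} (hσ : Acts ε' g σ) :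
    (σ i' = i' ∧ σ j' = j') ∨ (σ i' = j' ∧ σ j' = i') := by
  have hm1 : 1 ≤ m' := by have := h.mem'.two_le; omega
  have h1 := mem_NN'.mp hg
  rw [rr_conj hσ, rr_eq_eps h.mem'.ev, rr_eq_eps h.mem'.ev] at h1
  have hne : σ i' ≠ σ j' := fun h5 => h.ne' (σ.injective h5)
  have h5 : (Pi.single (σ i') 1 + Pi.single (σ j') 1 : Fin (2 ^ m' + 1) → ZMod 2) =
      Pi.single i' 1 + Pi.single j' 1 := by
    rcases h.mem'.ev.eq_iff.mp h1 with h5 | h5
    · exact h5
    · exfalso
      have h6 := congrArg Norm.tot h5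
      rw [Norm.Md.tot_pr, Norm.tot_add, Norm.Md.tot_pr, Norm.tot_one (odd_n hm1)] at h6
      revert h6
      decide
  have key : ∀ a : Fin (2 ^ m' + 1), (Pi.single (σ i') 1 + Pi.single (σ j') 1 : Fin (2 ^ m' + 1) → ZMod 2) a = 1 →
      a = i' ∨ a = j' := by
    intro a ha
    rw [h5] at ha
    by_contra h7
    push Not at h7
    rw [Pi.add_apply, Pi.single_eq_of_ne h7.1, Pi.single_eq_of_ne h7.2] at ha
    revert ha
    decide
  have k1 := key (σ i') (by rw [Pi.add_apply, Pi.single_eq_same, Pi.single_eq_of_ne hne, add_zero])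
  have k2 := key (σ j') (by rw [Pi.add_apply, Pi.single_eq_same, Pi.single_eq_of_ne hne.symm, zero_add])
  rcases k1 with k1 | k1
  · rcases k2 with k2 | k2
    · exact absurd (k1.trans k2.symm) hne
    · exact Or.inl ⟨k1, k2⟩
  · rcases k2 with k2 | k2
    · exact Or.inr ⟨k1, k2⟩
    · exact absurd (k1.trans k2.symm) hne

theorem EE_norm' (hnn' : NN ε' i' j' ≤ normalizer (V' : Set G)) {g : G} (hg : g ∈ NN ε' i' j') {x : G}
    (hx : x ∈ EE h.mem'.ev i' j') : g * x * g⁻¹ ∈ EE h.mem'.ev i' j' := by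
  obtain ⟨X, hX, hXi, hXj, rfl⟩ := hx
  obtain ⟨σ, hσ⟩ := h.mem'.ev.perm g (hnn' hg)
  refine ⟨X ∘ σ.symm, ?_, ?_, ?_, (hσ X).symm⟩
  · rw [← hX]
    unfold Norm.tot
    exact Equiv.sum_comp σ.symm X
  all_goals
    rw [Function.comp_apply]
    rcases h.pair_fix' hg hσ with ⟨e1, e2⟩ | ⟨e1, e2⟩
  · rw [(Equiv.symm_apply_eq σ).mpr e1.symm]; exact hXi
  · rw [(Equiv.symm_apply_eq σ).mpr e2.symm]; exact hXj
  · rw [(Equiv.symm_apply_eq σ).mpr e2.symm]; exact hXj
  · rw [(Equiv.symm_apply_eq σ).mpr e1.symm]; exact hXi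

theorem cen_le : centralizer (V : Set G) ≤ NN ε i j := by
  intro g hg
  rw [mem_NN]
  exact (mem_centralizer_iff.mp hg _ (rr_mem h.mem.ev i j)).symm

/-- `E' ≤ C_G(V)` -/
theorem EE_cen : EE h.mem'.ev i' j' ≤ centralizer (V : Set G) := by
  rintro _ ⟨X, hX, hXi, hXj, rfl⟩
  rw [mem_centralizer_iff]
  intro v hv
  rw [← mul_inv_eq_iff_eq_mul]
  rcases h.act' v hv with h1 | h1
  · exact h1 X
  · exact (acts_swap' h.mem'.ev h1 X).1 (by rw [hXi, hXj])

/-- **CASE 1** is impossible. -/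
theorem not_cyc [Finite G] (hm' : 3 ≤ m') (hnn' : NN ε' i' j' ≤ normalizer (V' : Set G))
    (hK : Cyc (centralizer (V : Set G)) ε' i' j') : False := by
  set K : Subgroup G := centralizer (V : Set G) with hKdef
  set E : Subgroup G := EE h.mem'.ev i' j' with hE
  set L : Subgroup G := normalizer (V : Set G) with hL
  have h8 : 2 ^ 3 ≤ 2 ^ m' := Nat.pow_le_pow_right (by norm_num) hm'
  have hodd : Odd (2 ^ m' + 1) := odd_n (by omega)
  have hKN : K ≤ NN ε' i' j' := by
    have h1 := h.cen_le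
    unfold NN at h1 ⊢
    rwa [h.rr_eq] at h1
  have hKnorm : ∀ l ∈ L, ∀ k ∈ K, l * k * l⁻¹ ∈ K := fun l hl k hk => conj_cent hl hk
  have hEK : E ≤ K := h.EE_cen
  have hirr : ∀ B : Subgroup G, (∀ g ∈ K, ∀ x ∈ B, g * x * g⁻¹ ∈ B) → ∀ x ∈ E, x ≠ 1 → x ∈ B → E ≤ B :=
    fun B hB x hx hx1 hxB => EE_irr h.mem'.ev hodd (by omega) h.ne' hK hB hx hx1 hxB
  have hEsq : ∀ x ∈ E, x * x = 1 := fun x hx => h.mem'.ev.sq_mem (EE_le h.mem'.ev hx)
  have hEcomm : ∀ x ∈ E, ∀ y ∈ E, x * y = y * x := fun x hx y hy =>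
    h.mem'.ev.comm_mem (EE_le h.mem'.ev hx) (EE_le h.mem'.ev hy)
  have hKE : ∀ k ∈ K, ∀ x ∈ E, k * x * k⁻¹ ∈ E := fun k hk x hx => h.EE_norm' hnn' (hKN hk) hx
  -- three letters
  have letters : ∃ a b c : Fin (2 ^ m' + 1), a ≠ i' ∧ a ≠ j' ∧ b ≠ i' ∧ b ≠ j' ∧ c ≠ i' ∧ c ≠ j' ∧ a ≠ b ∧ a ≠ c ∧ b ≠ c := by
    have third : ∀ p q : Fin (2 ^ m' + 1), ∃ c, c ≠ i' ∧ c ≠ j' ∧ c ≠ p ∧ c ≠ q := by
      intro p q
      have hcard : ({i', j', p, q} : Finset (Fin (2 ^ m' + 1))).card < (Finset.univ : Finset (Fin (2 ^ m' + 1))).card := by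
        rw [Finset.card_univ, Fintype.card_fin]
        exact lt_of_le_of_lt Finset.card_le_four (by omega)
      obtain ⟨k, -, hk⟩ := Finset.exists_mem_notMem_of_card_lt_card hcard
      simp only [Finset.mem_insert, Finset.mem_singleton, not_or] at hk
      exact ⟨k, hk.1, hk.2.1, hk.2.2.1, hk.2.2.2⟩
    obtain ⟨a, a1, a2, -, -⟩ := third i' i'
    obtain ⟨b, b1, b2, b3, -⟩ := third a a
    obtain ⟨c, c1, c2, c3, c4⟩ := third a b
    exact ⟨a, b, c, a1, a2, b1, b2, c1, c2, Ne.symm b3, Ne.symm c3, Ne.symm c4⟩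
  obtain ⟨a, b, c, a1, a2, b1, b2, c1, c2, ab, ac, bc⟩ := letters
  have hrE : rr ε' a b ∈ E := rr_mem_EE h.mem'.ev a1 a2 b1 b2
  have hr1 : rr ε' a b ≠ 1 := rr_ne_one h.mem'.ev h.mem'.three ab
  -- `K` is not trivial on `E`
  have hKne : ¬ E ≤ centralizer (K : Set G) := by
    intro h1
    obtain ⟨g, hg, σ, hσ, s1, s2, -⟩ := hK a b c a1 a2 b1 b2 c1 c2 ab ac bc
    have h2 := mem_centralizer_iff.mp (h1 hrE) g hg
    have h3 : g * rr ε' a b * g⁻¹ = rr ε' a b := by rw [h2, mul_inv_cancel_right]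
    rw [rr_conj hσ, s1, s2] at h3
    have h4 : rr ε' b c * rr ε' a b = 1 := by rw [h3]; exact rr_sq h.mem'.ev _ _
    have h5 : rr ε' b c * rr ε' a b = rr ε' a c := by
      rw [rr_symm h.mem'.ev b c, rr_symm h.mem'.ev a b, rr_add h.mem'.ev, rr_symm h.mem'.ev]
    exact rr_ne_one h.mem'.ev h.mem'.three ac (h5.symm.trans h4)
  -- the conjugates
  have irrC : ∀ l ∈ L, ∀ B : Subgroup G, (∀ g ∈ K, ∀ x ∈ B, g * x * g⁻¹ ∈ B) → ∀ x ∈ cj l E, x ≠ 1 → x ∈ B →
      cj l E ≤ B := by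
    intro l hl B hB x hx hx1 hxB
    rw [mem_cj] at hx
    have h1 := hirr (cj l⁻¹ B) (by
      intro g hg y hy
      rw [mem_cj, inv_inv] at hy ⊢
      have h2 := hB _ (hKnorm l hl g hg) _ hy
      have h3 : l * g * l⁻¹ * (l * y * l⁻¹) * (l * g * l⁻¹)⁻¹ = l * (g * y * g⁻¹) * l⁻¹ := by group
      rwa [h3] at h2) _ hx (by
      intro h2
      apply hx1
      have h3 : x = l * (l⁻¹ * x * l) * l⁻¹ := by group
      rw [h3, h2]
      group) (by
      rw [mem_cj, inv_inv]
      have h3 : l * (l⁻¹ * x * l) * l⁻¹ = x := by group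
      rwa [h3])
    rw [cj_le_iff]
    exact h1
  have cK : ∀ l ∈ L, cj l E ≤ K := by
    intro l hl x hx
    rw [mem_cj] at hx
    have h1 := hKnorm l hl _ (hEK hx)
    have h3 : l * (l⁻¹ * x * l) * l⁻¹ = x := by group
    rwa [h3] at h1
  have Kc : ∀ l ∈ L, ∀ k ∈ K, ∀ x ∈ cj l E, k * x * k⁻¹ ∈ cj l E := by
    intro l hl k hk x hx
    rw [mem_cj] at hx ⊢
    have h1 := hKnorm l⁻¹ (inv_mem hl) k hk
    rw [inv_inv] at h1
    have h2 := hKE _ h1 _ hx
    have h3 : l⁻¹ * k * l * (l⁻¹ * x * l) * (l⁻¹ * k * l)⁻¹ = l⁻¹ * (k * x * k⁻¹) * l := by group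
    rwa [h3] at h2
  have cSq : ∀ l : G, ∀ x ∈ cj l E, x * x = 1 := by
    intro l x hx
    rw [mem_cj] at hx
    have h1 := hEsq _ hx
    have h2 : x * x = l * ((l⁻¹ * x * l) * (l⁻¹ * x * l)) * l⁻¹ := by group
    rw [h2, h1]
    group
  have cComm0 : ∀ l : G, ∀ x ∈ cj l E, ∀ y ∈ cj l E, x * y = y * x := by
    intro l x hx y hy
    rw [mem_cj] at hx hy
    have h1 := hEcomm _ hx _ hy
    have h2 : x * y = l * ((l⁻¹ * x * l) * (l⁻¹ * y * l)) * l⁻¹ := by group
    rw [h2, h1]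
    group
  have cComm : ∀ l ∈ L, ∀ l' ∈ L, ∀ x ∈ cj l E, ∀ y ∈ cj l' E, x * y = y * x := by
    intro l hl l' hl' x hx y hy
    by_contra hne
    have h1 : x * y * x⁻¹ * y⁻¹ ∈ cj l E := by
      have h2 : x * y * x⁻¹ * y⁻¹ = x * (y * x⁻¹ * y⁻¹) := by group
      rw [h2]
      exact mul_mem hx (Kc l hl y (cK l' hl' hy) _ (inv_mem hx))
    have h2 : x * y * x⁻¹ * y⁻¹ ∈ cj l' E := mul_mem (Kc l' hl' x (cK l hl hx) _ hy) (inv_mem hy)
    have h3 : x * y * x⁻¹ * y⁻¹ ≠ 1 := by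
      intro h4
      apply hne
      have h5 : x * y = x * y * x⁻¹ * y⁻¹ * (y * x) := by group
      rw [h5, h4, one_mul]
    have h4 := irrC l hl (cj l' E) (fun g hg x hx => Kc l' hl' g hg x hx) _ h1 h3 h2
    exact hne (cComm0 l' _ (h4 hx) _ hy)
  -- `Y`
  set B0 : Set G := {x | ∃ l ∈ L, x ∈ cj l E} with hB0
  set Y : Subgroup G := closure B0 with hY
  have hYsq : ∀ x ∈ Y, x * x = 1 := Norm.closure_sq
    (by rintro x ⟨l, hl, hx⟩ y ⟨l', hl', hy⟩; exact cComm l hl l' hl' x hx y hy)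
    (by rintro x ⟨l, hl, hx⟩; exact cSq l x hx)
  have hYcomm : ∀ x ∈ Y, ∀ y ∈ Y, x * y = y * x := by
    intro x hx y hy
    have h1 := hYsq _ (mul_mem hx hy)
    have e1 : x⁻¹ = x := inv_eq_of_mul_eq_one_left (hYsq x hx)
    have e2 : y⁻¹ = y := inv_eq_of_mul_eq_one_left (hYsq y hy)
    have e3 : (x * y)⁻¹ = x * y := inv_eq_of_mul_eq_one_left h1
    rw [← e3, mul_inv_rev, e1, e2]
  have hYL : ∀ l ∈ L, ∀ x ∈ Y, l * x * l⁻¹ ∈ Y := by
    intro l hl x hx
    rw [hY] at hx ⊢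
    induction hx using closure_induction with
    | mem x hx =>
      obtain ⟨l', hl', hx⟩ := hx
      refine subset_closure ⟨l * l', mul_mem hl hl', ?_⟩
      rw [mem_cj] at hx ⊢
      have h1 : (l * l')⁻¹ * (l * x * l⁻¹) * (l * l') = l'⁻¹ * x * l' := by group
      rwa [h1]
    | one => rw [mul_one, mul_inv_cancel]; exact one_mem _
    | mul x y _ _ hx hy =>
      have : l * (x * y) * l⁻¹ = (l * x * l⁻¹) * (l * y * l⁻¹) := by group
      rw [this]; exact mul_mem hx hy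
    | inv x _ hx =>
      have : l * x⁻¹ * l⁻¹ = (l * x * l⁻¹)⁻¹ := by group
      rw [this]; exact inv_mem hx
  have hEY : E ≤ Y := fun x hx => subset_closure ⟨1, one_mem _, by rw [cj_one]; exact hx⟩
  have hz : zz ε 0 ∈ Y := h.mem.zz_mem (fun s hs a ha => hYL s (h.mem.le hs) a ha) hYsq (hEY hrE) hr1
  -- the fixed points of `K` on `Y`
  let PP : Set (Subgroup G) := {A | A ≤ Y ∧ (∀ k ∈ K, ∀ x ∈ A, k * x * k⁻¹ ∈ A) ∧
    ∀ x ∈ A, (∀ k ∈ K, k * x * k⁻¹ = x) → x = 1}
  have hPP : (⊥ : Subgroup G) ∈ PP := by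
    refine ⟨bot_le, ?_, ?_⟩
    · intro k _ x hx
      rw [mem_bot] at hx ⊢
      rw [hx]; group
    · intro x hx _
      exact mem_bot.mp hx
  obtain ⟨A, hA⟩ := (Set.toFinite PP).exists_maximal ⟨⊥, hPP⟩
  obtain ⟨hAY, hAK, hAfix⟩ := hA.prop
  have hall : ∀ l ∈ L, cj l E ≤ A := by
    intro l hl
    by_contra hnot
    have hcY : cj l E ≤ Y := fun x hx => subset_closure ⟨l, hl, hx⟩
    have hdis : ∀ x ∈ A, x ∈ cj l E → x = 1 := by
      intro x hxA hx
      by_contra hx1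
      exact hnot (irrC l hl A hAK x hx hx1 hxA)
    have hmem : A ⊔ cj l E ∈ PP := by
      have hsup : ∀ x, x ∈ A ⊔ cj l E ↔ ∃ p ∈ A, ∃ q ∈ cj l E, p * q = x := by
        intro x
        constructor
        · intro hx
          have h1 : ∀ y ∈ A ⊔ cj l E, ∃ p ∈ A, ∃ q ∈ cj l E, p * q = y := by
            intro y hy
            rw [sup_eq_closure] at hy
            induction hy using closure_induction with
            | mem y hy =>
              rcases hy with hy | hy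
              · exact ⟨y, hy, 1, one_mem _, mul_one _⟩
              · exact ⟨1, one_mem _, y, hy, one_mul _⟩
            | one => exact ⟨1, one_mem _, 1, one_mem _, mul_one _⟩
            | mul y y' _ _ h1 h2 =>
              obtain ⟨p, hp, q, hq, rfl⟩ := h1
              obtain ⟨p', hp', q', hq', rfl⟩ := h2
              refine ⟨p * p', mul_mem hp hp', q * q', mul_mem hq hq', ?_⟩
              have h3 := hYcomm q (hcY hq) p' (hAY hp')
              calc p * p' * (q * q') = p * (p' * q) * q' := by group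
                _ = p * (q * p') * q' := by rw [h3]
                _ = _ := by group
            | inv y _ h1 =>
              obtain ⟨p, hp, q, hq, rfl⟩ := h1
              refine ⟨p⁻¹, inv_mem hp, q⁻¹, inv_mem hq, ?_⟩
              rw [mul_inv_rev]
              exact hYcomm _ (inv_mem (hAY hp)) _ (inv_mem (hcY hq))
          exact h1 x hx
        · rintro ⟨p, hp, q, hq, rfl⟩
          exact mul_mem (mem_sup_left hp) (mem_sup_right hq)
      refine ⟨sup_le hAY hcY, ?_, ?_⟩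
      · intro k hk x hx
        obtain ⟨p, hp, q, hq, rfl⟩ := (hsup x).mp hx
        refine (hsup _).mpr ⟨_, hAK k hk p hp, _, Kc l hl k hk q hq, ?_⟩
        group
      · intro x hx hfix
        obtain ⟨p, hp, q, hq, rfl⟩ := (hsup x).mp hx
        have key : ∀ k ∈ K, k * p * k⁻¹ = p ∧ k * q * k⁻¹ = q := by
          intro k hk
          have h1 := hfix k hk
          have h2 : k * (p * q) * k⁻¹ = (k * p * k⁻¹) * (k * q * k⁻¹) := by group
          rw [h2] at h1
          have h3 : p⁻¹ * (k * p * k⁻¹) = q * (k * q * k⁻¹)⁻¹ := by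
            rw [eq_mul_inv_iff_mul_eq, mul_assoc, h1]
            group
          have h4 : p⁻¹ * (k * p * k⁻¹) = 1 := hdis _ (mul_mem (inv_mem hp) (hAK k hk p hp)) (by
            rw [h3]
            exact mul_mem hq (inv_mem (Kc l hl k hk q hq)))
          have h5 : k * p * k⁻¹ = p := by
            rw [inv_mul_eq_one] at h4
            exact h4.symm
          refine ⟨h5, ?_⟩
          rw [h5] at h1
          exact mul_left_cancel h1
        have hp1 : p = 1 := hAfix p hp fun k hk => (key k hk).1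
        have hq1 : q = 1 := by
          by_contra hq1
          have h1 := irrC l hl (centralizer (K : Set G)) (by
            intro g hg x hx
            rw [mem_centralizer_iff] at hx ⊢
            intro k hk
            have h2 : x * g = g * x := (hx g hg).symm
            rw [← h2, mul_inv_cancel_right]
            exact hx k hk) q hq hq1 (by
            rw [mem_centralizer_iff]
            intro k hk
            rw [← mul_inv_eq_iff_eq_mul]
            exact (key k hk).2)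
          apply hKne
          intro x hx
          have h2 : l * x * l⁻¹ ∈ cj l E := by
            rw [mem_cj]
            have h3 : l⁻¹ * (l * x * l⁻¹) * l = x := by group
            rwa [h3]
          have h3 := h1 h2
          rw [mem_centralizer_iff] at h3 ⊢
          intro k hk
          have h4 := h3 _ (hKnorm l hl k hk)
          have h5 : k * x = l⁻¹ * ((l * k * l⁻¹) * (l * x * l⁻¹)) * l := by group
          rw [h5, h4]
          group
        rw [hp1, hq1, one_mul]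
    have h1 := hA.le_of_ge hmem le_sup_left
    exact hnot (le_sup_right.trans h1)
  have hYA : Y ≤ A := by
    rw [hY, closure_le]
    rintro x ⟨l, hl, hx⟩
    exact hall l hl hx
  have hfin := hAfix _ (hYA hz) (by
    intro k hk
    rw [← mem_centralizer_iff.mp hk _ (zz_mem h.mem.ev 0), mul_inv_cancel_right])
  exact zz_ne_one h.mem.ev h.mem.three 0 hfin

/-- `C_G(V)` fixes the points off `i'`, `j'`. -/
theorem fix_of_mem [Finite G] (hm' : 3 ≤ m') (hnn : NN ε i j ≤ normalizer (V : Set G))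
    (hnn' : NN ε' i' j' ≤ normalizer (V' : Set G)) {k : G} (hk : k ∈ centralizer (V : Set G))
    {a : Fin (2 ^ m' + 1)} (ha : a ≠ i' ∧ a ≠ j') : k * zz ε' a * k⁻¹ = zz ε' a := by
  classical
  by_contra hne
  have hy := h.symm.hyp
  have h8 : 2 ^ 3 ≤ 2 ^ m' := Nat.pow_le_pow_right (by norm_num) hm'
  have hNN : NN ε i j = NN ε' i' j' := by unfold NN; rw [h.rr_eq]
  have hKN : centralizer (V : Set G) ≤ NN ε' i' j' := by rw [← hNN]; exact h.cen_le
  have hKA : centralizer (V : Set G) ≤ A (normalizer (V' : Set G)) ε' i' j' := fun x hx => ⟨hnn' (hKN hx), hKN hx⟩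
  set K1 : Subgroup (A (normalizer (V' : Set G)) ε' i' j') := (centralizer (V : Set G)).subgroupOf _ with hK1
  have hK1n : K1.Normal := by
    constructor
    intro x hx g
    rw [hK1, mem_subgroupOf] at hx ⊢
    have hgN : (g : G) ∈ NN ε i j := by
      rw [hNN]
      exact g.2.2
    exact conj_cent (hnn hgN) hx
  set M : Subgroup (Equiv.Perm {k : Fin (2 ^ m' + 1) // k ≠ i' ∧ k ≠ j'}) := K1.map hy.psi with hM
  have hMn : M.Normal := hK1n.map _ hy.psi_surj
  have hkM : hy.psi ⟨k, hKA hk⟩ ∈ M := ⟨_, hk, rfl⟩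
  have hnt : Nontrivial M := by
    rw [nontrivial_iff_exists_ne_one]
    refine ⟨_, hkM, fun h1 => hne ?_⟩
    have h2 := congrArg (fun σ : Equiv.Perm {k : Fin (2 ^ m' + 1) // k ≠ i' ∧ k ≠ j'} => ((σ ⟨a, ha⟩ :
      {k : Fin (2 ^ m' + 1) // k ≠ i' ∧ k ≠ j'}) : Fin (2 ^ m' + 1))) h1
    change ((hy.psi ⟨k, hKA hk⟩ ⟨a, ha⟩ : {k : Fin (2 ^ m' + 1) // k ≠ i' ∧ k ≠ j'}) : Fin (2 ^ m' + 1)) = a at h2
    rw [hy.psi_apply] at h2
    have h3 := (hy.acts_phi ⟨k, hKA hk⟩).single a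
    rw [h2] at h3
    exact h3
  have hcard : 5 ≤ Nat.card {k : Fin (2 ^ m' + 1) // k ≠ i' ∧ k ≠ j'} := by
    rw [Nat.card_eq_fintype_card, hy.card_Lam]
    omega
  have halt := Equiv.Perm.alternatingGroup_le_of_normal hcard hnt
  refine h.not_cyc hm' hnn' ?_
  intro x b c x1 x2 b1 b2 c1 c2 xb xc bc
  set X : {k : Fin (2 ^ m' + 1) // k ≠ i' ∧ k ≠ j'} := ⟨x, x1, x2⟩ with hX
  set B : {k : Fin (2 ^ m' + 1) // k ≠ i' ∧ k ≠ j'} := ⟨b, b1, b2⟩ with hB
  set C : {k : Fin (2 ^ m' + 1) // k ≠ i' ∧ k ≠ j'} := ⟨c, c1, c2⟩ with hC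
  have nXB : X ≠ B := fun h0 => xb (congrArg Subtype.val h0)
  have nXC : X ≠ C := fun h0 => xc (congrArg Subtype.val h0)
  have nBC : B ≠ C := fun h0 => bc (congrArg Subtype.val h0)
  have hmem : Equiv.swap X B * Equiv.swap B C ∈ M := by
    apply halt
    rw [Equiv.Perm.mem_alternatingGroup, map_mul, Equiv.Perm.sign_swap nXB, Equiv.Perm.sign_swap nBC]
    decide
  obtain ⟨g, hg, hgs⟩ := hmem
  have hgK : (g : G) ∈ centralizer (V : Set G) := hg
  refine ⟨g, hgK, hy.phi g, hy.acts_phi g, ?_, ?_, ?_, ?_, hy.phi_pair g⟩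
  · have h1 := hy.psi_apply g X
    rw [hgs] at h1
    change _ = hy.phi g x at h1
    rw [← h1, Equiv.Perm.mul_apply, Equiv.swap_apply_of_ne_of_ne nXB nXC, Equiv.swap_apply_left]
  · have h1 := hy.psi_apply g B
    rw [hgs] at h1
    change _ = hy.phi g b at h1
    rw [← h1, Equiv.Perm.mul_apply, Equiv.swap_apply_left, Equiv.swap_apply_of_ne_of_ne nXC.symm nBC.symm]
  · have h1 := hy.psi_apply g C
    rw [hgs] at h1
    change _ = hy.phi g c at h1
    rw [← h1, Equiv.Perm.mul_apply, Equiv.swap_apply_right, Equiv.swap_apply_right]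
  · intro d d1 d2 d3 d4 d5
    have h1 := hy.psi_apply g ⟨d, d1, d2⟩
    rw [hgs] at h1
    change _ = hy.phi g d at h1
    have q1 : (⟨d, d1, d2⟩ : {k : Fin (2 ^ m' + 1) // k ≠ i' ∧ k ≠ j'}) ≠ X :=
      fun h0 => d3 (congrArg Subtype.val h0)
    have q2 : (⟨d, d1, d2⟩ : {k : Fin (2 ^ m' + 1) // k ≠ i' ∧ k ≠ j'}) ≠ B :=
      fun h0 => d4 (congrArg Subtype.val h0)
    have q3 : (⟨d, d1, d2⟩ : {k : Fin (2 ^ m' + 1) // k ≠ i' ∧ k ≠ j'}) ≠ C :=
      fun h0 => d5 (congrArg Subtype.val h0)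
    rw [← h1, Equiv.Perm.mul_apply, Equiv.swap_apply_of_ne_of_ne q2 q3, Equiv.swap_apply_of_ne_of_ne q1 q2]

end TT

end Cfsg.Agent.Omega.NSix.RThree

end
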