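import Mathlib

section


/-!
# The matching lemma (bb OMEGA #14103, helper945): pure module theory

`Ω` has `2 ^ m + 1 ≥ 9` points, `Y` is an elementary abelian 2-group with an action of `Sym(Ω)` and an equivariant
copy `ι` of the module of the subsets of `Ω` modulo complements, and a Sylow 2-subgroup of `Sym(Ω)` has only two fixed
points on `Y`.  If `a` is a subset with `2 ^ (m - 1)` points and `e` is a pair disjoint from `a`, then every `x ∈ Y`
which is fixed by all permutations fixing the sets `a` and `e` is `0`, `a`, `e` or `a + e`.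
-/

set_option autoImplicit false

namespace Cfsg.Agent.Omega.NSix.Match

open Equiv Equiv.Perm MulAction Pointwise

section blocks

variable {Ω : Type*} [Fintype Ω] [DecidableEq Ω]

/-- The block systems of a Sylow 2-subgroup `S` of `Sym(2 ^ m + 1)`: the fixed point `o`, the two blocks `a`, `b` of
size `2 ^ (m - 1)`, their stabiliser `M`, and the blocks of size 2 in `b`. -/
structure Blocks (m : ℕ) (S : Subgroup (Perm Ω)) (o : Ω) (a b : Finset Ω) (M : Subgroup (Perm Ω)) (τ : Perm Ω)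
    (μ : Finset (Finset Ω)) : Prop where
  fix : ∀ s ∈ S, s o = o
  le : M ≤ S
  tau : τ ∈ S
  cov : ∀ s ∈ S, s ∈ M ∨ τ⁻¹ * s ∈ M
  norm : ∀ s ∈ M, τ⁻¹ * s * τ ∈ M
  sq : τ * τ ∈ M
  oa : o ∉ a
  ob : o ∉ b
  dis : ∀ x ∈ a, x ∉ b
  uni : ∀ x, x = o ∨ x ∈ a ∨ x ∈ b
  ca : a.card = 2 ^ (m - 1)
  cb : b.card = 2 ^ (m - 1)
  Ma : ∀ s ∈ M, s • a = a
  Mb : ∀ s ∈ M, s • b = b
  ta : τ • a = b
  tb : τ • b = a
  sub : ∀ s ∈ μ, s ⊆ b
  two : ∀ s ∈ μ, s.card = 2
  ex : ∀ x ∈ b, ∃ s ∈ μ, x ∈ s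
  unq : ∀ s ∈ μ, ∀ t ∈ μ, ∀ x, x ∈ s → x ∈ t → s = t
  inv : ∀ g ∈ M, ∀ s ∈ μ, g • s ∈ μ

/-- A Sylow 2-subgroup of `Sym(2 ^ m + 1)` fixes exactly one point and is transitive on the other points. -/
theorem transitive {m : ℕ} (hm : 1 ≤ m) (hc : Fintype.card Ω = 2 ^ m + 1) (S : Sylow 2 (Perm Ω)) :
    ∃ o : Ω, (∀ s ∈ (S : Subgroup (Perm Ω)), s o = o) ∧
      ∀ x y : Ω, x ≠ o → y ≠ o → ∃ s ∈ (S : Subgroup (Perm Ω)), s x = y := by
  have h2m : 2 ≤ 2 ^ m := by
    calc 2 = 2 ^ 1 := by norm_num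
      _ ≤ 2 ^ m := Nat.pow_le_pow_right (by norm_num) hm
  obtain ⟨c, hcyc⟩ := (Equiv.Perm.exists_with_cycleType_iff (α := Ω) (m := {2 ^ m})).mpr
    ⟨by rw [Multiset.sum_singleton, hc]; omega, fun x hx => by
      rw [Multiset.mem_singleton] at hx
      omega⟩
  have hord : orderOf c = 2 ^ m := by
    rw [← Equiv.Perm.lcm_cycleType, hcyc, Multiset.lcm_singleton]
    simp
  have hp : IsPGroup 2 (Subgroup.zpowers c) := by
    rw [IsPGroup.iff_card]
    exact ⟨m, by rw [Nat.card_zpowers, hord]⟩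
  obtain ⟨S', hS'⟩ := hp.exists_le_sylow
  obtain ⟨g, hg⟩ := MulAction.exists_smul_eq (Perm Ω) S' S
  have hc' : g * c * g⁻¹ ∈ (S : Subgroup (Perm Ω)) := by
    rw [← hg]
    rw [Sylow.coe_subgroup_smul]
    exact Subgroup.smul_mem_pointwise_smul _ (MulAut.conj g) _ (hS' (Subgroup.mem_zpowers c))
  set d := g * c * g⁻¹ with hd
  have hdct : d.cycleType = {2 ^ m} := by
    rw [hd, Equiv.Perm.cycleType_conj, hcyc]
  have hdc : d.IsCycle := by
    rw [← Equiv.Perm.card_cycleType_eq_one, hdct, Multiset.card_singleton]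
  have hsupp : d.support.card = 2 ^ m := by
    rw [← Equiv.Perm.sum_cycleType, hdct, Multiset.sum_singleton]
  -- a fixed point of `S`
  obtain ⟨o, ho⟩ : ∃ o : Ω, ∀ s ∈ (S : Subgroup (Perm Ω)), s o = o := by
    have h1 := S.isPGroup'.card_modEq_card_fixedPoints Ω
    have h2 : Nat.card Ω = 2 ^ m + 1 := by rw [Nat.card_eq_fintype_card, hc]
    have h3 : Nat.card (fixedPoints (S : Subgroup (Perm Ω)) Ω) ≠ 0 := by
      intro h0
      rw [h0, h2] at h1
      have h4 : (2 ^ m + 1) % 2 = 0 := h1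
      obtain ⟨k, rfl⟩ : ∃ k, m = k + 1 := ⟨m - 1, by omega⟩
      rw [pow_succ] at h4
      omega
    have h4 : Nonempty (fixedPoints (S : Subgroup (Perm Ω)) Ω) := by
      rw [← Finite.card_pos_iff]
      omega
    obtain ⟨o, ho⟩ := h4
    exact ⟨o, fun s hs => ho ⟨s, hs⟩⟩
  have hos : d.support = Finset.univ.erase o := by
    refine Finset.eq_of_subset_of_card_le ?_ ?_
    · intro x hx
      rw [Finset.mem_erase]
      refine ⟨?_, Finset.mem_univ _⟩
      rintro rfl
      exact (Equiv.Perm.mem_support.mp hx) (ho d hc')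
    · rw [Finset.card_erase_of_mem (Finset.mem_univ _), Finset.card_univ, hc, hsupp]
      simp
  refine ⟨o, ho, fun x y hx hy => ?_⟩
  have hxs : d x ≠ x := by
    rw [← Equiv.Perm.mem_support, hos]
    exact Finset.mem_erase.mpr ⟨hx, Finset.mem_univ _⟩
  have hys : d y ≠ y := by
    rw [← Equiv.Perm.mem_support, hos]
    exact Finset.mem_erase.mpr ⟨hy, Finset.mem_univ _⟩
  obtain ⟨i, hi⟩ := hdc.sameCycle hxs hys
  exact ⟨d ^ i, Subgroup.zpow_mem _ hc' i, hi⟩

/-- the orbit of `x` as a finset -/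
noncomputable def orb (K : Subgroup (Perm Ω)) (x : Ω) : Finset Ω := by
  classical
  exact Finset.univ.filter fun y => ∃ k ∈ K, k x = y

theorem mem_orb {K : Subgroup (Perm Ω)} {x y : Ω} : y ∈ orb K x ↔ ∃ k ∈ K, k x = y := by
  simp [orb]

theorem self_mem_orb (K : Subgroup (Perm Ω)) (x : Ω) : x ∈ orb K x := mem_orb.mpr ⟨1, K.one_mem, rfl⟩

theorem smul_orb {K : Subgroup (Perm Ω)} {x : Ω} {g : Perm Ω} (hg : g ∈ K) : g • orb K x = orb K x := by
  ext y
  rw [← Finset.inv_smul_mem_iff, mem_orb, mem_orb]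
  constructor
  · rintro ⟨k, hk, h⟩
    refine ⟨g * k, K.mul_mem hg hk, ?_⟩
    rw [Perm.mul_apply, h]
    exact g.apply_symm_apply y
  · rintro ⟨k, hk, h⟩
    refine ⟨g⁻¹ * k, K.mul_mem (K.inv_mem hg) hk, ?_⟩
    rw [Perm.mul_apply, h]
    rfl

theorem card_orb (K : Subgroup (Perm Ω)) (x : Ω) :
    (orb K x).card * Nat.card ↥(K ⊓ stabilizer (Perm Ω) x) = Nat.card K := by
  have h1 := (stabilizer K x).index_mul_card
  rw [MulAction.index_stabilizer] at h1
  have h2 : (orbit K x).ncard = (orb K x).card := by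
    rw [← Set.ncard_coe_finset]
    congr 1
    ext y
    rw [Finset.mem_coe, mem_orb]
    constructor
    · rintro ⟨k, h⟩
      exact ⟨k, k.2, h⟩
    · rintro ⟨k, hk, h⟩
      exact ⟨⟨k, hk⟩, h⟩
  have h3 : Nat.card (stabilizer K x) = Nat.card ↥(K ⊓ stabilizer (Perm Ω) x) := by
    refine Nat.card_congr ⟨fun k => ⟨k.1.1, k.1.2, k.2⟩, fun k => ⟨⟨k.1, k.2.1⟩, k.2.2⟩, fun _ => rfl, fun _ => rfl⟩
  rw [h2, h3] at h1
  exact h1

theorem exists_blocks {m : ℕ} (hm : 2 ≤ m) (hc : Fintype.card Ω = 2 ^ m + 1) (S : Sylow 2 (Perm Ω)) :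
    ∃ (o : Ω) (a b : Finset Ω) (M : Subgroup (Perm Ω)) (τ : Perm Ω) (μ : Finset (Finset Ω)),
      Blocks m (S : Subgroup (Perm Ω)) o a b M τ μ := by
  classical
  obtain ⟨o, ho, htr⟩ := transitive (by omega) hc S
  have h2m : 2 ≤ 2 ^ m := by
    calc 2 = 2 ^ 1 := by norm_num
      _ ≤ 2 ^ m := Nat.pow_le_pow_right (by norm_num) (by omega)
  have : Nontrivial Ω := Fintype.one_lt_card_iff_nontrivial.mp (by omega)
  obtain ⟨x, hx⟩ := exists_ne o
  set T : Subgroup (Perm Ω) := (S : Subgroup (Perm Ω)) with hT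
  obtain ⟨N, hN⟩ := (IsPGroup.iff_card.mp S.isPGroup' : ∃ n, Nat.card T = 2 ^ n)
  have horbT : orb T x = Finset.univ.erase o := by
    ext y
    rw [mem_orb, Finset.mem_erase]
    constructor
    · rintro ⟨k, hk, rfl⟩
      refine ⟨fun h0 => hx ?_, Finset.mem_univ _⟩
      have h1 := ho k hk
      exact k.injective (h0.trans h1.symm)
    · rintro ⟨hy, -⟩
      exact htr x y hx hy
  have hcT := card_orb T x
  rw [horbT, Finset.card_erase_of_mem (Finset.mem_univ _), Finset.card_univ, hc, Nat.add_sub_cancel, hN] at hcT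
  set H : Subgroup (Perm Ω) := T ⊓ stabilizer (Perm Ω) x with hH
  have hmN : m ≤ N := by
    have h1 : 2 ^ m ∣ 2 ^ N := ⟨_, hcT.symm⟩
    exact (Nat.pow_dvd_pow_iff_le_right (by norm_num)).mp h1
  have hHcard : Nat.card H = 2 ^ (N - m) := by
    have h1 : 2 ^ N = 2 ^ m * 2 ^ (N - m) := by rw [← pow_add]; congr 1; omega
    rw [h1] at hcT
    exact Nat.eq_of_mul_eq_mul_left (by positivity) hcT
  have hHT : H ≤ T := inf_le_left
  have hH'card : Nat.card (H.subgroupOf T) = 2 ^ (N - m) := by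
    rw [← hHcard]
    exact Nat.card_congr (Subgroup.subgroupOfEquivOfLe hHT).toEquiv
  obtain ⟨K', hK'card, hHK'⟩ := Sylow.exists_subgroup_card_pow_succ (p := 2) (n := N - m)
    (G := T) (by rw [hN]; exact pow_dvd_pow 2 (by omega)) hH'card
  obtain ⟨M', hM'card, hKM'⟩ := Sylow.exists_subgroup_card_pow_prime_le (G := T) 2 (n := N - m + 1) (m := N - 1)
    (by rw [hN]; exact pow_dvd_pow 2 (by omega)) K' hK'card (by omega)
  have hidx : M'.index = 2 := by
    have h1 := M'.index_mul_card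
    rw [hM'card, hN] at h1
    have h2 : 2 ^ N = 2 * 2 ^ (N - 1) := by
      rw [← pow_succ']; congr 1; omega
    rw [h2] at h1
    exact Nat.eq_of_mul_eq_mul_right (by positivity) h1
  set K : Subgroup (Perm Ω) := K'.map T.subtype with hK
  set M : Subgroup (Perm Ω) := M'.map T.subtype with hM
  have hKcard : Nat.card K = 2 ^ (N - m + 1) := by
    rw [← hK'card]
    exact Nat.card_congr (Subgroup.equivMapOfInjective K' _ T.subtype_injective).toEquiv.symm
  have hMcard : Nat.card M = 2 ^ (N - 1) := by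
    rw [← hM'card]
    exact Nat.card_congr (Subgroup.equivMapOfInjective M' _ T.subtype_injective).toEquiv.symm
  have hMT : M ≤ T := by
    rw [hM]
    exact Subgroup.map_subtype_le _
  have hKM : K ≤ M := Subgroup.map_mono hKM'
  have hHK : H ≤ K := by
    intro h hh
    exact ⟨⟨h, hHT hh⟩, hHK' hh, rfl⟩
  have memM : ∀ {s : Perm Ω} (hs : s ∈ T), s ∈ M ↔ (⟨s, hs⟩ : T) ∈ M' := by
    intro s hs
    constructor
    · rintro ⟨t, ht, rfl⟩
      exact ht
    · intro h
      exact ⟨_, h, rfl⟩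
  obtain ⟨τ', hτ'⟩ : ∃ τ' : T, τ' ∉ M' := by
    by_contra h0
    push Not at h0
    have h1 : M' = ⊤ := by
      rw [Subgroup.eq_top_iff']
      exact h0
    rw [h1, Subgroup.index_top] at hidx
    omega
  have hstab : ∀ L : Subgroup (Perm Ω), H ≤ L → L ≤ T → L ⊓ stabilizer (Perm Ω) x = H := by
    intro L h1 h2
    apply le_antisymm
    · exact le_inf (inf_le_left.trans h2) inf_le_right
    · exact le_inf h1 inf_le_right
  have hoK : (orb K x).card = 2 := by
    have h1 := card_orb K x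
    rw [hstab K hHK (hKM.trans hMT), hHcard, hKcard, pow_succ'] at h1
    exact Nat.eq_of_mul_eq_mul_right (by positivity) h1
  have hoM : (orb M x).card = 2 ^ (m - 1) := by
    have h1 := card_orb M x
    have h2 : 2 ^ (N - 1) = 2 ^ (m - 1) * 2 ^ (N - m) := by
      rw [← pow_add]; congr 1; omega
    rw [hstab M (hHK.trans hKM) hMT, hHcard, hMcard, h2] at h1
    exact Nat.eq_of_mul_eq_mul_right (by positivity) h1
  have hcov : ∀ s ∈ T, s ∈ M ∨ (τ' : Perm Ω)⁻¹ * s ∈ M := by
    intro s hs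
    by_cases h0 : s ∈ M
    · exact Or.inl h0
    · right
      have h1 : (τ' : Perm Ω)⁻¹ * s ∈ T := T.mul_mem (T.inv_mem τ'.2) hs
      rw [memM h1]
      have h2 : (⟨(τ' : Perm Ω)⁻¹ * s, h1⟩ : T) = τ'⁻¹ * ⟨s, hs⟩ := rfl
      rw [h2, Subgroup.mul_mem_iff_of_index_two hidx, inv_mem_iff, ← memM hs]
      exact ⟨fun h => absurd h hτ', fun h => absurd h h0⟩
  have hnorm : ∀ s ∈ M, (τ' : Perm Ω)⁻¹ * s * τ' ∈ M := by
    intro s hs
    have h1 : (τ' : Perm Ω)⁻¹ * s * τ' ∈ T := T.mul_mem (T.mul_mem (T.inv_mem τ'.2) (hMT hs)) τ'.2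
    rw [memM h1]
    have : M'.Normal := Subgroup.normal_of_index_eq_two hidx
    have h2 := this.conj_mem ⟨s, hMT hs⟩ ((memM (hMT hs)).mp hs) τ'⁻¹
    rw [inv_inv] at h2
    exact h2
  have hsq : (τ' : Perm Ω) * τ' ∈ M := by
    rw [memM (T.mul_mem τ'.2 τ'.2)]
    have h2 : (⟨(τ' : Perm Ω) * τ', T.mul_mem τ'.2 τ'.2⟩ : T) = τ' * τ' := rfl
    rw [h2, Subgroup.mul_mem_iff_of_index_two hidx]
  have hfixT : ∀ (K : Subgroup (Perm Ω)), K ≤ T → ∀ y ∈ orb K x, y ≠ o := by
    intro L hL y hy h0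
    obtain ⟨k, hk, rfl⟩ := mem_orb.mp hy
    exact hx (k.injective (h0.trans (ho k (hL hk)).symm))
  refine ⟨o, (τ' : Perm Ω) • orb M x, orb M x, M, τ', Finset.univ.filter fun s => ∃ g ∈ M, s = g • orb K x, ?_⟩
  exact {
    fix := ho
    le := hMT
    tau := τ'.2
    cov := hcov
    norm := hnorm
    sq := hsq
    oa := by
      intro h0
      obtain ⟨y, hy, h1⟩ := Finset.mem_smul_finset.mp h0
      have h2 := ho τ' τ'.2
      exact hfixT M hMT y hy ((τ' : Perm Ω).injective (h1.trans h2.symm))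
    ob := fun h0 => hfixT M hMT o h0 rfl
    dis := by
      intro y hy hy'
      obtain ⟨z, hz, h1⟩ := Finset.mem_smul_finset.mp hy
      obtain ⟨k, hk, rfl⟩ := mem_orb.mp hz
      obtain ⟨l, hl, h2⟩ := mem_orb.mp hy'
      have h3 : l⁻¹ * τ' * k ∈ H := by
        refine ⟨T.mul_mem (T.mul_mem (T.inv_mem (hMT hl)) τ'.2) (hMT hk), ?_⟩
        change (l⁻¹ * τ' * k) x = x
        rw [Perm.mul_apply, Perm.mul_apply]
        have h4 : (τ' : Perm Ω) (k x) = y := h1
        rw [h4, ← h2]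
        exact l.symm_apply_apply x
      have h4 : l * (l⁻¹ * τ' * k) * k⁻¹ ∈ M := M.mul_mem (M.mul_mem hl (hKM (hHK h3))) (M.inv_mem hk)
      have h5 : l * (l⁻¹ * τ' * k) * k⁻¹ = (τ' : Perm Ω) := by group
      rw [h5] at h4
      exact hτ' ((memM τ'.2).mp h4)
    uni := by
      intro y
      by_cases hy : y = o
      · exact Or.inl hy
      right
      obtain ⟨s, hs, rfl⟩ := htr x y hx hy
      rcases hcov s hs with h1 | h1
      · right
        exact mem_orb.mpr ⟨s, h1, rfl⟩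
      · left
        refine Finset.mem_smul_finset.mpr ⟨((τ' : Perm Ω)⁻¹ * s) x, mem_orb.mpr ⟨_, h1, rfl⟩, ?_⟩
        change (τ' : Perm Ω) (((τ' : Perm Ω)⁻¹ * s) x) = s x
        rw [Perm.mul_apply]
        exact (τ' : Perm Ω).apply_symm_apply _
    ca := by rw [Finset.card_smul_finset, hoM]
    cb := hoM
    Ma := by
      intro s hs
      have h1 := smul_orb (x := x) (hnorm s hs)
      calc s • (τ' : Perm Ω) • orb M x = (τ' : Perm Ω) • ((τ' : Perm Ω)⁻¹ * s * τ') • orb M x := by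
            rw [← mul_smul, ← mul_smul]
            congr 1
            group
        _ = _ := by rw [h1]
    Mb := fun s hs => smul_orb hs
    ta := by
      rw [← mul_smul]
      exact smul_orb hsq
    tb := rfl
    sub := by
      intro s hs
      obtain ⟨g, hg, rfl⟩ := (Finset.mem_filter.mp hs).2
      intro y hy
      obtain ⟨z, hz, rfl⟩ := Finset.mem_smul_finset.mp hy
      obtain ⟨k, hk, rfl⟩ := mem_orb.mp hz
      exact mem_orb.mpr ⟨g * k, M.mul_mem hg (hKM hk), rfl⟩
    two := by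
      intro s hs
      obtain ⟨g, hg, rfl⟩ := (Finset.mem_filter.mp hs).2
      rw [Finset.card_smul_finset, hoK]
    ex := by
      intro y hy
      obtain ⟨k, hk, rfl⟩ := mem_orb.mp hy
      refine ⟨k • orb K x, Finset.mem_filter.mpr ⟨Finset.mem_univ _, k, hk, rfl⟩, ?_⟩
      exact Finset.mem_smul_finset.mpr ⟨x, self_mem_orb K x, rfl⟩
    unq := by
      intro s hs t ht y hys hyt
      obtain ⟨g, hg, rfl⟩ := (Finset.mem_filter.mp hs).2
      obtain ⟨g', hg', rfl⟩ := (Finset.mem_filter.mp ht).2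
      obtain ⟨z, hz, h1⟩ := Finset.mem_smul_finset.mp hys
      obtain ⟨k, hk, rfl⟩ := mem_orb.mp hz
      obtain ⟨z', hz', h1'⟩ := Finset.mem_smul_finset.mp hyt
      obtain ⟨k', hk', rfl⟩ := mem_orb.mp hz'
      have h3 : k'⁻¹ * g'⁻¹ * g * k ∈ H := by
        refine ⟨T.mul_mem (T.mul_mem (T.mul_mem (T.inv_mem (hMT (hKM hk'))) (T.inv_mem (hMT hg'))) (hMT hg))
          (hMT (hKM hk)), ?_⟩
        change (k'⁻¹ * g'⁻¹ * g * k) x = x
        rw [Perm.mul_apply, Perm.mul_apply, Perm.mul_apply]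
        have h4 : g (k x) = g' (k' x) := h1.trans h1'.symm
        rw [h4]
        have h5 : g'⁻¹ (g' (k' x)) = k' x := g'.symm_apply_apply _
        rw [h5]
        exact k'.symm_apply_apply x
      have h4 : k' * (k'⁻¹ * g'⁻¹ * g * k) * k⁻¹ ∈ K := K.mul_mem (K.mul_mem hk' (hHK h3)) (K.inv_mem hk)
      have h5 : k' * (k'⁻¹ * g'⁻¹ * g * k) * k⁻¹ = g'⁻¹ * g := by group
      rw [h5] at h4
      calc g • orb K x = g' • (g'⁻¹ * g) • orb K x := by
            rw [← mul_smul]
            congr 1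
            group
        _ = _ := by rw [smul_orb h4]
    inv := by
      intro g hg s hs
      obtain ⟨g', hg', rfl⟩ := (Finset.mem_filter.mp hs).2
      refine Finset.mem_filter.mpr ⟨Finset.mem_univ _, g * g', M.mul_mem hg hg', ?_⟩
      rw [mul_smul] }

end blocks

section module

variable {Ω : Type*} [Fintype Ω] [DecidableEq Ω] {Y : Type*} [AddCommGroup Y] [DistribMulAction (Perm Ω) Y]

/-- indicator function -/
def ind (s : Finset Ω) : Ω → ZMod 2 := fun x => if x ∈ s then 1 else 0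

/-- `Y` is elementary abelian and `ι` is an equivariant copy of the module of the subsets modulo complements. -/
structure Mod (ι : (Ω → ZMod 2) → Y) : Prop where
  two : ∀ y : Y, y + y = 0
  add : ∀ f g, ι (f + g) = ι f + ι g
  act : ∀ (σ : Perm Ω) f, σ • ι f = ι (f ∘ σ.symm)
  ker : ∀ f, ι f = 0 ↔ f = 0 ∨ f = 1

theorem exists_ext {n : ℕ} (a : Finset Ω) (f f' : Fin n → Ω) (hf : Function.Injective f)
    (hf' : Function.Injective f') (h : ∀ i, f i ∉ a) (h' : ∀ i, f' i ∉ a) :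
    ∃ g : Perm Ω, g • a = a ∧ ∀ i, g (f i) = f' i := by
  have key : ∀ f : Fin n → Ω, Function.Injective f → (∀ i, f i ∉ a) →
      Function.Injective (Sum.elim (fun x : a => (x : Ω)) f) := by
    intro f hf h
    rintro (x | i) (y | j) hxy
    · exact congrArg Sum.inl (Subtype.ext hxy)
    · have h1 : (x : Ω) = f j := hxy
      exact absurd (h1 ▸ x.2) (h j)
    · have h1 : f i = (y : Ω) := hxy
      exact absurd (h1.symm ▸ y.2) (h i)
    · exact congrArg Sum.inr (hf hxy)
  obtain ⟨g, hg⟩ := Perm.exists_extending_pair (Sum.elim (fun x : a => (x : Ω)) f)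
    (Sum.elim (fun x : a => (x : Ω)) f') (key f hf h) (key f' hf' h')
  refine ⟨g, ?_, fun i => hg (Sum.inr i)⟩
  refine Finset.eq_of_subset_of_card_le ?_ (by rw [Finset.card_smul_finset])
  intro y hy
  obtain ⟨x, hx, rfl⟩ := Finset.mem_smul_finset.mp hy
  have h1 : g x = x := hg (Sum.inl ⟨x, hx⟩)
  rw [Perm.smul_def, h1]
  exact hx

theorem pair_smul (g : Perm Ω) (i j : Ω) : g • ({i, j} : Finset Ω) = {g i, g j} := by
  rw [Finset.smul_finset_insert, Finset.smul_finset_singleton, Perm.smul_def, Perm.smul_def]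

theorem smul_eq_self_of {g : Perm Ω} {s : Finset Ω} (h : ∀ x ∈ s, g x = x) : g • s = s := by
  refine Finset.eq_of_subset_of_card_le ?_ (by rw [Finset.card_smul_finset])
  intro y hy
  obtain ⟨x, hx, rfl⟩ := Finset.mem_smul_finset.mp hy
  rw [Perm.smul_def, h x hx]
  exact hx

theorem swap_smul_eq_self {u v : Ω} {s : Finset Ω} (hu : u ∉ s) (hv : v ∉ s) : swap u v • s = s := by
  refine smul_eq_self_of fun x hx => swap_apply_of_ne_of_ne ?_ ?_
  · rintro rfl
    exact hu hx
  · rintro rfl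
    exact hv hx

namespace Mod

variable {ι : (Ω → ZMod 2) → Y} (hM : Mod ι)
include hM

theorem eq_iff_add {x y : Y} : x = y ↔ x + y = 0 := by
  constructor
  · rintro rfl
    exact hM.two x
  · intro h
    calc x = x + (y + y) := by rw [hM.two, add_zero]
      _ = x + y + y := (add_assoc _ _ _).symm
      _ = y := by rw [h, zero_add]

theorem exch {a b c d : Y} (h : a + b = c + d) : a + c = b + d := by
  rw [hM.eq_iff_add]
  rw [hM.eq_iff_add] at h
  rw [← h]
  abel

theorem add_cancel (x y : Y) : x + (x + y) = y := by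
  rw [← add_assoc, hM.two, zero_add]

theorem act_ind (σ : Perm Ω) (s : Finset Ω) : σ • ι (ind s) = ι (ind (σ • s)) := by
  rw [hM.act]
  congr 1
  funext x
  have h1 : σ.symm x ∈ s ↔ x ∈ σ • s := by
    rw [← Finset.inv_smul_mem_iff]
    rfl
  simp only [ind, Function.comp, h1]

theorem fixed {m : ℕ} {S : Subgroup (Perm Ω)} {o : Ω} {a b : Finset Ω} {M : Subgroup (Perm Ω)} {τ : Perm Ω}
    {μ : Finset (Finset Ω)} (B : Blocks m S o a b M τ μ)
    (hS : ∀ y : Y, (∀ s ∈ S, s • y = y) → y = 0 ∨ y = ι (ind {o})) {y : Y} (hy : ∀ s ∈ M, s • y = y) :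
    y = 0 ∨ y = ι (ind a) ∨ y = ι (ind b) ∨ y = ι (ind a) + ι (ind b) := by
  have hz : ι (ind {o}) = ι (ind a) + ι (ind b) := by
    rw [hM.eq_iff_add, ← hM.add, ← hM.add, hM.ker]
    right
    funext x
    have ho1 := B.oa
    have ho2 := B.ob
    have hd := B.dis x
    rcases B.uni x with rfl | h | h
    · simp [ind, ho1, ho2]
    · have h1 : x ≠ o := by
        rintro rfl
        exact ho1 h
      simp [ind, h, hd h, h1]
    · have h1 : x ≠ o := by
        rintro rfl
        exact ho2 h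
      have h2 : x ∉ a := fun h3 => hd h3 h
      simp [ind, h, h1, h2]
  have hfix : ∀ w : Y, (∀ s ∈ M, s • w = w) → τ • w = w → ∀ s ∈ S, s • w = w := by
    intro w hw hτ s hs
    rcases B.cov s hs with h1 | h1
    · exact hw s h1
    · calc s • w = τ • (τ⁻¹ * s) • w := by rw [← mul_smul, mul_inv_cancel_left]
        _ = w := by rw [hw _ h1, hτ]
  have hτM : ∀ w : Y, (∀ s ∈ M, s • w = w) → ∀ s ∈ M, s • τ • w = τ • w := by
    intro w hw s hs
    calc s • τ • w = τ • (τ⁻¹ * s * τ) • w := by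
          rw [← mul_smul, ← mul_smul]
          congr 1
          group
      _ = _ := by rw [hw _ (B.norm s hs)]
  have hττ : ∀ w : Y, (∀ s ∈ M, s • w = w) → τ • τ • w = w := by
    intro w hw
    rw [← mul_smul, hw _ B.sq]
  have hw1 : y + τ • y = 0 ∨ y + τ • y = ι (ind {o}) := by
    refine hS _ (hfix _ ?_ ?_)
    · intro s hs
      rw [smul_add, hy s hs, hτM y hy s hs]
    · rw [smul_add, hττ y hy, add_comm]
  rcases hw1 with h1 | h1
  · have h2 : τ • y = y := (hM.eq_iff_add.mpr h1).symm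
    rcases hS y (hfix y hy h2) with h3 | h3
    · exact Or.inl h3
    · right; right; right
      rw [h3, hz]
  · have ha : ∀ s ∈ M, s • ι (ind a) = ι (ind a) := by
      intro s hs
      rw [hM.act_ind, B.Ma s hs]
    have hτa : τ • ι (ind a) = ι (ind b) := by
      rw [hM.act_ind, B.ta]
    have h2 : τ • (y + ι (ind a)) = y + ι (ind a) := by
      rw [smul_add, hτa]
      have h3 : y + τ • y = ι (ind a) + ι (ind b) := by rw [h1, hz]
      have h4 := hM.exch h3
      rw [h4]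
    have h3 : ∀ s ∈ M, s • (y + ι (ind a)) = y + ι (ind a) := by
      intro s hs
      rw [smul_add, hy s hs, ha s hs]
    rcases hS _ (hfix _ h3 h2) with h4 | h4
    · right; left
      exact hM.eq_iff_add.mpr h4
    · right; right; left
      rw [hz] at h4
      exact add_right_cancel (h4.trans (add_comm _ _))

/-! ### The vectors `X s` -/

section core

omit hM

variable (a e : Finset Ω) (x : Y)

open Classical in
/-- the image of `x` under any permutation which fixes the set `a` and maps the set `e` to `s` -/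
noncomputable def X (s : Finset Ω) : Y := if h : ∃ g : Perm Ω, g • a = a ∧ g • e = s then h.choose • x else 0

variable {a e x} (hx : ∀ σ : Perm Ω, σ • a = a → σ • e = e → σ • x = x)
include hx

theorem X_eq {g : Perm Ω} {s : Finset Ω} (h1 : g • a = a) (h2 : g • e = s) : X a e x s = g • x := by
  have h : ∃ g : Perm Ω, g • a = a ∧ g • e = s := ⟨g, h1, h2⟩
  rw [X, dif_pos h]
  obtain ⟨h3, h4⟩ := h.choose_spec
  have h5 : (g⁻¹ * h.choose) • x = x := by
    refine hx _ ?_ ?_
    · rw [mul_smul, h3, inv_smul_eq_iff, h1]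
    · rw [mul_smul, h4, inv_smul_eq_iff, h2]
  rw [mul_smul, inv_smul_eq_iff] at h5
  exact h5

theorem X_smul {σ : Perm Ω} {s : Finset Ω} (hσ : σ • a = a) (hs : ∃ g : Perm Ω, g • a = a ∧ g • e = s) :
    σ • X a e x s = X a e x (σ • s) := by
  obtain ⟨g, h1, h2⟩ := hs
  rw [X_eq hx h1 h2, X_eq hx (g := σ * g) (by rw [mul_smul, h1, hσ]) (by rw [mul_smul, h2]), mul_smul]

end core

end Mod

theorem inj_two {i j : Ω} (h : i ≠ j) : Function.Injective ![i, j] := by
  intro u v huv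
  fin_cases u <;> fin_cases v <;> simp_all

theorem inj_four {i j k l : Ω} (h1 : i ≠ j) (h2 : i ≠ k) (h3 : i ≠ l) (h4 : j ≠ k) (h5 : j ≠ l) (h6 : k ≠ l) :
    Function.Injective ![i, j, k, l] := by
  intro u v huv
  fin_cases u <;> fin_cases v <;> simp_all

theorem mem_of_smul_eq {a : Finset Ω} {g : Perm Ω} (h : g • a = a) {i : Ω} (hi : i ∉ a) : g i ∉ a := by
  intro h0
  apply hi
  rw [← h] at h0
  exact (Finset.smul_mem_smul_finset_iff g).mp h0

theorem swap_smul_eq_self_of_mem {u v : Ω} {s : Finset Ω} (hu : u ∈ s) (hv : v ∈ s) : swap u v • s = s := by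
  refine Finset.eq_of_subset_of_card_le ?_ (by rw [Finset.card_smul_finset])
  intro y hy
  obtain ⟨x, hx, rfl⟩ := Finset.mem_smul_finset.mp hy
  rw [Perm.smul_def]
  by_cases h1 : x = u
  · rw [h1, swap_apply_left]
    exact hv
  by_cases h2 : x = v
  · rw [h2, swap_apply_right]
    exact hu
  rw [swap_apply_of_ne_of_ne h1 h2]
  exact hx

/-- The matching lemma for the block `a` of a Sylow subgroup. -/
theorem core {ι : (Ω → ZMod 2) → Y} (hM : Mod ι) {m : ℕ} (hm : 3 ≤ m) {S : Subgroup (Perm Ω)} {o : Ω}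
    {a b : Finset Ω} {M : Subgroup (Perm Ω)} {τ : Perm Ω} {μ : Finset (Finset Ω)} (B : Blocks m S o a b M τ μ)
    (hS : ∀ y : Y, (∀ s ∈ S, s • y = y) → y = 0 ∨ y = ι (ind {o})) {e : Finset Ω} {x : Y}
    (he : e.card = 2) (hea : Disjoint e a) (hx : ∀ σ : Perm Ω, σ • a = a → σ • e = e → σ • x = x) :
    x = 0 ∨ x = ι (ind a) ∨ x = ι (ind e) ∨ x = ι (ind a) + ι (ind e) := by
  obtain ⟨e1, e2, hne, rfl⟩ := Finset.card_eq_two.mp he
  have he1 : e1 ∉ a := Finset.disjoint_left.mp hea (by simp)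
  have he2 : e2 ∉ a := Finset.disjoint_left.mp hea (by simp)
  have hex : ∀ i j, i ≠ j → i ∉ a → j ∉ a → ∃ g : Perm Ω, g • a = a ∧ g • ({e1, e2} : Finset Ω) = {i, j} := by
    intro i j hij hi hj
    obtain ⟨g, hg, h1⟩ := exists_ext a ![e1, e2] ![i, j] (inj_two hne) (inj_two hij)
      (by intro u; fin_cases u <;> assumption) (by intro u; fin_cases u <;> assumption)
    refine ⟨g, hg, ?_⟩
    have h2 : g e1 = i := h1 0
    have h3 : g e2 = j := h1 1
    rw [pair_smul, h2, h3]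
  set P : Ω → Ω → Y := fun i j => Mod.X a {e1, e2} x {i, j} with hPdef
  have hP : ∀ g : Perm Ω, g • a = a → ∀ i j, i ≠ j → i ∉ a → j ∉ a → g • P i j = P (g i) (g j) := by
    intro g hg i j hij hi hj
    change g • Mod.X a {e1, e2} x {i, j} = Mod.X a {e1, e2} x {g i, g j}
    rw [Mod.X_smul hx hg (hex i j hij hi hj), pair_smul]
  have hPc : ∀ i j, P i j = P j i := by
    intro i j
    change Mod.X a {e1, e2} x {i, j} = Mod.X a {e1, e2} x {j, i}
    rw [Finset.pair_comm i j]
  have hba : ∀ {i}, i ∈ b → i ∉ a := fun {i} hi h0 => B.dis i h0 hi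
  have hμ : ∀ s ∈ μ, ∀ i ∈ s, ∃ j, j ≠ i ∧ j ∈ b ∧ s = {j, i} := by
    intro s hs i hi
    obtain ⟨u, v, huv, rfl⟩ := Finset.card_eq_two.mp (B.two s hs)
    have hu := B.sub _ hs (by simp : u ∈ ({u, v} : Finset Ω))
    have hv := B.sub _ hs (by simp : v ∈ ({u, v} : Finset Ω))
    rcases (by simpa using hi : i = u ∨ i = v) with rfl | rfl
    · exact ⟨v, huv.symm, hv, Finset.pair_comm _ _⟩
    · exact ⟨u, huv, hu, rfl⟩
  have hμex : ∀ s ∈ μ, ∃ g : Perm Ω, g • a = a ∧ g • ({e1, e2} : Finset Ω) = s := by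
    intro s hs
    obtain ⟨u, v, huv, rfl⟩ := Finset.card_eq_two.mp (B.two s hs)
    have hu := B.sub _ hs (by simp : u ∈ ({u, v} : Finset Ω))
    have hv := B.sub _ hs (by simp : v ∈ ({u, v} : Finset Ω))
    exact hex u v huv (hba hu) (hba hv)
  have hsum : ∀ ν : Finset (Finset Ω), ν ⊆ μ → ∀ g : Perm Ω, g • a = a → (∀ s ∈ ν, g • s = s) →
      g • ∑ s ∈ ν, Mod.X a {e1, e2} x s = ∑ s ∈ ν, Mod.X a {e1, e2} x s := by
    intro ν hν g hg h1
    rw [Finset.smul_sum]
    refine Finset.sum_congr rfl fun s hs => ?_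
    rw [Mod.X_smul hx hg (hμex s (hν hs)), h1 s hs]
  set y : Y := ∑ s ∈ μ, Mod.X a {e1, e2} x s with hy
  have hyM : ∀ g ∈ M, g • y = y := by
    intro g hg
    rw [hy, Finset.smul_sum]
    refine Finset.sum_nbij' (fun s => g • s) (fun s => g⁻¹ • s) (fun s hs => B.inv g hg s hs)
      (fun s hs => B.inv _ (M.inv_mem hg) s hs) (fun s _ => inv_smul_smul g s) (fun s _ => smul_inv_smul g s) ?_
    intro s hs
    exact Mod.X_smul hx (B.Ma g hg) (hμex s hs)
  have hy4 := hM.fixed B hS hyM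
  have hab : ∀ g : Perm Ω, g • a = a → g • b = b → ∀ w : Y,
      (w = 0 ∨ w = ι (ind a) ∨ w = ι (ind b) ∨ w = ι (ind a) + ι (ind b)) → g • w = w := by
    rintro g h1 h2 w (rfl | rfl | rfl | rfl)
    · exact smul_zero g
    · rw [hM.act_ind, h1]
    · rw [hM.act_ind, h2]
    · rw [smul_add, hM.act_ind, hM.act_ind, h1, h2]
  -- two members of the matching
  have hcb4 : 4 ≤ b.card := by
    rw [B.cb]
    calc 4 = 2 ^ 2 := by norm_num
      _ ≤ 2 ^ (m - 1) := Nat.pow_le_pow_right (by norm_num) (by omega)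
  obtain ⟨p', hp'⟩ : ∃ p', p' ∈ b := Finset.card_pos.mp (by omega)
  obtain ⟨s1, hs1, hps1⟩ := B.ex p' hp'
  obtain ⟨p, hpp, hp, rfl⟩ := hμ s1 hs1 p' hps1
  obtain ⟨q, hq, hqs⟩ : ∃ q ∈ b, q ∉ ({p, p'} : Finset Ω) := by
    apply Finset.exists_mem_notMem_of_card_lt_card
    have := B.two _ hs1
    omega
  obtain ⟨s2, hs2, hqs2⟩ := B.ex q hq
  obtain ⟨q', hqq, hq', hs2e⟩ := hμ s2 hs2 q hqs2
  rw [Finset.pair_comm] at hs2e
  subst hs2e
  have hs12 : ({p, p'} : Finset Ω) ≠ {q, q'} := by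
    intro h0
    exact hqs (by rw [h0]; simp)
  have hqp : q ≠ p := fun h0 => hqs (by rw [h0]; simp)
  have hqp' : q ≠ p' := fun h0 => hqs (by rw [h0]; simp)
  have hq'p : q' ≠ p := fun h0 => hs12 (B.unq _ hs1 _ hs2 p (by simp) (by rw [← h0]; simp))
  have hq'p' : q' ≠ p' := fun h0 => hs12 (B.unq _ hs1 _ hs2 p' (by simp) (by rw [← h0]; simp))
  have hbase : P p p' + P q q' = P p q + P p' q' := by
    set g : Perm Ω := swap p' q with hg
    have hga : g • a = a := swap_smul_eq_self (hba hp') (hba hq)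
    have hgb : g • b = b := swap_smul_eq_self_of_mem hp' hq
    have h1 : y = P p p' + (P q q' + ∑ s ∈ (μ.erase {p, p'}).erase {q, q'}, Mod.X a {e1, e2} x s) := by
      rw [hy, ← Finset.add_sum_erase μ _ hs1,
        ← Finset.add_sum_erase (μ.erase {p, p'}) _ (Finset.mem_erase.mpr ⟨hs12.symm, hs2⟩)]
    have h2 : g • y = y := hab g hga hgb y hy4
    have h3 : g • ∑ s ∈ (μ.erase {p, p'}).erase {q, q'}, Mod.X a {e1, e2} x s =
        ∑ s ∈ (μ.erase {p, p'}).erase {q, q'}, Mod.X a {e1, e2} x s := by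
      refine hsum _ ((Finset.erase_subset _ _).trans (Finset.erase_subset _ _)) g hga ?_
      intro s hs
      rw [Finset.mem_erase, Finset.mem_erase] at hs
      refine swap_smul_eq_self ?_ ?_
      · intro h0
        exact hs.2.1 (B.unq s hs.2.2 _ hs1 p' h0 (by simp))
      · intro h0
        exact hs.1 (B.unq s hs.2.2 _ hs2 q h0 (by simp))
    have h4 : g p = p := swap_apply_of_ne_of_ne hpp hqp.symm
    have h5 : g p' = q := swap_apply_left _ _
    have h6 : g q = p' := swap_apply_right _ _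
    have h7 : g q' = q' := swap_apply_of_ne_of_ne hq'p' hqq
    rw [h1, smul_add, smul_add, h3, hP g hga p p' hpp (hba hp) (hba hp'), hP g hga q q' hqq.symm (hba hq) (hba hq'),
      h4, h5, h6, h7, ← add_assoc, ← add_assoc] at h2
    exact (add_right_cancel h2).symm
  have hex4 : ∀ i j k l, i ≠ j → i ≠ k → i ≠ l → j ≠ k → j ≠ l → k ≠ l → i ∉ a → j ∉ a → k ∉ a → l ∉ a →
      P i j + P k l = P i k + P j l := by
    intro i j k l h1 h2 h3 h4 h5 h6 hi hj hk hl
    obtain ⟨g, hga, hg⟩ := exists_ext a ![p, p', q, q'] ![i, j, k, l]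
      (inj_four hpp hqp.symm hq'p.symm hqp'.symm hq'p'.symm hqq.symm) (inj_four h1 h2 h3 h4 h5 h6)
      (by intro u; fin_cases u <;> exact hba (by assumption)) (by intro u; fin_cases u <;> assumption)
    have g1 : g p = i := hg 0
    have g2 : g p' = j := hg 1
    have g3 : g q = k := hg 2
    have g4 : g q' = l := hg 3
    have h7 := congrArg (fun w => g • w) hbase
    simp only [smul_add] at h7
    rw [hP g hga p p' hpp (hba hp) (hba hp'), hP g hga q q' hqq.symm (hba hq) (hba hq'),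
      hP g hga p q hqp.symm (hba hp) (hba hq), hP g hga p' q' hq'p'.symm (hba hp') (hba hq'), g1, g2, g3, g4] at h7
    exact h7
  have hT : ∀ i j k l, i ≠ j → i ≠ k → i ≠ l → j ≠ k → j ≠ l → k ≠ l → i ∉ a → j ∉ a → k ∉ a → l ∉ a →
      P i j + P i k + P j k = P i j + P i l + P j l := by
    intro i j k l h1 h2 h3 h4 h5 h6 hi hj hk hl
    have h7 := hex4 i k j l h2 h1 h3 h4.symm h6 h5 hi hk hj hl
    have h8 := hex4 i l j k h3 h1 h2 h5.symm h6.symm h4 hi hl hj hk
    rw [hPc l k, ← h7, add_comm (P i l)] at h8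
    have h9 := hM.exch h8.symm
    rw [add_assoc, add_assoc, h9, add_comm (P j l)]
  have hoa := B.oa
  have hob := B.ob
  have hpo : p ≠ o := fun h0 => hob (h0 ▸ hp)
  have hp'o : p' ≠ o := fun h0 => hob (h0 ▸ hp')
  set T : Ω → Ω → Ω → Y := fun i j k => P i j + P i k + P j k with hTdef
  have hT' : ∀ i j k l, i ≠ j → i ≠ k → i ≠ l → j ≠ k → j ≠ l → k ≠ l → i ∉ a → j ∉ a → k ∉ a → l ∉ a →
      T i j k = T i j l := hT
  have hTs : ∀ i j k, T i j k = T i k j := by
    intro i j k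
    change P i j + P i k + P j k = P i k + P i j + P k j
    rw [add_comm (P i j), hPc j k]
  have hTs' : ∀ i j k, T i j k = T j i k := by
    intro i j k
    change P i j + P i k + P j k = P j i + P j k + P i k
    rw [hPc i j]
    abel
  set k0 : Y := T o p p' with hk0
  have hTo : ∀ i j, i ≠ j → o ≠ i → o ≠ j → i ∉ a → j ∉ a → T o i j = k0 := by
    intro i j hij hi hj hia hja
    have c1 : ∀ i, o ≠ i → i ∉ a → i ≠ p → T o p i = k0 := by
      intro i hi hia hip
      by_cases h : i = p'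
      · rw [h]
      · exact hT' o p i p' hpo.symm hi hp'o.symm (Ne.symm hip) hpp h hoa (hba hp) hia (hba hp')
    by_cases h1 : j = p
    · subst h1
      rw [hTs]
      exact c1 i hi hia hij
    by_cases h2 : i = p
    · subst h2
      exact c1 j hj hja (Ne.symm hij)
    rw [hTs, hT' o j i p hj hi hpo.symm (Ne.symm hij) h1 h2 hoa hja hia (hba hp), hTs]
    exact c1 j hj hja h1
  have hPo : ∀ i j, i ≠ j → o ≠ i → o ≠ j → i ∉ a → j ∉ a → P i j = k0 + (P o i + P o j) := by
    intro i j hij hi hj hia hja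
    have h1 := hTo i j hij hi hj hia hja
    change P o i + P o j + P i j = k0 at h1
    rw [← h1, add_comm, ← add_assoc, hM.two, zero_add]
  have hTc : ∀ i j k, i ≠ j → i ≠ k → j ≠ k → i ∉ a → j ∉ a → k ∉ a → T i j k = k0 := by
    intro i j k hij hik hjk hi hj hk
    by_cases h1 : o = i
    · subst h1
      exact hTo j k hjk hij hik hj hk
    by_cases h2 : o = j
    · subst h2
      rw [hTs']
      exact hTo i k hik (Ne.symm hij) hjk hi hk
    by_cases h3 : o = k
    · subst h3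
      rw [hTs, hTs']
      exact hTo i j hij (Ne.symm hik) (Ne.symm hjk) hi hj
    change P i j + P i k + P j k = k0
    rw [hPo i j hij h1 h2 hi hj, hPo i k hik h1 h3 hi hk, hPo j k hjk h2 h3 hj hk]
    have h4 := hM.two k0
    have h5 := hM.two (P o i)
    have h6 := hM.two (P o j)
    have h7 := hM.two (P o k)
    calc k0 + (P o i + P o j) + (k0 + (P o i + P o k)) + (k0 + (P o j + P o k))
        = k0 + (k0 + k0) + (P o i + P o i) + (P o j + P o j) + (P o k + P o k) := by abel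
      _ = k0 := by rw [h4, h5, h6, h7, add_zero, add_zero, add_zero, add_zero]
  have hk0g : ∀ g : Perm Ω, g • a = a → g • k0 = k0 := by
    intro g hg
    have h1 : g • k0 = T (g o) (g p) (g p') := by
      change g • (P o p + P o p' + P p p') = P (g o) (g p) + P (g o) (g p') + P (g p) (g p')
      rw [smul_add, smul_add, hP g hg o p hpo.symm hoa (hba hp), hP g hg o p' hp'o.symm hoa (hba hp'),
        hP g hg p p' hpp (hba hp) (hba hp')]
    rw [h1]
    exact hTc _ _ _ (g.injective.ne hpo.symm) (g.injective.ne hp'o.symm) (g.injective.ne hpp)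
      (mem_of_smul_eq hg hoa) (mem_of_smul_eq hg (hba hp)) (mem_of_smul_eq hg (hba hp'))
  have hk04 := hM.fixed B hS (y := k0) (fun g hg => hk0g g (B.Ma g hg))
  -- the transposition `(o p')`
  set g : Perm Ω := swap o p' with hgdef
  have hga : g • a = a := swap_smul_eq_self hoa (hba hp')
  have hbb : ι (ind b) + g • ι (ind b) = ι (ind {o, p'}) := by
    rw [hM.act_ind, ← hM.add]
    congr 1
    funext u
    have h1 : u ∈ g • b ↔ g⁻¹ u ∈ b := by
      rw [← Finset.inv_smul_mem_iff]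
      rfl
    have hgi : g⁻¹ = swap o p' := swap_inv o p'
    by_cases hu1 : u = o
    · have h2 : g⁻¹ u = p' := by rw [hgi, hu1, swap_apply_left]
      rw [h2] at h1
      have h3 : u ∈ g • b := h1.mpr hp'
      have h4 : u ∉ b := hu1 ▸ hob
      have h5 : u ∈ ({o, p'} : Finset Ω) := by rw [hu1]; simp
      simp only [Pi.add_apply, ind, h3, h4, h5, if_true, if_false, zero_add]
    by_cases hu2 : u = p'
    · have h2 : g⁻¹ u = o := by rw [hgi, hu2, swap_apply_right]
      rw [h2] at h1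
      have h3 : u ∉ g • b := fun h => hob (h1.mp h)
      have h4 : u ∈ b := hu2 ▸ hp'
      have h5 : u ∈ ({o, p'} : Finset Ω) := by rw [hu2]; simp
      simp only [Pi.add_apply, ind, h3, h4, h5, if_true, if_false, add_zero]
    have h2 : g⁻¹ u = u := by rw [hgi, swap_apply_of_ne_of_ne hu1 hu2]
    rw [h2] at h1
    by_cases hu : u ∈ b
    · simp only [Pi.add_apply, ind, h1, hu, if_true, Finset.mem_insert, Finset.mem_singleton, hu1, hu2, or_self,
        if_false]
      exact CharTwo.add_self_eq_zero _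
    · simp [ind, h1, hu, hu1, hu2]
  have hne0 : ι (ind {o, p'}) ≠ 0 := by
    intro h0
    rcases (hM.ker _).mp h0 with h1 | h1
    · have h2 := congrFun h1 o
      simp [ind] at h2
    · obtain ⟨u, hu⟩ : ∃ u, u ∈ a := Finset.card_pos.mp (by rw [B.ca]; positivity)
      have h2 := congrFun h1 u
      have h3 : u ≠ o := by
        rintro rfl
        exact hoa hu
      have h4 : u ≠ p' := by
        rintro rfl
        exact hba hp' hu
      simp [ind, h3, h4] at h2
  have hk02 : k0 = 0 ∨ k0 = ι (ind a) := by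
    have h1 := hk0g g hga
    rcases hk04 with h | h | h | h
    · exact Or.inl h
    · exact Or.inr h
    · exfalso
      rw [h] at h1
      rw [h1, hM.two] at hbb
      exact hne0 hbb.symm
    · exfalso
      rw [h, smul_add, hM.act_ind, hga] at h1
      have h2 := add_left_cancel h1
      rw [h2, hM.two] at hbb
      exact hne0 hbb.symm
  have hyg : y + g • y = P p p' + P p o := by
    have h1 : y = P p p' + ∑ s ∈ μ.erase {p, p'}, Mod.X a {e1, e2} x s := by
      rw [hy, ← Finset.add_sum_erase μ _ hs1]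
    have h3 : g • ∑ s ∈ μ.erase {p, p'}, Mod.X a {e1, e2} x s =
        ∑ s ∈ μ.erase {p, p'}, Mod.X a {e1, e2} x s := by
      refine hsum _ (Finset.erase_subset _ _) g hga ?_
      intro s hs
      rw [Finset.mem_erase] at hs
      refine swap_smul_eq_self ?_ ?_
      · intro h0
        exact hob (B.sub s hs.2 h0)
      · intro h0
        exact hs.1 (B.unq s hs.2 _ hs1 p' h0 (by simp))
    have h4 : g p = p := swap_apply_of_ne_of_ne hpo hpp
    have h5 : g p' = o := swap_apply_right _ _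
    have h6 : g • y = P p o + ∑ s ∈ μ.erase {p, p'}, Mod.X a {e1, e2} x s := by
      rw [h1, smul_add, h3, hP g hga p p' hpp (hba hp) (hba hp'), h4, h5]
    rw [h6]
    nth_rw 1 [h1]
    set R := ∑ s ∈ μ.erase {p, p'}, Mod.X a {e1, e2} x s
    calc P p p' + R + (P p o + R) = P p p' + P p o + (R + R) := by abel
      _ = _ := by rw [hM.two, add_zero]
  have hd : P p p' + P p o = 0 ∨ P p p' + P p o = ι (ind {o, p'}) := by
    rw [← hyg]
    rcases hy4 with h | h | h | h
    · left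
      rw [h, smul_zero, add_zero]
    · left
      rw [h, hM.act_ind, hga, hM.two]
    · right
      rw [h, hbb]
    · right
      rw [h, smul_add, hM.act_ind g a, hga]
      calc ι (ind a) + ι (ind b) + (ι (ind a) + g • ι (ind b))
          = ι (ind a) + ι (ind a) + (ι (ind b) + g • ι (ind b)) := by abel
        _ = _ := by rw [hM.two, zero_add, hbb]
  have hlast : P o p' = k0 + (P p p' + P p o) := by
    have h1 : P p o + P p p' + P o p' = k0 :=
      hTc p o p' hpo hpp hp'o.symm (hba hp) hoa (hba hp')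
    rw [← h1, add_comm (P p p')]
    rw [add_comm (P p o + P p p') (P o p'), add_assoc, hM.two, add_zero]
  obtain ⟨h, hha, hh⟩ := hex o p' hp'o.symm hoa (hba hp')
  have hXh : P o p' = h • x := Mod.X_eq hx hha hh
  have hxh : x = h⁻¹ • P o p' := by rw [hXh, inv_smul_smul]
  have hia : h⁻¹ • ι (ind a) = ι (ind a) := by
    rw [hM.act_ind, inv_smul_eq_iff.mpr hha.symm]
  have hie : h⁻¹ • ι (ind {o, p'}) = ι (ind {e1, e2}) := by
    rw [hM.act_ind, inv_smul_eq_iff.mpr hh.symm]
  rw [hxh, hlast]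
  rcases hk02 with h1 | h1 <;> rcases hd with h2 | h2 <;> rw [h1, h2]
  · left
    rw [add_zero, smul_zero]
  · right; right; left
    rw [zero_add, hie]
  · right; left
    rw [add_zero, hia]
  · right; right; right
    rw [smul_add, hia, hie]

/-- **The matching lemma.** -/
theorem matching_lemma {ι : (Ω → ZMod 2) → Y} (hM : Mod ι) {m : ℕ} (hm : 3 ≤ m) (hc : Fintype.card Ω = 2 ^ m + 1)
    (S : Sylow 2 (Perm Ω))
    (hS : ∀ o : Ω, (∀ s ∈ (S : Subgroup (Perm Ω)), s o = o) → ∀ y : Y, (∀ s ∈ (S : Subgroup (Perm Ω)), s • y = y) →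
      y = 0 ∨ y = ι (ind {o}))
    {A e : Finset Ω} (hA : A.card = 2 ^ (m - 1)) (he : e.card = 2) (hd : Disjoint e A) {x : Y}
    (hx : ∀ σ : Perm Ω, σ • A = A → σ • e = e → σ • x = x) :
    x = 0 ∨ x = ι (ind A) ∨ x = ι (ind e) ∨ x = ι (ind A) + ι (ind e) := by
  obtain ⟨o, a, b, M, τ, μ, B⟩ := exists_blocks (by omega) hc S
  obtain ⟨g, hg⟩ := Perm.exists_map_finset_eq a A (B.ca.trans hA.symm)
  have hga : g • a = A := by
    rw [← hg]
    ext y
    rw [Finset.mem_smul_finset, Finset.mem_map]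
    rfl
  have h1 := core hM hm B (hS o B.fix) (e := g⁻¹ • e) (x := g⁻¹ • x) (by rw [Finset.card_smul_finset, he]) (by
      rw [← hga] at hd
      rw [Finset.disjoint_left] at hd ⊢
      intro y hy hya
      rw [Finset.mem_inv_smul_finset_iff] at hy
      exact hd hy (Finset.smul_mem_smul_finset hya)) (by
      intro σ h2 h3
      have h4 : (g * σ * g⁻¹) • x = x := by
        refine hx _ ?_ ?_
        · rw [← hga, mul_smul, inv_smul_smul, mul_smul, h2]
        · rw [mul_smul, mul_smul, h3, smul_inv_smul]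
      rw [mul_smul, mul_smul] at h4
      rw [eq_inv_smul_iff, h4])
  have h2 : g • ι (ind a) = ι (ind A) := by rw [hM.act_ind, hga]
  have h3 : g • ι (ind (g⁻¹ • e)) = ι (ind e) := by rw [hM.act_ind, smul_inv_smul]
  rcases h1 with h | h | h | h
  · left
    rw [inv_smul_eq_iff, smul_zero] at h
    exact h
  · right; left
    rw [inv_smul_eq_iff, h2] at h
    exact h
  · right; right; left
    rw [inv_smul_eq_iff, h3] at h
    exact h
  · right; right; right
    rw [inv_smul_eq_iff, smul_add, h2, h3] at h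
    exact h

end module

end Cfsg.Agent.Omega.NSix.Match

end

section


/-!
# The matching lemma (OMEGA, type `S_{2^m+1}`, #14103 of helper945), abstract part

`α` is a finite set of even order at least 4, `β = Option α`, `Y` is an `𝔽₂`-space with an action of
`Perm α × Perm β`; `a : Y` is fixed, `c : β → Y` is injective and equivariant.  `S` is a subgroup of `Perm α`
which centralises a fixed-point-free involution `t`, and the fixed points of `S × S` (`S` fixing `none`) on `Y`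
are `0, a, c none, a + c none`.

* `Frame.pair`: an equivariant symmetric family `X i j` (`i ≠ j`) is `ε a + δ (c i + c j)`;
* `Frame.triple`: an equivariant symmetric family `X i j k` is `ε a + δ (c i + c j + c k)`.
-/

set_option autoImplicit false

namespace Cfsg.Agent.Omega.NSix.MatchP

open Equiv Finset

/-! ### Transitivity -/

theorem exists_perm {β : Type*} [Fintype β] [DecidableEq β] {n : ℕ} {x y : Fin n → β}
    (hx : Function.Injective x) (hy : Function.Injective y) : ∃ g : Perm β, ∀ i, g (x i) = y i := by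
  have h := Equiv.Perm.isMultiplyPretransitive β n
  obtain ⟨g, hg⟩ := h.exists_smul_eq (⟨x, hx⟩ : Fin n ↪ β) ⟨y, hy⟩
  refine ⟨g, fun i => ?_⟩
  have := DFunLike.congr_fun hg i
  exact this

theorem inj4 {β : Type*} {i j k l : β} (h1 : i ≠ j) (h2 : i ≠ k) (h3 : i ≠ l) (h4 : j ≠ k) (h5 : j ≠ l)
    (h6 : k ≠ l) : Function.Injective ![i, j, k, l] := by
  intro x y hxy
  fin_cases x <;> fin_cases y <;> simp_all [eq_comm]

theorem inj5 {β : Type*} {i j k l m : β} (h1 : i ≠ j) (h2 : i ≠ k) (h3 : i ≠ l) (h3' : i ≠ m) (h4 : j ≠ k)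
    (h5 : j ≠ l) (h5' : j ≠ m) (h6 : k ≠ l) (h6' : k ≠ m) (h7 : l ≠ m) :
    Function.Injective ![i, j, k, l, m] := by
  intro x y hxy
  fin_cases x <;> fin_cases y <;> simp_all [eq_comm]

section char2

variable {Y : Type*} [AddCommGroup Y]

theorem eq_of_add (h2 : ∀ y : Y, y + y = 0) {x y : Y} (h : x + y = 0) : x = y := by
  have h1 := h2 y
  rw [← h1] at h
  exact add_right_cancel h

theorem odd_nsmul (h2 : ∀ y : Y, y + y = 0) {n : ℕ} (hn : Odd n) (y : Y) : n • y = y := by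
  obtain ⟨k, rfl⟩ := hn
  rw [add_nsmul, one_nsmul, mul_comm, mul_nsmul, two_nsmul]
  rw [← two_nsmul, ← mul_nsmul, mul_comm, mul_nsmul', two_nsmul, h2, zero_add]

end char2

section frame

variable {α : Type*} [Fintype α] [DecidableEq α] {Y : Type*} [AddCommGroup Y]
  [DistribMulAction (Perm α × Perm (Option α)) Y]

/-- The hypotheses of the matching lemma. -/
structure Frame (S : Subgroup (Perm α)) (t : Perm α) (a : Y) (c : Option α → Y) : Prop where
  two : ∀ y : Y, y + y = 0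
  even : Even (Fintype.card α)
  four : 4 ≤ Fintype.card α
  tc : ∀ s ∈ S, ∀ i, s (t i) = t (s i)
  t2 : ∀ i, t (t i) = i
  tf : ∀ i, t i ≠ i
  smul_a : ∀ g : Perm α × Perm (Option α), g • a = a
  smul_c : ∀ (g : Perm α × Perm (Option α)) (i : Option α), g • c i = c (g.2 i)
  inj : Function.Injective c
  fix : ∀ y : Y, (∀ s ∈ S, ∀ s' ∈ S, ((s, optionCongr s') : Perm α × Perm (Option α)) • y = y) →
    y = 0 ∨ y = a ∨ y = c none ∨ y = a + c none

variable {S : Subgroup (Perm α)} {t : Perm α} {a : Y} {c : Option α → Y}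

/-- the swap of `none` and `some j` -/
def sw (j : α) : Perm α × Perm (Option α) := (1, swap none (some j))

theorem Frame.sw_c (h : Frame S t a c) (j : α) : sw j • c none = c (some j) := by
  rw [h.smul_c]
  exact congrArg c (swap_apply_left _ _)

/-- `y + y^τ` for the possible fixed points `y` -/
theorem Frame.add_sw (h : Frame S t a c) {y : Y} (hy : y = 0 ∨ y = a ∨ y = c none ∨ y = a + c none) :
    (∀ j : α, y + sw j • y = 0) ∨ ∀ j : α, y + sw j • y = c none + c (some j) := by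
  rcases hy with rfl | rfl | rfl | rfl
  · exact Or.inl fun j => by rw [smul_zero, add_zero]
  · exact Or.inl fun j => by rw [h.smul_a, h.two]
  · exact Or.inr fun j => by rw [h.sw_c]
  · refine Or.inr fun j => ?_
    rw [smul_add, h.smul_a, h.sw_c]
    calc a + c none + (a + c (some j)) = (a + a) + (c none + c (some j)) := by abel
      _ = c none + c (some j) := by rw [h.two, zero_add]

/-- the elements fixed by everything -/
theorem Frame.fix_all (h : Frame S t a c) {y : Y} (hy : ∀ g : Perm α × Perm (Option α), g • y = y) :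
    y = 0 ∨ y = a := by
  have h0 : 0 < Fintype.card α := lt_of_lt_of_le (by norm_num) h.four
  obtain ⟨j⟩ := Fintype.card_pos_iff.mp h0
  have h1 := h.fix y fun s _ s' _ => hy _
  have hne : c none + c (some j) ≠ 0 := by
    intro h2
    have := h.inj (eq_of_add h.two h2)
    exact Option.some_ne_none j this.symm
  rcases h1 with h1 | h1 | h1 | h1
  · exact Or.inl h1
  · exact Or.inr h1
  · exfalso
    have h2 := hy (sw j)
    rw [h1, h.sw_c] at h2
    exact hne (by rw [h2, h.two])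
  · exfalso
    have h2 := hy (sw j)
    rw [h1, smul_add, h.smul_a, h.sw_c, add_right_inj] at h2
    exact hne (by rw [h2, h.two])

/-- an additive equivariant family of pair vectors is a multiple of `c i + c j` -/
theorem Frame.lin (h : Frame S t a c) {d : Option α → Option α → Y} (hs : ∀ i j, d i j = d j i)
    (ha : ∀ i j k, i ≠ j → j ≠ k → i ≠ k → d i j + d j k = d i k)
    (hd : ∀ (g : Perm α × Perm (Option α)) i j, i ≠ j → g • d i j = d (g.2 i) (g.2 j)) :
    (∀ i j, i ≠ j → d i j = 0) ∨ ∀ i j, i ≠ j → d i j = c i + c j := by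
  set B : Y := ∑ i : α, d none (some i) with hB
  have hfix : ∀ s ∈ S, ∀ s' ∈ S, ((s, optionCongr s') : Perm α × Perm (Option α)) • B = B := by
    intro s _ s' _
    rw [hB, Finset.smul_sum]
    calc ∑ i : α, ((s, optionCongr s') : Perm α × Perm (Option α)) • d none (some i)
        = ∑ i : α, d none (some (s' i)) := by
          refine Finset.sum_congr rfl fun i _ => ?_
          rw [hd _ _ _ (Option.some_ne_none i).symm]
          rfl
      _ = ∑ i : α, d none (some i) := Equiv.sum_comp s' fun i => d none (some i)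
  have hsw : ∀ j : α, B + sw j • B = d none (some j) := by
    intro j
    rw [hB, Finset.smul_sum, ← Finset.sum_add_distrib]
    have h1 : ∀ i : α, d none (some i) + sw j • d none (some i) =
        if i = j then 0 else d none (some j) := by
      intro i
      rw [hd _ _ _ (Option.some_ne_none i).symm]
      change d none (some i) + d (swap none (some j) none) (swap none (some j) (some i)) = _
      rw [swap_apply_left]
      split_ifs with hij
      · rw [hij, swap_apply_right, hs (some j) none, h.two]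
      · rw [swap_apply_of_ne_of_ne (Option.some_ne_none i) (fun e => hij (Option.some.inj e)),
          hs (some j) (some i)]
        exact ha _ _ _ (Option.some_ne_none i).symm (fun e => hij (Option.some.inj e))
          (Option.some_ne_none j).symm
    rw [Finset.sum_congr rfl fun i _ => h1 i, Finset.sum_ite, Finset.sum_const_zero, zero_add, Finset.sum_const]
    refine odd_nsmul h.two ?_ _
    have h2 : (Finset.univ.filter fun i : α => ¬ i = j) = Finset.univ.erase j := by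
      ext i
      simp
    rw [h2, Finset.card_erase_of_mem (Finset.mem_univ j), Finset.card_univ]
    exact Nat.Even.sub_odd (le_trans (by norm_num) h.four) h.even odd_one
  rcases h.add_sw (h.fix B hfix) with h1 | h1
  · left
    have h2 : ∀ j : α, d none (some j) = 0 := fun j => by rw [← hsw j, h1 j]
    intro i j hij
    rcases i with _ | i <;> rcases j with _ | j
    · exact absurd rfl hij
    · exact h2 j
    · rw [hs, h2 i]
    · rw [← ha (some i) none (some j) (Option.some_ne_none i) (Option.some_ne_none j).symm hij, hs (some i) none,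
        h2, h2, add_zero]
  · right
    have h2 : ∀ j : α, d none (some j) = c none + c (some j) := fun j => by rw [← hsw j, h1 j]
    intro i j hij
    rcases i with _ | i <;> rcases j with _ | j
    · exact absurd rfl hij
    · exact h2 j
    · rw [hs, h2 i, add_comm]
    · rw [← ha (some i) none (some j) (Option.some_ne_none i) (Option.some_ne_none j).symm hij, hs (some i) none,
        h2, h2]
      calc c none + c (some i) + (c none + c (some j)) = (c none + c none) + (c (some i) + c (some j)) := by abel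
        _ = _ := by rw [h.two, zero_add]

/-- the two matchings `12 | 34 | ...` and `13 | 24 | ...` -/
theorem Frame.four_term (h : Frame S t a c) {f : α → α → Y} (hs : ∀ i j, f i j = f j i)
    (hf : ∀ (s s' : Perm α) i j, i ≠ j →
      ((s, optionCongr s') : Perm α × Perm (Option α)) • f i j = f (s' i) (s' j)) :
    ∀ i j k l : α, i ≠ j → i ≠ k → i ≠ l → j ≠ k → j ≠ l → k ≠ l → f i j + f k l + (f i k + f j l) = 0 := by
  classical
  -- the matching of `t`
  set P : Finset (Sym2 α) := Finset.univ.image fun i => s(i, t i) with hP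
  set F : Sym2 α → Y := Sym2.lift ⟨f, hs⟩ with hF
  have hFm : ∀ i j, F s(i, j) = f i j := fun i j => rfl
  have hact : ∀ (s s' : Perm α), ∀ e ∈ P,
      ((s, optionCongr s') : Perm α × Perm (Option α)) • F e = F (e.map s') := by
    intro s s' e he
    obtain ⟨i, -, rfl⟩ := Finset.mem_image.mp he
    rw [hFm, hf _ _ _ _ (h.tf i).symm]
    rfl
  set M : Y := ∑ e ∈ P, F e with hM
  have hMact : ∀ (s s' : Perm α), ((s, optionCongr s') : Perm α × Perm (Option α)) • M =
      ∑ e ∈ P, F (e.map s') := by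
    intro s s'
    rw [hM, Finset.smul_sum]
    exact Finset.sum_congr rfl fun e he => hact s s' e he
  have hMfix : ∀ s ∈ S, ∀ s' ∈ S, ((s, optionCongr s') : Perm α × Perm (Option α)) • M = M := by
    intro s _ s' hs'
    rw [hMact, hM]
    have hinj : Function.Injective (Sym2.map (s' : α → α)) := Sym2.map.injective s'.injective
    rw [← Finset.sum_image (f := F) (g := Sym2.map (s' : α → α)) fun x _ y _ hxy => hinj hxy]
    congr 1
    rw [hP, Finset.image_image]
    ext e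
    simp only [Finset.mem_image, Finset.mem_univ, true_and, Function.comp_apply, Sym2.map_mk]
    constructor
    · rintro ⟨i, rfl⟩
      exact ⟨s' i, by rw [h.tc s' hs' i]⟩
    · rintro ⟨i, rfl⟩
      refine ⟨s'.symm i, ?_⟩
      rw [h.tc s' hs' _, Equiv.apply_symm_apply]
  -- two pairs of the matching
  obtain ⟨i0⟩ := Fintype.card_pos_iff.mp (lt_of_lt_of_le (by norm_num : 0 < 4) h.four)
  obtain ⟨k0, hk1, hk2⟩ : ∃ k, k ≠ i0 ∧ k ≠ t i0 := by
    by_contra hcon
    push Not at hcon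
    have h1 : (Finset.univ : Finset α) ⊆ {i0, t i0} := by
      intro x _
      by_cases hx : x = i0
      · simp [hx]
      · simp [hcon x hx]
    have h2 := Finset.card_le_card h1
    rw [Finset.card_univ] at h2
    have h3 := Finset.card_le_two (a := i0) (b := t i0)
    have := h.four
    omega
  have hk3 : t k0 ≠ i0 := fun e => hk2 (by rw [← e, h.t2])
  have hk4 : t k0 ≠ t i0 := fun e => hk1 (t.injective e)
  have hσ := hMact 1 (swap (t i0) k0)
  have hσM : ((1, optionCongr (swap (t i0) k0)) : Perm α × Perm (Option α)) • M = M := by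
    rcases h.fix M hMfix with h1 | h1 | h1 | h1
    · rw [h1, smul_zero]
    · rw [h1, h.smul_a]
    · rw [h1, h.smul_c]
      rfl
    · rw [h1, smul_add, h.smul_a, h.smul_c]
      rfl
  rw [hσM] at hσ
  have hsum : ∑ e ∈ P, (F e + F (e.map (swap (t i0) k0))) = 0 := by
    rw [Finset.sum_add_distrib, ← hσ, ← hM, h.two]
  have hsub : ({s(i0, t i0), s(k0, t k0)} : Finset (Sym2 α)) ⊆ P := by
    intro e he
    rcases Finset.mem_insert.mp he with rfl | he
    · exact Finset.mem_image_of_mem _ (Finset.mem_univ _)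
    · rw [Finset.mem_singleton.mp he]
      exact Finset.mem_image_of_mem _ (Finset.mem_univ _)
  rw [← Finset.sum_subset hsub, Finset.sum_pair] at hsum
  · simp only [Sym2.map_mk, hFm] at hsum
    rw [swap_apply_left, swap_apply_right, swap_apply_of_ne_of_ne (h.tf i0).symm hk1.symm,
      swap_apply_of_ne_of_ne hk4 (h.tf k0)] at hsum
    -- the base relation
    have hbase : f i0 (t i0) + f k0 (t k0) + (f i0 k0 + f (t i0) (t k0)) = 0 := by
      rw [← hsum]; abel
    intro i j k l hij hik hil hjk hjl hkl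
    obtain ⟨g, hg⟩ := exists_perm (inj4 (h.tf i0).symm hk1.symm hk3.symm hk2.symm hk4.symm (h.tf k0).symm)
      (inj4 hij hik hil hjk hjl hkl)
    have g0 : g i0 = i := hg 0
    have g1 : g (t i0) = j := hg 1
    have g2 : g k0 = k := hg 2
    have g3 : g (t k0) = l := hg 3
    have h4 := congrArg (fun y => ((1, optionCongr g) : Perm α × Perm (Option α)) • y) hbase
    simp only [smul_add, smul_zero] at h4
    rw [hf _ _ _ _ (h.tf i0).symm, hf _ _ _ _ (h.tf k0).symm, hf _ _ _ _ hk1.symm, hf _ _ _ _ hk4.symm,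
      g0, g1, g2, g3] at h4
    exact h4
  · intro he
    rcases Sym2.eq_iff.mp he with ⟨h1, _⟩ | ⟨h1, _⟩
    · exact hk1 h1.symm
    · exact hk3 h1.symm
  · intro e he hne
    obtain ⟨i, -, rfl⟩ := Finset.mem_image.mp he
    have hne' : ∀ j, i ≠ j ∧ i ≠ t j ∨ s(i, t i) = s(j, t j) := by
      intro j
      by_cases h1 : i = j
      · right; rw [h1]
      · by_cases h2 : i = t j
        · right
          rw [h2, h.t2, Sym2.eq_swap]
        · exact Or.inl ⟨h1, h2⟩
    have ha : i ≠ i0 ∧ i ≠ t i0 := (hne' i0).resolve_right fun e => hne (by rw [e]; simp)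
    have hb : i ≠ k0 ∧ i ≠ t k0 := (hne' k0).resolve_right fun e => hne (by rw [e]; simp)
    rw [Sym2.map_mk, swap_apply_of_ne_of_ne ha.2 hb.1, swap_apply_of_ne_of_ne
      (fun e => ha.1 (t.injective e)) (fun e => hb.2 (by rw [← e, h.t2])), h.two]

/-- a letter outside two given letters -/
theorem Frame.exists_ne2 (h : Frame S t a c) (j k : Option α) : ∃ i, i ≠ j ∧ i ≠ k := by
  by_contra hcon
  push Not at hcon
  have h1 : (Finset.univ : Finset (Option α)) ⊆ {j, k} := by
    intro x _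
    by_cases hx : x = j
    · simp [hx]
    · simp [hcon x hx]
  have h2 := Finset.card_le_card h1
  rw [Finset.card_univ, Fintype.card_option] at h2
  have h3 := Finset.card_le_two (a := j) (b := k)
  have := h.four
  omega

theorem Frame.exists_ne3 (h : Frame S t a c) (j k l : Option α) : ∃ i, i ≠ j ∧ i ≠ k ∧ i ≠ l := by
  by_contra hcon
  push Not at hcon
  have h1 : (Finset.univ : Finset (Option α)) ⊆ {j, k, l} := by
    intro x _
    by_cases hx : x = j
    · simp [hx]
    · by_cases hx' : x = k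
      · simp [hx']
      · simp [hcon x hx hx']
  have h2 := Finset.card_le_card h1
  rw [Finset.card_univ, Fintype.card_option] at h2
  have h3 := Finset.card_le_three (a := j) (b := k) (c := l)
  have := h.four
  omega

/-- a function on pairs of letters which does not change if one letter is changed is constant -/
theorem const_pair {β Y : Type*} {κ : β → β → Y} (hs : ∀ i j, κ i j = κ j i)
    (hc : ∀ i j k, i ≠ j → i ≠ k → j ≠ k → κ i j = κ i k) {i j i' j' : β} (h : i ≠ j) (h' : i' ≠ j') :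
    κ i j = κ i' j' := by
  have hc' : ∀ i j k, i ≠ j → i ≠ k → κ i j = κ i k := by
    intro i j k h1 h2
    by_cases h3 : j = k
    · rw [h3]
    · exact hc i j k h1 h2 h3
  by_cases h1 : i = i'
  · rw [h1]
    exact hc' _ _ _ (h1 ▸ h) h'
  · rw [hc' i j i' h h1, hs i i', hc' i' i j' (Ne.symm h1) h']

/-- **The matching lemma for pairs.** -/
theorem Frame.pair (h : Frame S t a c) {X : Option α → Option α → Y} (hs : ∀ i j, X i j = X j i)
    (hX : ∀ (g : Perm α × Perm (Option α)) i j, i ≠ j → g • X i j = X (g.2 i) (g.2 j)) :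
    ∃ k : Y, (k = 0 ∨ k = a) ∧ ((∀ i j, i ≠ j → X i j = k) ∨ ∀ i j, i ≠ j → X i j = k + (c i + c j)) := by
  classical
  -- the four term relation
  have hR0 := h.four_term (f := fun i j => X (some i) (some j)) (fun i j => hs _ _)
    (fun s s' i j hij => by rw [hX _ _ _ (fun e => hij (Option.some.inj e))]; rfl)
  have hR : ∀ i j k l : Option α, i ≠ j → i ≠ k → i ≠ l → j ≠ k → j ≠ l → k ≠ l →
      X i j + X k l + (X i k + X j l) = 0 := by
    obtain ⟨x0⟩ := Fintype.card_pos_iff.mp (lt_of_lt_of_le (by norm_num : 0 < 4) h.four)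
    obtain ⟨x1, hx1⟩ : ∃ x1, x1 ≠ x0 := ⟨t x0, h.tf x0⟩
    obtain ⟨x2', h21, h22, h23⟩ := h.exists_ne3 (some x0) (some x1) none
    obtain ⟨x2, rfl⟩ := Option.ne_none_iff_exists'.mp h23
    have h4' : ∃ x3 : α, x3 ≠ x0 ∧ x3 ≠ x1 ∧ x3 ≠ x2 := by
      by_contra hcon
      push Not at hcon
      have h1 : (Finset.univ : Finset α) ⊆ {x0, x1, x2} := by
        intro x _
        by_cases hx : x = x0
        · simp [hx]
        · by_cases hx' : x = x1
          · simp [hx']
          · simp [hcon x hx hx']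
      have h2 := Finset.card_le_card h1
      rw [Finset.card_univ] at h2
      have h3 := Finset.card_le_three (a := x0) (b := x1) (c := x2)
      have := h.four
      omega
    obtain ⟨x3, h30, h31, h32⟩ := h4'
    have e20 : x2 ≠ x0 := fun e => h21 (congrArg some e)
    have e21 : x2 ≠ x1 := fun e => h22 (congrArg some e)
    have hb := hR0 x0 x1 x2 x3 hx1.symm e20.symm h30.symm e21.symm h31.symm h32.symm
    have so : ∀ {u v : α}, u ≠ v → (some u : Option α) ≠ some v := fun huv e => huv (Option.some.inj e)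
    intro i j k l hij hik hil hjk hjl hkl
    obtain ⟨g, hg⟩ := exists_perm (inj4 (so hx1.symm) (so e20.symm) (so h30.symm) (so e21.symm) (so h31.symm)
      (so h32.symm)) (inj4 hij hik hil hjk hjl hkl)
    have g0 : g (some x0) = i := hg 0
    have g1 : g (some x1) = j := hg 1
    have g2 : g (some x2) = k := hg 2
    have g3 : g (some x3) = l := hg 3
    have h4 := congrArg (fun y => ((1, g) : Perm α × Perm (Option α)) • y) hb
    simp only [smul_add, smul_zero] at h4
    rw [hX _ _ _ (so hx1.symm), hX _ _ _ (so h32.symm), hX _ _ _ (so e20.symm), hX _ _ _ (so h31.symm)] at h4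
    simp only [g0, g1, g2, g3] at h4
    exact h4
  -- the differences
  have hind : ∀ i i' j k, j ≠ k → i ≠ j → i ≠ k → i' ≠ j → i' ≠ k → X i j + X i k = X i' j + X i' k := by
    intro i i' j k hjk hij hik hij' hik'
    by_cases hii : i = i'
    · rw [hii]
    · have h1 := hR i j k i' hij hik hii hjk hij'.symm hik'.symm
      refine eq_of_add h.two ?_
      rw [← h1, hs k i', hs j i']
      abel
  set d : Option α → Option α → Y := fun j k =>
    if hjk : j ≠ k then X (h.exists_ne2 j k).choose j + X (h.exists_ne2 j k).choose k else 0 with hd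
  have hdef : ∀ i j k, j ≠ k → i ≠ j → i ≠ k → d j k = X i j + X i k := by
    intro i j k hjk hij hik
    simp only [hd]
    rw [dif_pos hjk]
    exact hind _ _ _ _ hjk (h.exists_ne2 j k).choose_spec.1 (h.exists_ne2 j k).choose_spec.2 hij hik
  have hdz : ∀ j, d j j = 0 := fun j => by simp [hd]
  have hdl := h.lin (d := d)
    (by
      intro i j
      by_cases hij : i = j
      · rw [hij]
      · obtain ⟨l, hl1, hl2⟩ := h.exists_ne2 i j
        rw [hdef l i j hij hl1 hl2, hdef l j i (Ne.symm hij) hl2 hl1, add_comm])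
    (by
      intro i j k hij hjk hik
      obtain ⟨l, hl1, hl2, hl3⟩ := h.exists_ne3 i j k
      rw [hdef l i j hij hl1 hl2, hdef l j k hjk hl2 hl3, hdef l i k hik hl1 hl3]
      calc X l i + X l j + (X l j + X l k) = X l i + X l k + (X l j + X l j) := by abel
        _ = _ := by rw [h.two, add_zero])
    (by
      intro g i j hij
      obtain ⟨l, hl1, hl2⟩ := h.exists_ne2 i j
      rw [hdef l i j hij hl1 hl2, smul_add, hX _ _ _ hl1, hX _ _ _ hl2, hdef (g.2 l) (g.2 i) (g.2 j)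
        (fun e => hij (g.2.injective e)) (fun e => hl1 (g.2.injective e)) (fun e => hl2 (g.2.injective e))])
  -- the constant
  obtain ⟨u0⟩ := Fintype.card_pos_iff.mp (lt_of_lt_of_le (by norm_num : 0 < 4) h.four)
  have hu : (none : Option α) ≠ some u0 := (Option.some_ne_none u0).symm
  rcases hdl with hdl | hdl
  · have hconst : ∀ i j, i ≠ j → X i j = X none (some u0) := by
      intro i j hij
      refine const_pair hs ?_ hij hu
      intro i j k hij hik hjk
      refine eq_of_add h.two ?_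
      rw [← hdef i j k hjk hij hik, hdl j k hjk]
    refine ⟨X none (some u0), h.fix_all fun g => ?_, Or.inl hconst⟩
    rw [hX _ _ _ hu]
    exact hconst _ _ fun e => hu (g.2.injective e)
  · have hconst : ∀ i j, i ≠ j → X i j + (c i + c j) = X none (some u0) + (c none + c (some u0)) := by
      intro i j hij
      refine const_pair (κ := fun i j => X i j + (c i + c j)) (fun i j => by simp only [hs i j, add_comm (c i)])
        ?_ hij hu
      intro i j k hij hik hjk
      refine eq_of_add h.two ?_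
      have h1 := hdef i j k hjk hij hik
      rw [hdl j k hjk] at h1
      calc X i j + (c i + c j) + (X i k + (c i + c k))
          = (X i j + X i k) + (c j + c k) + (c i + c i) := by abel
        _ = 0 := by rw [← h1, h.two, h.two, add_zero]
    refine ⟨X none (some u0) + (c none + c (some u0)), h.fix_all fun g => ?_, Or.inr ?_⟩
    · rw [smul_add, smul_add, hX _ _ _ hu, h.smul_c, h.smul_c]
      exact hconst _ _ fun e => hu (g.2.injective e)
    · intro i j hij
      rw [← hconst i j hij, add_assoc, h.two, add_zero]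

/-- `const_pair` for the letters with a property -/
theorem const_pair_on {β Y : Type*} {κ : β → β → Y} {p : β → Prop} (hs : ∀ i j, κ i j = κ j i)
    (hc : ∀ i j k, p i → p j → p k → i ≠ j → i ≠ k → j ≠ k → κ i j = κ i k) {i j i' j' : β} (pi : p i)
    (pj : p j) (pi' : p i') (pj' : p j') (h : i ≠ j) (h' : i' ≠ j') : κ i j = κ i' j' := by
  have hc' : ∀ i j k, p i → p j → p k → i ≠ j → i ≠ k → κ i j = κ i k := by
    intro i j k hi hj hk h1 h2
    by_cases h3 : j = k
    · rw [h3]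
    · exact hc i j k hi hj hk h1 h2 h3
  by_cases h1 : i = i'
  · rw [h1]
    exact hc' _ _ _ pi' pj pj' (h1 ▸ h) h'
  · rw [hc' i j i' pi pj pi' h h1, hs i i', hc' i' i j' pi' pi pj' (Ne.symm h1) h']

/-- the same for triples -/
theorem const_triple {β Y : Type*} {κ : β → β → β → Y} (hs1 : ∀ i j k, κ i j k = κ j i k)
    (hs2 : ∀ i j k, κ i j k = κ i k j) (he : ∀ j k : β, ∃ i, i ≠ j ∧ i ≠ k)
    (hc : ∀ i j k l, i ≠ j → i ≠ k → i ≠ l → j ≠ k → j ≠ l → k ≠ l → κ i j k = κ i j l)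
    {i j k i' j' k' : β} (h1 : i ≠ j) (h2 : i ≠ k) (h3 : j ≠ k) (h1' : i' ≠ j') (h2' : i' ≠ k') (h3' : j' ≠ k') :
    κ i j k = κ i' j' k' := by
  have key : ∀ i j k j' k', i ≠ j → i ≠ k → j ≠ k → i ≠ j' → i ≠ k' → j' ≠ k' → κ i j k = κ i j' k' := by
    intro i j k j' k' h1 h2 h3 h1' h2' h3'
    exact const_pair_on (κ := κ i) (p := fun x => i ≠ x) (hs2 i)
      (fun x y z px py pz hxy hxz hyz => hc i x y z px py pz hxy hxz hyz) h1 h2 h1' h2' h3 h3'
  by_cases hii : i = i'
  · subst hii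
    exact key _ _ _ _ _ h1 h2 h3 h1' h2' h3'
  · obtain ⟨l, hl1, hl2⟩ := he i i'
    rw [key i j k i' l h1 h2 h3 hii hl1.symm hl2.symm, hs1 i i' l,
      key i' i l j' k' (Ne.symm hii) hl2.symm hl1.symm h1' h2' h3']

/-- **The matching lemma for triples.** -/
theorem Frame.triple (h : Frame S t a c) {X : Option α → Option α → Option α → Y}
    (hs1 : ∀ i j k, X i j k = X j i k) (hs2 : ∀ i j k, X i j k = X i k j)
    (hX : ∀ (g : Perm α × Perm (Option α)) i j k, i ≠ j → i ≠ k → j ≠ k →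
      g • X i j k = X (g.2 i) (g.2 j) (g.2 k)) :
    ∃ z : Y, (z = 0 ∨ z = a) ∧ ((∀ i j k, i ≠ j → i ≠ k → j ≠ k → X i j k = z) ∨
      ∀ i j k, i ≠ j → i ≠ k → j ≠ k → X i j k = z + (c i + c j + c k)) := by
  classical
  have so : ∀ {u v : α}, u ≠ v → (some u : Option α) ≠ some v := fun huv e => huv (Option.some.inj e)
  have no : ∀ u : α, (none : Option α) ≠ some u := fun u => (Option.some_ne_none u).symm
  -- the four term relation
  have hR0 := h.four_term (f := fun i j => X none (some i) (some j)) (fun i j => hs2 _ _ _)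
    (fun s s' i j hij => by rw [hX _ _ _ _ (no i) (no j) (so hij)]; rfl)
  have hR : ∀ i j k l m : Option α, i ≠ j → i ≠ k → i ≠ l → i ≠ m → j ≠ k → j ≠ l → j ≠ m → k ≠ l → k ≠ m →
      l ≠ m → X i j k + X i l m + (X i j l + X i k m) = 0 := by
    obtain ⟨x0⟩ := Fintype.card_pos_iff.mp (lt_of_lt_of_le (by norm_num : 0 < 4) h.four)
    obtain ⟨x1, hx1⟩ : ∃ x1, x1 ≠ x0 := ⟨t x0, h.tf x0⟩
    obtain ⟨x2', h21, h22, h23⟩ := h.exists_ne3 (some x0) (some x1) none
    obtain ⟨x2, rfl⟩ := Option.ne_none_iff_exists'.mp h23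
    have h4' : ∃ x3 : α, x3 ≠ x0 ∧ x3 ≠ x1 ∧ x3 ≠ x2 := by
      by_contra hcon
      push Not at hcon
      have h1 : (Finset.univ : Finset α) ⊆ {x0, x1, x2} := by
        intro x _
        by_cases hx : x = x0
        · simp [hx]
        · by_cases hx' : x = x1
          · simp [hx']
          · simp [hcon x hx hx']
      have h2 := Finset.card_le_card h1
      rw [Finset.card_univ] at h2
      have h3 := Finset.card_le_three (a := x0) (b := x1) (c := x2)
      have := h.four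
      omega
    obtain ⟨x3, h30, h31, h32⟩ := h4'
    have e20 : x2 ≠ x0 := fun e => h21 (congrArg some e)
    have e21 : x2 ≠ x1 := fun e => h22 (congrArg some e)
    have hb := hR0 x0 x1 x2 x3 hx1.symm e20.symm h30.symm e21.symm h31.symm h32.symm
    intro i j k l m hij hik hil him hjk hjl hjm hkl hkm hlm
    obtain ⟨g, hg⟩ := exists_perm (inj5 (no x0) (no x1) (no x2) (no x3) (so hx1.symm) (so e20.symm)
      (so h30.symm) (so e21.symm) (so h31.symm) (so h32.symm)) (inj5 hij hik hil him hjk hjl hjm hkl hkm hlm)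
    have gn : g none = i := hg 0
    have g0 : g (some x0) = j := hg 1
    have g1 : g (some x1) = k := hg 2
    have g2 : g (some x2) = l := hg 3
    have g3 : g (some x3) = m := hg 4
    have h4 := congrArg (fun y => ((1, g) : Perm α × Perm (Option α)) • y) hb
    simp only [smul_add, smul_zero] at h4
    rw [hX _ _ _ _ (no _) (no _) (so hx1.symm), hX _ _ _ _ (no _) (no _) (so h32.symm),
      hX _ _ _ _ (no _) (no _) (so e20.symm), hX _ _ _ _ (no _) (no _) (so h31.symm)] at h4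
    simp only [gn, g0, g1, g2, g3] at h4
    exact h4
  -- the differences
  have hind : ∀ j k, j ≠ k → ∀ i l i' l', i ≠ j ∧ i ≠ k → l ≠ j ∧ l ≠ k → i' ≠ j ∧ i' ≠ k → l' ≠ j ∧ l' ≠ k →
      i ≠ l → i' ≠ l' → X i l j + X i l k = X i' l' j + X i' l' k := by
    intro j k hjk i l i' l' pi pl pi' pl' hil hil'
    refine const_pair_on (κ := fun i l => X i l j + X i l k) (p := fun x => x ≠ j ∧ x ≠ k)
      (fun x y => by simp only [hs1 x y]) ?_ pi pl pi' pl' hil hil'
    intro x y z px py pz hxy hxz hyz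
    refine eq_of_add h.two ?_
    have h1 := hR x y j k z hxy px.1 px.2 hxz py.1 py.2 hyz hjk pz.1.symm pz.2.symm
    rw [← h1, hs2 x k z, hs2 x j z]
    abel
  set d : Option α → Option α → Y := fun j k =>
    if hjk : j ≠ k then
      X (h.exists_ne2 j k).choose (h.exists_ne3 j k (h.exists_ne2 j k).choose).choose j +
      X (h.exists_ne2 j k).choose (h.exists_ne3 j k (h.exists_ne2 j k).choose).choose k else 0 with hd
  have hdef : ∀ i l j k, j ≠ k → i ≠ j → i ≠ k → l ≠ j → l ≠ k → i ≠ l → d j k = X i l j + X i l k := by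
    intro i l j k hjk hij hik hlj hlk hil
    simp only [hd]
    rw [dif_pos hjk]
    have e1 := (h.exists_ne2 j k).choose_spec
    have e2 := (h.exists_ne3 j k (h.exists_ne2 j k).choose).choose_spec
    exact hind j k hjk _ _ _ _ e1 ⟨e2.1, e2.2.1⟩ ⟨hij, hik⟩ ⟨hlj, hlk⟩ e2.2.2.symm hil
  have h4 : ∀ j k l m : Option α, ∃ i, i ≠ j ∧ i ≠ k ∧ i ≠ l ∧ i ≠ m := by
    intro j k l m
    by_contra hcon
    push Not at hcon
    have h1 : (Finset.univ : Finset (Option α)) ⊆ {j, k, l, m} := by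
      intro x _
      by_cases hx : x = j
      · simp [hx]
      · by_cases hx' : x = k
        · simp [hx']
        · by_cases hx'' : x = l
          · simp [hx'']
          · simp [hcon x hx hx' hx'']
    have h2 := Finset.card_le_card h1
    rw [Finset.card_univ, Fintype.card_option] at h2
    have h3 := Finset.card_le_four (a := j) (b := k) (c := l) (d := m)
    have := h.four
    omega
  have hdl := h.lin (d := d)
    (by
      intro i j
      by_cases hij : i = j
      · rw [hij]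
      · obtain ⟨l, hl1, hl2⟩ := h.exists_ne2 i j
        obtain ⟨m, hm1, hm2, hm3⟩ := h.exists_ne3 i j l
        rw [hdef l m i j hij hl1 hl2 hm1 hm2 hm3.symm, hdef l m j i (Ne.symm hij) hl2 hl1 hm2 hm1 hm3.symm,
          add_comm])
    (by
      intro i j k hij hjk hik
      obtain ⟨l, hl1, hl2, hl3⟩ := h.exists_ne3 i j k
      obtain ⟨m, hm1, hm2, hm3, hm4⟩ := h4 i j k l
      rw [hdef l m i j hij hl1 hl2 hm1 hm2 hm4.symm, hdef l m j k hjk hl2 hl3 hm2 hm3 hm4.symm,
        hdef l m i k hik hl1 hl3 hm1 hm3 hm4.symm]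
      calc X l m i + X l m j + (X l m j + X l m k) = X l m i + X l m k + (X l m j + X l m j) := by abel
        _ = _ := by rw [h.two, add_zero])
    (by
      intro g i j hij
      obtain ⟨l, hl1, hl2⟩ := h.exists_ne2 i j
      obtain ⟨m, hm1, hm2, hm3⟩ := h.exists_ne3 i j l
      have gi : ∀ {u v : Option α}, u ≠ v → g.2 u ≠ g.2 v := fun huv e => huv (g.2.injective e)
      rw [hdef l m i j hij hl1 hl2 hm1 hm2 hm3.symm, smul_add, hX _ _ _ _ hm3.symm hl1 hm1,
        hX _ _ _ _ hm3.symm hl2 hm2, hdef (g.2 l) (g.2 m) (g.2 i) (g.2 j) (gi hij) (gi hl1) (gi hl2) (gi hm1)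
        (gi hm2) (gi hm3.symm)])
  -- the constant
  obtain ⟨u0⟩ := Fintype.card_pos_iff.mp (lt_of_lt_of_le (by norm_num : 0 < 4) h.four)
  have hu := no u0
  obtain ⟨v0, hv1, hv2⟩ := h.exists_ne2 none (some u0)
  rcases hdl with hdl | hdl
  · have hconst : ∀ i j k, i ≠ j → i ≠ k → j ≠ k → X i j k = X none (some u0) v0 := by
      intro i j k hij hik hjk
      refine const_triple hs1 hs2 h.exists_ne2 ?_ hij hik hjk hu hv1.symm hv2.symm
      intro i j k l hij hik hil hjk hjl hkl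
      refine eq_of_add h.two ?_
      rw [← hdef i j k l hkl hik hil hjk hjl hij, hdl k l hkl]
    refine ⟨X none (some u0) v0, h.fix_all fun g => ?_, Or.inl hconst⟩
    rw [hX _ _ _ _ hu hv1.symm hv2.symm]
    exact hconst _ _ _ (fun e => hu (g.2.injective e)) (fun e => hv1 (g.2.injective e).symm)
      (fun e => hv2 (g.2.injective e).symm)
  · have hconst : ∀ i j k, i ≠ j → i ≠ k → j ≠ k →
        X i j k + (c i + c j + c k) = X none (some u0) v0 + (c none + c (some u0) + c v0) := by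
      intro i j k hij hik hjk
      refine const_triple (κ := fun i j k => X i j k + (c i + c j + c k))
        (fun i j k => by simp only [hs1 i j k, add_comm (c i)])
        (fun i j k => by simp only [hs2 i j k, add_assoc, add_comm (c j)]) h.exists_ne2 ?_ hij hik hjk hu
        hv1.symm hv2.symm
      intro i j k l hij hik hil hjk hjl hkl
      refine eq_of_add h.two ?_
      have h1 := hdef i j k l hkl hik hil hjk hjl hij
      rw [hdl k l hkl] at h1
      calc X i j k + (c i + c j + c k) + (X i j l + (c i + c j + c l))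
          = (X i j k + X i j l) + (c k + c l) + (c i + c i) + (c j + c j) := by abel
        _ = 0 := by rw [← h1]; simp only [h.two, add_zero]
    refine ⟨X none (some u0) v0 + (c none + c (some u0) + c v0), h.fix_all fun g => ?_, Or.inr ?_⟩
    · rw [smul_add, smul_add, smul_add, hX _ _ _ _ hu hv1.symm hv2.symm, h.smul_c, h.smul_c, h.smul_c]
      exact hconst _ _ _ (fun e => hu (g.2.injective e)) (fun e => hv1 (g.2.injective e).symm)
        (fun e => hv2 (g.2.injective e).symm)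
    · intro i j k hij hik hjk
      rw [← hconst i j k hij hik hjk, add_assoc, h.two, add_zero]

end frame

end Cfsg.Agent.Omega.NSix.MatchP

end

section


/-!
# The matching lemma with `V₀ ≠ 1` (bb OMEGA #15619): pure module theory

`Ω` has `2 ^ m + 1 ≥ 5` points, `Y` is an elementary abelian 2-group with an action of `Sym(Ω)` and an equivariant
copy `ι` of the module of the subsets of `Ω` modulo complements; every vector fixed by a Sylow 2-subgroup of `Sym(Ω)`
is a vector fixed by `Sym(Ω)` plus a multiple of the point `o`.  If `F s k` (`s` a pair, `k ∉ s`) is an equivariant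
family of vectors and `∑ k, F s k = 0` for all `s`, then `F = 0` or `F s k` is the subset `s ∪ {k}`.
-/

set_option autoImplicit false
set_option linter.unusedSectionVars false

namespace Cfsg.Agent.Omega.F4Leaf.Match

open Equiv Equiv.Perm MulAction Pointwise Cfsg.Agent.Omega.NSix.Match
open Cfsg.Agent.Omega.NSix.MatchP (exists_perm inj4 inj5 const_pair_on const_triple odd_nsmul)

section pm

variable {Ω : Type*} [Fintype Ω] [DecidableEq Ω]

/-- An `S`-invariant perfect matching of `Ω - o`. -/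
structure PM (S : Subgroup (Perm Ω)) (o : Ω) (ν : Finset (Finset Ω)) : Prop where
  inv : ∀ g ∈ S, ∀ s ∈ ν, g • s ∈ ν
  two : ∀ s ∈ ν, s.card = 2
  off : ∀ s ∈ ν, o ∉ s
  ex : ∀ x, x ≠ o → ∃ s ∈ ν, x ∈ s
  unq : ∀ s ∈ ν, ∀ t ∈ ν, ∀ x, x ∈ s → x ∈ t → s = t

theorem mem_smul' {g : Perm Ω} {s : Finset Ω} {x : Ω} : x ∈ g • s ↔ g⁻¹ x ∈ s := by
  rw [← Finset.inv_smul_mem_iff]
  rfl

theorem pm_of {m : ℕ} {S : Subgroup (Perm Ω)} {o : Ω} {a b : Finset Ω} {M : Subgroup (Perm Ω)} {τ : Perm Ω}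
    {μ : Finset (Finset Ω)} (B : Blocks m S o a b M τ μ) : PM S o (μ ∪ μ.image fun s => τ • s) := by
  have hab : ∀ s ∈ μ, τ • s ⊆ a := by
    intro s hs x hx
    rw [← B.tb, mem_smul']
    exact B.sub s hs (mem_smul'.mp hx)
  constructor
  · intro g hg s hs
    have hM : ∀ g ∈ M, ∀ s ∈ μ ∪ μ.image (fun s => τ • s), g • s ∈ μ ∪ μ.image fun s => τ • s := by
      intro g hg s hs
      rw [Finset.mem_union, Finset.mem_image] at hs ⊢
      rcases hs with hs | ⟨t, ht, rfl⟩
      · exact Or.inl (B.inv g hg s hs)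
      · refine Or.inr ⟨(τ⁻¹ * g * τ) • t, B.inv _ (B.norm g hg) t ht, ?_⟩
        rw [← mul_smul, ← mul_smul]
        congr 1
        group
    have hτ : ∀ s ∈ μ ∪ μ.image (fun s => τ • s), τ • s ∈ μ ∪ μ.image fun s => τ • s := by
      intro s hs
      rw [Finset.mem_union, Finset.mem_image] at hs ⊢
      rcases hs with hs | ⟨t, ht, rfl⟩
      · exact Or.inr ⟨s, hs, rfl⟩
      · left
        rw [← mul_smul]
        exact B.inv _ B.sq t ht
    rcases B.cov g hg with h1 | h1
    · exact hM g h1 s hs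
    · have h2 := hτ _ (hM _ h1 s hs)
      rw [← mul_smul, mul_inv_cancel_left] at h2
      exact h2
  · intro s hs
    rw [Finset.mem_union, Finset.mem_image] at hs
    rcases hs with hs | ⟨t, ht, rfl⟩
    · exact B.two s hs
    · rw [Finset.card_smul_finset, B.two t ht]
  · intro s hs ho
    rw [Finset.mem_union, Finset.mem_image] at hs
    rcases hs with hs | ⟨t, ht, rfl⟩
    · exact B.ob (B.sub s hs ho)
    · exact B.oa (hab t ht ho)
  · intro x hx
    rcases B.uni x with h | h | h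
    · exact absurd h hx
    · rw [← B.tb, mem_smul'] at h
      obtain ⟨s, hs, hxs⟩ := B.ex _ h
      exact ⟨τ • s, Finset.mem_union_right _ (Finset.mem_image_of_mem _ hs), mem_smul'.mpr hxs⟩
    · obtain ⟨s, hs, hxs⟩ := B.ex _ h
      exact ⟨s, Finset.mem_union_left _ hs, hxs⟩
  · intro s hs t ht x hxs hxt
    rw [Finset.mem_union, Finset.mem_image] at hs ht
    rcases hs with hs | ⟨s, hs, rfl⟩ <;> rcases ht with ht | ⟨t, ht, rfl⟩
    · exact B.unq s hs t ht x hxs hxt
    · exact absurd (B.sub s hs hxs) (B.dis x (hab t ht hxt))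
    · exact absurd (B.sub t ht hxt) (B.dis x (hab s hs hxs))
    · rw [B.unq s hs t ht _ (mem_smul'.mp hxs) (mem_smul'.mp hxt)]

theorem exists_off {n : ℕ} (hn : n < Fintype.card Ω) (s : Finset Ω) (hs : s.card ≤ n) : ∃ x, x ∉ s := by
  obtain ⟨x, -, hx⟩ := Finset.exists_mem_notMem_of_card_lt_card (s := s) (t := Finset.univ)
    (by rw [Finset.card_univ]; omega)
  exact ⟨x, hx⟩

theorem exists_off4 (hc : 5 ≤ Fintype.card Ω) (i j k l : Ω) : ∃ x, x ≠ i ∧ x ≠ j ∧ x ≠ k ∧ x ≠ l := by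
  obtain ⟨x, hx⟩ := exists_off (n := 4) (by omega) {i, j, k, l} Finset.card_le_four
  simp only [Finset.mem_insert, Finset.mem_singleton, not_or] at hx
  exact ⟨x, hx⟩

variable {Y : Type*} [AddCommGroup Y] [DistribMulAction (Perm Ω) Y]

/-- The exchange relation from an invariant matching. -/
theorem PM.exch {S : Subgroup (Perm Ω)} {o : Ω} {ν : Finset (Finset Ω)} (N : PM S o ν) (hc : 5 ≤ Fintype.card Ω)
    (hfix : ∀ s ∈ S, s o = o)
    (hS : ∀ y : Y, (∀ s ∈ S, s • y = y) → ∀ σ : Perm Ω, σ o = o → σ • y = y) {E : Finset Ω → Y}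
    (hE : ∀ σ : Perm Ω, σ o = o → ∀ i j, i ≠ j → i ≠ o → j ≠ o → σ • E {i, j} = E {σ i, σ j})
    {i j k l : Ω} (hij : i ≠ j) (hik : i ≠ k) (hil : i ≠ l) (hjk : j ≠ k) (hjl : j ≠ l) (hkl : k ≠ l)
    (hi : i ≠ o) (hj : j ≠ o) (hk : k ≠ o) (hl : l ≠ o) :
    E {i, j} + E {k, l} = E {i, k} + E {j, l} := by
  have hE' : ∀ σ : Perm Ω, σ o = o → ∀ s, s.card = 2 → o ∉ s → σ • E s = E (σ • s) := by
    intro σ hσ s hs hos
    obtain ⟨u, v, huv, rfl⟩ := Finset.card_eq_two.mp hs
    simp only [Finset.mem_insert, Finset.mem_singleton, not_or] at hos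
    rw [hE σ hσ u v huv (Ne.symm hos.1) (Ne.symm hos.2), pair_smul]
  -- two members of the matching
  obtain ⟨p, hp⟩ := exists_off (n := 1) (by omega) {o} (by simp)
  rw [Finset.mem_singleton] at hp
  obtain ⟨s1, hs1, hps1⟩ := N.ex p hp
  obtain ⟨p', hpp, rfl⟩ : ∃ p', p' ≠ p ∧ s1 = {p, p'} := by
    obtain ⟨u, v, huv, rfl⟩ := Finset.card_eq_two.mp (N.two s1 hs1)
    rcases (by simpa using hps1 : p = u ∨ p = v) with rfl | rfl
    · exact ⟨v, huv.symm, rfl⟩
    · exact ⟨u, huv, Finset.pair_comm _ _⟩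
  obtain ⟨q, hq⟩ := exists_off (n := 3) (by omega) {o, p, p'} Finset.card_le_three
  simp only [Finset.mem_insert, Finset.mem_singleton, not_or] at hq
  obtain ⟨hqo, hqp, hqp'⟩ := hq
  obtain ⟨s2, hs2, hqs2⟩ := N.ex q hqo
  obtain ⟨q', hqq, rfl⟩ : ∃ q', q' ≠ q ∧ s2 = {q, q'} := by
    obtain ⟨u, v, huv, rfl⟩ := Finset.card_eq_two.mp (N.two s2 hs2)
    rcases (by simpa using hqs2 : q = u ∨ q = v) with rfl | rfl
    · exact ⟨v, huv.symm, rfl⟩
    · exact ⟨u, huv, Finset.pair_comm _ _⟩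
  have hs12 : ({p, p'} : Finset Ω) ≠ {q, q'} := by
    intro h0
    have h1 : q ∈ ({p, p'} : Finset Ω) := by
      rw [h0]
      simp
    simp only [Finset.mem_insert, Finset.mem_singleton] at h1
    exact h1.elim hqp hqp'
  have hq'p : q' ≠ p := fun h0 => hs12 (N.unq _ hs1 _ hs2 p (by simp) (by rw [← h0]; simp))
  have hq'p' : q' ≠ p' := fun h0 => hs12 (N.unq _ hs1 _ hs2 p' (by simp) (by rw [← h0]; simp))
  have ho1 := N.off _ hs1
  have ho2 := N.off _ hs2
  simp only [Finset.mem_insert, Finset.mem_singleton, not_or] at ho1 ho2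
  have hbase : E {p, p'} + E {q, q'} = E {p, q} + E {p', q'} := by
    set g : Perm Ω := swap p' q with hg
    have hgo : g o = o := swap_apply_of_ne_of_ne ho1.2 ho2.1
    set y : Y := ∑ s ∈ ν, E s with hy
    have hyS : ∀ s ∈ S, s • y = y := by
      intro h hh
      rw [hy, Finset.smul_sum]
      exact Finset.sum_nbij' (fun s => h • s) (fun s => h⁻¹ • s) (fun s hs => N.inv h hh s hs)
        (fun s hs => N.inv _ (S.inv_mem hh) s hs) (fun s _ => inv_smul_smul h s) (fun s _ => smul_inv_smul h s)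
        fun s hs => hE' h (hfix h hh) s (N.two s hs) (N.off s hs)
    have h1 : y = E {p, p'} + (E {q, q'} + ∑ s ∈ (ν.erase {p, p'}).erase {q, q'}, E s) := by
      rw [hy, ← Finset.add_sum_erase ν _ hs1,
        ← Finset.add_sum_erase (ν.erase {p, p'}) _ (Finset.mem_erase.mpr ⟨hs12.symm, hs2⟩)]
    have h2 : g • y = y := hS y hyS g hgo
    have h3 : g • ∑ s ∈ (ν.erase {p, p'}).erase {q, q'}, E s = ∑ s ∈ (ν.erase {p, p'}).erase {q, q'}, E s := by
      rw [Finset.smul_sum]
      refine Finset.sum_congr rfl fun s hs => ?_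
      rw [Finset.mem_erase, Finset.mem_erase] at hs
      rw [hE' g hgo s (N.two s hs.2.2) (N.off s hs.2.2), swap_smul_eq_self]
      · intro h0
        exact hs.2.1 (N.unq s hs.2.2 _ hs1 p' h0 (by simp))
      · intro h0
        exact hs.1 (N.unq s hs.2.2 _ hs2 q h0 (by simp))
    have h4 : g p = p := swap_apply_of_ne_of_ne hpp.symm (Ne.symm hqp)
    have h5 : g p' = q := swap_apply_left _ _
    have h6 : g q = p' := swap_apply_right _ _
    have h7 : g q' = q' := swap_apply_of_ne_of_ne hq'p' hqq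
    rw [h1, smul_add, smul_add, h3, hE g hgo p p' hpp.symm (Ne.symm ho1.1) (Ne.symm ho1.2),
      hE g hgo q q' hqq.symm (Ne.symm ho2.1) (Ne.symm ho2.2), h4, h5, h6, h7, ← add_assoc, ← add_assoc] at h2
    exact (add_right_cancel h2).symm
  obtain ⟨g, hg⟩ := exists_perm (x := ![p, p', q, q', o]) (y := ![i, j, k, l, o])
    (inj5 hpp.symm (Ne.symm hqp) (Ne.symm hq'p) (Ne.symm ho1.1) (Ne.symm hqp') (Ne.symm hq'p') (Ne.symm ho1.2)
      hqq.symm (Ne.symm ho2.1) (Ne.symm ho2.2))
    (inj5 hij hik hil hi hjk hjl hj hkl hk hl)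
  have g1 : g p = i := hg 0
  have g2 : g p' = j := hg 1
  have g3 : g q = k := hg 2
  have g4 : g q' = l := hg 3
  have g5 : g o = o := hg 4
  have h7 := congrArg (fun w => g • w) hbase
  simp only [smul_add] at h7
  rw [hE g g5 p p' hpp.symm (Ne.symm ho1.1) (Ne.symm ho1.2), hE g g5 q q' hqq.symm (Ne.symm ho2.1) (Ne.symm ho2.2),
    hE g g5 p q (Ne.symm hqp) (Ne.symm ho1.1) (Ne.symm ho2.1),
    hE g g5 p' q' (Ne.symm hq'p') (Ne.symm ho1.2) (Ne.symm ho2.2), g1, g2, g3, g4] at h7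
  exact h7

end pm

section main

variable {Ω : Type*} [Fintype Ω] [DecidableEq Ω] {Y : Type*} [AddCommGroup Y] [DistribMulAction (Perm Ω) Y]

/-- The fixed vectors of `S` are the vectors `v` and `v + z_o` with `v` fixed by everything. -/
def FixS (S : Subgroup (Perm Ω)) (ι : (Ω → ZMod 2) → Y) : Prop :=
  ∀ o : Ω, (∀ s ∈ S, s o = o) → ∀ y : Y, (∀ s ∈ S, s • y = y) →
    ∃ v : Y, (∀ σ : Perm Ω, σ • v = v) ∧ (y = v ∨ y = v + ι (ind {o}))

/-- An equivariant family of vectors with trivial sums. -/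
structure Fam (F : Finset Ω → Ω → Y) : Prop where
  smul : ∀ (σ : Perm Ω) i j k, i ≠ j → i ≠ k → j ≠ k → σ • F {i, j} k = F {σ i, σ j} (σ k)
  sum : ∀ s : Finset Ω, s.card = 2 → ∑ k ∈ sᶜ, F s k = 0

theorem sum_ind {ι : (Ω → ZMod 2) → Y} (hM : Mod ι) (s : Finset Ω) : ∑ k ∈ s, ι (ind {k}) = ι (ind s) := by
  induction s using Finset.induction_on with
  | empty =>
    rw [Finset.sum_empty]
    exact ((hM.ker _).mpr (Or.inl (by funext x; simp [ind]))).symm
  | insert a s ha ih =>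
    rw [Finset.sum_insert ha, ih, ← hM.add]
    congr 1
    funext x
    by_cases hx : x = a
    · subst hx
      simp [ind, ha]
    · simp [ind, hx]

theorem ind_compl {ι : (Ω → ZMod 2) → Y} (hM : Mod ι) (s : Finset Ω) : ι (ind sᶜ) = ι (ind s) := by
  rw [hM.eq_iff_add, ← hM.add, hM.ker]
  right
  funext x
  by_cases hx : x ∈ s <;> simp [ind, hx]

theorem ind_insert {ι : (Ω → ZMod 2) → Y} (hM : Mod ι) {s : Finset Ω} {k : Ω} (hk : k ∉ s) :
    ι (ind (insert k s)) = ι (ind s) + ι (ind {k}) := by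
  rw [← sum_ind hM, Finset.sum_insert hk, sum_ind hM, add_comm]

theorem ind_pair {ι : (Ω → ZMod 2) → Y} (hM : Mod ι) {i j : Ω} (hij : i ≠ j) :
    ι (ind {i, j}) = ι (ind {i}) + ι (ind {j}) := by
  rw [← sum_ind hM, Finset.sum_pair hij]

theorem sum_smul (σ : Perm Ω) (s : Finset Ω) (f : Ω → Y) : ∑ i ∈ σ • s, f i = ∑ j ∈ s, f (σ j) :=
  Finset.sum_image fun _ _ _ _ h => σ.injective h

theorem main {ι : (Ω → ZMod 2) → Y} (hM : Mod ι) {m : ℕ} (hm : 2 ≤ m) (hc : Fintype.card Ω = 2 ^ m + 1)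
    {S : Subgroup (Perm Ω)} {o : Ω} {a b : Finset Ω} {M : Subgroup (Perm Ω)} {τ : Perm Ω}
    {μ : Finset (Finset Ω)} (B : Blocks m S o a b M τ μ) (hS : FixS S ι) {F : Finset Ω → Ω → Y} (hF : Fam F) :
    (∀ i j k, i ≠ j → i ≠ k → j ≠ k → F {i, j} k = 0) ∨
      ∀ i j k, i ≠ j → i ≠ k → j ≠ k → F {i, j} k = ι (ind {i, j}) + ι (ind {k}) := by
  have hc5 : 5 ≤ Fintype.card Ω := by
    have : 2 ^ 2 ≤ 2 ^ m := Nat.pow_le_pow_right (by norm_num) hm
    omega
  have h2 := hM.two
  have N := pm_of B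
  have hSo : ∀ y : Y, (∀ s ∈ S, s • y = y) → ∀ σ : Perm Ω, σ o = o → σ • y = y := by
    intro y hy σ hσ
    obtain ⟨v, hv, rfl | rfl⟩ := hS o B.fix y hy
    · exact hv σ
    · rw [smul_add, hv, hM.act_ind, Finset.smul_finset_singleton, Perm.smul_def, hσ]
  -- (1)
  have hA0 : ∀ i j k l, i ≠ j → i ≠ k → i ≠ l → j ≠ k → j ≠ l → k ≠ l → i ≠ o → j ≠ o → k ≠ o → l ≠ o →
      F {i, j} o + F {k, l} o = F {i, k} o + F {j, l} o := by
    intro i j k l h1 h2 h3 h4 h5 h6 h7 h8 h9 h10
    refine N.exch hc5 B.fix hSo (E := fun s => F s o) ?_ h1 h2 h3 h4 h5 h6 h7 h8 h9 h10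
    intro σ hσ i j hij hi hj
    have h11 := hF.smul σ i j o hij hi hj
    rw [hσ] at h11
    exact h11
  have hA : ∀ x i j k l, i ≠ j → i ≠ k → i ≠ l → j ≠ k → j ≠ l → k ≠ l → i ≠ x → j ≠ x → k ≠ x → l ≠ x →
      F {i, j} x + F {k, l} x = F {i, k} x + F {j, l} x := by
    intro x i j k l h1 h2 h3 h4 h5 h6 h7 h8 h9 h10
    have hsx : swap x o x = o := swap_apply_left _ _
    have hne : ∀ {u}, u ≠ x → swap x o u ≠ o := fun {u} hu h0 =>
      hu ((swap x o).injective (h0.trans hsx.symm))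
    have hinj : ∀ {u v : Ω}, u ≠ v → swap x o u ≠ swap x o v := fun h => (swap x o).injective.ne h
    have h11 := hA0 (swap x o i) (swap x o j) (swap x o k) (swap x o l) (hinj h1) (hinj h2) (hinj h3) (hinj h4)
      (hinj h5) (hinj h6) (hne h7) (hne h8) (hne h9) (hne h10)
    have h12 : ∀ u v, u ≠ v → u ≠ x → v ≠ x → F {swap x o u, swap x o v} o = swap x o • F {u, v} x := by
      intro u v huv hu hv
      rw [hF.smul _ u v x huv hu hv, hsx]
    rw [h12 i j h1 h7 h8, h12 k l h6 h9 h10, h12 i k h2 h7 h9, h12 j l h5 h8 h10, ← smul_add, ← smul_add] at h11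
    exact (MulAction.injective _) h11
  -- (2)
  set E : Ω → Finset Ω → Y := fun x s => ∑ k ∈ s, F (insert x (s.erase k)) k with hE
  have hEp : ∀ x i j, i ≠ j → E x {i, j} = F {x, j} i + F {x, i} j := by
    intro x i j hij
    have h1 : ({i, j} : Finset Ω).erase i = {j} := by
      rw [Finset.erase_insert]
      simpa using hij
    have h2 : ({i, j} : Finset Ω).erase j = {i} := by
      rw [Finset.pair_comm, Finset.erase_insert]
      simpa using hij.symm
    rw [hE]
    simp only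
    rw [Finset.sum_pair hij, h1, h2]
  have hB0 : ∀ i j k l, i ≠ j → i ≠ k → i ≠ l → j ≠ k → j ≠ l → k ≠ l → i ≠ o → j ≠ o → k ≠ o → l ≠ o →
      E o {i, j} + E o {k, l} = E o {i, k} + E o {j, l} := by
    intro i j k l h1 h2 h3 h4 h5 h6 h7 h8 h9 h10
    refine N.exch hc5 B.fix hSo (E := E o) ?_ h1 h2 h3 h4 h5 h6 h7 h8 h9 h10
    intro σ hσ i j hij hi hj
    rw [hEp o i j hij, hEp o _ _ (σ.injective.ne hij), smul_add, hF.smul σ o j i hj.symm hi.symm hij.symm,
      hF.smul σ o i j hi.symm hj.symm hij, hσ]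
  have hB : ∀ x i j k l, i ≠ j → i ≠ k → i ≠ l → j ≠ k → j ≠ l → k ≠ l → i ≠ x → j ≠ x → k ≠ x → l ≠ x →
      E x {i, j} + E x {k, l} = E x {i, k} + E x {j, l} := by
    intro x i j k l h1 h2 h3 h4 h5 h6 h7 h8 h9 h10
    have hsx : swap x o x = o := swap_apply_left _ _
    have hne : ∀ {u}, u ≠ x → swap x o u ≠ o := fun {u} hu h0 =>
      hu ((swap x o).injective (h0.trans hsx.symm))
    have hinj : ∀ {u v : Ω}, u ≠ v → swap x o u ≠ swap x o v := fun h => (swap x o).injective.ne h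
    have h11 := hB0 (swap x o i) (swap x o j) (swap x o k) (swap x o l) (hinj h1) (hinj h2) (hinj h3) (hinj h4)
      (hinj h5) (hinj h6) (hne h7) (hne h8) (hne h9) (hne h10)
    have h12 : ∀ u v, u ≠ v → u ≠ x → v ≠ x → E o {swap x o u, swap x o v} = swap x o • E x {u, v} := by
      intro u v huv hu hv
      rw [hEp o _ _ (hinj huv), hEp x u v huv, smul_add, hF.smul _ x v u hv.symm hu.symm huv.symm,
        hF.smul _ x u v hu.symm hv.symm huv, hsx]
    rw [h12 i j h1 h7 h8, h12 k l h6 h9 h10, h12 i k h2 h7 h9, h12 j l h5 h8 h10, ← smul_add, ← smul_add] at h11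
    exact (MulAction.injective _) h11
  -- the constants
  have hconst : ∀ x, ∃ c : Y, ∀ i j k, i ≠ j → i ≠ k → j ≠ k → i ≠ x → j ≠ x → k ≠ x →
      F {i, j} x + F {i, k} x + F {j, k} x = c := by
    intro x
    let κ : {y // y ≠ x} → {y // y ≠ x} → {y // y ≠ x} → Y := fun i j k =>
      F {(i : Ω), (j : Ω)} x + F {(i : Ω), (k : Ω)} x + F {(j : Ω), (k : Ω)} x
    obtain ⟨i0, hi0, -, -, -⟩ := exists_off4 hc5 x x x x
    obtain ⟨j0, hj0, hj1, -, -⟩ := exists_off4 hc5 x i0 x x
    obtain ⟨k0, hk0, hk1, hk2, -⟩ := exists_off4 hc5 x i0 j0 x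
    refine ⟨κ ⟨i0, hi0⟩ ⟨j0, hj0⟩ ⟨k0, hk0⟩, fun i j k hij hik hjk hi hj hk => ?_⟩
    refine const_triple (κ := κ) ?_ ?_ ?_ ?_ (i := ⟨i, hi⟩) (j := ⟨j, hj⟩) (k := ⟨k, hk⟩)
      (fun h => hij (congrArg Subtype.val h)) (fun h => hik (congrArg Subtype.val h))
      (fun h => hjk (congrArg Subtype.val h)) (fun h => hj1 (congrArg Subtype.val h).symm)
      (fun h => hk1 (congrArg Subtype.val h).symm) (fun h => hk2 (congrArg Subtype.val h).symm)
    · intro i j k
      change F {(i : Ω), (j : Ω)} x + F {(i : Ω), (k : Ω)} x + F {(j : Ω), (k : Ω)} x =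
        F {(j : Ω), (i : Ω)} x + F {(j : Ω), (k : Ω)} x + F {(i : Ω), (k : Ω)} x
      rw [Finset.pair_comm (i : Ω) j]
      abel
    · intro i j k
      change F {(i : Ω), (j : Ω)} x + F {(i : Ω), (k : Ω)} x + F {(j : Ω), (k : Ω)} x =
        F {(i : Ω), (k : Ω)} x + F {(i : Ω), (j : Ω)} x + F {(k : Ω), (j : Ω)} x
      rw [Finset.pair_comm (j : Ω) k]
      abel
    · intro j k
      obtain ⟨i, h1, h2, h3, -⟩ := exists_off4 hc5 x j k x
      exact ⟨⟨i, h1⟩, fun h => h2 (congrArg Subtype.val h), fun h => h3 (congrArg Subtype.val h)⟩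
    · rintro ⟨i, hi⟩ ⟨j, hj⟩ ⟨k, hk⟩ ⟨l, hl⟩ h1 h2 h3 h4 h5 h6
      rw [Ne, Subtype.mk.injEq] at h1 h2 h3 h4 h5 h6
      change F {i, j} x + F {i, k} x + F {j, k} x = F {i, j} x + F {i, l} x + F {j, l} x
      have h7 := hA x i k j l h2 h1 h3 (Ne.symm h4) h6 h5 hi hk hj hl
      have h8 := hA x i l j k h3 h1 h2 (Ne.symm h5) (Ne.symm h6) h4 hi hl hj hk
      rw [Finset.pair_comm l k, ← h7, add_comm (F {i, l} x)] at h8
      have h9 := hM.exch h8.symm
      rw [add_assoc, add_assoc, h9, add_comm (F {j, l} x)]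
  choose c hcc using hconst
  have hcσ : ∀ (σ : Perm Ω) x, σ • c x = c (σ x) := by
    intro σ x
    obtain ⟨i, hi, -, -, -⟩ := exists_off4 hc5 x x x x
    obtain ⟨j, hj, hj1, -, -⟩ := exists_off4 hc5 x i x x
    obtain ⟨k, hk, hk1, hk2, -⟩ := exists_off4 hc5 x i j x
    rw [← hcc x i j k hj1.symm hk1.symm hk2.symm hi hj hk, smul_add, smul_add, hF.smul _ _ _ _ hj1.symm hi hj,
      hF.smul _ _ _ _ hk1.symm hi hk, hF.smul _ _ _ _ hk2.symm hj hk]
    exact hcc (σ x) _ _ _ (σ.injective.ne hj1.symm) (σ.injective.ne hk1.symm) (σ.injective.ne hk2.symm)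
      (σ.injective.ne hi) (σ.injective.ne hj) (σ.injective.ne hk)
  set Gf : Finset Ω → Ω → Y := fun s k => F s k + c k with hGf
  have hGσ : ∀ (σ : Perm Ω) i j k, i ≠ j → i ≠ k → j ≠ k → σ • Gf {i, j} k = Gf {σ i, σ j} (σ k) := by
    intro σ i j k h1 h2 h3
    change σ • (F {i, j} k + c k) = F {σ i, σ j} (σ k) + c (σ k)
    rw [smul_add, hF.smul σ i j k h1 h2 h3, hcσ]
  have hGadd : ∀ i j l k, i ≠ j → i ≠ l → j ≠ l → i ≠ k → j ≠ k → l ≠ k →
      Gf {i, j} k + Gf {j, l} k = Gf {i, l} k := by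
    intro i j l k h1 h2 h3 h4 h5 h6
    rw [hM.eq_iff_add]
    change F {i, j} k + c k + (F {j, l} k + c k) + (F {i, l} k + c k) = 0
    calc F {i, j} k + c k + (F {j, l} k + c k) + (F {i, l} k + c k)
        = (F {i, j} k + F {i, l} k + F {j, l} k) + c k + (c k + c k) := by abel
      _ = 0 := by rw [hcc k i j l h1 h2 h3 h4 h5 h6, hM.two]
  have hGx : ∀ x i j k, i ≠ j → x ≠ i → x ≠ j → i ≠ k → j ≠ k → x ≠ k →
      Gf {i, j} k = Gf {x, i} k + Gf {x, j} k := by
    intro x i j k h1 h2 h3 h4 h5 h6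
    rw [← hGadd i x j k h2.symm h1 h3 h4 h6 h5, Finset.pair_comm i x]
  have hEG : ∀ x i k, i ≠ k → Gf {x, k} i + Gf {x, i} k = E x {i, k} + (c i + c k) := by
    intro x i k hik
    rw [hEp x i k hik]
    change F {x, k} i + c i + (F {x, i} k + c k) = _
    abel
  have hGsym : ∀ i j k l, i ≠ j → i ≠ k → i ≠ l → j ≠ k → j ≠ l → k ≠ l →
      Gf {i, j} k + Gf {i, j} l = Gf {k, l} i + Gf {k, l} j := by
    intro i j k l h1 h2 h3 h4 h5 h6
    obtain ⟨x, hx1, hx2, hx3, hx4⟩ := exists_off4 hc5 i j k l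
    rw [hGx x i j k h1 hx1 hx2 h2 h4 hx3, hGx x i j l h1 hx1 hx2 h3 h5 hx4,
      hGx x k l i h6 hx3 hx4 (Ne.symm h2) (Ne.symm h3) hx1, hGx x k l j h6 hx3 hx4 (Ne.symm h4) (Ne.symm h5) hx2,
      hM.eq_iff_add]
    have e1 := hEG x i k h2
    have e2 := hEG x j k h4
    have e3 := hEG x i l h3
    have e4 := hEG x j l h5
    have b1 := hB x i k j l h2 h1 h3 (Ne.symm h4) h6 h5 hx1.symm hx3.symm hx2.symm hx4.symm
    have b2 := hB x i l j k h3 h1 h2 (Ne.symm h5) (Ne.symm h6) h4 hx1.symm hx4.symm hx2.symm hx3.symm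
    calc Gf {x, i} k + Gf {x, j} k + (Gf {x, i} l + Gf {x, j} l) +
          (Gf {x, k} i + Gf {x, l} i + (Gf {x, k} j + Gf {x, l} j))
        = (Gf {x, k} i + Gf {x, i} k) + (Gf {x, k} j + Gf {x, j} k) + (Gf {x, l} i + Gf {x, i} l) +
          (Gf {x, l} j + Gf {x, j} l) := by abel
      _ = (E x {i, k} + (c i + c k)) + (E x {j, k} + (c j + c k)) + (E x {i, l} + (c i + c l)) +
          (E x {j, l} + (c j + c l)) := by rw [e1, e2, e3, e4]
      _ = (E x {i, k} + E x {j, l}) + (E x {i, l} + E x {j, k}) + (c i + c i) + (c j + c j) + (c k + c k) +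
          (c l + c l) := by abel
      _ = 0 := by
        rw [b1, b2, Finset.pair_comm l k]
        simp only [hM.two]
  -- (3)
  have hba : ∀ {i}, i ∈ b → i ∉ a := fun {i} hi h0 => B.dis i h0 hi
  have hab : ∀ {i}, i ∈ a → i ∉ b := fun {i} hi h0 => B.dis i hi h0
  set H : Finset Ω → Y := fun s => ∑ i ∈ a, Gf s i with hH
  have hHσ : ∀ σ : Perm Ω, σ • a = a → ∀ i j, i ≠ j → i ∉ a → j ∉ a → σ • H {i, j} = H {σ i, σ j} := by
    intro σ hσ i j hij hi hj
    change σ • ∑ k ∈ a, Gf {i, j} k = ∑ k ∈ a, Gf {σ i, σ j} k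
    have h1 : ∑ k ∈ a, Gf {σ i, σ j} k = ∑ k ∈ σ • a, Gf {σ i, σ j} k := by rw [hσ]
    rw [h1, sum_smul, Finset.smul_sum]
    refine Finset.sum_congr rfl fun k hk => hGσ σ i j k hij ?_ ?_
    · rintro rfl
      exact hi hk
    · rintro rfl
      exact hj hk
  have hHs : ∀ σ : Perm Ω, σ • a = a → ∀ s ∈ μ, σ • H s = H (σ • s) := by
    intro σ hσ s hs
    obtain ⟨u, v, huv, rfl⟩ := Finset.card_eq_two.mp (B.two s hs)
    rw [hHσ σ hσ u v huv (hba (B.sub _ hs (by simp))) (hba (B.sub _ hs (by simp))), pair_smul]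
  have hsumb : ∀ f : Ω → Y, ∑ j ∈ b, f j = ∑ q ∈ μ, ∑ j ∈ q, f j := by
    intro f
    have h1 : b = μ.biUnion id := by
      ext x
      rw [Finset.mem_biUnion]
      exact ⟨fun hx => B.ex x hx, fun ⟨s, hs, hx⟩ => B.sub s hs hx⟩
    conv_lhs => rw [h1]
    rw [Finset.sum_biUnion]
    · rfl
    · intro s hs t ht hst
      rw [Function.onFun, Finset.disjoint_left]
      intro x hxs hxt
      exact hst (B.unq s hs t ht x hxs hxt)
  have hsuma : ∀ f : Ω → Y, ∑ i ∈ a, f i = ∑ q ∈ μ, ∑ i ∈ τ • q, f i := by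
    intro f
    have h1 : ∑ i ∈ a, f i = ∑ i ∈ τ • b, f i := by rw [B.tb]
    rw [h1, sum_smul, hsumb]
    refine Finset.sum_congr rfl fun q _ => ?_
    rw [sum_smul]
  set y : Y := ∑ s ∈ μ, H s with hy
  have hyM : ∀ g ∈ M, g • y = y := by
    intro g hg
    rw [hy, Finset.smul_sum]
    refine Finset.sum_nbij' (fun s => g • s) (fun s => g⁻¹ • s) (fun s hs => B.inv g hg s hs)
      (fun s hs => B.inv _ (M.inv_mem hg) s hs) (fun s _ => inv_smul_smul g s) (fun s _ => smul_inv_smul g s) ?_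
    intro s hs
    exact hHs g (B.Ma g hg) s hs
  have hτi : ∀ x, τ⁻¹ (τ x) = x := fun x => τ.symm_apply_apply x
  have hyτ : τ • y = y := by
    have h1 : τ • y = ∑ p ∈ μ, ∑ q ∈ μ, ∑ j ∈ q, Gf (τ • p) j := by
      rw [hy, Finset.smul_sum]
      refine Finset.sum_congr rfl fun p hp => ?_
      rw [← hsumb]
      change τ • ∑ i ∈ a, Gf p i = _
      have h1 : ∑ j ∈ b, Gf (τ • p) j = ∑ j ∈ τ • a, Gf (τ • p) j := by rw [B.ta]
      rw [h1, sum_smul, Finset.smul_sum]
      refine Finset.sum_congr rfl fun k hk => ?_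
      obtain ⟨u, v, huv, rfl⟩ := Finset.card_eq_two.mp (B.two p hp)
      have hu : u ∈ b := B.sub _ hp (by simp)
      have hv : v ∈ b := B.sub _ hp (by simp)
      rw [hGσ τ u v k huv (fun h => hab hk (h ▸ hu)) (fun h => hab hk (h ▸ hv)), pair_smul]
    have h2 : y = ∑ p ∈ μ, ∑ q ∈ μ, ∑ i ∈ τ • q, Gf p i := by
      rw [hy]
      exact Finset.sum_congr rfl fun p _ => hsuma _
    rw [h1, h2, Finset.sum_comm]
    refine Finset.sum_congr rfl fun q hq => Finset.sum_congr rfl fun p hp => ?_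
    obtain ⟨u, v, huv, rfl⟩ := Finset.card_eq_two.mp (B.two p hp)
    obtain ⟨k, l, hkl, rfl⟩ := Finset.card_eq_two.mp (B.two q hq)
    have hu : τ u ∈ a := by
      rw [← B.tb, mem_smul', hτi]
      exact B.sub _ hp (by simp)
    have hv : τ v ∈ a := by
      rw [← B.tb, mem_smul', hτi]
      exact B.sub _ hp (by simp)
    have hk : k ∈ b := B.sub _ hq (by simp)
    have hl : l ∈ b := B.sub _ hq (by simp)
    rw [pair_smul, Finset.sum_pair hkl, Finset.sum_pair (τ.injective.ne huv)]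
    exact hGsym (τ u) (τ v) k l (τ.injective.ne huv) (fun h => hab hu (h ▸ hk)) (fun h => hab hu (h ▸ hl))
      (fun h => hab hv (h ▸ hk)) (fun h => hab hv (h ▸ hl)) hkl
  have hyS : ∀ s ∈ S, s • y = y := by
    intro s hs
    rcases B.cov s hs with h1 | h1
    · exact hyM s h1
    · calc s • y = τ • (τ⁻¹ * s) • y := by rw [← mul_smul, mul_inv_cancel_left]
        _ = y := by rw [hyM _ h1, hyτ]
  -- the transposition `(o p')`
  have hoa := B.oa
  have hob := B.ob
  have hcb2 : 2 ≤ b.card := by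
    rw [B.cb]
    calc 2 = 2 ^ 1 := by norm_num
      _ ≤ 2 ^ (m - 1) := Nat.pow_le_pow_right (by norm_num) (by omega)
  obtain ⟨p', hp'⟩ : ∃ p', p' ∈ b := Finset.card_pos.mp (by omega)
  obtain ⟨s1, hs1, hps1⟩ := B.ex p' hp'
  obtain ⟨p, hpp, hp, rfl⟩ : ∃ p, p ≠ p' ∧ p ∈ b ∧ s1 = {p, p'} := by
    obtain ⟨u, v, huv, rfl⟩ := Finset.card_eq_two.mp (B.two s1 hs1)
    have hu := B.sub _ hs1 (by simp : u ∈ ({u, v} : Finset Ω))
    have hv := B.sub _ hs1 (by simp : v ∈ ({u, v} : Finset Ω))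
    rcases (by simpa using hps1 : p' = u ∨ p' = v) with rfl | rfl
    · exact ⟨v, huv.symm, hv, Finset.pair_comm _ _⟩
    · exact ⟨u, huv, hu, rfl⟩
  have hpo : p ≠ o := fun h0 => hob (h0 ▸ hp)
  have hp'o : p' ≠ o := fun h0 => hob (h0 ▸ hp')
  obtain ⟨i0, hi0⟩ : ∃ i0, i0 ∈ a := Finset.card_pos.mp (by rw [B.ca]; positivity)
  have hi0o : i0 ≠ o := fun h0 => hoa (h0 ▸ hi0)
  have hi0p : i0 ≠ p := fun h0 => hba hp (h0 ▸ hi0)
  have hi0p' : i0 ≠ p' := fun h0 => hba hp' (h0 ▸ hi0)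
  set g : Perm Ω := swap o p' with hgdef
  have hga : g • a = a := swap_smul_eq_self hoa (hba hp')
  have hgy : y + g • y = H {p', o} := by
    have h1 : y = H {p, p'} + ∑ s ∈ μ.erase {p, p'}, H s := by
      rw [hy, ← Finset.add_sum_erase μ _ hs1]
    have h3 : g • ∑ s ∈ μ.erase {p, p'}, H s = ∑ s ∈ μ.erase {p, p'}, H s := by
      rw [Finset.smul_sum]
      refine Finset.sum_congr rfl fun s hs => ?_
      rw [Finset.mem_erase] at hs
      rw [hHs g hga s hs.2, swap_smul_eq_self]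
      · intro h0
        exact hob (B.sub s hs.2 h0)
      · intro h0
        exact hs.1 (B.unq s hs.2 _ hs1 p' h0 (by simp))
    have h4 : g p = p := swap_apply_of_ne_of_ne hpo hpp
    have h5 : g p' = o := swap_apply_right _ _
    have h6 : g • y = H {p, o} + ∑ s ∈ μ.erase {p, p'}, H s := by
      rw [h1, smul_add, h3, hHσ g hga p p' hpp (hba hp) (hba hp'), h4, h5]
    have h7 : H {p, p'} + H {p, o} = H {p', o} := by
      rw [hH]
      simp only
      rw [← Finset.sum_add_distrib]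
      refine Finset.sum_congr rfl fun k hk => ?_
      have hkp : p ≠ k := fun h0 => hba hp (h0 ▸ hk)
      have hkp' : p' ≠ k := fun h0 => hba hp' (h0 ▸ hk)
      have hko : o ≠ k := fun h0 => hoa (h0 ▸ hk)
      rw [Finset.pair_comm p p']
      exact hGadd p' p o k hpp.symm hp'o hpo hkp' hkp hko
    rw [h6]
    nth_rw 1 [h1]
    set R := ∑ s ∈ μ.erase {p, p'}, H s
    calc H {p, p'} + R + (H {p, o} + R) = H {p, p'} + H {p, o} + (R + R) := by abel
      _ = _ := by rw [hM.two, add_zero, h7]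
  have hD : H {p', o} = 0 ∨ H {p', o} = ι (ind {o}) + ι (ind {p'}) := by
    obtain ⟨v, hv, h1 | h1⟩ := hS o B.fix y hyS
    · left
      rw [← hgy, h1, hv, hM.two]
    · right
      have h4 : g o = p' := swap_apply_left _ _
      rw [← hgy, h1, smul_add, hv, hM.act_ind, Finset.smul_finset_singleton, Perm.smul_def, h4]
      calc v + ι (ind {o}) + (v + ι (ind {p'})) = (v + v) + (ι (ind {o}) + ι (ind {p'})) := by abel
        _ = _ := by rw [hM.two, zero_add]
  have hG0 : Gf {p', o} i0 = Gf {p', o} p := by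
    set h : Perm Ω := swap i0 p with hhdef
    have ho : h o = o := swap_apply_of_ne_of_ne hi0o.symm hpo.symm
    have hp1 : h p' = p' := swap_apply_of_ne_of_ne hi0p'.symm hpp.symm
    have h1 : h • H {p', o} = H {p', o} := by
      rcases hD with h2 | h2
      · rw [h2, smul_zero]
      · rw [h2, smul_add, hM.act_ind, hM.act_ind, Finset.smul_finset_singleton, Finset.smul_finset_singleton,
          Perm.smul_def, Perm.smul_def, ho, hp1]
    have h2 : h • H {p', o} = Gf {p', o} p + ∑ k ∈ a.erase i0, Gf {p', o} k := by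
      change h • ∑ i ∈ a, Gf {p', o} i = _
      rw [← Finset.add_sum_erase a _ hi0, smul_add, hGσ h p' o i0 hp'o hi0p'.symm hi0o.symm, ho, hp1,
        swap_apply_left, Finset.smul_sum]
      congr 1
      refine Finset.sum_congr rfl fun k hk => ?_
      rw [Finset.mem_erase] at hk
      rw [hGσ h p' o k hp'o (fun h0 => hba hp' (h0 ▸ hk.2)) (fun h0 => hoa (h0 ▸ hk.2)), ho, hp1,
        swap_apply_of_ne_of_ne hk.1 (fun h0 : k = p => hba hp (h0 ▸ hk.2))]
    have h3 : H {p', o} = Gf {p', o} i0 + ∑ k ∈ a.erase i0, Gf {p', o} k := by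
      change ∑ i ∈ a, Gf {p', o} i = _
      rw [← Finset.add_sum_erase a _ hi0]
    rw [h2] at h1
    rw [h3] at h1
    exact (add_right_cancel h1).symm
  have hGc : ∀ i j k l, i ≠ j → i ≠ k → i ≠ l → j ≠ k → j ≠ l → Gf {i, j} k = Gf {i, j} l := by
    intro i j k l h1 h2 h3 h4 h5
    by_cases h6 : k = l
    · rw [h6]
    obtain ⟨g, hg⟩ := exists_perm (x := ![p', o, i0, p]) (y := ![i, j, k, l])
      (inj4 hp'o hi0p'.symm hpp.symm hi0o.symm hpo.symm hi0p) (inj4 h1 h2 h3 h4 h5 h6)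
    have g1 : g p' = i := hg 0
    have g2 : g o = j := hg 1
    have g3 : g i0 = k := hg 2
    have g4 : g p = l := hg 3
    have h7 : g • Gf {p', o} i0 = g • Gf {p', o} p := by rw [hG0]
    rw [hGσ g p' o i0 hp'o hi0p'.symm hi0o.symm, hGσ g p' o p hp'o hpp.symm hpo.symm, g1, g2, g3, g4] at h7
    exact h7
  -- the constants
  have hodd : ∀ s : Finset Ω, s.card = 2 → Odd sᶜ.card := by
    intro s hs
    rw [Finset.card_compl, hs, hc]
    obtain ⟨k, rfl⟩ : ∃ k, m = k + 1 := ⟨m - 1, by omega⟩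
    have h1 : 1 ≤ 2 ^ k := Nat.one_le_two_pow
    exact ⟨2 ^ k - 1, by rw [pow_succ]; omega⟩
  have hGsum : ∀ i j k, i ≠ j → i ≠ k → j ≠ k → Gf {i, j} k = ∑ l ∈ ({i, j} : Finset Ω)ᶜ, c l := by
    intro i j k hij hik hjk
    have hcard : ({i, j} : Finset Ω).card = 2 := Finset.card_pair hij
    have h1 : ∑ l ∈ ({i, j} : Finset Ω)ᶜ, Gf {i, j} l = ∑ l ∈ ({i, j} : Finset Ω)ᶜ, c l := by
      rw [hGf]
      simp only
      rw [Finset.sum_add_distrib, hF.sum _ hcard, zero_add]
    rw [← h1, Finset.sum_congr rfl (g := fun _ => Gf {i, j} k), Finset.sum_const,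
      odd_nsmul hM.two (hodd _ hcard)]
    intro l hl
    simp only [Finset.mem_compl, Finset.mem_insert, Finset.mem_singleton, not_or] at hl
    exact hGc i j l k hij (Ne.symm hl.1) hik (Ne.symm hl.2) hjk
  have hcoS : ∀ s ∈ S, s • c o = c o := by
    intro s hs
    rw [hcσ, B.fix s hs]
  have htr : ∀ k, swap o k o = k := fun k => swap_apply_left _ _
  have hadd3 : ∀ v : Y, ∀ f : Ω → Ω → Y, (∀ i j k, i ≠ j → i ≠ k → j ≠ k → Gf {i, j} k = v + f i j) →
      (∀ i j l, f i j + f j l = f i l) → v = 0 := by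
    intro v f h1 h2
    obtain ⟨j, hj, -, -, -⟩ := exists_off4 hc5 o o o o
    obtain ⟨l, hl, hl1, -, -⟩ := exists_off4 hc5 o j o o
    obtain ⟨k, hk, hk1, hk2, -⟩ := exists_off4 hc5 o j l o
    have h3 := hGadd o j l k hj.symm hl.symm hl1.symm hk.symm hk1.symm hk2.symm
    rw [h1 o j k hj.symm hk.symm hk1.symm, h1 j l k hl1.symm hk1.symm hk2.symm,
      h1 o l k hl.symm hk.symm hk2.symm, ← h2 o j l] at h3
    have h4 : v + f o j + (v + f j l) = (v + v) + (f o j + f j l) := by abel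
    rw [h4, hM.two, zero_add] at h3
    exact right_eq_add.mp h3
  obtain ⟨v, hv, hco | hco⟩ := hS o B.fix (c o) hcoS
  · left
    have hck : ∀ k, c k = v := by
      intro k
      rw [← htr k, ← hcσ, hco, hv]
    have h1 : ∀ i j k, i ≠ j → i ≠ k → j ≠ k → Gf {i, j} k = v := by
      intro i j k h1 h2 h3
      rw [hGsum i j k h1 h2 h3, Finset.sum_congr rfl (fun l _ => hck l), Finset.sum_const,
        odd_nsmul hM.two (hodd _ (Finset.card_pair h1))]
    have hv0 : v = 0 := hadd3 v (fun _ _ => 0) (fun i j k h2 h3 h4 => by rw [h1 i j k h2 h3 h4, add_zero])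
      (fun _ _ _ => add_zero 0)
    intro i j k h2 h3 h4
    have h5 : F {i, j} k + c k = v := h1 i j k h2 h3 h4
    rw [hck, hv0, add_zero] at h5
    exact h5
  · right
    have hck : ∀ k, c k = v + ι (ind {k}) := by
      intro k
      rw [← htr k, ← hcσ, hco, smul_add, hv, hM.act_ind, Finset.smul_finset_singleton, Perm.smul_def]
    have h1 : ∀ i j k, i ≠ j → i ≠ k → j ≠ k → Gf {i, j} k = v + (ι (ind {i}) + ι (ind {j})) := by
      intro i j k h1 h2 h3
      rw [hGsum i j k h1 h2 h3, Finset.sum_congr rfl (fun l _ => hck l), Finset.sum_add_distrib, Finset.sum_const,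
        odd_nsmul hM.two (hodd _ (Finset.card_pair h1)), sum_ind hM, ind_compl hM, ind_pair hM h1]
    have hv0 : v = 0 := hadd3 v (fun i j => ι (ind {i}) + ι (ind {j})) h1 (fun i j l => by
      calc ι (ind {i}) + ι (ind {j}) + (ι (ind {j}) + ι (ind {l}))
          = ι (ind {i}) + ι (ind {l}) + (ι (ind {j}) + ι (ind {j})) := by abel
        _ = _ := by rw [hM.two, add_zero])
    intro i j k h2 h3 h4
    have h5 : F {i, j} k + c k = v + (ι (ind {i}) + ι (ind {j})) := h1 i j k h2 h3 h4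
    rw [hck, hv0, zero_add, zero_add] at h5
    rw [ind_pair hM h2, ← h5, add_assoc, hM.two, add_zero]

/-- **The matching lemma with `V₀`**: `f k`, `k ∉ e`, is an equivariant family for the stabiliser of the pair `e` with
trivial sum: it is trivial, or it is the family of the sets `e ∪ {k}`. -/
theorem matching_lemma {ι : (Ω → ZMod 2) → Y} (hM : Mod ι) {m : ℕ} (hm : 2 ≤ m)
    (hc : Fintype.card Ω = 2 ^ m + 1) (S : Sylow 2 (Perm Ω)) (hS : FixS (S : Subgroup (Perm Ω)) ι) {e : Finset Ω}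
    (he : e.card = 2) {f : Ω → Y} (hf : ∀ σ : Perm Ω, σ • e = e → ∀ k, k ∉ e → σ • f k = f (σ k))
    (h0 : ∑ k ∈ eᶜ, f k = 0) :
    (∀ k, k ∉ e → f k = 0) ∨ ∀ k, k ∉ e → f k = ι (ind e) + ι (ind {k}) := by
  classical
  obtain ⟨o, a, b, M, τ, μ, B⟩ := exists_blocks hm hc S
  obtain ⟨u, v, huv, rfl⟩ := Finset.card_eq_two.mp he
  have hex : ∀ s : Finset Ω, s.card = 2 → ∃ g : Perm Ω, g • ({u, v} : Finset Ω) = s := by
    intro s hs
    obtain ⟨i, j, hij, rfl⟩ := Finset.card_eq_two.mp hs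
    obtain ⟨g, hg⟩ := exists_perm (inj_two huv) (inj_two hij)
    have h1 : g u = i := hg 0
    have h2 : g v = j := hg 1
    exact ⟨g, by rw [pair_smul, h1, h2]⟩
  let F : Finset Ω → Ω → Y := fun s k => if h : ∃ g : Perm Ω, g • ({u, v} : Finset Ω) = s then
    h.choose • f (h.choose⁻¹ k) else 0
  have hFeq : ∀ (g : Perm Ω) k, k ∉ ({u, v} : Finset Ω) → F (g • {u, v}) (g k) = g • f k := by
    intro g k hk
    have h : ∃ g' : Perm Ω, g' • ({u, v} : Finset Ω) = g • {u, v} := ⟨g, rfl⟩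
    have h1 : F (g • {u, v}) (g k) = h.choose • f (h.choose⁻¹ (g k)) := dif_pos h
    rw [h1]
    have h2 := h.choose_spec
    set g' := h.choose
    have h3 : (g'⁻¹ * g) • ({u, v} : Finset Ω) = {u, v} := by
      rw [mul_smul, inv_smul_eq_iff, h2]
    have h4 := hf _ h3 k hk
    rw [Perm.mul_apply] at h4
    rw [← h4, ← mul_smul, mul_inv_cancel_left]
  have hFs : ∀ (σ : Perm Ω) s k, s.card = 2 → k ∉ s → σ • F s k = F (σ • s) (σ k) := by
    intro σ s k hs hk
    obtain ⟨g, rfl⟩ := hex s hs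
    have h1 : g⁻¹ k ∉ ({u, v} : Finset Ω) := fun h2 => hk (mem_smul'.mpr h2)
    have h2 := hFeq g (g⁻¹ k) h1
    have h3 := hFeq (σ * g) (g⁻¹ k) h1
    have h4 : g (g⁻¹ k) = k := g.apply_symm_apply k
    rw [h4] at h2
    rw [Perm.mul_apply, h4, mul_smul, mul_smul, ← h2] at h3
    exact h3.symm
  have hF : Fam F := by
    refine ⟨fun σ i j k hij hik hjk => ?_, fun s hs => ?_⟩
    · rw [hFs σ _ k (Finset.card_pair hij) (by simp [hik.symm, hjk.symm]), pair_smul]
    · obtain ⟨g, rfl⟩ := hex s hs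
      have h1 : (g • ({u, v} : Finset Ω))ᶜ = g • ({u, v} : Finset Ω)ᶜ := by
        ext x
        rw [Finset.mem_compl, mem_smul', mem_smul', Finset.mem_compl]
      rw [h1, sum_smul, Finset.sum_congr rfl (g := fun k => g • f k), ← Finset.smul_sum, h0, smul_zero]
      intro k hk
      exact hFeq g k (Finset.mem_compl.mp hk)
  have hf1 : ∀ k, k ∉ ({u, v} : Finset Ω) → F {u, v} k = f k := by
    intro k hk
    have h1 := hFeq 1 k hk
    rw [one_smul, one_smul] at h1
    exact h1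
  have hne : ∀ k, k ∉ ({u, v} : Finset Ω) → u ≠ k ∧ v ≠ k := by
    intro k hk
    simp only [Finset.mem_insert, Finset.mem_singleton, not_or] at hk
    exact ⟨Ne.symm hk.1, Ne.symm hk.2⟩
  rcases main hM hm hc B hS hF with h | h
  · left
    intro k hk
    rw [← hf1 k hk]
    exact h u v k huv (hne k hk).1 (hne k hk).2
  · right
    intro k hk
    rw [← hf1 k hk]
    exact h u v k huv (hne k hk).1 (hne k hk).2

end main

end Cfsg.Agent.Omega.F4Leaf.Match

end

section


/-!
# The halving lemma (H), (HH) of helper142's TEXT 2 (bb OMEGA #17498): pure module theory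

`Ω` has `2 ^ m + 1` points, `Y` is an `F₂ Sym(Ω)`-module, `ι : F₂^Ω → Y` equivariant.  If a Sylow 2-subgroup fixing the
point `o` has only the fixed points `φ`, `φ + ι {o}` (`φ` fixed by `Sym(Ω)`) on `Y`, then the elements fixed by the
transpositions of a perfect matching `μ` of `Ω - o` are `φ + ι(union of members of μ)`.
-/

set_option autoImplicit false
set_option linter.unusedSectionVars false

namespace Cfsg.Agent.Omega.IId.SymWr.Halve

open Equiv Equiv.Perm MulAction Pointwise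
open Cfsg.Agent.Omega.NSix.Match (ind Mod Blocks)

section transfer

variable {G : Type*} [Group G] {Y : Type*} [AddCommGroup Y] [DistribMulAction G Y]

theorem out_smul {A : Subgroup G} {c : Y} (hA : ∀ a ∈ A, a • c = c) (g : G) :
    (Quotient.out (QuotientGroup.mk g : G ⧸ A)) • c = g • c := by
  obtain ⟨h, hh⟩ := QuotientGroup.mk_out_eq_mul A g
  rw [hh, mul_smul, hA _ h.2]

theorem out_smul' {A B : Subgroup G} {c : Y} (hA : ∀ a ∈ A, a • c = c) (x : B) :
    ((Quotient.out (QuotientGroup.mk x : B ⧸ A.subgroupOf B) : B) : G) • c = (x : G) • c := by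
  obtain ⟨k, hk⟩ := QuotientGroup.mk_out_eq_mul (A.subgroupOf B) x
  have hk' : ((k : B) : G) • c = c := hA _ k.2
  rw [hk]
  show ((x : G) * ((k : B) : G)) • c = _
  rw [mul_smul, hk']

/-- transitivity of the transfer -/
theorem tr_trans [Finite G] {A B : Subgroup G} (h : A ≤ B) [Fintype (G ⧸ A)] [Fintype (G ⧸ B)]
    [Fintype (B ⧸ A.subgroupOf B)] {c : Y} (hA : ∀ a ∈ A, a • c = c) :
    ∑ q : G ⧸ A, (Quotient.out q) • c =
      ∑ p : G ⧸ B, (Quotient.out p) • ∑ t : B ⧸ A.subgroupOf B, ((Quotient.out t : B) : G) • c := by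
  have h1 : ∑ q : G ⧸ A, (Quotient.out q) • c =
      ∑ x : (G ⧸ B) × (B ⧸ A.subgroupOf B), (Quotient.out x.1) • (((Quotient.out x.2 : B) : G) • c) := by
    refine (Fintype.sum_equiv (Subgroup.quotientEquivProdOfLE h).symm _ _ ?_).symm
    rintro ⟨p, t⟩
    induction t using QuotientGroup.induction_on with
    | H b =>
      have e1 := out_smul' (B := B) hA b
      have e2 : (Subgroup.quotientEquivProdOfLE h).symm (p, (QuotientGroup.mk b : B ⧸ A.subgroupOf B)) =
          (QuotientGroup.mk (Quotient.out p * (b : G)) : G ⧸ A) := rfl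
      show (Quotient.out p) • (((Quotient.out (QuotientGroup.mk b : B ⧸ A.subgroupOf B) : B) : G) • c) = _
      rw [e1, e2, out_smul hA, mul_smul]
  rw [h1, Fintype.sum_prod_type]
  refine Finset.sum_congr rfl fun p _ => ?_
  rw [Finset.smul_sum]

/-- the transfer is fixed by the big group -/
theorem tr_fixed {B : Subgroup G} {A : Subgroup G} [Fintype (B ⧸ A.subgroupOf B)] {c : Y}
    (hA : ∀ a ∈ A, a • c = c) {h : G} (hh : h ∈ B) :
    h • ∑ t : B ⧸ A.subgroupOf B, ((Quotient.out t : B) : G) • c =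
      ∑ t : B ⧸ A.subgroupOf B, ((Quotient.out t : B) : G) • c := by
  rw [Finset.smul_sum]
  refine Fintype.sum_equiv (MulAction.toPerm (⟨h, hh⟩ : B)) _ _ ?_
  intro t
  induction t using QuotientGroup.induction_on with
  | H b =>
    have e := out_smul' (B := B) hA
    rw [e]
    show _ = ((Quotient.out (QuotientGroup.mk ((⟨h, hh⟩ : B) * b) : B ⧸ A.subgroupOf B) : B) : G) • c
    rw [e, smul_smul]
    rfl

/-- transfer in index two -/
theorem tr_two {B : Subgroup G} {A : Subgroup G} [Fintype (B ⧸ A.subgroupOf B)] {c : Y}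
    (hA : ∀ a ∈ A, a • c = c) {τ : G} (hτ : τ ∈ B) (hτA : τ ∉ A) (cov : ∀ s ∈ B, s ∈ A ∨ τ⁻¹ * s ∈ A) :
    ∑ t : B ⧸ A.subgroupOf B, ((Quotient.out t : B) : G) • c = c + τ • c := by
  classical
  have e := out_smul' (B := B) hA
  have hu : (Finset.univ : Finset (B ⧸ A.subgroupOf B)) =
      {(QuotientGroup.mk (1 : B)), (QuotientGroup.mk (⟨τ, hτ⟩ : B))} := by
    symm
    rw [Finset.eq_univ_iff_forall]
    intro t
    induction t using QuotientGroup.induction_on with
    | H b =>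
      rw [Finset.mem_insert, Finset.mem_singleton]
      rcases cov b b.2 with hb | hb
      · left
        rw [eq_comm, QuotientGroup.eq]
        rw [Subgroup.mem_subgroupOf]
        simpa using hb
      · right
        rw [eq_comm, QuotientGroup.eq]
        rw [Subgroup.mem_subgroupOf]
        exact hb
  rw [hu, Finset.sum_pair, e, e]
  · show (1 : G) • c + τ • c = _
    rw [one_smul]
  · intro h0
    rw [QuotientGroup.eq, Subgroup.mem_subgroupOf] at h0
    apply hτA
    simpa using h0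

end transfer

theorem z2 (c : ZMod 2) : c = 0 ∨ c = 1 := by revert c; decide

section basic

variable {Ω : Type*} [Fintype Ω] [DecidableEq Ω] {Y : Type*} [AddCommGroup Y] [DistribMulAction (Perm Ω) Y]

/-- `Mod` without the kernel -/
structure Md (ι : (Ω → ZMod 2) → Y) : Prop where
  two : ∀ y : Y, y + y = 0
  add : ∀ f g, ι (f + g) = ι f + ι g
  act : ∀ (σ : Perm Ω) f, σ • ι f = ι (f ∘ σ.symm)

theorem Md.of {ι : (Ω → ZMod 2) → Y} (hM : Mod ι) : Md ι := ⟨hM.two, hM.add, hM.act⟩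

/-- `y` is fixed by `Sym(Ω)` -/
def Fx (Ω : Type*) [Fintype Ω] [DecidableEq Ω] {Y : Type*} [AddCommGroup Y] [DistribMulAction (Perm Ω) Y] (y : Y) :
    Prop := ∀ g : Perm Ω, g • y = y

namespace Md

variable {ι : (Ω → ZMod 2) → Y} (hM : Md ι)
include hM

theorem zero : ι 0 = 0 := by
  have h := hM.add 0 0
  rw [add_zero, hM.two] at h
  exact h

theorem eq_of_add {x y : Y} (h : x + y = 0) : x = y := by
  calc x = x + (y + y) := by rw [hM.two, add_zero]
    _ = x + y + y := (add_assoc _ _ _).symm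
    _ = y := by rw [h, zero_add]

theorem act_ind (σ : Perm Ω) (s : Finset Ω) : σ • ι (ind s) = ι (ind (σ • s)) := by
  rw [hM.act]
  congr 1
  funext x
  have h1 : σ.symm x ∈ s ↔ x ∈ σ • s := by
    rw [← Finset.inv_smul_mem_iff]
    rfl
  simp only [ind, Function.comp, h1]

theorem sum {κ : Type*} (s : Finset κ) (f : κ → Ω → ZMod 2) : ι (∑ i ∈ s, f i) = ∑ i ∈ s, ι (f i) := by
  classical
  induction s using Finset.induction_on with
  | empty => rw [Finset.sum_empty, Finset.sum_empty]; exact hM.zero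
  | insert a s ha ih => rw [Finset.sum_insert ha, Finset.sum_insert ha, hM.add, ih]

/-- even multiples are zero, odd multiples the identity -/
theorem nsmul_even {n : ℕ} (hn : Even n) (y : Y) : n • y = 0 := by
  obtain ⟨k, rfl⟩ := hn
  rw [add_nsmul, hM.two]

theorem sum_fx {A : Subgroup (Perm Ω)} [Fintype (Perm Ω ⧸ A)] {y : Y} (hy : Fx Ω y) :
    ∑ p : Perm Ω ⧸ A, (Quotient.out p) • y = Fintype.card (Perm Ω ⧸ A) • y := by
  rw [← Finset.card_univ, ← Finset.sum_const]
  exact Finset.sum_congr rfl fun p _ => hy _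

theorem nsmul_odd {n : ℕ} (hn : Odd n) (y : Y) : n • y = y := by
  obtain ⟨k, rfl⟩ := hn
  rw [add_nsmul, one_nsmul, hM.nsmul_even ⟨k, by ring⟩, zero_add]

/-- (i) of (H): the fixed points of the stabiliser of a half -/
theorem half {m : ℕ} {S : Subgroup (Perm Ω)} {o : Ω} {a b : Finset Ω} {M : Subgroup (Perm Ω)} {τ : Perm Ω}
    {μ : Finset (Finset Ω)} (B : Blocks m S o a b M τ μ) {D : AddSubgroup Y} (hD : ∀ σ : Perm Ω, ∀ y ∈ D, σ • y ∈ D)
    (hE : ∀ y ∈ D, (∀ s ∈ S, s • y = y) → ∃ φ ∈ D, Fx Ω φ ∧ (y = φ ∨ y = φ + (ι (ind a) + ι (ind b))))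
    (ιD : ∀ f, ι f ∈ D) {k : Y} (hkD : k ∈ D) (hk : ∀ σ : Perm Ω, σ • a = a → σ • k = k) :
    ∃ φ ∈ D, Fx Ω φ ∧ (k = φ ∨ k = φ + ι (ind a)) := by
  have aa : τ • ι (ind a) = ι (ind b) := by rw [hM.act_ind, B.ta]
  have t2 : τ • τ • k = k := by rw [smul_smul]; exact hk _ (B.Ma _ B.sq)
  have hs : ∀ s ∈ S, s • (k + τ • k) = k + τ • k := by
    have hMk : ∀ s ∈ M, s • (k + τ • k) = k + τ • k := by
      intro s hs
      rw [smul_add, hk s (B.Ma s hs)]
      congr 1
      have h1 : s * τ = τ * (τ⁻¹ * s * τ) := by group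
      rw [smul_smul, h1, mul_smul, hk _ (B.Ma _ (B.norm s hs))]
    have hτk : τ • (k + τ • k) = k + τ • k := by rw [smul_add, t2, add_comm]
    intro s hs
    rcases B.cov s hs with h | h
    · exact hMk s h
    · have h1 : s = τ * (τ⁻¹ * s) := by group
      rw [h1, mul_smul, hMk _ h, hτk]
  -- the core: `k' + τ k'` fixed by everything implies `k'` fixed by everything
  have core : ∀ k' : Y, (∀ σ : Perm Ω, σ • a = a → σ • k' = k') → Fx Ω (k' + τ • k') → Fx Ω k' := by
    intro k' hk' hF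
    set φ := k' + τ • k' with hφ
    have e1 : k' = φ + τ • k' := by rw [hφ, add_assoc, hM.two, add_zero]
    have hb : ∀ σ : Perm Ω, σ • b = b → σ • k' = k' := by
      intro σ hσ
      have h1 : σ • τ • k' = τ • k' := by
        have h2 : σ * τ = τ * (τ⁻¹ * σ * τ) := by group
        rw [smul_smul, h2, mul_smul, hk' (τ⁻¹ * σ * τ)]
        rw [mul_smul, mul_smul, B.ta, hσ, ← B.ta, inv_smul_smul]
      calc σ • k' = σ • (φ + τ • k') := by rw [← e1]
        _ = φ + τ • k' := by rw [smul_add, hF, h1]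
        _ = k' := e1.symm
    have so : ∀ x, swap o x • k' = k' := by
      intro x
      rcases B.uni x with rfl | hx | hx
      · rw [swap_self]; exact one_smul _ k'
      · exact hb _ (Cfsg.Agent.Omega.NSix.Match.swap_smul_eq_self B.ob (B.dis x hx))
      · exact hk' _ (Cfsg.Agent.Omega.NSix.Match.swap_smul_eq_self B.oa (fun h => B.dis x h hx))
    have sw : ∀ x y : Ω, swap x y • k' = k' := by
      intro x y
      by_cases hx : x = o
      · rw [hx]; exact so y
      by_cases hy : y = o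
      · rw [hy, swap_comm]; exact so x
      by_cases hxy : x = y
      · rw [hxy, swap_self]; exact one_smul _ k'
      have h1 : swap x y = swap o x * swap o y * swap o x := by
        rw [swap_comm o y]
        exact (swap_mul_swap_mul_swap hy (Ne.symm hxy)).symm
      rw [h1, mul_smul, mul_smul, so, so, so]
    intro g
    induction g using Equiv.Perm.swap_induction_on with
    | one => exact one_smul _ k'
    | swap_mul f x y _ ih => rw [mul_smul, ih, sw]
  obtain ⟨φ, hφD, hφ, h | h⟩ := hE _ (D.add_mem hkD (hD τ k hkD)) hs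
  · refine ⟨k, hkD, core k hk ?_, Or.inl rfl⟩
    rw [h]; exact hφ
  · refine ⟨k + ι (ind a), D.add_mem hkD (ιD _), core _ ?_ ?_, Or.inr ?_⟩
    · intro σ hσ
      rw [smul_add, hk σ hσ, hM.act_ind, hσ]
    · have h1 : k + ι (ind a) + τ • (k + ι (ind a)) = φ := by
        rw [smul_add, aa]
        calc k + ι (ind a) + (τ • k + ι (ind b)) = (k + τ • k) + (ι (ind a) + ι (ind b)) := by abel
          _ = φ := by rw [h, add_assoc, hM.two, add_zero]
      rw [h1]; exact hφ
    · rw [add_assoc, hM.two, add_zero]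

/-- `Σ_{g ∈ G/H} ι(g a) = 0`, `H` the stabiliser of `a`, `|a|` even -/
theorem tr_ind {a : Finset Ω} (hodd : Odd (Fintype.card Ω)) (ha : Even a.card)
    [Fintype (Perm Ω ⧸ stabilizer (Perm Ω) a)] :
    ∑ p : Perm Ω ⧸ stabilizer (Perm Ω) a, (Quotient.out p) • ι (ind a) = 0 := by
  classical
  have h1 : ∀ p : Perm Ω ⧸ stabilizer (Perm Ω) a, (Quotient.out p) • ι (ind a) = ι (ind (Quotient.out p • a)) :=
    fun p => hM.act_ind _ _
  rw [Finset.sum_congr rfl (fun p _ => h1 p), ← hM.sum]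
  set F : Ω → ZMod 2 := ∑ p : Perm Ω ⧸ stabilizer (Perm Ω) a, ind (Quotient.out p • a) with hF
  have oe : ∀ g : Perm Ω, Quotient.out (QuotientGroup.mk g : Perm Ω ⧸ stabilizer (Perm Ω) a) • a = g • a := by
    intro g
    obtain ⟨h, hh⟩ := QuotientGroup.mk_out_eq_mul (stabilizer (Perm Ω) a) g
    rw [hh, mul_smul]
    have : (h : Perm Ω) • a = a := h.2
    rw [this]
  -- invariance
  have inv : ∀ (g : Perm Ω) (x : Ω), F (g x) = F x := by
    intro g x
    rw [hF, Finset.sum_apply, Finset.sum_apply]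
    refine (Fintype.sum_equiv (MulAction.toPerm g) _ _ ?_).symm
    intro p
    induction p using QuotientGroup.induction_on with
    | H b =>
      show ind (Quotient.out (QuotientGroup.mk b : Perm Ω ⧸ stabilizer (Perm Ω) a) • a) x =
        ind (Quotient.out (QuotientGroup.mk (g * b) : Perm Ω ⧸ stabilizer (Perm Ω) a) • a) (g x)
      rw [oe, oe, mul_smul]
      have h2 : g x ∈ g • b • a ↔ x ∈ b • a := Finset.smul_mem_smul_finset_iff g
      simp only [ind, h2]
  have hconst : ∀ x y : Ω, F x = F y := by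
    intro x y
    have := inv (swap x y) x
    rw [swap_apply_left] at this
    exact this.symm
  have hsum : ∑ x, F x = 0 := by
    rw [hF]
    simp only [Finset.sum_apply]
    rw [Finset.sum_comm]
    refine Finset.sum_eq_zero fun p _ => ?_
    have h3 : ∑ x, ind (Quotient.out p • a) x = ((Quotient.out p • a).card : ZMod 2) := by
      simp [ind]
    rw [h3, Finset.card_smul_finset]
    exact (ZMod.natCast_eq_zero_iff_even).2 ha
  have hz : F = 0 := by
    funext x
    have h4 : ∑ y, F y = Fintype.card Ω • F x := by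
      rw [Finset.sum_congr rfl (fun y _ => hconst y x), Finset.sum_const, Finset.card_univ]
    rw [hsum] at h4
    have h5 : Fintype.card Ω • F x = F x := by
      rw [nsmul_eq_mul, (ZMod.natCast_eq_one_iff_odd).2 hodd, one_mul]
    rw [h5] at h4
    exact h4.symm
  rw [hz]; exact hM.zero

/-- **(H)** -/
theorem halving {m : ℕ} (hm : 2 ≤ m) (hc : Fintype.card Ω = 2 ^ m + 1) (S : Sylow 2 (Perm Ω)) {o : Ω}
    {a b : Finset Ω} {M : Subgroup (Perm Ω)} {τ : Perm Ω} {μ : Finset (Finset Ω)}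
    (B : Blocks m (S : Subgroup (Perm Ω)) o a b M τ μ) {D : AddSubgroup Y}
    (hD : ∀ σ : Perm Ω, ∀ y ∈ D, σ • y ∈ D)
    (hE : ∀ y ∈ D, (∀ s ∈ S, s • y = y) → ∃ φ ∈ D, Fx Ω φ ∧ (y = φ ∨ y = φ + (ι (ind a) + ι (ind b))))
    (ιD : ∀ f, ι f ∈ D) {c : Y} (hcD : c ∈ D) (hcM : ∀ σ ∈ M, σ • c = c) :
    ∃ φ ∈ D, Fx Ω φ ∧ ∃ u v : ZMod 2, c = φ + ι (fun x => u * ind a x + v * ind b x) := by
  classical
  have hodd : Odd (Fintype.card Ω) := by
    rw [hc]
    exact Even.add_one (Nat.even_pow.2 ⟨even_two, by omega⟩)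
  have hca : Even a.card := by
    rw [B.ca]; exact Nat.even_pow.2 ⟨even_two, by omega⟩
  have : Finite (Perm Ω) := inferInstance
  let i1 : Fintype (Perm Ω ⧸ stabilizer (Perm Ω) a) := Fintype.ofFinite _
  let i2 : Fintype (Perm Ω ⧸ (S : Subgroup (Perm Ω))) := Fintype.ofFinite _
  let i3 : Fintype (Perm Ω ⧸ M) := Fintype.ofFinite _
  let i4 : Fintype ((S : Subgroup (Perm Ω)) ⧸ M.subgroupOf (S : Subgroup (Perm Ω))) := Fintype.ofFinite _
  let i5 : Fintype (stabilizer (Perm Ω) a ⧸ M.subgroupOf (stabilizer (Perm Ω) a)) := Fintype.ofFinite _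
  have hMH : M ≤ stabilizer (Perm Ω) a := fun s hs => B.Ma s hs
  have t2 : ∀ y : Y, (∀ σ ∈ M, σ • y = y) → τ • τ • y = y := fun y hy => by rw [smul_smul]; exact hy _ B.sq
  have aa : τ • ι (ind a) = ι (ind b) := by rw [hM.act_ind, B.ta]
  have bb : τ • ι (ind b) = ι (ind a) := by rw [hM.act_ind, B.tb]
  -- `c + τ c` is `S`-fixed
  have fixS : ∀ y : Y, (∀ σ ∈ M, σ • y = y) → ∀ s ∈ (S : Subgroup (Perm Ω)), s • (y + τ • y) = y + τ • y := by
    intro y hy
    have hMk : ∀ s ∈ M, s • (y + τ • y) = y + τ • y := by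
      intro s hs
      rw [smul_add, hy s hs]
      congr 1
      have h1 : s * τ = τ * (τ⁻¹ * s * τ) := by group
      rw [smul_smul, h1, mul_smul, hy _ (B.norm s hs)]
    have hτk : τ • (y + τ • y) = y + τ • y := by rw [smul_add, t2 y hy, add_comm]
    intro s hs
    rcases B.cov s hs with h | h
    · exact hMk s h
    · have h1 : s = τ * (τ⁻¹ * s) := by group
      rw [h1, mul_smul, hMk _ h, hτk]
  -- `τ ∉ M`
  have hτM : τ ∉ M := by
    intro h
    have h1 := B.Ma τ h
    rw [B.ta] at h1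
    have h2 : 0 < a.card := by
      rw [B.ca]; positivity
    obtain ⟨x, hx⟩ := Finset.card_pos.1 h2
    exact B.dis x hx (h1.symm ▸ hx)
  -- key claim: if `c' + τ c' = φ` is fixed by everything then `φ = 0`
  have key : ∀ c' ∈ D, (∀ σ ∈ M, σ • c' = c') → Fx Ω (c' + τ • c') → c' + τ • c' = 0 := by
    intro c' hc'D hc' hF
    have e1 := tr_trans (G := Perm Ω) (A := M) (B := (S : Subgroup (Perm Ω))) B.le hc'
    have e2 := tr_trans (G := Perm Ω) (A := M) (B := stabilizer (Perm Ω) a) hMH hc'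
    rw [tr_two (B := (S : Subgroup (Perm Ω))) hc' B.tau hτM B.cov] at e1
    rw [hM.sum_fx hF] at e1
    have o1 : Odd (Fintype.card (Perm Ω ⧸ (S : Subgroup (Perm Ω)))) := by
      rw [← Nat.card_eq_fintype_card]
      have h1 : ¬ 2 ∣ (S : Subgroup (Perm Ω)).index := S.not_dvd_index
      rw [Nat.odd_iff]
      have h2 : ¬ 2 ∣ Nat.card (Perm Ω ⧸ (S : Subgroup (Perm Ω))) := h1
      omega
    rw [hM.nsmul_odd o1] at e1
    set k := ∑ t : stabilizer (Perm Ω) a ⧸ M.subgroupOf (stabilizer (Perm Ω) a),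
      ((Quotient.out t : stabilizer (Perm Ω) a) : Perm Ω) • c' with hk
    have hkD : k ∈ D := D.sum_mem fun t _ => hD _ _ hc'D
    have hkH : ∀ σ : Perm Ω, σ • a = a → σ • k = k := fun σ hσ => tr_fixed hc' hσ
    obtain ⟨φ', _, hφ', h⟩ := hM.half B hD hE ιD hkD hkH
    -- `|G : H|` is even
    have ev : Even (Fintype.card (Perm Ω ⧸ stabilizer (Perm Ω) a)) := by
      have h1 := S.isPGroup'.card_modEq_card_fixedPoints (Perm Ω ⧸ stabilizer (Perm Ω) a)
      have h2 : Nat.card (fixedPoints (S : Subgroup (Perm Ω)) (Perm Ω ⧸ stabilizer (Perm Ω) a)) = 0 := by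
        rw [Nat.card_eq_zero]
        left
        constructor
        rintro ⟨q, hq⟩
        induction q using QuotientGroup.induction_on with
        | H g =>
          obtain ⟨o', ho', htr⟩ := Cfsg.Agent.Omega.NSix.Match.transitive (by omega) hc S
          have hinv : ∀ s ∈ (S : Subgroup (Perm Ω)), s • g • a = g • a := by
            intro s hs
            have h3 : (⟨s, hs⟩ : (S : Subgroup (Perm Ω))) • (QuotientGroup.mk g : Perm Ω ⧸ stabilizer (Perm Ω) a) =
              QuotientGroup.mk g := hq ⟨s, hs⟩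
            have h4 : (QuotientGroup.mk (s * g) : Perm Ω ⧸ stabilizer (Perm Ω) a) = QuotientGroup.mk g := h3
            rw [eq_comm, QuotientGroup.eq, mem_stabilizer_iff] at h4
            have h5 : g⁻¹ * (s * g) = g⁻¹ * s * g := by group
            rw [h5, mul_smul, mul_smul, inv_smul_eq_iff] at h4
            exact h4
          have h2m : 2 ≤ 2 ^ (m - 1) := by
            calc 2 = 2 ^ 1 := by norm_num
              _ ≤ 2 ^ (m - 1) := Nat.pow_le_pow_right (by norm_num) (by omega)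
          have hcard : (g • a).card = 2 ^ (m - 1) := by rw [Finset.card_smul_finset, B.ca]
          obtain ⟨x, hx, hxo⟩ : ∃ x ∈ g • a, x ≠ o' := by
            by_contra hcon
            push Not at hcon
            have : (g • a) ⊆ {o'} := fun x hx => Finset.mem_singleton.2 (hcon x hx)
            have := Finset.card_le_card this
            rw [hcard, Finset.card_singleton] at this
            omega
          have hsub : Finset.univ.erase o' ⊆ g • a := by
            intro y hy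
            have hyo : y ≠ o' := (Finset.mem_erase.1 hy).1
            obtain ⟨s, hs, hsy⟩ := htr x y hxo hyo
            rw [← hinv s hs, ← hsy]
            exact Finset.smul_mem_smul_finset hx
          have := Finset.card_le_card hsub
          rw [Finset.card_erase_of_mem (Finset.mem_univ _), Finset.card_univ, hc, hcard] at this
          have h6 : 2 ^ m = 2 * 2 ^ (m - 1) := by
            rw [← pow_succ']; congr 1; omega
          omega
      rw [h2, Nat.card_eq_fintype_card] at h1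
      exact Nat.even_iff.2 h1
    have e3 : ∑ p : Perm Ω ⧸ stabilizer (Perm Ω) a, (Quotient.out p) • k = 0 := by
      rcases h with h | h
      · rw [h, hM.sum_fx hφ', hM.nsmul_even ev]
      · rw [h]
        simp only [smul_add]
        rw [Finset.sum_add_distrib, hM.sum_fx hφ', hM.nsmul_even ev, zero_add]
        exact hM.tr_ind hodd hca
    rw [e3] at e2
    rw [← e1, e2]
  -- `τ c' = c'` gives the conclusion
  have fin : ∀ c' ∈ D, (∀ σ ∈ M, σ • c' = c') → Fx Ω (c' + τ • c') →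
      ∃ φ ∈ D, Fx Ω φ ∧ (c' = φ ∨ c' = φ + (ι (ind a) + ι (ind b))) := by
    intro c' hc'D hc' hF
    have h0 := key c' hc'D hc' hF
    have hτc : τ • c' = c' := (hM.eq_of_add h0).symm
    refine hE c' hc'D fun s hs => ?_
    rcases B.cov s hs with h | h
    · exact hc' s h
    · have h1 : s = τ * (τ⁻¹ * s) := by group
      rw [h1, mul_smul, hc' _ h, hτc]
  have f00 : ∀ u v : ZMod 2, ι (fun x => u * ind a x + v * ind b x) =
      (if u = 1 then ι (ind a) else 0) + (if v = 1 then ι (ind b) else 0) := by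
    intro u v
    have h1 : (fun x => u * ind a x + v * ind b x) = (fun x => u * ind a x) + (fun x => v * ind b x) := rfl
    have h2 : ∀ (w : ZMod 2) (s : Finset Ω), ι (fun x => w * ind s x) = if w = 1 then ι (ind s) else 0 := by
      intro w s
      rcases z2 w with rfl | rfl
      · simp only [zero_mul, zero_ne_one, if_false]; exact hM.zero
      · simp only [one_mul, if_true]
    rw [h1, hM.add, h2, h2]
  obtain ⟨φ, hφD, hφ, h | h⟩ := hE _ (D.add_mem hcD (hD τ c hcD)) (fixS c hcM)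
  · obtain ⟨ψ, hψD, hψ, h' | h'⟩ := fin c hcD hcM (by rw [h]; exact hφ)
    · refine ⟨ψ, hψD, hψ, 0, 0, ?_⟩
      rw [f00, if_neg (by decide), if_neg (by decide), add_zero, add_zero]; exact h'
    · refine ⟨ψ, hψD, hψ, 1, 1, ?_⟩
      rw [f00, if_pos rfl, if_pos rfl]; exact h'
  · have hc1 : ∀ σ ∈ M, σ • (c + ι (ind a)) = c + ι (ind a) := by
      intro σ hσ
      rw [smul_add, hcM σ hσ, hM.act_ind, B.Ma σ hσ]
    have h1 : c + ι (ind a) + τ • (c + ι (ind a)) = φ := by
      rw [smul_add, aa]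
      calc c + ι (ind a) + (τ • c + ι (ind b)) = (c + τ • c) + (ι (ind a) + ι (ind b)) := by abel
        _ = φ := by rw [h, add_assoc, hM.two, add_zero]
    obtain ⟨ψ, hψD, hψ, h' | h'⟩ := fin (c + ι (ind a)) (D.add_mem hcD (ιD _)) hc1 (by rw [h1]; exact hφ)
    · refine ⟨ψ, hψD, hψ, 1, 0, ?_⟩
      rw [f00, if_pos rfl, if_neg (by decide), add_zero, ← h', add_assoc, hM.two, add_zero]
    · refine ⟨ψ, hψD, hψ, 0, 1, ?_⟩
      rw [f00, if_neg (by decide), if_pos rfl, zero_add]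
      have h2 : c = c + ι (ind a) + ι (ind a) := by rw [add_assoc, hM.two, add_zero]
      rw [h2, h']
      calc ψ + (ι (ind a) + ι (ind b)) + ι (ind a) = ψ + ι (ind b) + (ι (ind a) + ι (ind a)) := by abel
        _ = ψ + ι (ind b) := by rw [hM.two, add_zero]

end Md

/-- the statement of (HH) by induction -/
def Main.{u, v} (n : ℕ) : Prop :=
  ∀ (Ω : Type u) [Fintype Ω] [DecidableEq Ω] (Y : Type v) [AddCommGroup Y] [DistribMulAction (Perm Ω) Y]
    (ι : (Ω → ZMod 2) → Y), Md ι → ∀ (D : AddSubgroup Y), (∀ σ : Perm Ω, ∀ y ∈ D, σ • y ∈ D) → (∀ f, ι f ∈ D) →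
    ∀ o : Ω, Fintype.card Ω = 2 ^ (n + 1) + 1 → ∀ Q : Subgroup (Perm Ω), IsPGroup 2 Q → (∀ q ∈ Q, q o = o) →
    (∀ y ∈ D, (∀ q ∈ Q, q • y = y) → ∃ φ ∈ D, Fx Ω φ ∧ (y = φ ∨ y = φ + ι (fun x => if x = o then 0 else 1))) →
    ∀ μ : Perm Ω, μ o = o → (∀ x, x ≠ o → μ x ≠ x) → (∀ x, μ (μ x) = x) → ∀ y ∈ D, (∀ x, swap x (μ x) • y = y) →
    ∃ φ ∈ D, Fx Ω φ ∧ ∃ g : Ω → ZMod 2, g o = 0 ∧ (∀ x, g (μ x) = g x) ∧ y = φ + ι g

/-- fixed by the permutations with support in `b ∪ {o}` -/
def Fxb {Ω : Type*} {Y : Type*} [AddCommGroup Y] [DistribMulAction (Perm Ω) Y] (o : Ω) (b : Finset Ω) (y : Y) :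
    Prop := ∀ σ : Perm Ω, (∀ x, x ≠ o → x ∉ b → σ x = x) → σ • y = y

/-- the ambient form of `Main n` -/
theorem amb.{u, v} {n : ℕ} (ih : Main.{u, v} n) {Ω : Type u} [Fintype Ω] [DecidableEq Ω] {Y : Type v}
    [AddCommGroup Y] [DistribMulAction (Perm Ω) Y] {ι : (Ω → ZMod 2) → Y} (hM : Md ι) {D : AddSubgroup Y} {o : Ω}
    {b : Finset Ω} (ho : o ∉ b) (hb : b.card = 2 ^ (n + 1))
    (hD : ∀ σ : Perm Ω, (∀ x, x ≠ o → x ∉ b → σ x = x) → ∀ y ∈ D, σ • y ∈ D)
    (ιD : ∀ f : Ω → ZMod 2, (∀ x, x ≠ o → x ∉ b → f x = 0) → ι f ∈ D) (Q : Subgroup (Perm Ω)) (hQ : IsPGroup 2 Q)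
    (hQb : ∀ q ∈ Q, ∀ x, x ∉ b → q x = x)
    (hE : ∀ y ∈ D, (∀ q ∈ Q, q • y = y) → ∃ φ ∈ D, Fxb o b φ ∧ (y = φ ∨ y = φ + ι (ind b)))
    (μ : Perm Ω) (hμo : μ o = o) (hμb : ∀ x ∈ b, μ x ∈ b) (hμ : ∀ x ∈ b, μ x ≠ x) (hμ2 : ∀ x, μ (μ x) = x)
    {y : Y} (hyD : y ∈ D) (hy : ∀ x ∈ b, swap x (μ x) • y = y) :
    ∃ φ ∈ D, Fxb o b φ ∧ ∃ g : Ω → ZMod 2, (∀ x, x ∉ b → g x = 0) ∧ (∀ x, g (μ x) = g x) ∧ y = φ + ι g := by
  classical
  let p : Ω → Prop := fun x => x = o ∨ x ∈ b
  let Ω₁ : Type u := {x // p x}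
  let θ : Perm Ω₁ →* Perm Ω := Perm.ofSubtype
  let act : DistribMulAction (Perm Ω₁) Y := DistribMulAction.compHom Y θ
  have hθ : ∀ (σ : Perm Ω₁) (y : Y), act.toSMul.smul σ y = θ σ • y := fun _ _ => rfl
  have θin : ∀ (σ : Perm Ω₁) (x : Ω) (hx : p x), θ σ x = (σ ⟨x, hx⟩ : Ω) := fun σ x hx =>
    Perm.ofSubtype_apply_of_mem σ hx
  have θout : ∀ (σ : Perm Ω₁) (x : Ω), ¬ p x → θ σ x = x := fun σ x hx => Perm.ofSubtype_apply_of_not_mem σ hx
  let ext : (Ω₁ → ZMod 2) → (Ω → ZMod 2) := fun f x => if h : p x then f ⟨x, h⟩ else 0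
  have exin : ∀ (f : Ω₁ → ZMod 2) (x : Ω) (hx : p x), ext f x = f ⟨x, hx⟩ := fun f x hx => dif_pos hx
  have exout : ∀ (f : Ω₁ → ZMod 2) (x : Ω), ¬ p x → ext f x = 0 := fun f x hx => dif_neg hx
  let ι₁ : (Ω₁ → ZMod 2) → Y := fun f => ι (ext f)
  have hM₁ : Md ι₁ := by
    refine ⟨hM.two, fun f g => ?_, fun σ f => ?_⟩
    · show ι (ext (f + g)) = ι (ext f) + ι (ext g)
      rw [← hM.add]
      congr 1
      funext x
      by_cases hx : p x
      · rw [exin _ x hx, Pi.add_apply, Pi.add_apply, exin _ x hx, exin _ x hx]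
      · rw [exout _ x hx, Pi.add_apply, exout _ x hx, exout _ x hx, add_zero]
    · show θ σ • ι (ext f) = ι (ext (f ∘ σ.symm))
      rw [hM.act]
      congr 1
      funext x
      have e : (θ σ).symm = θ σ⁻¹ := by
        rw [map_inv]; rfl
      show ext f ((θ σ).symm x) = ext (f ∘ σ.symm) x
      rw [e]
      by_cases hx : p x
      · have h1 : p (θ σ⁻¹ x) := by rw [θin _ x hx]; exact (σ⁻¹ ⟨x, hx⟩).2
        rw [exin _ _ h1, exin _ x hx]
        show f _ = f (σ.symm ⟨x, hx⟩)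
        congr 1
        apply Subtype.ext
        exact θin _ x hx
      · rw [θout _ x hx, exout _ x hx, exout _ x hx]
  have sup : ∀ σ : Perm Ω₁, ∀ x, x ≠ o → x ∉ b → θ σ x = x := fun σ x h1 h2 => θout σ x (by
    rintro (h | h)
    · exact h1 h
    · exact h2 h)
  -- every permutation with support in `b ∪ o` comes from `Ω₁`
  have lift : ∀ σ : Perm Ω, (∀ x, x ≠ o → x ∉ b → σ x = x) → ∃ σ₁ : Perm Ω₁, θ σ₁ = σ := by
    intro σ hσ
    have h1 : ∀ x, ¬ p x → σ x = x := fun x hx => hσ x (fun h => hx (Or.inl h)) (fun h => hx (Or.inr h))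
    have h2 : ∀ x, p (σ x) ↔ p x := by
      intro x
      constructor
      · intro h
        by_contra hx
        rw [h1 x hx] at h
        exact hx h
      · intro h
        by_contra hx
        have h3 := h1 _ hx
        have h4 : σ x = x := σ.injective h3
        rw [h4] at hx
        exact hx h
    refine ⟨σ.subtypePerm h2, ?_⟩
    apply Equiv.ext
    intro x
    by_cases hx : p x
    · rw [θin _ x hx]; rfl
    · rw [θout _ x hx, h1 x hx]
  have fx : ∀ φ : Y, Fxb o b φ ↔ @Fx Ω₁ _ _ Y _ act φ := by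
    intro φ
    constructor
    · intro h σ; exact h (θ σ) (sup σ)
    · intro h σ hσ
      obtain ⟨σ₁, rfl⟩ := lift σ hσ
      exact h σ₁
  have hcard : Fintype.card Ω₁ = 2 ^ (n + 1) + 1 := by
    rw [Fintype.card_subtype]
    have : (Finset.univ.filter p) = insert o b := by
      ext x
      simp [p]
    rw [this, Finset.card_insert_of_notMem ho, hb]
  let o₁ : Ω₁ := ⟨o, Or.inl rfl⟩
  let Q₁ : Subgroup (Perm Ω₁) := Q.comap θ
  have hQ₁ : IsPGroup 2 Q₁ := hQ.comap_of_injective θ Perm.ofSubtype_injective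
  have hQo₁ : ∀ q ∈ Q₁, q o₁ = o₁ := by
    intro q hq
    have h1 := hQb (θ q) hq o ho
    rw [θin q o (Or.inl rfl)] at h1
    exact Subtype.ext h1
  have hindb : ∀ F : Ω₁ → ZMod 2, (∀ x : Ω₁, F x = if x = o₁ then 0 else 1) → ext F = ind b := by
    intro F hF
    funext x
    by_cases hx : p x
    · rw [exin F x hx, hF]
      rcases hx with rfl | hx
      · rw [if_pos rfl]
        exact (if_neg ho).symm
      · rw [if_neg (fun h => ho (by
          have : x = o := congrArg Subtype.val h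
          rw [← this]; exact hx))]
        exact (if_pos hx).symm
    · rw [exout F x hx]
      exact (if_neg (fun h => hx (Or.inr h))).symm
  have hE₁ : ∀ y ∈ D, (∀ q ∈ Q₁, act.toSMul.smul q y = y) →
      ∃ φ ∈ D, @Fx Ω₁ _ _ Y _ act φ ∧ (y = φ ∨ y = φ + ι₁ (fun x => if x = o₁ then 0 else 1)) := by
    intro y hyD hy
    have h1 : ∀ q ∈ Q, q • y = y := by
      intro q hq
      obtain ⟨q₁, h2⟩ := lift q (fun x _ hx => hQb q hq x hx)
      rw [← h2]
      exact hy q₁ (show θ q₁ ∈ Q by rw [h2]; exact hq)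
    obtain ⟨φ, hφD, hφ, h⟩ := hE y hyD h1
    refine ⟨φ, hφD, (fx φ).1 hφ, ?_⟩
    show y = φ ∨ y = φ + ι (ext (fun x : Ω₁ => if x = o₁ then 0 else 1))
    rw [hindb _ (fun x => rfl)]; exact h
  have hμp : ∀ x, p (μ x) ↔ p x := by
    intro x
    constructor
    · rintro (h | h)
      · left
        have := hμ2 x
        rw [h, hμo] at this
        exact this.symm
      · right
        have := hμb _ h
        rw [hμ2] at this
        exact this
    · rintro (h | h)
      · left; rw [h, hμo]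
      · right; exact hμb _ h
  let μ₁ : Perm Ω₁ := μ.subtypePerm hμp
  have hμ₁ : ∀ x : Ω₁, (μ₁ x : Ω) = μ x := fun x => rfl
  obtain ⟨φ, hφD, hφ, g, hg1, hg2, hg3⟩ := @ih Ω₁ _ _ Y _ act ι₁ hM₁ D
    (fun σ y hy => hD (θ σ) (sup σ) y hy)
    (fun f => ιD _ (fun x h1 h2 => exout f x (by
      rintro (h | h)
      · exact h1 h
      · exact h2 h))) o₁ hcard Q₁ hQ₁ hQo₁ hE₁ μ₁ (Subtype.ext hμo)
    (fun x hx h => by
      rcases x.2 with h1 | h1
      · exact hx (Subtype.ext h1)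
      · exact hμ _ h1 (congrArg Subtype.val h))
    (fun x => Subtype.ext (hμ2 x)) y hyD
    (fun x => by
      show θ (swap x (μ₁ x)) • y = y
      have h1 : θ (swap x (μ₁ x)) = swap (x : Ω) (μ x) := Perm.ofSubtype_swap_eq x (μ₁ x)
      rw [h1]
      rcases x.2 with h2 | h2
      · rw [h2, hμo, swap_self]; exact one_smul _ y
      · exact hy _ h2)
  refine ⟨φ, hφD, (fx φ).2 hφ, ext g, ?_, ?_, hg3⟩
  · intro x hx
    by_cases hp : p x
    · rw [exin _ x hp]
      rcases hp with rfl | hp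
      · exact hg1
      · exact absurd hp hx
    · exact exout _ x hp
  · intro x
    by_cases hp : p x
    · rw [exin _ x hp, exin _ _ ((hμp x).2 hp)]
      exact hg2 ⟨x, hp⟩
    · rw [exout _ x hp, exout _ _ (fun h => hp ((hμp x).1 h))]

/-- start of the induction: `|Ω| = 3` -/
theorem main_zero.{u, v} : Main.{u, v} 0 := by
  intro Ω _ _ Y _ _ ι hM D hD ιD o hc Q hQ hQo hE μ hμo hμ hμ2 y hyD hy
  have hc3 : Fintype.card Ω = 3 := by rw [hc]; norm_num
  have : Nontrivial Ω := Fintype.one_lt_card_iff_nontrivial.mp (by omega)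
  obtain ⟨x, hx⟩ := exists_ne o
  have hx1 : μ x ≠ x := hμ x hx
  have hx2 : μ x ≠ o := by
    intro h
    apply hx
    have := hμ2 x
    rw [h, hμo] at this
    exact this.symm
  have cov : ∀ z, z = o ∨ z = x ∨ z = μ x := by
    have h1 : ({o, x, μ x} : Finset Ω) = Finset.univ := by
      rw [← Finset.card_eq_iff_eq_univ, hc3, Finset.card_insert_of_notMem, Finset.card_pair (Ne.symm hx1)]
      simp only [Finset.mem_insert, Finset.mem_singleton, not_or]
      exact ⟨Ne.symm hx, Ne.symm hx2⟩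
    intro z
    have h2 : z ∈ ({o, x, μ x} : Finset Ω) := by rw [h1]; exact Finset.mem_univ _
    simpa using h2
  have hq : ∀ q ∈ Q, q • y = y := by
    intro q hq
    have h0 := hQo q hq
    have h1 : q x ≠ o := fun h => hx (q.injective (h.trans h0.symm))
    have h2 : q (μ x) ≠ o := fun h => hx2 (q.injective (h.trans h0.symm))
    have h3 : q (μ x) ≠ q x := fun h => hx1 (q.injective h)
    rcases cov (q x) with h | h | h
    · exact absurd h h1
    · have h4 : q = 1 := by
        ext z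
        rcases cov z with rfl | rfl | rfl
        · rw [h0]; rfl
        · rw [h]; rfl
        · rcases cov (q (μ x)) with h' | h' | h'
          · exact absurd h' h2
          · exact absurd (h'.trans h.symm) h3
          · rw [h']; rfl
      rw [h4, one_smul]
    · have h4 : q = swap x (μ x) := by
        ext z
        rcases cov z with rfl | rfl | rfl
        · rw [h0, swap_apply_of_ne_of_ne (Ne.symm hx) (Ne.symm hx2)]
        · rw [h, swap_apply_left]
        · rcases cov (q (μ x)) with h' | h' | h'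
          · exact absurd h' h2
          · rw [h', swap_apply_right]
          · exact absurd (h'.trans h.symm) h3
      rw [h4, hy]
  obtain ⟨φ, hφD, hφ, h | h⟩ := hE y hyD hq
  · exact ⟨φ, hφD, hφ, 0, rfl, fun _ => rfl, by rw [hM.zero, add_zero]; exact h⟩
  · refine ⟨φ, hφD, hφ, _, if_pos rfl, fun z => ?_, h⟩
    have h1 : μ z = o ↔ z = o := by
      constructor
      · intro h
        have := hμ2 z
        rw [h, hμo] at this
        exact this.symm
      · rintro rfl; exact hμo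
    by_cases hz : z = o
    · rw [if_pos hz, if_pos (h1.2 hz)]
    · rw [if_neg hz, if_neg (fun h => hz (h1.1 h))]

/-- `μ`-invariant subsets of every even size -/
theorem exists_inv {o : Ω} {μ : Perm Ω} (hμo : μ o = o) (hμ : ∀ x, x ≠ o → μ x ≠ x) (hμ2 : ∀ x, μ (μ x) = x)
    (k : ℕ) (hk : 2 * k + 1 ≤ Fintype.card Ω) :
    ∃ b : Finset Ω, o ∉ b ∧ b.card = 2 * k ∧ ∀ x ∈ b, μ x ∈ b := by
  induction k with
  | zero => exact ⟨∅, Finset.notMem_empty _, rfl, fun x hx => absurd hx (Finset.notMem_empty _)⟩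
  | succ k ih =>
    obtain ⟨b, ho, hb, hbi⟩ := ih (by omega)
    obtain ⟨x, hx⟩ : ∃ x, x ∉ insert o b := by
      by_contra hcon
      push Not at hcon
      have h1 : insert o b = Finset.univ := Finset.eq_univ_iff_forall.2 hcon
      have h2 := Finset.card_insert_of_notMem ho
      rw [h1, Finset.card_univ, hb] at h2
      omega
    rw [Finset.mem_insert, not_or] at hx
    have hx1 : μ x ≠ x := hμ x hx.1
    have hx2 : μ x ≠ o := by
      intro h
      apply hx.1
      have := hμ2 x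
      rw [h, hμo] at this
      exact this.symm
    have hx3 : μ x ∉ b := by
      intro h
      apply hx.2
      have := hbi _ h
      rw [hμ2] at this
      exact this
    refine ⟨insert x (insert (μ x) b), ?_, ?_, ?_⟩
    · simp only [Finset.mem_insert, not_or]
      exact ⟨Ne.symm hx.1, Ne.symm hx2, ho⟩
    · rw [Finset.card_insert_of_notMem, Finset.card_insert_of_notMem hx3, hb]
      · ring
      · simp only [Finset.mem_insert, not_or]
        exact ⟨Ne.symm hx1, hx.2⟩
    · intro z hz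
      simp only [Finset.mem_insert] at hz ⊢
      rcases hz with rfl | rfl | hz
      · exact Or.inr (Or.inl rfl)
      · exact Or.inl (hμ2 x)
      · exact Or.inr (Or.inr (hbi z hz))

/-- a 2-group fixing `o` lies in a Sylow 2-subgroup fixing `o` -/
theorem exists_sylow {m : ℕ} (hm : 1 ≤ m) (hc : Fintype.card Ω = 2 ^ m + 1) {o : Ω} {Q : Subgroup (Perm Ω)}
    (hQ : IsPGroup 2 Q) (hQo : ∀ q ∈ Q, q o = o) :
    ∃ R : Sylow 2 (Perm Ω), Q ≤ R ∧ ∀ s ∈ (R : Subgroup (Perm Ω)), s o = o := by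
  have hle : Q ≤ stabilizer (Perm Ω) o := fun q hq => hQo q hq
  have hQ' : IsPGroup 2 (Q.subgroupOf (stabilizer (Perm Ω) o)) := hQ.comap_subtype
  obtain ⟨P, hP⟩ := hQ'.exists_le_sylow
  have hP2 : IsPGroup 2 ((P : Subgroup (stabilizer (Perm Ω) o)).map (stabilizer (Perm Ω) o).subtype) :=
    P.isPGroup'.map _
  have hidx : ¬ 2 ∣ ((P : Subgroup (stabilizer (Perm Ω) o)).map (stabilizer (Perm Ω) o).subtype).index := by
    rw [Subgroup.index_map_subtype, Nat.prime_two.dvd_mul]
    rintro (h | h)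
    · exact P.not_dvd_index h
    · rw [MulAction.index_stabilizer_of_transitive, Nat.card_eq_fintype_card, hc] at h
      obtain ⟨k, rfl⟩ : ∃ k, m = k + 1 := ⟨m - 1, by omega⟩
      rw [pow_succ] at h
      omega
  refine ⟨hP2.toSylow hidx, ?_, ?_⟩
  · intro q hq
    exact ⟨⟨q, hle hq⟩, hP hq, rfl⟩
  · rintro s ⟨t, _, rfl⟩
    exact t.2

/-- a permutation taking `o` to `o` and `a` to `b` -/
theorem exists_move {o : Ω} {a b : Finset Ω} (hoa : o ∉ a) (hob : o ∉ b) (h : a.card = b.card) :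
    ∃ g : Perm Ω, g o = o ∧ g • a = b := by
  let e : {x // x ∈ a} ≃ {x // x ∈ b} := Finset.equivOfCardEq h
  let g₀ : Perm Ω := e.extendSubtype
  have h0 : ∀ x (hx : x ∈ a), g₀ x ∈ b := fun x hx => by
    rw [show g₀ x = e ⟨x, hx⟩ from e.extendSubtype_apply_of_mem x hx]
    exact (e ⟨x, hx⟩).2
  have h1 : g₀ • a = b := by
    refine Finset.eq_of_subset_of_card_le ?_ (by rw [Finset.card_smul_finset, h])
    intro y hy
    obtain ⟨x, hx, rfl⟩ := Finset.mem_smul_finset.mp hy
    exact h0 x hx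
  have h2 : g₀ o ∉ b := by
    intro h
    rw [← h1] at h
    obtain ⟨x, hx, hxo⟩ := Finset.mem_smul_finset.mp h
    exact hoa (g₀.injective hxo ▸ hx)
  refine ⟨swap o (g₀ o) * g₀, ?_, ?_⟩
  · rw [Perm.mul_apply, swap_apply_right]
  · rw [mul_smul, h1]
    exact Cfsg.Agent.Omega.NSix.Match.swap_smul_eq_self hob h2

/-- a 2-group `M` preserving the two halves `a`, `b` of `Ω - o`, with the conclusion of `(H)` -/
structure Cut (ι : (Ω → ZMod 2) → Y) (D : AddSubgroup Y) (o : Ω) (a b : Finset Ω) (M : Subgroup (Perm Ω)) : Prop where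
  oa : o ∉ a
  ob : o ∉ b
  dis : ∀ x ∈ a, x ∉ b
  uni : ∀ x, x = o ∨ x ∈ a ∨ x ∈ b
  card : a.card = b.card
  pg : IsPGroup 2 M
  fix : ∀ s ∈ M, s o = o
  Ma : ∀ s ∈ M, s • a = a
  Mb : ∀ s ∈ M, s • b = b
  hv : ∀ c ∈ D, (∀ s ∈ M, s • c = c) → ∃ φ ∈ D, Fx Ω φ ∧ ∃ u v : ZMod 2, c = φ + ι (fun x => u * ind a x + v * ind b x)

theorem Cut.symm {ι : (Ω → ZMod 2) → Y} {D : AddSubgroup Y} {o : Ω} {a b : Finset Ω} {M : Subgroup (Perm Ω)}
    (C : Cut ι D o a b M) : Cut ι D o b a M where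
  oa := C.ob
  ob := C.oa
  dis := fun x hx h => C.dis x h hx
  uni := fun x => by rcases C.uni x with h | h | h
                     · exact Or.inl h
                     · exact Or.inr (Or.inr h)
                     · exact Or.inr (Or.inl h)
  card := C.card.symm
  pg := C.pg
  fix := C.fix
  Ma := C.Mb
  Mb := C.Ma
  hv := fun c hc h => by
    obtain ⟨φ, h1, h2, u, v, h3⟩ := C.hv c hc h
    refine ⟨φ, h1, h2, v, u, ?_⟩
    rw [h3]
    congr 2
    funext x
    exact add_comm _ _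

theorem smul_mem_of {σ : Perm Ω} {a : Finset Ω} (h : σ • a = a) {x : Ω} : σ x ∈ a ↔ x ∈ a := by
  conv_lhs => rw [← h]
  exact Finset.smul_mem_smul_finset_iff σ

/-- restriction of a permutation to an invariant set -/
theorem restr {σ : Perm Ω} {a : Finset Ω} (h : σ • a = a) :
    ∃ ρ : Perm Ω, (∀ x ∈ a, ρ x = σ x) ∧ ∀ x, x ∉ a → ρ x = x := by
  have h1 : ∀ x, σ x ∈ a ↔ x ∈ a := fun x => smul_mem_of h
  refine ⟨Perm.ofSubtype (σ.subtypePerm h1), fun x hx => ?_, fun x hx => ?_⟩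
  · exact Perm.ofSubtype_apply_of_mem _ hx
  · exact Perm.ofSubtype_apply_of_not_mem _ hx

/-- the restrictions of the elements of `M` to `a` -/
def Rs (M : Subgroup (Perm Ω)) (a : Finset Ω) (hM : ∀ s ∈ M, s • a = a) : Subgroup (Perm Ω) where
  carrier := {ρ | (∀ x, x ∉ a → ρ x = x) ∧ ∃ σ ∈ M, ∀ x ∈ a, ρ x = σ x}
  mul_mem' := by
    rintro ρ ρ' ⟨h1, σ, hσ, h2⟩ ⟨h1', σ', hσ', h2'⟩
    refine ⟨fun x hx => by rw [Perm.mul_apply, h1' x hx, h1 x hx], σ * σ', M.mul_mem hσ hσ', fun x hx => ?_⟩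
    rw [Perm.mul_apply, Perm.mul_apply, h2' x hx]
    exact h2 _ ((smul_mem_of (hM σ' hσ')).2 hx)
  one_mem' := ⟨fun _ _ => rfl, 1, M.one_mem, fun _ _ => rfl⟩
  inv_mem' := by
    rintro ρ ⟨h1, σ, hσ, h2⟩
    refine ⟨fun x hx => by rw [Perm.inv_eq_iff_eq]; exact (h1 x hx).symm, σ⁻¹, M.inv_mem hσ, fun x hx => ?_⟩
    rw [Perm.inv_eq_iff_eq]
    have h3 : σ⁻¹ x ∈ a := (smul_mem_of (hM _ (M.inv_mem hσ))).2 hx
    rw [h2 _ h3]
    exact (σ.apply_symm_apply x).symm

theorem rs_pg {M : Subgroup (Perm Ω)} {a : Finset Ω} {hM : ∀ s ∈ M, s • a = a} (hp : IsPGroup 2 M) :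
    IsPGroup 2 (Rs M a hM) := by
  rintro ⟨ρ, h1, σ, hσ, h2⟩
  obtain ⟨k, hk⟩ := hp ⟨σ, hσ⟩
  have hk' : σ ^ 2 ^ k = 1 := congrArg Subtype.val hk
  refine ⟨k, Subtype.ext ?_⟩
  show ρ ^ 2 ^ k = 1
  have h3 : ∀ n : ℕ, ∀ x ∈ a, (ρ ^ n) x = (σ ^ n) x := by
    intro n
    induction n with
    | zero => intro x _; rfl
    | succ n ih =>
      intro x hx
      rw [pow_succ, pow_succ, Perm.mul_apply, Perm.mul_apply, h2 x hx]
      exact ih _ ((smul_mem_of (hM σ hσ)).2 hx)
  have h4 : ∀ n : ℕ, ∀ x, x ∉ a → (ρ ^ n) x = x := by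
    intro n
    induction n with
    | zero => intro x _; rfl
    | succ n ih =>
      intro x hx
      rw [pow_succ, Perm.mul_apply, h1 x hx]
      exact ih x hx
  apply Equiv.ext
  intro x
  by_cases hx : x ∈ a
  · rw [h3 _ x hx, hk']
  · rw [h4 _ x hx]; rfl

theorem Md.mono {ι : (Ω → ZMod 2) → Y} (hM : Md ι) {σ : Perm Ω} {f : Ω → ZMod 2} (h : ∀ x, f (σ x) = f x) :
    σ • ι f = ι f := by
  rw [hM.act]
  congr 1
  funext x
  have := h (σ.symm x)
  rw [σ.apply_symm_apply] at this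
  exact this.symm

/-- `(I)` -/
theorem stepI.{u, v} {n : ℕ} (ih : Main.{u, v} n) {Ω : Type u} [Fintype Ω] [DecidableEq Ω] {Y : Type v}
    [AddCommGroup Y] [DistribMulAction (Perm Ω) Y] {ι : (Ω → ZMod 2) → Y} (hM : Md ι) {D : AddSubgroup Y}
    (hD : ∀ σ : Perm Ω, ∀ y ∈ D, σ • y ∈ D) (ιD : ∀ f, ι f ∈ D) {o : Ω} {a b : Finset Ω} {M : Subgroup (Perm Ω)}
    (C : Cut ι D o a b M) (ha : a.card = 2 ^ (n + 1)) (μ : Perm Ω) (hμo : μ o = o) (hμa : ∀ x ∈ a, μ x ∈ a)
    (hμb : ∀ x ∈ b, μ x ∈ b) (hμ : ∀ x ∈ a, μ x ≠ x) (hμ2 : ∀ x, μ (μ x) = x) {y : Y} (hyD : y ∈ D)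
    (hy : ∀ x ∈ a, swap x (μ x) • y = y) (hyR : ∀ ρ ∈ Rs M b C.Mb, ρ • y = y) :
    ∃ φ ∈ D, Fx Ω φ ∧ ∃ g : Ω → ZMod 2, g o = 0 ∧ (∀ x, g (μ x) = g x) ∧ (∃ v, ∀ x ∈ b, g x = v) ∧ y = φ + ι g := by
  classical
  -- everything fixed by `R₁` and `R₂` is fixed by `M`
  have hMR : ∀ c : Y, (∀ ρ ∈ Rs M a C.Ma, ρ • c = c) → (∀ ρ ∈ Rs M b C.Mb, ρ • c = c) → ∀ s ∈ M, s • c = c := by
    intro c h1 h2 s hs
    obtain ⟨ρ₁, h3, h4⟩ := restr (C.Ma s hs)
    obtain ⟨ρ₂, h5, h6⟩ := restr (C.Mb s hs)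
    have h7 : s = ρ₁ * ρ₂ := by
      apply Equiv.ext
      intro x
      rw [Perm.mul_apply]
      rcases C.uni x with rfl | hx | hx
      · rw [h6 x C.ob, h4 x C.oa, C.fix s hs]
      · rw [h6 x (C.dis x hx), h3 x hx]
      · rw [h5 x hx, h4]
        exact fun h => C.dis _ h ((smul_mem_of (C.Mb s hs)).2 hx)
    rw [h7, mul_smul, h2 ρ₂ ⟨h6, s, hs, h5⟩, h1 ρ₁ ⟨h4, s, hs, h3⟩]
  let D₁ : AddSubgroup Y :=
    { carrier := {y | y ∈ D ∧ ∀ ρ ∈ Rs M b C.Mb, ρ • y = y}
      add_mem' := fun {x y} hx hy => ⟨D.add_mem hx.1 hy.1, fun ρ hρ => by rw [smul_add, hx.2 ρ hρ, hy.2 ρ hρ]⟩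
      zero_mem' := ⟨D.zero_mem, fun ρ _ => smul_zero ρ⟩
      neg_mem' := fun {x} hx => ⟨D.neg_mem hx.1, fun ρ hρ => by rw [smul_neg, hx.2 ρ hρ]⟩ }
  have notab : ∀ x ∈ b, x ≠ o ∧ x ∉ a := fun x hx => ⟨fun h => C.ob (h ▸ hx), fun h => C.dis x h hx⟩
  have hD₁ : ∀ σ : Perm Ω, (∀ x, x ≠ o → x ∉ a → σ x = x) → ∀ y ∈ D₁, σ • y ∈ D₁ := by
    rintro σ hσ y ⟨h1, h2⟩
    refine ⟨hD σ y h1, fun ρ hρ => ?_⟩
    have h3 : Perm.Disjoint σ ρ := by
      intro x
      by_cases hx : x ∈ b
      · left; exact hσ x (notab x hx).1 (notab x hx).2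
      · right; exact hρ.1 x hx
    rw [smul_smul, ← h3.commute.eq, mul_smul, h2 ρ hρ]
  have ιD₁ : ∀ f : Ω → ZMod 2, (∀ x, x ≠ o → x ∉ a → f x = 0) → ι f ∈ D₁ := by
    intro f hf
    refine ⟨ιD f, fun ρ hρ => hM.mono fun x => ?_⟩
    by_cases hx : x ∈ b
    · obtain ⟨σ, hσ, h1⟩ := hρ.2
      have h2 : ρ x ∈ b := by rw [h1 x hx]; exact (smul_mem_of (C.Mb σ hσ)).2 hx
      rw [hf _ (notab _ h2).1 (notab _ h2).2, hf _ (notab x hx).1 (notab x hx).2]
    · rw [hρ.1 x hx]
  -- the combination of the indicators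
  have uv : ∀ u v : ZMod 2, ι (fun x => u * ind a x + v * ind b x) =
      ι (fun x => v * ind b x) + ι (fun x => u * ind a x) := by
    intro u v
    rw [← hM.add]
    congr 1
    funext x
    exact add_comm _ _
  have one : ∀ u : ZMod 2, ι (fun x => u * ind a x) = 0 ∨ ι (fun x => u * ind a x) = ι (ind a) := by
    intro u
    rcases z2 u with rfl | rfl
    · left
      simp only [zero_mul]; exact hM.zero
    · right
      simp only [one_mul]
  obtain ⟨φ₁, ⟨hφ₁D, hφ₁R⟩, hφ₁, g, hg1, hg2, hg3⟩ := amb ih hM C.oa ha hD₁ ιD₁ (Rs M a C.Ma) (rs_pg C.pg)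
    (fun q hq x hx => hq.1 x hx) (fun c hc hcR => by
      obtain ⟨φ, hφD, hφ, u, v, h⟩ := C.hv c hc.1 (hMR c hcR hc.2)
      have hvb : ∀ ρ ∈ Rs M b C.Mb, ρ • ι (fun x => v * ind b x) = ι (fun x => v * ind b x) := by
        intro ρ hρ
        refine hM.mono fun x => ?_
        have : ρ x ∈ b ↔ x ∈ b := by
          by_cases hx : x ∈ b
          · obtain ⟨σ, hσ, h1⟩ := hρ.2
            rw [h1 x hx]
            exact smul_mem_of (C.Mb σ hσ)
          · rw [hρ.1 x hx]
        simp only [ind, this]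
      refine ⟨φ + ι (fun x => v * ind b x), ⟨D.add_mem hφD (ιD _), fun ρ hρ => ?_⟩, fun σ hσ => ?_, ?_⟩
      · rw [smul_add, hφ, hvb ρ hρ]
      · rw [smul_add, hφ]
        congr 1
        refine hM.mono fun x => ?_
        have : σ x ∈ b ↔ x ∈ b := by
          by_cases hx : x ∈ b
          · rw [hσ x (notab x hx).1 (notab x hx).2]
          · constructor
            · intro h
              have h1 := hσ _ (notab _ h).1 (notab _ h).2
              rw [← σ.injective h1]; exact h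
            · intro h; exact absurd h hx
        simp only [ind, this]
      · rw [h, uv]
        rcases one u with h1 | h1
        · left; rw [h1, add_zero]
        · right; rw [h1, add_assoc]) μ hμo hμa hμ hμ2 (y := y) ⟨hyD, hyR⟩ hy
  obtain ⟨φ, hφD, hφ, u, v, h⟩ := C.hv φ₁ hφ₁D (hMR φ₁ (fun ρ hρ => hφ₁ ρ fun x _ hx => hρ.1 x hx) hφ₁R)
  have hma : ∀ x, μ x ∈ a ↔ x ∈ a := fun x => ⟨fun h => by have := hμa _ h; rw [hμ2] at this; exact this, hμa x⟩
  have hmb : ∀ x, μ x ∈ b ↔ x ∈ b := fun x => ⟨fun h => by have := hμb _ h; rw [hμ2] at this; exact this, hμb x⟩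
  refine ⟨φ, hφD, hφ, (fun x => u * ind a x + v * ind b x) + g, ?_, fun x => ?_, ⟨v, fun x hx => ?_⟩, ?_⟩
  · rw [Pi.add_apply, hg1 o C.oa]
    simp only [ind, if_neg C.oa, if_neg C.ob, mul_zero, add_zero]
  · rw [Pi.add_apply, Pi.add_apply, hg2]
    simp only [ind, hma, hmb]
  · rw [Pi.add_apply, hg1 x (notab x hx).2]
    simp only [ind, if_neg (notab x hx).2, if_pos hx, mul_zero, add_zero, zero_add, mul_one]
  · rw [hg3, h, hM.add, add_assoc]

/-- the cut exists for every splitting of `Ω - o` into two halves -/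
theorem exists_cut {ι : (Ω → ZMod 2) → Y} (hM : Md ι) {m : ℕ} (hm : 2 ≤ m) (hc : Fintype.card Ω = 2 ^ m + 1)
    {D : AddSubgroup Y} (hD : ∀ σ : Perm Ω, ∀ y ∈ D, σ • y ∈ D) (ιD : ∀ f, ι f ∈ D) {o : Ω} {Q : Subgroup (Perm Ω)}
    (hQ : IsPGroup 2 Q) (hQo : ∀ q ∈ Q, q o = o)
    (hE : ∀ y ∈ D, (∀ q ∈ Q, q • y = y) →
      ∃ φ ∈ D, Fx Ω φ ∧ (y = φ ∨ y = φ + ι (fun x => if x = o then 0 else 1))) {a₁ b₁ : Finset Ω} (ho : o ∉ a₁)
    (hob : o ∉ b₁) (hd : ∀ x ∈ a₁, x ∉ b₁) (hu : ∀ x, x = o ∨ x ∈ a₁ ∨ x ∈ b₁) (ha₁ : a₁.card = 2 ^ (m - 1))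
    (hb₁ : b₁.card = 2 ^ (m - 1)) : ∃ M, Cut ι D o a₁ b₁ M := by
  obtain ⟨R, hQR, hRo⟩ := exists_sylow (by omega) hc hQ hQo
  obtain ⟨o', a, b, M, τ, μ', B⟩ := Cfsg.Agent.Omega.NSix.Match.exists_blocks hm hc R
  obtain ⟨o'', ho'', htr⟩ := Cfsg.Agent.Omega.NSix.Match.transitive (by omega) hc R
  have h2m : 2 ≤ 2 ^ m := by
    calc 2 = 2 ^ 1 := by norm_num
      _ ≤ 2 ^ m := Nat.pow_le_pow_right (by norm_num) (by omega)
  have uniq : ∀ p : Ω, (∀ s ∈ (R : Subgroup (Perm Ω)), s p = p) → p = o'' := by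
    intro p hp
    by_contra hne
    obtain ⟨q, hq1, hq2⟩ : ∃ q : Ω, q ≠ o'' ∧ q ≠ p := by
      by_contra hcon
      push Not at hcon
      have h1 : (Finset.univ : Finset Ω) ⊆ {o'', p} := by
        intro x _
        rw [Finset.mem_insert, Finset.mem_singleton]
        by_cases hx : x = o''
        · exact Or.inl hx
        · exact Or.inr (hcon x hx)
      have h2 := Finset.card_le_card h1
      have h3 := Finset.card_le_two (a := o'') (b := p)
      rw [Finset.card_univ, hc] at h2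
      have h4 : 4 ≤ 2 ^ m := by
        calc 4 = 2 ^ 2 := by norm_num
          _ ≤ 2 ^ m := Nat.pow_le_pow_right (by norm_num) (by omega)
      omega
    obtain ⟨s, hs, hsq⟩ := htr p q hne hq1
    rw [hp s hs] at hsq
    exact hq2 hsq.symm
  have e1 : o' = o := (uniq o' B.fix).trans (uniq o hRo).symm
  subst e1
  have hind : ι (ind a) + ι (ind b) = ι (fun x => if x = o' then 0 else 1) := by
    rw [← hM.add]
    congr 1
    funext x
    rw [Pi.add_apply]
    rcases B.uni x with rfl | hx | hx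
    · simp only [ind, if_neg B.oa, if_neg B.ob, if_true, add_zero]
    · have h1 : x ≠ o' := fun h => B.oa (h ▸ hx)
      simp only [ind, if_pos hx, if_neg (B.dis x hx), if_neg h1, add_zero]
    · have h1 : x ≠ o' := fun h => B.ob (h ▸ hx)
      simp only [ind, if_pos hx, if_neg (fun h => B.dis x h hx), if_neg h1, zero_add]
  have hE' : ∀ y ∈ D, (∀ s ∈ R, s • y = y) → ∃ φ ∈ D, Fx Ω φ ∧ (y = φ ∨ y = φ + (ι (ind a) + ι (ind b))) := by
    intro y hyD hy
    obtain ⟨φ, h1, h2, h3⟩ := hE y hyD fun q hq => hy q (hQR hq)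
    exact ⟨φ, h1, h2, by rw [hind]; exact h3⟩
  obtain ⟨g, hgo, hga⟩ := exists_move B.oa ho (B.ca.trans ha₁.symm)
  have hgb : g • b = b₁ := by
    ext x
    have hx0 : g⁻¹ x = o' ↔ x = o' := by
      rw [Perm.inv_eq_iff_eq, hgo]
    have hxa : x ∈ a₁ ↔ g⁻¹ x ∈ a := by rw [← hga, ← Finset.inv_smul_mem_iff]; rfl
    have hxb : x ∈ g • b ↔ g⁻¹ x ∈ b := by rw [← Finset.inv_smul_mem_iff]; rfl
    rw [hxb]
    constructor
    · intro h
      rcases hu x with h1 | h1 | h1
      · exact absurd ((hx0.2 h1) ▸ h) B.ob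
      · exact absurd h (B.dis _ (hxa.1 h1))
      · exact h1
    · intro h
      rcases B.uni (g⁻¹ x) with h1 | h1 | h1
      · exact absurd ((hx0.1 h1) ▸ h) hob
      · exact absurd h (hd _ (hxa.2 h1))
      · exact h1
  let N : Subgroup (Perm Ω) := M.map (MulAut.conj g).toMonoidHom
  have hN : ∀ s ∈ N, ∃ t ∈ M, s = g * t * g⁻¹ := by
    rintro s ⟨t, ht, rfl⟩
    exact ⟨t, ht, rfl⟩
  have hMN : ∀ t ∈ M, g * t * g⁻¹ ∈ N := fun t ht => ⟨t, ht, rfl⟩
  refine ⟨N, ?_⟩
  exact {
    oa := ho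
    ob := hob
    dis := hd
    uni := hu
    card := ha₁.trans hb₁.symm
    pg := (R.isPGroup'.to_le B.le).map _
    fix := by
      intro s hs
      obtain ⟨t, ht, rfl⟩ := hN s hs
      rw [Perm.mul_apply, Perm.mul_apply, Perm.inv_eq_iff_eq.2 hgo.symm, B.fix t (B.le ht), hgo]
    Ma := by
      intro s hs
      obtain ⟨t, ht, rfl⟩ := hN s hs
      rw [mul_smul, mul_smul, ← hga, inv_smul_smul, B.Ma t ht]
    Mb := by
      intro s hs
      obtain ⟨t, ht, rfl⟩ := hN s hs
      rw [mul_smul, mul_smul, ← hgb, inv_smul_smul, B.Mb t ht]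
    hv := by
      intro c hcD hcN
      have h1 : ∀ σ ∈ M, σ • g⁻¹ • c = g⁻¹ • c := by
        intro σ hσ
        have h2 := hcN _ (hMN σ hσ)
        rw [mul_smul, mul_smul] at h2
        rw [eq_inv_smul_iff]; exact h2
      obtain ⟨φ, hφD, hφ, u, v, h⟩ := hM.halving hm hc R B hD hE' ιD (hD g⁻¹ c hcD) h1
      refine ⟨φ, hφD, hφ, u, v, ?_⟩
      rw [inv_smul_eq_iff, smul_add, hφ, hM.act] at h
      rw [h]
      congr 2
      funext x
      have h3 : g.symm x ∈ a ↔ x ∈ a₁ := by rw [← hga, ← Finset.inv_smul_mem_iff (s := a)]; rfl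
      have h4 : g.symm x ∈ b ↔ x ∈ b₁ := by rw [← hgb, ← Finset.inv_smul_mem_iff (s := b)]; rfl
      simp only [Function.comp, ind, h3, h4] }

/-- `Main n → Main (n + 1)` -/
theorem main_succ.{u, v} {n : ℕ} (ih : Main.{u, v} n) : Main.{u, v} (n + 1) := by
  intro Ω _ _ Y _ _ ι hM D hD ιD o hc Q hQ hQo hE μ hμo hμ hμ2 y hyD hy
  have hp : 2 ^ (n + 1 + 1) = 2 * 2 ^ (n + 1) := by rw [pow_succ']
  have hp' : 2 ^ (n + 1) = 2 * 2 ^ n := by rw [pow_succ']
  obtain ⟨a, hoa, hac, haμ⟩ := exists_inv hμo hμ hμ2 (2 ^ n) (by rw [hc]; omega)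
  rw [← hp'] at hac
  set b : Finset Ω := Finset.univ \ insert o a with hb
  have memb : ∀ x, x ∈ b ↔ x ≠ o ∧ x ∉ a := by
    intro x
    rw [hb, Finset.mem_sdiff, Finset.mem_insert, not_or]
    exact ⟨fun h => h.2, fun h => ⟨Finset.mem_univ _, h⟩⟩
  have hob : o ∉ b := fun h => ((memb o).1 h).1 rfl
  have hd : ∀ x ∈ a, x ∉ b := fun x hx h => ((memb x).1 h).2 hx
  have hu : ∀ x, x = o ∨ x ∈ a ∨ x ∈ b := by
    intro x
    by_cases h1 : x = o
    · exact Or.inl h1
    by_cases h2 : x ∈ a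
    · exact Or.inr (Or.inl h2)
    · exact Or.inr (Or.inr ((memb x).2 ⟨h1, h2⟩))
  have hbc : b.card = 2 ^ (n + 1) := by
    rw [hb, Finset.card_sdiff_of_subset (Finset.subset_univ _), Finset.card_univ, hc,
      Finset.card_insert_of_notMem hoa, hac]
    omega
  have hμx : ∀ x, μ x = o ↔ x = o := by
    intro x
    constructor
    · intro h
      have := hμ2 x
      rw [h, hμo] at this
      exact this.symm
    · rintro rfl; exact hμo
  have hbμ : ∀ x ∈ b, μ x ∈ b := by
    intro x hx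
    rw [memb] at hx ⊢
    refine ⟨fun h => hx.1 ((hμx x).1 h), fun h => hx.2 ?_⟩
    have := haμ _ h
    rw [hμ2] at this
    exact this
  obtain ⟨M, C⟩ := exists_cut hM (m := n + 1 + 1) (by omega) hc hD ιD hQ hQo hE hoa hob hd hu hac hbc
  have hμa : ∀ x ∈ a, μ x ≠ x := fun x hx => hμ x fun h => hoa (h ▸ hx)
  have hμb : ∀ x ∈ b, μ x ≠ x := fun x hx => hμ x fun h => hob (h ▸ hx)
  let D₂ : AddSubgroup Y :=
    { carrier := {y | y ∈ D ∧ ∀ x ∈ a, swap x (μ x) • y = y}
      add_mem' := fun {x y} hx hy => ⟨D.add_mem hx.1 hy.1, fun ρ hρ => by rw [smul_add, hx.2 ρ hρ, hy.2 ρ hρ]⟩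
      zero_mem' := ⟨D.zero_mem, fun ρ _ => smul_zero _⟩
      neg_mem' := fun {x} hx => ⟨D.neg_mem hx.1, fun ρ hρ => by rw [smul_neg, hx.2 ρ hρ]⟩ }
  have swf : ∀ x ∈ a, ∀ z, z ∉ a → swap x (μ x) z = z := fun x hx z hz =>
    swap_apply_of_ne_of_ne (fun h => hz (h ▸ hx)) (fun h => hz (h ▸ haμ x hx))
  have hD₂ : ∀ σ : Perm Ω, (∀ x, x ≠ o → x ∉ b → σ x = x) → ∀ y ∈ D₂, σ • y ∈ D₂ := by
    rintro σ hσ y ⟨h1, h2⟩
    refine ⟨hD σ y h1, fun x hx => ?_⟩
    have h3 : Perm.Disjoint σ (swap x (μ x)) := by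
      intro z
      by_cases hz : z ∈ a
      · left; exact hσ z (fun h => hoa (h ▸ hz)) (hd z hz)
      · right; exact swf x hx z hz
    rw [smul_smul, ← h3.commute.eq, mul_smul, h2 x hx]
  have swinv : ∀ f : Ω → ZMod 2, (∀ x, f (μ x) = f x) → ∀ x, swap x (μ x) • ι f = ι f := by
    intro f hf x
    refine hM.mono fun z => ?_
    by_cases h1 : z = x
    · rw [h1, swap_apply_left, hf]
    by_cases h2 : z = μ x
    · rw [h2, swap_apply_right, hf]
    rw [swap_apply_of_ne_of_ne h1 h2]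
  have ιD₂ : ∀ f : Ω → ZMod 2, (∀ x, x ≠ o → x ∉ b → f x = 0) → ι f ∈ D₂ := by
    intro f hf
    refine ⟨ιD f, fun x hx => hM.mono fun z => ?_⟩
    have h0 : ∀ z ∈ a, f z = 0 := fun z hz => hf z (fun h => hoa (h ▸ hz)) (hd z hz)
    by_cases h1 : z = x
    · rw [h1, swap_apply_left, h0 _ (haμ x hx), h0 x hx]
    by_cases h2 : z = μ x
    · rw [h2, swap_apply_right, h0 _ (haμ x hx), h0 x hx]
    rw [swap_apply_of_ne_of_ne h1 h2]
  have main : ∀ y ∈ D₂, (∀ ρ ∈ Rs M b C.Mb, ρ • y = y) →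
      ∃ φ ∈ D, Fx Ω φ ∧ ∃ g : Ω → ZMod 2, g o = 0 ∧ (∀ x, g (μ x) = g x) ∧ (∃ v, ∀ x ∈ b, g x = v) ∧ y = φ + ι g :=
    fun y hy hR => stepI ih hM hD ιD C hac μ hμo haμ hbμ hμa hμ2 hy.1 hy.2 hR
  obtain ⟨φ₂, hφ₂D, hφ₂, g₂, hg1, hg2, hg3⟩ := amb ih hM hob hbc hD₂ ιD₂ (Rs M b C.Mb) (rs_pg C.pg)
    (fun q hq x hx => hq.1 x hx) (fun c hc hcR => by
      obtain ⟨φ, hφD, hφ, g, h1, h2, ⟨w, h3⟩, h4⟩ := main c hc hcR
      let k : Ω → ZMod 2 := fun x => if x ∈ a then g x else 0
      have hma : ∀ x, μ x ∈ a ↔ x ∈ a :=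
        fun x => ⟨fun h => by have := haμ _ h; rw [hμ2] at this; exact this, haμ x⟩
      have hk : ∀ x, k (μ x) = k x := by
        intro x
        simp only [k, hma, h2]
      refine ⟨φ + ι k, ⟨D.add_mem hφD (ιD _), fun x hx => ?_⟩, fun σ hσ => ?_, ?_⟩
      · rw [smul_add, hφ, swinv k hk]
      · rw [smul_add, hφ]
        congr 1
        refine hM.mono fun x => ?_
        by_cases hx : x ∈ a
        · rw [hσ x (fun h => hoa (h ▸ hx)) (hd x hx)]
        · have h5 : σ x ∉ a := by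
            intro h
            have h6 := hσ _ (fun h7 => hoa (h7 ▸ h)) (hd _ h)
            rw [σ.injective h6] at h
            exact hx h
          simp only [k, if_neg hx, if_neg h5]
      · rw [h4]
        rcases z2 w with rfl | rfl
        · left
          congr 2
          funext x
          rcases hu x with rfl | hx | hx
          · simp only [k, if_neg hoa]; exact h1
          · simp only [k, if_pos hx]
          · simp only [k, if_neg (fun h => hd x h hx)]; exact h3 x hx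
        · right
          rw [add_assoc, ← hM.add]
          congr 2
          funext x
          rw [Pi.add_apply]
          rcases hu x with rfl | hx | hx
          · simp only [k, ind, if_neg hoa, if_neg hob, add_zero]; exact h1
          · simp only [k, ind, if_pos hx, if_neg (hd x hx), add_zero]
          · simp only [k, ind, if_neg (fun h => hd x h hx), if_pos hx, zero_add]; exact h3 x hx)
    μ hμo hbμ hμb hμ2 (y := y) ⟨hyD, fun x _ => hy x⟩ (fun x _ => hy x)
  obtain ⟨φ, hφD, hφ, g, h1, h2, _, h4⟩ := main φ₂ hφ₂D (fun ρ hρ => hφ₂ ρ fun x _ hx => hρ.1 x hx)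
  refine ⟨φ, hφD, hφ, g + g₂, ?_, fun x => ?_, ?_⟩
  · rw [Pi.add_apply, h1, hg1 o hob, add_zero]
  · rw [Pi.add_apply, Pi.add_apply, h2, hg2]
  · rw [hg3, h4, hM.add, add_assoc]

theorem main_all.{u, v} (n : ℕ) : Main.{u, v} n := by
  induction n with
  | zero => exact main_zero
  | succ n ih => exact main_succ ih

/-- **(HH)** -/
theorem halve {ι : (Ω → ZMod 2) → Y} (hM : Mod ι) {m : ℕ} (hm : 1 ≤ m) (hc : Fintype.card Ω = 2 ^ m + 1) (o : Ω)
    (R : Sylow 2 (Perm Ω)) (hRo : ∀ s ∈ R, s o = o)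
    (hE : ∀ y : Y, (∀ s ∈ R, s • y = y) →
      ∃ φ, (∀ g : Perm Ω, g • φ = φ) ∧ (y = φ ∨ y = φ + ι (Pi.single o 1)))
    (μ : Perm Ω) (hμo : μ o = o) (hμ : ∀ x, x ≠ o → μ x ≠ x) (hμ2 : ∀ x, μ (μ x) = x) (y : Y)
    (hy : ∀ x, swap x (μ x) • y = y) :
    ∃ φ g, (∀ h : Perm Ω, h • φ = φ) ∧ g o = 0 ∧ (∀ x, g (μ x) = g x) ∧ y = φ + ι g := by
  obtain ⟨n, rfl⟩ : ∃ n, m = n + 1 := ⟨m - 1, by omega⟩
  have M := Md.of hM
  have h1 : ι (Pi.single o 1) = ι (fun x => if x = o then 0 else 1) := by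
    apply M.eq_of_add
    rw [← M.add, hM.ker]
    right
    funext x
    rw [Pi.add_apply, Pi.single_apply, Pi.one_apply]
    by_cases hx : x = o
    · rw [if_pos hx, if_pos hx, add_zero]
    · rw [if_neg hx, if_neg hx, zero_add]
  obtain ⟨φ, _, hφ, g, h2, h3, h4⟩ := main_all n Ω Y ι M ⊤ (fun _ _ _ => AddSubgroup.mem_top _)
    (fun _ => AddSubgroup.mem_top _) o hc R R.isPGroup' hRo (fun y _ h => by
      obtain ⟨φ, h5, h6⟩ := hE y h
      exact ⟨φ, AddSubgroup.mem_top _, h5, by rw [← h1]; exact h6⟩) μ hμo hμ hμ2 y (AddSubgroup.mem_top _) hy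
  exact ⟨φ, g, hφ, h2, h3, h4⟩

end basic

end Cfsg.Agent.Omega.IId.SymWr.Halve

end
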