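import Cfsg.Agent.Mrg.Omega.NSix.TvGroup
import Cfsg.Agent.Mrg.Omega.NSix.TkPair
import Cfsg.Agent.Mrg.Omega.NSix.MatchApp
import Cfsg.Agent.Mrg.Omega.VP
import Cfsg.Agent.Mrg.Omega.NSix.HTwo.LemTwoIn
import Cfsg.Agent.Mrg.Omega.SQ1.Choice

section


/-!
# OMEGA N6, #16862 (helper556; referee helper642 #17077): `J(S) ≰ O₂(P)`  (helper537)

* `Gen.nn_le_X` : `C_G(r_ij) ≤ X` as soon as `C_S(r_ij)` lies in it, its normaliser in `C_G(r_ij)` lies in `X` and so
  do the minimal parabolics over it;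
* `nn_le` : `V = V_P` even subsets of `2^m + 1 ≥ 9` points, `⟨P, C_G(z)⟩` 2-local, `C_G(r_ij) ≤ ⟨P, C_G(z)⟩`,
  `z_0` and `r_ij` not conjugate, **(N)**: `C_G(r_ij) ≤ N_G(V)` for all pairs.
-/

set_option autoImplicit false

namespace Cfsg.Agent.Omega.NSix.JNot

open Subgroup Cfsg Cfsg.Agent.Omega.MinPar
open Cfsg.Agent.ZN (o2 zc zl)
open Cfsg.Agent.MinSimple.VModule (o2_le o2_isPGroup le_normalizer_o2 le_o2 mem_zc zc_le_zl
  le_normalizer_zl zl_le zc_le zc_comm zc_sq)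
open Cfsg.Agent.Omega.FrameNOFF (CZ)
open Cfsg.Agent.Omega.TV
open Cfsg.Agent.Omega.S5.Def Cfsg.Agent.Omega.S5.Syl
open Cfsg.Agent.Omega.NSix.Base Cfsg.Agent.Omega.NSix.Basic
open Cfsg.Agent.Omega.NSix.Zero (WP mem_WP zpow_cases)
open Cfsg.Agent.Omega.NSix.TvGroup (chain_of eq_of_tv)
open Cfsg.Agent.MinSimple.MinParabolic (IsMinPar)

universe u

variable {G : Type u} [Group G]

/-- an element of `N_G(V)` with `[V, t] ≤ ⟨r_ij⟩` acts as `1` or as `(i j)` -/
theorem acts_swap {n : ℕ} (h5 : 5 ≤ n) {V P : Subgroup G} {ε : (Fin n → ZMod 2) → G}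
    (ev : EvenSet n V P ε) {i j : Fin n} (hij : i ≠ j) {t : G} {σ : Equiv.Perm (Fin n)}
    (hσ : Acts ε t σ) (ht : ∀ v ∈ V, t * v * t⁻¹ = v ∨ t * v * t⁻¹ = v * rr ε i j) :
    Acts ε t 1 ∨ Acts ε t (Equiv.swap i j) := by
  classical
  have hfix : ∀ k, k ≠ i → k ≠ j → σ k = k := by
    intro k h1 h2
    by_contra hk
    have h3 := zz_conj hσ k
    rcases ht _ (zz_mem ev k) with h4 | h4
    · rw [h4] at h3
      exact hk (ev.single_inj (by omega) h3.symm)
    · rw [h4] at h3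
      -- `{σ k} + {k} + {i} + {j} ∈ {0, 1}`
      have h5' : ε (Pi.single (σ k) 1 + Pi.single k 1 + (Pi.single i 1 + Pi.single j 1)) = 1 := by
        rw [ev.add, ev.add, ev.add]
        change zz ε (σ k) * zz ε k * (rr ε i j) = 1
        have h6 : zz ε k * rr ε i j = rr ε i j * zz ε k := ev.comm_mem (zz_mem ev k) (rr_mem ev i j)
        calc zz ε (σ k) * zz ε k * rr ε i j = (zz ε k * rr ε i j) * (zz ε k * rr ε i j) := by
              rw [← h3, mul_assoc]
          _ = rr ε i j * (zz ε k * zz ε k) * rr ε i j := by rw [h6]; nth_rewrite 2 [← h6]; group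
          _ = 1 := by rw [zz_sq ev, mul_one, rr_sq ev]
      rcases (ev.ker _).1 h5' with h6 | h6
      · have h7 := congrFun h6 k
        simp only [Pi.add_apply, Pi.single_eq_same, Pi.zero_apply] at h7
        rw [Pi.single_eq_of_ne (fun e => hk e.symm), Pi.single_eq_of_ne h1, Pi.single_eq_of_ne h2] at h7
        simp at h7
      · -- a fifth letter
        obtain ⟨l, hl⟩ : ∃ l : Fin n, l ∉ ({σ k, k, i, j} : Finset (Fin n)) := by
          by_contra hcon
          push Not at hcon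
          have h8 : (Finset.univ : Finset (Fin n)) ⊆ {σ k, k, i, j} := fun l _ => hcon l
          have h9 := Finset.card_le_card h8
          have h10 : ({σ k, k, i, j} : Finset (Fin n)).card ≤ 4 := Finset.card_le_four
          rw [Finset.card_univ, Fintype.card_fin] at h9
          omega
        simp only [Finset.mem_insert, Finset.mem_singleton, not_or] at hl
        have h7 := congrFun h6 l
        simp only [Pi.add_apply, Pi.one_apply] at h7
        rw [Pi.single_eq_of_ne hl.1, Pi.single_eq_of_ne hl.2.1, Pi.single_eq_of_ne hl.2.2.1,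
          Pi.single_eq_of_ne hl.2.2.2] at h7
        simp at h7
  have hpres : σ i = i ∨ σ i = j := by
    by_contra hc
    rw [not_or] at hc
    exact hc.1 (σ.injective (hfix _ hc.1 hc.2))
  have hpres' : σ j = i ∨ σ j = j := by
    by_contra hc
    rw [not_or] at hc
    exact hc.2 (σ.injective (hfix _ hc.1 hc.2))
  rcases hpres with h1 | h1
  · left
    have h2 : σ j = j := hpres'.resolve_left fun h2 => hij (σ.injective (h1.trans h2.symm))
    have h3 : σ = 1 := by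
      ext k
      by_cases hk1 : k = i
      · rw [hk1, h1]; rfl
      by_cases hk2 : k = j
      · rw [hk2, h2]; rfl
      rw [hfix k hk1 hk2]; rfl
    rwa [h3] at hσ
  · right
    have h2 : σ j = i := hpres'.resolve_right fun h2 => hij (σ.injective (h1.trans h2.symm))
    have h3 : σ = Equiv.swap i j := by
      ext k
      by_cases hk1 : k = i
      · rw [hk1, h1, Equiv.swap_apply_left]
      by_cases hk2 : k = j
      · rw [hk2, h2, Equiv.swap_apply_right]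
      rw [hfix k hk1 hk2, Equiv.swap_apply_of_ne_of_ne hk1 hk2]
    rwa [h3] at hσ

theorem closure_norm (X : Subgroup G) (z : G) :
    X ≤ normalizer ((closure {x | ∃ c ∈ X, x = c * z * c⁻¹} : Subgroup G) : Set G) := by
  have key : ∀ g ∈ X, ∀ x ∈ closure {x | ∃ c ∈ X, x = c * z * c⁻¹},
      g * x * g⁻¹ ∈ closure {x | ∃ c ∈ X, x = c * z * c⁻¹} := by
    intro g hg x hx
    induction hx using closure_induction with
    | mem x hx =>
      obtain ⟨c, hc, rfl⟩ := hx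
      exact subset_closure ⟨g * c, mul_mem hg hc, by group⟩
    | one => simp
    | mul x y _ _ hx hy =>
      have e : g * (x * y) * g⁻¹ = g * x * g⁻¹ * (g * y * g⁻¹) := by group
      rw [e]
      exact mul_mem hx hy
    | inv x _ hx =>
      have e : g * x⁻¹ * g⁻¹ = (g * x * g⁻¹)⁻¹ := by group
      rw [e]
      exact inv_mem hx
  intro g hg
  rw [mem_normalizer_iff]
  intro x
  refine ⟨key g hg x, fun hx => ?_⟩
  have := key g⁻¹ (inv_mem hg) _ hx
  have e : g⁻¹ * (g * x * g⁻¹) * g⁻¹⁻¹ = x := by group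
  rwa [e] at this

section main

variable [Finite G] {S : Sylow 2 G} {P : Subgroup G} {m : ℕ}
  {ε : (Fin (2 ^ m + 1) → ZMod 2) → G}

theorem V_le_S (hG : IsCharacteristicTwoType G) (hP : IsParS (S : Subgroup G) P) :
    zl (S : Subgroup G) P ≤ (S : Subgroup G) :=
  (hP.isLoc.zl_le S hG).trans ((zc_le _).trans (hP.isLoc.o2_le S))

/-- `Ω₁ Z(S) = ⟨z_0⟩` -/
theorem zc_iff (hG : IsCharacteristicTwoType G) (hm : 1 ≤ m) (hP : IsParS (S : Subgroup G) P)
    (ev : EvenSet (2 ^ m + 1) (zl (S : Subgroup G) P) P ε) (h0 : Fix0 ε (S : Subgroup G)) {x : G} :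
    x ∈ zc (S : Subgroup G) ↔ x = 1 ∨ x = zz ε 0 := by
  constructor
  · intro hx
    exact fixed hm ev hP.le (MinSimple.Basic.not_dvd_relIndex S hP.le) h0 (zc_le_zl _ _ hx)
      (mem_zc.1 hx).2.1
  · rintro (rfl | rfl)
    · exact one_mem _
    · refine mem_zc.2 ⟨V_le_S hG hP (zz_mem ev 0), fun s hs => ?_, by rw [pow_two]; exact zz_sq ev 0⟩
      obtain ⟨σ, hσ⟩ := ev.perm s (hP.le hs)
      have h1 := zz_conj hσ 0
      rw [h0 s hs σ hσ] at h1
      exact mul_inv_eq_iff_eq_mul.1 h1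

omit [Finite G] in
/-- `V ≤ ⟨z_0^P⟩` -/
theorem V_le_closure (ev : EvenSet (2 ^ m + 1) (zl (S : Subgroup G) P) P ε)
    {K : Subgroup G} (hK : ∀ i, zz ε i ∈ K) : zl (S : Subgroup G) P ≤ K := by
  classical
  intro v hv
  obtain ⟨x, rfl⟩ := ev.surj v hv
  have key : ∀ A : Finset (Fin (2 ^ m + 1)), ε (∑ i ∈ A, Pi.single i (x i)) ∈ K := by
    intro A
    induction A using Finset.induction_on with
    | empty => rw [Finset.sum_empty, ev.zero]; exact one_mem _
    | insert a A ha ih =>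
      rw [Finset.sum_insert ha, ev.add]
      refine mul_mem ?_ ih
      rcases z2 (x a) with h1 | h1
      · rw [h1, Pi.single_zero, ev.zero]; exact one_mem _
      · rw [h1]; exact hK a
  have h1 := key Finset.univ
  rwa [Finset.univ_sum_single] at h1

omit [Finite G] in
/-- `z_0` is a product of pairs -/
theorem zz_zero_mem {V P K : Subgroup G} (ev : EvenSet (2 ^ m + 1) V P ε) (hm : 1 ≤ m)
    (hK : ∀ k, k ≠ 0 → rr ε k 0 ∈ K) : zz ε 0 ∈ K := by
  classical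
  have key : ∀ A : Finset (Fin (2 ^ m + 1)),
      ε (∑ k ∈ A, ((Pi.single k 1 : Fin (2 ^ m + 1) → ZMod 2) + Pi.single 0 1)) ∈ K := by
    intro A
    induction A using Finset.induction_on with
    | empty => rw [Finset.sum_empty, ev.zero]; exact one_mem _
    | insert a A ha ih =>
      rw [Finset.sum_insert ha, ev.add]
      refine mul_mem ?_ ih
      by_cases h1 : a = 0
      · rw [h1, Cfsg.Agent.Omega.S5.Def.add_self, ev.zero]; exact one_mem _
      · rw [ev.add]; exact hK a h1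
  have h1 := key Finset.univ
  have h2 : ∑ k : Fin (2 ^ m + 1), ((Pi.single k 1 : Fin (2 ^ m + 1) → ZMod 2) + Pi.single 0 1) =
      1 + Pi.single 0 1 := by
    rw [Finset.sum_add_distrib]
    congr 1
    · funext l
      rw [Finset.sum_apply, Pi.one_apply]
      simp only [Pi.single_apply]
      rw [Finset.sum_ite_eq Finset.univ l, if_pos (Finset.mem_univ _)]
    · rw [Finset.sum_const, Finset.card_univ, Fintype.card_fin]
      have h3 : ((2 ^ m + 1 : ℕ) : ZMod 2) = 1 := by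
        obtain ⟨k, rfl⟩ : ∃ k, m = k + 1 := ⟨m - 1, by omega⟩
        push_cast
        rw [show (2 : ZMod 2) = 0 from rfl, zero_pow (by omega), zero_add]
      rw [← Nat.cast_smul_eq_nsmul (ZMod 2), h3, one_smul]
  rw [h2, ev.add, ev.one, one_mul] at h1
  exact h1

/-- `N_G(V) ≤ ⟨P, C_G(z_0)⟩` -/
theorem normalizer_le (hm : 2 ≤ m) (hP : IsParS (S : Subgroup G) P)
    (ev : EvenSet (2 ^ m + 1) (zl (S : Subgroup G) P) P ε) (h0 : Fix0 ε (S : Subgroup G))
    {X : Subgroup G} (hPX : P ≤ X) (hCX : centralizer ({zz ε 0} : Set G) ≤ X) :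
    normalizer (zl (S : Subgroup G) P : Set G) ≤ X := by
  intro g hg
  have ev' := Norm.evenSet' hm S ev hP.le h0
  obtain ⟨σ, hσ⟩ := ev'.perm g hg
  obtain ⟨p, hp, hpσ⟩ := ev.full σ
  have h1 : p⁻¹ * g ∈ centralizer (zl (S : Subgroup G) P : Set G) := by
    rw [← ev.acts_one_iff]
    have := hpσ.inv.mul hσ
    rwa [inv_mul_cancel] at this
  have h2 : p⁻¹ * g ∈ X := hCX (centralizer_le (by
    rw [Set.singleton_subset_iff]; exact zz_mem ev 0) h1)
  have h3 : g = p * (p⁻¹ * g) := by group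
  rw [h3]
  exact mul_mem (hPX hp) h2

omit [Finite G] in
/-- all pairs are conjugate -/
theorem NN_le_of_one (ev : EvenSet (2 ^ m + 1) (zl (S : Subgroup G) P) P ε) {X : Subgroup G}
    (hPX : P ≤ X) {i j : Fin (2 ^ m + 1)} (hij : i ≠ j) (hX : NN ε i j ≤ X) {k l : Fin (2 ^ m + 1)}
    (hkl : k ≠ l) : NN ε k l ≤ X := by
  classical
  intro g hg
  obtain ⟨σ, h1, h2, -⟩ := exists_perm hkl hij
  obtain ⟨p, hp, hpσ⟩ := ev.full σ
  have h3 := conj_NN hpσ hg
  rw [h1, h2] at h3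
  have h4 : g = p⁻¹ * (p * g * p⁻¹) * p := by group
  rw [h4]
  exact mul_mem (mul_mem (inv_mem (hPX hp)) (hX h3)) (hPX hp)

/-- **#16862, the end**: `C_G(r_ij) ≤ N_G(V)`. -/
theorem nn_le (hG : IsCharacteristicTwoType G) (hm : 2 ≤ m) (hP : IsParS (S : Subgroup G) P)
    (ev : EvenSet (2 ^ m + 1) (zl (S : Subgroup G) P) P ε) (h0 : Fix0 ε (S : Subgroup G))
    {X : Subgroup G} (hX : IsLoc (S : Subgroup G) X) (hPX : P ≤ X)
    {i j : Fin (2 ^ m + 1)} (hij : i ≠ j) (hNX : NN ε i j ≤ X)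
    (hfus : ∀ g ∈ X, zz ε 0 ≠ g * rr ε i j * g⁻¹)
    (hN : ∃ g ∈ WP ε i j, ¬ g ∈ centralizer (zl (S : Subgroup G) P : Set G)) :
    X ≤ normalizer (zl (S : Subgroup G) P : Set G) := by
  have hfact : Fact (Nat.Prime 2) := ⟨Nat.prime_two⟩
  have h5 : 5 ≤ 2 ^ m + 1 := five_le hm
  set V := zl (S : Subgroup G) P with hV
  set U := zl (S : Subgroup G) X with hU
  have hSX := hX.le
  have hUz : U ≤ zc (o2 X) := hX.zl_le S hG
  have hVU : V ≤ U := zl_le (zc_le_zl _ _) (hPX.trans (le_normalizer_zl _ _))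
  have hzS : zz ε 0 ∈ zc (S : Subgroup G) := (zc_iff hG (by omega) hP ev h0).2 (Or.inr rfl)
  have hr2 := rr_sq ev i j
  have hr1 : rr ε i j ≠ 1 := rr_ne_one ev (by omega) hij
  have hrU : rr ε i j ∈ U := hVU (rr_mem ev i j)
  have hUsq : ∀ u ∈ U, u * u = 1 := fun u hu => by
    have := zc_sq _ _ (hUz hu)
    rwa [pow_two] at this
  have hUc : ∀ a ∈ U, ∀ b ∈ U, a * b = b * a := fun a ha b hb =>
    zc_comm _ _ (hUz ha) _ (hUz hb)
  have hnor : ∀ c ∈ X, ∀ n ∈ U, c * n * c⁻¹ ∈ U := fun c hc n hn =>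
    (mem_normalizer_iff.1 (le_normalizer_zl (S : Subgroup G) X hc) n).1 hn
  -- `O₂(X) ≤ O₂(N_ij)`
  have hOX : o2 X ≤ NN ε i j := by
    intro q hq
    rw [mem_NN]
    exact ((mem_zc.1 (hUz hrU)).2.1 q hq)
  have hOO : o2 X ≤ o2 (NN ε i j) :=
    le_o2 hOX (o2_isPGroup X) (hNX.trans (le_normalizer_o2 X))
  have hUO : U ≤ o2 (NN ε i j) := hUz.trans ((zc_le _).trans hOO)
  obtain ⟨t, ht, htV⟩ := hN
  have htX : t ∈ X := hNX ht.1
  have htU : ∀ u ∈ U, t * u * t⁻¹ = u ∨ t * u * t⁻¹ = u * rr ε i j := by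
    intro u hu
    rcases zpow_cases hr2 (ht.2 u (hUO hu)) with h1 | h1
    · left; exact mul_inv_eq_one.1 h1
    · right
      rw [mul_inv_eq_iff_eq_mul] at h1
      rw [h1]; exact hUc _ hrU _ hu
  have htN : t ∈ normalizer (V : Set G) := by
    have h1 : ∀ v ∈ V, t * v * t⁻¹ ∈ V := by
      intro v hv
      rcases htU v (hVU hv) with h | h
      · rw [h]; exact hv
      · rw [h]; exact mul_mem hv (rr_mem ev i j)
    refine Cfsg.Agent.MinSimple.VModule.mem_normalizer_of_map_le ?_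
    rintro _ ⟨v, hv, rfl⟩
    exact h1 v hv
  have ev' := Norm.evenSet' hm S ev hP.le h0
  obtain ⟨σ, hσ⟩ := ev'.perm t htN
  have hact : Acts ε t (Equiv.swap i j) :=
    (acts_swap h5 ev hij hσ fun v hv => htU v (hVU hv)).resolve_left fun h1 =>
      htV (ev.acts_one_iff.1 h1)
  -- `U = ⟨z_0^X⟩`, `U = ⟨r_ij^X⟩`
  have hgenz : U ≤ closure {x | ∃ c ∈ X, x = c * zz ε 0 * c⁻¹} := by
    refine zl_le (fun x hx => ?_) ?_
    · rcases (zc_iff hG (by omega) hP ev h0).1 hx with rfl | rfl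
      · exact one_mem _
      · exact subset_closure ⟨1, one_mem _, by group⟩
    · exact closure_norm _ _
  have hgenr : U ≤ closure {x | ∃ c ∈ X, x = c * rr ε i j * c⁻¹} := by
    refine zl_le (fun x hx => ?_) (closure_norm _ _)
    rcases (zc_iff hG (by omega) hP ev h0).1 hx with rfl | rfl
    · exact one_mem _
    · refine zz_zero_mem ev (by omega) fun k hk => ?_
      obtain ⟨σ, h1, h2, -⟩ := exists_perm hij hk
      obtain ⟨p, hp, hpσ⟩ := ev.full σ
      refine subset_closure ⟨p, hPX hp, ?_⟩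
      rw [rr_conj hpσ, h1, h2]
  have gs : GSys X U (rr ε i j) :=
    { sq := hUsq
      nor := hnor
      mem := hrU
      ne := hr1
      gen := hgenr
      chain := chain_of hUsq hnor (hVU (zz_mem ev 0)) hgenz hSX S.isPGroup'
        (MinSimple.Basic.not_dvd_relIndex S hSX) (fun s hs => by
          rw [(mem_zc.1 hzS).2.1 s hs]; group) }
  have hUV : U ≤ V := by
    refine eq_of_tv ?_ (by omega) ev hPX hVU hij gs htX htU hact ?_ S.isPGroup' hP.le ?_
    · exact Even.add_one (Nat.even_pow.mpr ⟨even_two, by omega⟩)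
    · rintro ⟨c, hc, h1⟩
      exact hfus c hc h1
    · intro u hu hs
      refine zc_le_zl _ _ (mem_zc.2 ⟨(hX.o2_le S) (zc_le _ (hUz hu)), fun s hs' => ?_,
        by rw [pow_two]; exact hUsq u hu⟩)
      exact mul_inv_eq_iff_eq_mul.1 (hs s hs')
  have hUV' : U = V := le_antisymm hUV hVU
  rw [← hUV']
  exact le_normalizer_zl _ _

end main

end Cfsg.Agent.Omega.NSix.JNot

end

section


/-!
# OMEGA N6, (H2) without (ML) and THEOREM SN: #18920 (helper605) (5), the only place where `J(S)` is used  (helper537)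

`Q0 ε i j = O₂(C_G(r_ij)) ∩ C_G(V)` is the kernel of `λ`; a subgroup of `C_G(r_ij)` fixes `λ` iff it normalises `Q0`.

* `five` : if `C_G(r_ij)` moves `λ` then some minimal parabolic over `T₁ = C_S(r_ij)` in `C_G(r_ij, z_0)` moves `λ`.
Hypotheses: `key` = (3) for `D = ⟨r_ij⟩`; `bl` = THEOREM BL* (#18620, case `J(S) ≤ O₂(P)`); `eight` = #16037 (8) (case
`J(S) ≰ O₂(P)`).
-/

set_option autoImplicit false

namespace Cfsg.Agent.Omega.NSix.HT.Five

open Subgroup Cfsg Cfsg.Agent.Omega.MinPar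
open Cfsg.Agent.ZN (o2 zc zl jj zj)
open Cfsg.Agent.ZN.ChoiceBase (mem_zj AA AA_nonempty)
open Cfsg.Agent.MinSimple.VModule (o2_le o2_isPGroup le_normalizer_o2 le_o2 mem_zc)
open Cfsg.Agent.Omega.S5.Def Cfsg.Agent.Omega.S5.Syl
open Cfsg.Agent.Omega.NSix.Base Cfsg.Agent.Omega.NSix.Basic Cfsg.Agent.Omega.NSix.Engine
open Cfsg.Agent.Omega.NSix.HTwo.LemTwo (In XX KK_le_NN KK_eq)
open Cfsg.Agent.MinSimple.MinParabolic (IsMinPar)
open Cfsg.Agent.Omega.TTn

universe u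

variable {G : Type u} [Group G]

/-- the kernel of `λ : O₂(C_G(r_ij)) → F_2` -/
def Q0 {n : ℕ} (ε : (Fin n → ZMod 2) → G) (i j : Fin n) : Subgroup G := o2 (NN ε i j) ⊓ KK ε

/-- the elements of `C_G(r_ij)` acting on the labels fix `λ` -/
theorem fix_of_acts [Finite G] {n : ℕ} {ε : (Fin n → ZMod 2) → G} {i j : Fin n} {g : G}
    {σ : Equiv.Perm (Fin n)} (hσ : Acts ε g σ) (hg : g ∈ NN ε i j) : g ∈ normalizer (Q0 ε i j : Set G) := by
  refine DiCoreAbs.mem_norm_of fun x hx => ?_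
  refine mem_inf.2 ⟨(mem_normalizer_iff.1 (le_normalizer_o2 _ hg) _).1 hx.1, ?_⟩
  exact Fr.KK_conj hσ hx.2

/-- `λ` is moved by `A` -/
theorem mv_iff [Finite G] {n : ℕ} {ε : (Fin n → ZMod 2) → G} {i j : Fin n} {A : Subgroup G}
    (hA : A ≤ NN ε i j) : (∃ g ∈ A, ∃ q ∈ o2 (NN ε i j), q ∈ KK ε ∧ ¬ g * q * g⁻¹ ∈ KK ε) ↔
      ¬ A ≤ normalizer (Q0 ε i j : Set G) := by
  constructor
  · rintro ⟨g, hg, q, hq, hqK, h1⟩ h2
    exact h1 ((mem_normalizer_iff.1 (h2 hg) q).1 (mem_inf.2 ⟨hq, hqK⟩)).2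
  · intro h1
    by_contra hcon
    push Not at hcon
    refine h1 fun g hg => DiCoreAbs.mem_norm_of fun x hx => mem_inf.2 ⟨?_, hcon g hg x hx.1 hx.2⟩
    exact (mem_normalizer_iff.1 (le_normalizer_o2 _ (hA hg)) _).1 hx.1

section J

variable [Finite G] {S : Sylow 2 G} {P : Subgroup G}

/-- `J(S) ≤ O₂(P)`: `V ≤ Ω₁ Z(J(S))` -/
theorem V_le_zj (hG : IsCharacteristicTwoType G) (hP : IsParS (S : Subgroup G) P)
    (hJ : jj (S : Subgroup G) ≤ o2 P) : zl (S : Subgroup G) P ≤ zj (S : Subgroup G) := by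
  have h1 : zl (S : Subgroup G) P ≤ zc (o2 P) := hP.isLoc.zl_le S hG
  have hS : zl (S : Subgroup G) P ≤ (S : Subgroup G) := JNot.V_le_S hG hP
  intro v hv
  have hv1 := mem_zc.1 (h1 hv)
  have hA : ∀ A ∈ AA (S : Subgroup G), v ∈ A := fun A hA =>
    SQ1.Bau.mem_AA_of_comm hA (hS hv) hv1.2.2 fun a ha => hv1.2.1 a (hJ (ZN.ChoiceBase.le_jj hA ha))
  obtain ⟨A, hA'⟩ := AA_nonempty (S : Subgroup G)
  exact mem_zj.2 ⟨ZN.ChoiceBase.le_jj hA' (hA A hA'), hv1.2.2, fun y hy => hv1.2.1 y (hJ hy)⟩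

/-- `N_G(J(S))`-conjugates of `V` commute -/
theorem comm_of_norm_J (hG : IsCharacteristicTwoType G) (hP : IsParS (S : Subgroup G) P)
    (hJ : jj (S : Subgroup G) ≤ o2 P) {g g' : G} (hg : g ∈ normalizer (jj (S : Subgroup G) : Set G))
    (hg' : g' ∈ normalizer (jj (S : Subgroup G) : Set G)) :
    ∀ v ∈ zl (S : Subgroup G) P, ∀ w ∈ zl (S : Subgroup G) P,
      g * v * g⁻¹ * (g' * w * g'⁻¹) = g' * w * g'⁻¹ * (g * v * g⁻¹) := by
  have key : ∀ g ∈ normalizer (jj (S : Subgroup G) : Set G), ∀ v ∈ zl (S : Subgroup G) P,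
      g * v * g⁻¹ ∈ jj (S : Subgroup G) ∧ ∀ y ∈ jj (S : Subgroup G), y * (g * v * g⁻¹) = g * v * g⁻¹ * y := by
    intro g hg v hv
    have hv1 := mem_zj.1 (V_le_zj hG hP hJ hv)
    refine ⟨(mem_normalizer_iff.1 hg _).1 hv1.1, fun y hy => ?_⟩
    have h1 : g⁻¹ * y * g ∈ jj (S : Subgroup G) := by
      have := (mem_normalizer_iff.1 (inv_mem hg) y).1 hy
      rwa [inv_inv] at this
    have h2 := hv1.2.2 _ h1
    calc y * (g * v * g⁻¹) = g * (g⁻¹ * y * g * v) * g⁻¹ := by group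
      _ = g * (v * (g⁻¹ * y * g)) * g⁻¹ := by rw [h2]
      _ = g * v * g⁻¹ * y := by group
  intro v hv w hw
  exact (key g' hg' w hw).2 _ (key g hg v hv).1

end J

section main

variable [Finite G] {m : ℕ} {S : Sylow 2 G} {P : Subgroup G} {ε : (Fin (2 ^ m + 1) → ZMod 2) → G}
  {i j : Fin (2 ^ m + 1)}

/-- **#18920 (5)** -/
theorem five (h : In S (zl (S : Subgroup G) P) P ε i j) (hG : IsCharacteristicTwoType G)
    (hP : IsParS (S : Subgroup G) P)
    (key : ∀ R : Subgroup G, IsMinPar ((S : Subgroup G) ⊓ NN ε i j) R → R ≤ NN ε i j →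
      ¬ R ≤ normalizer (Q0 ε i j : Set G) →
      (∀ g ∈ R, ∀ g' ∈ R, ∀ v ∈ zl (S : Subgroup G) P, ∀ w ∈ zl (S : Subgroup G) P,
        g * v * g⁻¹ * (g' * w * g'⁻¹) = g' * w * g'⁻¹ * (g * v * g⁻¹)) →
      ∀ v ∈ zl (S : Subgroup G) P, (∀ t ∈ (S : Subgroup G) ⊓ NN ε i j, t * v = v * t) → ∀ r ∈ R, r * v = v * r)
    (bl : jj (S : Subgroup G) ≤ o2 P → ∀ R : Subgroup G, IsMinPar ((S : Subgroup G) ⊓ NN ε i j) R →
      R ≤ NN ε i j → ¬ jj (S : Subgroup G) ≤ o2 R → R ≤ centralizer ({zz ε 0} : Set G))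
    (eight : ¬ jj (S : Subgroup G) ≤ o2 P → ∀ R : Subgroup G, IsMinPar ((S : Subgroup G) ⊓ NN ε i j) R →
      R ≤ NN ε i j → ¬ R ≤ normalizer (zl (S : Subgroup G) P : Set G) →
      ∀ v ∈ zl (S : Subgroup G) P, (∀ t ∈ (S : Subgroup G) ⊓ NN ε i j, t * v = v * t) → ∀ r ∈ R, r * v = v * r)
    (hmv : ¬ NN ε i j ≤ normalizer (Q0 ε i j : Set G)) :
    ∃ R : Subgroup G, IsMinPar ((S : Subgroup G) ⊓ NN ε i j) R ∧ R ≤ NN ε i j ∧
      R ≤ centralizer ({zz ε 0} : Set G) ∧ ¬ R ≤ normalizer (Q0 ε i j : Set G) := by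
  have hL : ∀ g ∈ NN ε i j, g ∈ normalizer (zl (S : Subgroup G) P : Set G) →
      g ∈ normalizer (Q0 ε i j : Set G) := by
    intro g hg hgV
    obtain ⟨σ, hσ⟩ := h.evL.perm g hgV
    exact fix_of_acts hσ hg
  -- `z_0` is centralised by `S`
  have hz : ∀ t ∈ (S : Subgroup G) ⊓ NN ε i j, t * zz ε 0 = zz ε 0 * t := by
    intro t ht
    obtain ⟨σ, hσ⟩ := h.hyp.ev.perm t (h.SP ht.1)
    have h1 := zz_conj hσ 0
    rw [h.fix0 t ht.1 σ hσ] at h1
    exact mul_inv_eq_iff_eq_mul.1 h1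
  obtain ⟨R, hR, hRN, hRmv⟩ : ∃ R : Subgroup G, IsMinPar ((S : Subgroup G) ⊓ NN ε i j) R ∧ R ≤ NN ε i j ∧
      ¬ R ≤ normalizer (Q0 ε i j : Set G) := by
    by_contra hcon
    push Not at hcon
    exact hmv (MinSimple.MinParabolic.le_of_forall inf_le_right
      (fun g hg => hL g hg.1 (h.norm_T_le hg)) hcon)
  refine ⟨R, hR, hRN, ?_, hRmv⟩
  have hRL : ¬ R ≤ normalizer (zl (S : Subgroup G) P : Set G) := fun h1 =>
    hRmv fun g hg => hL g (hRN hg) (h1 hg)
  have hz0 : zz ε 0 ∈ zl (S : Subgroup G) P := zz_mem h.hyp.ev 0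
  have fin : (∀ v ∈ zl (S : Subgroup G) P, (∀ t ∈ (S : Subgroup G) ⊓ NN ε i j, t * v = v * t) →
      ∀ r ∈ R, r * v = v * r) → R ≤ centralizer ({zz ε 0} : Set G) := fun h1 r hr =>
    mem_centralizer_singleton_iff.2 (h1 _ hz0 hz r hr)
  by_cases hJ : jj (S : Subgroup G) ≤ o2 P
  · by_cases hJR : jj (S : Subgroup G) ≤ o2 R
    · refine fin (key R hR hRN hRmv fun g hg g' hg' => ?_)
      have h1 : o2 R ≤ (S : Subgroup G) := (h.o2_le_T' hR.le hRN).trans inf_le_left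
      have h2 : R ≤ normalizer (jj (S : Subgroup G) : Set G) := by
        refine (le_normalizer_o2 R).trans ?_
        have h3 := ZN.normalizer_le_normalizer_jj (o2 R)
        rwa [ZN.jj_eq_of_le hJR h1] at h3
      exact comm_of_norm_J hG hP hJ (h2 hg) (h2 hg')
    · exact bl hJ R hR hRN hJR
  · exact fin (eight hJ R hR hRN hRL)

omit [Finite G] in
/-- the form used in (4): `C_G(r_ij, z_0)` moves `λ` -/
theorem moves {N : Subgroup G} {Q : Subgroup G} {z : G}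
    (h : ∃ R : Subgroup G, R ≤ N ∧ R ≤ centralizer ({z} : Set G) ∧ ¬ R ≤ normalizer (Q : Set G)) :
    ¬ N ⊓ centralizer ({z} : Set G) ≤ normalizer (Q : Set G) := by
  obtain ⟨R, h1, h2, h3⟩ := h
  exact fun h4 => h3 ((le_inf h1 h2).trans h4)

end main

end Cfsg.Agent.Omega.NSix.HT.Five

end

section


/-!
# OMEGA N6, #18323 (helper480) (8)  (helper537)

`V = V_P` even subsets of `2^m + 1` points, `T₁ = C_S(r_ij)` a Sylow 2-subgroup of `C_G(r_ij)` with its normaliser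
(in `C_G(r_ij)`) in `N_G(V)`; every minimal parabolic over `T₁` in `C_G(r_ij)` lies in `N_G(V)` or in `C_G(z_0)`;
`⟨P, C_G(Z)⟩` is 2-local (THEOREM SN); (N).  Then `C_G(r_kl) ≤ N_G(V)` for all pairs and `⟨P, C_G(Z)⟩ ≤ N_G(V)`.
-/

set_option autoImplicit false

namespace Cfsg.Agent.Omega.NSix.HTwo.End

open Subgroup Cfsg Cfsg.Agent.Omega.MinPar
open Cfsg.Agent.ZN (o2 zc zl)
open Cfsg.Agent.Omega.FrameNOFF (CZ)
open Cfsg.Agent.Omega.S5.Def Cfsg.Agent.Omega.S5.Syl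
open Cfsg.Agent.Omega.NSix.Base Cfsg.Agent.Omega.NSix.Basic
open Cfsg.Agent.Omega.NSix.Zero (WP mem_WP)
open Cfsg.Agent.Omega.NSix.JNot
open Cfsg.Agent.MinSimple.MinParabolic (IsMinPar)

universe u

variable {G : Type u} [Group G] [Finite G] {S : Sylow 2 G} {P : Subgroup G} {m : ℕ}
  {ε : (Fin (2 ^ m + 1) → ZMod 2) → G}

omit [Finite G] in
/-- three letters are not `0` modulo complements -/
theorem three_ne {n : ℕ} {V L : Subgroup G} {ε : (Fin n → ZMod 2) → G} (ev : EvenSet n V L ε)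
    (h5 : 5 ≤ n) (i j k : Fin n) : ε (Pi.single i 1 + Pi.single j 1 + Pi.single k 1) ≠ 1 := by
  classical
  intro h1
  obtain ⟨l, hl⟩ : ∃ l : Fin n, l ∉ ({i, j, k} : Finset (Fin n)) := by
    by_contra hcon
    push Not at hcon
    have h8 : (Finset.univ : Finset (Fin n)) ⊆ {i, j, k} := fun l _ => hcon l
    have h9 := Finset.card_le_card h8
    have h10 : ({i, j, k} : Finset (Fin n)).card ≤ 3 := Finset.card_le_three
    rw [Finset.card_univ, Fintype.card_fin] at h9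
    omega
  simp only [Finset.mem_insert, Finset.mem_singleton, not_or] at hl
  have h0 : (Pi.single i 1 + Pi.single j 1 + Pi.single k 1 : Fin n → ZMod 2) l = 0 := by
    simp only [Pi.add_apply]
    rw [Pi.single_eq_of_ne hl.1, Pi.single_eq_of_ne hl.2.1, Pi.single_eq_of_ne hl.2.2]
    rfl
  rcases (ev.ker _).1 h1 with h2 | h2
  · have h3 := congrArg (fun x : Fin n → ZMod 2 => ∑ l, x l) h2
    simp only [Pi.add_apply, Finset.sum_add_distrib, Finset.sum_pi_single', Finset.mem_univ,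
      if_true, Pi.zero_apply, Finset.sum_const_zero] at h3
    revert h3; decide
  · have h3 := congrFun h2 l
    rw [h0, Pi.one_apply] at h3
    exact zero_ne_one h3

/-- `S` does not centralise `r_ij`. -/
theorem not_S_le (hm : 2 ≤ m) (hP : IsParS (S : Subgroup G) P)
    (ev : EvenSet (2 ^ m + 1) (zl (S : Subgroup G) P) P ε) (h0 : Fix0 ε (S : Subgroup G))
    {i j : Fin (2 ^ m + 1)} (hij : i ≠ j) : ¬ (S : Subgroup G) ≤ NN ε i j := by
  intro hS
  have h5 : 5 ≤ 2 ^ m + 1 := five_le hm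
  have h1 := fixed (by omega) ev hP.le (MinSimple.Basic.not_dvd_relIndex S hP.le) h0 (rr_mem ev i j)
    (fun s hs => mem_NN.1 (hS hs))
  rcases h1 with h1 | h1
  · exact rr_ne_one ev (by omega) hij h1
  · -- `{i, j} ≠ {0}` modulo complements
    have h2 : ε (Pi.single i 1 + Pi.single j 1 + Pi.single 0 1) = 1 := by
      rw [ev.add, ev.add]
      change rr ε i j * ε (Pi.single 0 1) = 1
      rw [h1]; exact ev.sq _
    exact three_ne ev h5 _ _ _ h2

/-- `z_0` is not conjugate to `r_ij`. -/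
theorem not_conj (hG : IsCharacteristicTwoType G) (hm : 2 ≤ m) (hP : IsParS (S : Subgroup G) P)
    (ev : EvenSet (2 ^ m + 1) (zl (S : Subgroup G) P) P ε) (h0 : Fix0 ε (S : Subgroup G))
    {i j : Fin (2 ^ m + 1)} (hij : i ≠ j)
    (hT : ¬ 2 ∣ ((S : Subgroup G) ⊓ NN ε i j).relIndex (NN ε i j)) (g : G) :
    zz ε 0 ≠ g * rr ε i j * g⁻¹ := by
  intro he
  have hf : Fact (Nat.Prime 2) := ⟨Nat.prime_two⟩
  have hz : ∀ s ∈ (S : Subgroup G), s * zz ε 0 = zz ε 0 * s := by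
    have h1 : zz ε 0 ∈ zc (S : Subgroup G) := (zc_iff hG (by omega) hP ev h0).2 (Or.inr rfl)
    exact (MinSimple.VModule.mem_zc.1 h1).2.1
  apply not_S_le hm hP ev h0 hij
  set T := (S : Subgroup G) ⊓ NN ε i j with hTdef
  have h1 : (S : Subgroup G).map (MulAut.conj g⁻¹).toMonoidHom ≤ NN ε i j := by
    rintro _ ⟨s, hs, rfl⟩
    rw [mem_NN]
    change g⁻¹ * s * g⁻¹⁻¹ * rr ε i j = rr ε i j * (g⁻¹ * s * g⁻¹⁻¹)
    have h2 := hz s hs
    rw [he] at h2
    calc g⁻¹ * s * g⁻¹⁻¹ * rr ε i j = g⁻¹ * (s * (g * rr ε i j * g⁻¹)) * g := by group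
      _ = rr ε i j * (g⁻¹ * s * g⁻¹⁻¹) := by rw [h2]; group
  have h2 : Nat.card (S : Subgroup G) ∣ Nat.card (NN ε i j) := by
    have h0 : Nat.card ((S : Subgroup G).map (MulAut.conj g⁻¹).toMonoidHom) =
        Nat.card (S : Subgroup G) := Subgroup.card_map_of_injective (MulAut.conj g⁻¹).injective
    rw [← h0]
    exact card_dvd_of_le h1
  have h3 : Nat.card T * T.relIndex (NN ε i j) = Nat.card (NN ε i j) := by
    have h4 := relIndex_mul_relIndex ⊥ T (NN ε i j) bot_le inf_le_right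
    simp only [relIndex_bot_left] at h4
    exact h4
  have h4 : Nat.card (S : Subgroup G) ∣ Nat.card T := by
    rw [← h3] at h2
    refine Nat.Coprime.dvd_of_dvd_mul_right ?_ h2
    obtain ⟨k, hk⟩ := IsPGroup.iff_card.1 S.isPGroup'
    rw [hk]
    exact Nat.Coprime.pow_left k ((Nat.Prime.coprime_iff_not_dvd Nat.prime_two).2 hT)
  have h5 : T = (S : Subgroup G) := eq_of_le_of_card_ge inf_le_left
    (Nat.le_of_dvd Nat.card_pos h4)
  rw [← h5]
  exact inf_le_right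

/-- **#18323 (8)**. -/
theorem nn_le_normalizer (hG : IsCharacteristicTwoType G) (hm : 2 ≤ m) (hP : IsParS (S : Subgroup G) P)
    (ev : EvenSet (2 ^ m + 1) (zl (S : Subgroup G) P) P ε) (h0 : Fix0 ε (S : Subgroup G))
    (hloc : ¬ NonLoc P (CZ (S : Subgroup G))) {i j : Fin (2 ^ m + 1)} (hij : i ≠ j)
    (hT : ¬ 2 ∣ ((S : Subgroup G) ⊓ NN ε i j).relIndex (NN ε i j))
    (hNT : NN ε i j ⊓ normalizer (((S : Subgroup G) ⊓ NN ε i j : Subgroup G) : Set G) ≤
      P ⊔ CZ (S : Subgroup G))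
    (hR : ∀ R : Subgroup G, IsMinPar ((S : Subgroup G) ⊓ NN ε i j) R → R ≤ NN ε i j →
      R ≤ P ⊔ CZ (S : Subgroup G))
    (hN : ∃ k l, k ≠ l ∧ ∃ g ∈ WP ε k l, ¬ g ∈ centralizer (zl (S : Subgroup G) P : Set G)) :
    P ⊔ CZ (S : Subgroup G) ≤ normalizer (zl (S : Subgroup G) P : Set G) ∧
      ∀ k l, k ≠ l → NN ε k l ≤ normalizer (zl (S : Subgroup G) P : Set G) := by
  classical
  have hX : IsLoc (S : Subgroup G) (P ⊔ CZ (S : Subgroup G)) := (not_nonLoc_iff S hP.le).1 hloc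
  set X := P ⊔ CZ (S : Subgroup G) with hXdef
  have hPX : P ≤ X := le_sup_left
  have hNX : NN ε i j ≤ X := Cfsg.Agent.MinSimple.MinParabolic.le_of_forall inf_le_right hNT hR
  obtain ⟨k, l, hkl, hN'⟩ := hN
  have hfus : ∀ g ∈ X, zz ε 0 ≠ g * rr ε k l * g⁻¹ := by
    intro g _ he
    obtain ⟨σ, h1, h2, -⟩ := exists_perm hij hkl
    obtain ⟨p, hp, hpσ⟩ := ev.full σ
    refine not_conj hG hm hP ev h0 hij hT (g * p) ?_
    rw [he, ← h1, ← h2, ← rr_conj hpσ]
    group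
  have hXV : X ≤ normalizer (zl (S : Subgroup G) P : Set G) :=
    nn_le hG hm hP ev h0 hX hPX hkl (NN_le_of_one ev hPX hij hNX hkl) hfus hN'
  exact ⟨hXV, fun a b hab => (NN_le_of_one ev hPX hij hNX hab).trans hXV⟩

/-- `N_G(V)`, `C_G(z_0) ≤ ⟨P, C_G(Z)⟩`. -/
theorem le_sup (hG : IsCharacteristicTwoType G) (hm : 2 ≤ m) (hP : IsParS (S : Subgroup G) P)
    (ev : EvenSet (2 ^ m + 1) (zl (S : Subgroup G) P) P ε) (h0 : Fix0 ε (S : Subgroup G)) :
    normalizer (zl (S : Subgroup G) P : Set G) ≤ P ⊔ CZ (S : Subgroup G) ∧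
      centralizer ({zz ε 0} : Set G) ≤ P ⊔ CZ (S : Subgroup G) := by
  have hCX : centralizer ({zz ε 0} : Set G) ≤ P ⊔ CZ (S : Subgroup G) := by
    refine le_trans ?_ le_sup_right
    intro x hx
    rw [mem_centralizer_singleton_iff] at hx
    rw [CZ, mem_centralizer_iff]
    intro y hy
    rcases (zc_iff hG (by omega) hP ev h0).1 hy with rfl | rfl
    · rw [one_mul, mul_one]
    · exact hx.symm
  exact ⟨normalizer_le hm hP ev h0 le_sup_left hCX, hCX⟩

end Cfsg.Agent.Omega.NSix.HTwo.End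

end
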