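import Cfsg.Agent.Mrg.Omega.S5.Def


/-!
# OMEGA N6 (H2): the transvection lemma (2) of #16633 (helper150)

`Λ`: the letters `3..n` (an odd number `>= 7`), `U`: the `F₂`-space `U_12`, `H`: a group of additive
automorphisms of `U` (a set closed under products and inverses; the image of `N_12`),
`ζ : (Λ → ZMod 2) →+ U` the subspace `V_12` (`ζ (Pi.single k 1)` = the point `k`, `ζ 1 = r_12`).
-/

set_option autoImplicit false
set_option linter.unusedSectionVars false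

namespace Cfsg.Agent.Omega.NSix.TL

open Tv

section dot

variable {Λ : Type*} [Fintype Λ] [DecidableEq Λ]

/-- the natural pairing -/
def dt (b x : Λ → ZMod 2) : ZMod 2 := ∑ k, b k * x k

theorem dt_add (b x y : Λ → ZMod 2) : dt b (x + y) = dt b x + dt b y := by
  unfold dt
  rw [← Finset.sum_add_distrib]
  exact Finset.sum_congr rfl fun k _ => mul_add _ _ _

theorem add_dt (b b' x : Λ → ZMod 2) : dt (b + b') x = dt b x + dt b' x := by
  unfold dt
  rw [← Finset.sum_add_distrib]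
  exact Finset.sum_congr rfl fun k _ => add_mul _ _ _

theorem dt_zero (b : Λ → ZMod 2) : dt b 0 = 0 := by simp [dt]

theorem zero_dt (x : Λ → ZMod 2) : dt 0 x = 0 := by simp [dt]

theorem dt_single (b : Λ → ZMod 2) (i : Λ) : dt b (Pi.single i 1) = b i := by
  simp [dt, Pi.single_apply]

theorem single_dt (x : Λ → ZMod 2) (i : Λ) : dt (Pi.single i 1) x = x i := by
  simp [dt, Pi.single_apply]

theorem dt_one (b : Λ → ZMod 2) : dt b 1 = ∑ k, b k := by simp [dt]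

theorem dt_comp (b x : Λ → ZMod 2) (σ : Equiv.Perm Λ) : dt (b ∘ σ) (x ∘ σ) = dt b x :=
  Equiv.sum_comp σ fun k => b k * x k

/-- a transposition -/
theorem swp {x : Λ → ZMod 2} {k l : Λ} (hk : x k = 1) (hl : x l = 0) :
    x ∘ Equiv.swap k l = x + (Pi.single k 1 + Pi.single l 1) := by
  have hkl : k ≠ l := by rintro rfl; rw [hk] at hl; exact absurd hl (by decide)
  funext m
  simp only [Function.comp_apply, Pi.add_apply]
  by_cases h1 : m = k
  · subst h1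
    rw [Equiv.swap_apply_left, hl, hk, Pi.single_eq_same, Pi.single_eq_of_ne hkl]
    decide
  · by_cases h2 : m = l
    · subst h2
      rw [Equiv.swap_apply_right, hl, hk, Pi.single_eq_same, Pi.single_eq_of_ne h1]
      decide
    · rw [Equiv.swap_apply_of_ne_of_ne h1 h2, Pi.single_eq_of_ne h1, Pi.single_eq_of_ne h2]
      simp

/-- two prescribed values of a permutation -/
theorem ex_perm {i j k l : Λ} (hij : i ≠ j) (hkl : k ≠ l) : ∃ σ : Equiv.Perm Λ, σ k = i ∧ σ l = j := by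
  refine ⟨(Equiv.swap k i).trans (Equiv.swap (Equiv.swap k i l) j), ?_, ?_⟩
  · rw [Equiv.trans_apply, Equiv.swap_apply_left]
    refine Equiv.swap_apply_of_ne_of_ne (fun h => hkl ?_) hij
    have := (Equiv.swap k i).injective ((Equiv.swap_apply_left k i).trans h)
    exact this
  · rw [Equiv.trans_apply, Equiv.swap_apply_left]

/-- four prescribed values of a permutation -/
theorem ex_perm4 {a b : Fin 4 → Λ} (ha : Function.Injective a) (hb : Function.Injective b) :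
    ∃ σ : Equiv.Perm Λ, ∀ t, σ (a t) = b t := by
  obtain ⟨σ, hσ⟩ := (Equiv.Perm.isMultiplyPretransitive Λ 4).exists_smul_eq ⟨a, ha⟩ ⟨b, hb⟩
  exact ⟨σ, fun t => by
    have := congrArg (fun f : Fin 4 ↪ Λ => f t) hσ
    simpa using this⟩

/-- the span lemma -/
theorem span {γ : Λ → ZMod 2} {i j : Λ} (hi : γ i = 1) (hj : γ j = 0)
    (hodd : Odd (Fintype.card Λ)) {b : Λ → ZMod 2} (h : ∀ σ : Equiv.Perm Λ, dt b (γ ∘ σ) = 0)
    (h1 : dt b 1 = 0) : b = 0 := by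
  have hij : i ≠ j := by rintro rfl; rw [hi] at hj; exact absurd hj (by decide)
  have hc : ∀ k l, b k = b l := by
    intro k l
    by_cases hkl : k = l
    · rw [hkl]
    obtain ⟨σ, s1, s2⟩ := ex_perm hij hkl
    have e1 : (γ ∘ σ) k = 1 := by rw [Function.comp_apply, s1, hi]
    have e2 : (γ ∘ σ) l = 0 := by rw [Function.comp_apply, s2, hj]
    have e3 := h ((Equiv.swap k l).trans σ)
    have e4 : γ ∘ ((Equiv.swap k l).trans σ) = (γ ∘ σ) ∘ Equiv.swap k l := rfl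
    rw [e4, swp e1 e2, dt_add, h σ, dt_add, dt_single, dt_single, zero_add] at e3
    rcases z2 (b k) with h1 | h1 <;> rcases z2 (b l) with h2 | h2 <;> rw [h1, h2] at e3 ⊢ <;>
      exact absurd e3 (by decide)
  funext k
  rw [dt_one, Finset.sum_congr rfl fun l _ => hc l k, Finset.sum_const, Finset.card_univ,
    nsmul_eq_mul] at h1
  have h2 : ((Fintype.card Λ : ℕ) : ZMod 2) = 1 := by
    obtain ⟨m, hm⟩ := hodd
    rw [hm]
    push_cast
    have : (2 : ZMod 2) = 0 := by decide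
    rw [this, zero_mul, zero_add]
  rw [h2, one_mul] at h1
  exact h1

end dot

variable {Λ : Type*} [Fintype Λ] [DecidableEq Λ]
variable {U : Type*} [AddCommGroup U] [Module (ZMod 2) U]

/-- the coordinates of a functional on `V_12` -/
def bt (ζ : (Λ → ZMod 2) →+ U) (f : U →+ ZMod 2) : Λ → ZMod 2 := fun k => f (ζ (Pi.single k 1))

theorem bt_add (ζ : (Λ → ZMod 2) →+ U) (f g : U →+ ZMod 2) : bt ζ (f + g) = bt ζ f + bt ζ g := rfl

theorem bt_zero (ζ : (Λ → ZMod 2) →+ U) : bt ζ 0 = 0 := rfl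

theorem f_zeta (ζ : (Λ → ZMod 2) →+ U) (f : U →+ ZMod 2) (x : Λ → ZMod 2) :
    f (ζ x) = dt (bt ζ f) x := by
  have h : x = ∑ k, Pi.single k (x k) := (Finset.univ_sum_single x).symm
  conv_lhs => rw [h]
  rw [map_sum, map_sum]
  unfold dt
  refine Finset.sum_congr rfl fun k _ => ?_
  rcases z2 (x k) with h | h <;> rw [h]
  · rw [Pi.single_zero, map_zero, map_zero, mul_zero]
  · rw [mul_one]; rfl

/-- the functionals of the transvections with centre `c` in `H` -/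
def FF (H : Set (U ≃+ U)) (c : U) : Set (U →+ ZMod 2) :=
  {f | f c = 0 ∧ ∃ h ∈ H, ∀ u, h u = u + f u • c}

/-- the orbit of `c` -/
def KK (H : Set (U ≃+ U)) (c : U) : Set U := {v | ∃ h ∈ H, v = h c}

/-- the hypotheses on `H` -/
structure Dat (H : Set (U ≃+ U)) (ζ : (Λ → ZMod 2) →+ U) : Prop where
  fin : Finite U
  tr : ∀ g ∈ H, ∀ h ∈ H, g.trans h ∈ H
  sm : ∀ g ∈ H, g.symm ∈ H
  rf : AddEquiv.refl U ∈ H
  inj : Function.Injective ζ
  odd : Odd (Fintype.card Λ)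
  seven : 7 ≤ Fintype.card Λ
  fix : ∀ h ∈ H, h (ζ 1) = ζ 1
  sym : ∀ σ : Equiv.Perm Λ, ∃ h ∈ H, ∀ x, h (ζ x) = ζ (x ∘ σ)
  gen : ∀ u, u ∈ AddSubgroup.closure {v | ∃ h ∈ H, ∃ x, v = h (ζ x)}
  oneb : ∀ h ∈ H, ∀ b c : Λ → ZMod 2, ∑ k, b k = 0 → c ≠ 0 →
    (∀ x, h (ζ x) = ζ (x + dt b x • c)) →
    b = 0 ∨ ((c = b ∨ c = b + 1) ∧ ∃ i j, i ≠ j ∧ b = Pi.single i 1 + Pi.single j 1)

theorem two (u : U) : u + u = 0 := ZModModule.add_self u

theorem FF.act {H : Set (U ≃+ U)} {c : U} {f : U →+ ZMod 2} (h : f ∈ FF H c) :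
    ∃ h ∈ H, ∀ u, h u = u + f u • c := h.2

theorem smul_zeta (ζ : (Λ → ZMod 2) →+ U) (t : ZMod 2) (x : Λ → ZMod 2) : t • ζ x = ζ (t • x) := by
  rcases z2 t with h | h <;> rw [h] <;> simp

theorem map_sm {W : Type*} [AddCommGroup W] [Module (ZMod 2) W] (h : U →+ W) (t : ZMod 2) (c : U) :
    h (t • c) = t • h c := by
  rcases z2 t with h | h <;> rw [h] <;> simp

theorem f_sm (f : U →+ ZMod 2) (t : ZMod 2) (c : U) : f (t • c) = t * f c := by
  rcases z2 t with h | h <;> rw [h] <;> simp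

/-- transport of a functional -/
def cj (h : U ≃+ U) (f : U →+ ZMod 2) : U →+ ZMod 2 := f.comp h.symm.toAddMonoidHom

theorem cj_app (h : U ≃+ U) (f : U →+ ZMod 2) (u : U) : cj h f u = f (h.symm u) := rfl

theorem cj_app' (h : U ≃+ U) (f : U →+ ZMod 2) (u : U) : cj h f (h u) = f u := by
  rw [cj_app, AddEquiv.symm_apply_apply]

namespace Dat

variable {H : Set (U ≃+ U)} {ζ : (Λ → ZMod 2) →+ U}

theorem ff_add (D : Dat H ζ) {c : U} {f g : U →+ ZMod 2} (hf : f ∈ FF H c) (hg : g ∈ FF H c) :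
    f + g ∈ FF H c := by
  obtain ⟨f0, a, ha, ha1⟩ := hf
  obtain ⟨g0, b, hb, hb1⟩ := hg
  refine ⟨by rw [AddMonoidHom.add_apply, f0, g0, add_zero], _, D.tr _ ha _ hb, fun u => ?_⟩
  rw [AddEquiv.trans_apply, ha1, hb1, map_add, f_sm, g0, mul_zero, add_zero,
    AddMonoidHom.add_apply, add_smul, add_assoc]

theorem ff_zero (D : Dat H ζ) (c : U) : (0 : U →+ ZMod 2) ∈ FF H c :=
  ⟨rfl, _, D.rf, fun u => by simp⟩

theorem ff_cj (D : Dat H ζ) {c : U} {f : U →+ ZMod 2} (hf : f ∈ FF H c) {h : U ≃+ U} (hh : h ∈ H) :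
    cj h f ∈ FF H (h c) := by
  obtain ⟨f0, a, ha, ha1⟩ := hf
  refine ⟨by rw [cj_app', f0], _, D.tr _ (D.sm h hh) _ (D.tr _ ha _ hh), fun u => ?_⟩
  rw [AddEquiv.trans_apply, AddEquiv.trans_apply, ha1, map_add, AddEquiv.apply_symm_apply, cj_app]
  congr 1
  exact map_sm h.toAddMonoidHom _ _

theorem cj_cj (h : U ≃+ U) (f : U →+ ZMod 2) : cj h.symm (cj h f) = f := by
  ext u
  rw [cj_app, cj_app, AddEquiv.symm_symm, AddEquiv.symm_apply_apply]

theorem cj_inj (h : U ≃+ U) : Function.Injective (cj h) := fun f g hfg => by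
  rw [← cj_cj h f, hfg, cj_cj]

theorem finF (D : Dat H ζ) : Finite (U →+ ZMod 2) := by
  have := D.fin
  exact DFunLike.finite _

theorem ncard_le (D : Dat H ζ) (c : U) {h : U ≃+ U} (hh : h ∈ H) :
    (FF H c).ncard ≤ (FF H (h c)).ncard := by
  have := D.finF
  rw [← Set.ncard_image_of_injective (FF H c) (Dat.cj_inj h)]
  refine Set.ncard_le_ncard ?_ (Set.toFinite _)
  rintro _ ⟨f, hf, rfl⟩
  exact D.ff_cj hf hh

theorem kk_mv (D : Dat H ζ) {c d : U} (hd : d ∈ KK H c) {h : U ≃+ U} (hh : h ∈ H) : h d ∈ KK H c := by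
  obtain ⟨g, hg, rfl⟩ := hd
  exact ⟨_, D.tr _ hg _ hh, rfl⟩

theorem kk_tr (D : Dat H ζ) {c d e : U} (hd : d ∈ KK H c) (he : e ∈ KK H c) : ∃ h ∈ H, h d = e := by
  obtain ⟨g, hg, rfl⟩ := hd
  obtain ⟨g', hg', rfl⟩ := he
  exact ⟨_, D.tr _ (D.sm _ hg) _ hg', by simp⟩

theorem kk_self (D : Dat H ζ) (c : U) : c ∈ KK H c := ⟨_, D.rf, rfl⟩

theorem sys (D : Dat H ζ) (c : U) : Sys (KK H c) (FF H) where
  two := two
  add := fun _ _ _ hf _ hg => D.ff_add hf hg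
  eq := by
    intro a ha b hb hle
    have := D.finF
    obtain ⟨h, hh, rfl⟩ := D.kk_tr ha hb
    exact (Set.eq_of_subset_of_ncard_le hle (D.ncard_le a hh) (Set.toFinite _)).symm.subset
  self := fun _ _ _ hf => hf.1
  star := by
    intro a _ d _ g hg hga f hf hfd
    obtain ⟨gd, t, ht, ht1⟩ := hg
    have e1 : t a = a := by rw [ht1, hga, zero_smul, add_zero]
    have e2 := D.ff_cj hf ht
    rw [e1] at e2
    have e3 : cj t f = f + g := by
      ext u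
      have e4 : t.symm u = u + g u • d := by
        rw [AddEquiv.symm_apply_eq, ht1, map_add, f_sm, gd, mul_zero, add_zero, add_assoc, two,
          add_zero]
      rw [cj_app, e4, map_add, f_sm, hfd, mul_one, AddMonoidHom.add_apply]
    rwa [e3] at e2

/-- the move lemma -/
theorem move (D : Dat H ζ) {c d e : U} (hd : d ∈ KK H c) {f : U →+ ZMod 2} (hf : f ∈ FF H e)
    (hfd : f d = 1) : d + e ∈ KK H c := by
  obtain ⟨_, t, ht, ht1⟩ := hf
  have h := D.kk_mv hd ht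
  rwa [ht1, hfd, one_smul] at h

/-- the move lemma -/
theorem move_ff (D : Dat H ζ) {d e : U} {f g : U →+ ZMod 2} (hf : f ∈ FF H e)
    (hfd : f d = 1) (hg : g ∈ FF H d) (hge : g e = 1) : g + f ∈ FF H (d + e) := by
  obtain ⟨f0, t, ht, ht1⟩ := hf
  have e2 := D.ff_cj hg ht
  rw [ht1, hfd, one_smul] at e2
  have e3 : cj t g = g + f := by
    ext u
    have e4 : t.symm u = u + f u • e := by
      rw [AddEquiv.symm_apply_eq, ht1, map_add, f_sm, f0, mul_zero, add_zero, add_assoc, two,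
        add_zero]
    rw [cj_app, e4, map_add, f_sm, hge, mul_one, AddMonoidHom.add_apply]
  rwa [e3] at e2

end Dat

/-- the situation of TL -/
structure Sit (H : Set (U ≃+ U)) (ζ : (Λ → ZMod 2) →+ U) (γ : Λ → ZMod 2) (f0 : U →+ ZMod 2) :
    Prop extends Dat H ζ where
  i0 : ∃ i, γ i = 1
  j0 : ∃ j, γ j = 0
  mem : f0 ∈ FF H (ζ γ)
  ne : f0 ≠ 0
  kill : bt ζ f0 = 0

namespace Sit

variable {H : Set (U ≃+ U)} {ζ : (Λ → ZMod 2) →+ U} {γ : Λ → ZMod 2} {f0 : U →+ ZMod 2}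

theorem ss (s : Sit H ζ γ f0) (σ : Equiv.Perm Λ) : ζ (γ ∘ σ) ∈ KK H (ζ γ) := by
  obtain ⟨h, hh, h1⟩ := s.sym σ
  exact ⟨h, hh, (h1 γ).symm⟩

theorem kne (s : Sit H ζ γ f0) {d : U} (hd : d ∈ KK H (ζ γ)) : d ≠ 0 := by
  rintro rfl
  obtain ⟨h, hh, h1⟩ := hd
  have h2 : ζ γ = 0 := by
    apply h.injective
    rw [← h1, map_zero]
  have h3 : γ = 0 := s.inj (h2.trans (map_zero ζ).symm)
  obtain ⟨i, hi⟩ := s.i0
  rw [h3, Pi.zero_apply] at hi
  exact absurd hi (by decide)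

theorem one (s : Sit H ζ γ f0) {d : U} (hd : d ∈ KK H (ζ γ)) {g : U →+ ZMod 2} (hg : g ∈ FF H d) :
    g (ζ 1) = 0 := by
  obtain ⟨_, t, ht, ht1⟩ := hg
  by_contra hne
  have h := s.fix t ht
  rw [ht1, z2_one hne, one_smul] at h
  exact s.kne hd (by simpa using h)

theorem sum_bt (s : Sit H ζ γ f0) {d : U} (hd : d ∈ KK H (ζ γ)) {g : U →+ ZMod 2}
    (hg : g ∈ FF H d) : ∑ k, bt ζ g k = 0 := by
  rw [← dt_one, ← f_zeta, s.one hd hg]

theorem sp (s : Sit H ζ γ f0) {g : U →+ ZMod 2} (h : ∀ σ : Equiv.Perm Λ, g (ζ (γ ∘ σ)) = 0)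
    (h1 : g (ζ 1) = 0) : bt ζ g = 0 := by
  obtain ⟨i, hi⟩ := s.i0
  obtain ⟨j, hj⟩ := s.j0
  refine span hi hj s.odd (fun σ => ?_) ?_
  · rw [← f_zeta, h]
  · rw [← f_zeta, h1]

theorem sep (s : Sit H ζ γ f0) {g : U →+ ZMod 2} (h : ∀ d ∈ KK H (ζ γ), g d = 0)
    (h1 : g (ζ 1) = 0) : g = 0 := by
  have key : ∀ h ∈ H, ∀ x, g (h (ζ x)) = 0 := by
    intro a ha x
    have e1 : bt ζ (g.comp a.toAddMonoidHom) = 0 := by
      refine s.sp (fun σ => ?_) ?_
      · exact h _ (s.kk_mv (s.ss σ) ha)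
      · change g (a (ζ 1)) = 0
        rw [s.fix a ha, h1]
    have e2 := f_zeta ζ (g.comp a.toAddMonoidHom) x
    rw [e1, zero_dt] at e2
    exact e2
  ext u
  refine AddSubgroup.closure_induction ?_ ?_ ?_ ?_ (s.gen u)
  · rintro _ ⟨a, ha, x, rfl⟩
    exact key a ha x
  · exact map_zero g
  · intro a b _ _ ha hb
    rw [map_add, ha, hb]; rfl
  · intro a _ ha
    rw [map_neg, ha, map_neg]

theorem exd (s : Sit H ζ γ f0) {g : U →+ ZMod 2} (h1 : g (ζ 1) = 0) (hg : g ≠ 0) :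
    ∃ d ∈ KK H (ζ γ), g d = 1 := by
  by_contra hc
  push Not at hc
  exact hg (s.sep (fun d hd => z2_zero (hc d hd)) h1)

/-- the alternatives of (1b) -/
theorem alt (s : Sit H ζ γ f0) {c : Λ → ZMod 2} (hc : c ≠ 0) {f : U →+ ZMod 2}
    (hf : f ∈ FF H (ζ c)) (h1 : f (ζ 1) = 0) : bt ζ f = 0 ∨ ((c = bt ζ f ∨ c = bt ζ f + 1) ∧
      ∃ i j, i ≠ j ∧ bt ζ f = Pi.single i 1 + Pi.single j 1) := by
  obtain ⟨_, t, ht, ht1⟩ := hf
  refine s.oneb t ht _ _ ?_ hc fun x => ?_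
  · rw [← dt_one, ← f_zeta, h1]
  · rw [ht1, f_zeta, smul_zeta, map_add]

/-- the transport of `FF (ζ c)` to `FF (ζ (c ∘ σ))` -/
theorem tp (s : Sit H ζ γ f0) (σ : Equiv.Perm Λ) : ∃ h ∈ H, (∀ x, h (ζ x) = ζ (x ∘ σ)) ∧
    (∀ x, h.symm (ζ x) = ζ (x ∘ σ.symm)) := by
  obtain ⟨h, hh, h1⟩ := s.sym σ
  refine ⟨h, hh, h1, fun x => ?_⟩
  rw [AddEquiv.symm_apply_eq, h1]
  congr 1
  funext k
  simp

end Sit

/-- the vector `e_k + e_l + δ` -/
def cv (Λ : Type*) [DecidableEq Λ] (δ : ZMod 2) (k l : Λ) : Λ → ZMod 2 :=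
  Pi.single k 1 + Pi.single l 1 + δ • 1

theorem dt_cv (b : Λ → ZMod 2) (hb : dt b 1 = 0) (δ : ZMod 2) (k l : Λ) :
    dt b (cv Λ δ k l) = b k + b l := by
  have h : dt b (δ • 1) = 0 := by
    rcases z2 δ with h | h <;> rw [h]
    · rw [zero_smul, dt_zero]
    · rw [one_smul, hb]
  rw [cv, dt_add, dt_add, dt_single, dt_single, h, add_zero]

theorem cv_comp (δ : ZMod 2) (k l : Λ) (σ : Equiv.Perm Λ) :
    cv Λ δ k l ∘ σ = cv Λ δ (σ.symm k) (σ.symm l) := by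
  have h : ∀ k : Λ, (Pi.single k 1 : Λ → ZMod 2) ∘ σ = Pi.single (σ.symm k) 1 := fun k =>
    Pi.single_comp_equiv σ k 1
  funext m
  have h1 := congrFun (h k) m
  have h2 := congrFun (h l) m
  simp only [Function.comp_apply] at h1 h2
  simp only [cv, Function.comp_apply, Pi.add_apply, Pi.smul_apply, Pi.one_apply, h1, h2]

theorem cv_comm (δ : ZMod 2) (k l : Λ) : cv Λ δ k l = cv Λ δ l k := by
  rw [cv, cv, add_comm (Pi.single k 1 : Λ → ZMod 2)]

/-- a new letter -/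
theorem ex_not (l : List Λ) (h : l.length < Fintype.card Λ) : ∃ x, ∀ y ∈ l, x ≠ y := by
  by_contra hc
  push Not at hc
  have h1 : l.toFinset = Finset.univ := by
    ext x
    obtain ⟨y, hy, rfl⟩ := hc x
    simpa using hy
  have h2 := l.toFinset_card_le
  rw [h1, Finset.card_univ] at h2
  omega


namespace Sit

variable {H : Set (U ≃+ U)} {ζ : (Λ → ZMod 2) →+ U} {γ : Λ → ZMod 2} {f0 : U →+ ZMod 2}

/-- claim 1: the transvections with centre `ζ γ` kill `V_12` -/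
theorem claim1 (s : Sit H ζ γ f0) : ∀ f ∈ FF H (ζ γ), bt ζ f = 0 := by
  intro f hf
  by_contra hb0
  have hγ : γ ≠ 0 := by
    rintro rfl
    obtain ⟨i, hi⟩ := s.i0
    exact absurd hi (by simp)
  have h1 : f (ζ 1) = 0 := s.one (s.kk_self _) hf
  have hb1 : dt (bt ζ f) 1 = 0 := by rw [← f_zeta, h1]
  obtain ⟨hc, i, j, hij, hb⟩ := (s.alt hγ hf h1).resolve_left hb0
  obtain ⟨δ, hδ⟩ : ∃ δ, γ = cv Λ δ i j := by
    rcases hc with h | h
    · exact ⟨0, by rw [h, hb, cv, zero_smul, add_zero]⟩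
    · exact ⟨1, by rw [h, hb, cv, one_smul]⟩
  subst hδ
  -- all the `cv k l`
  have hmv : ∀ k l, k ≠ l → ∃ σ : Equiv.Perm Λ, σ k = i ∧ σ l = j ∧ cv Λ δ i j ∘ σ = cv Λ δ k l := by
    intro k l hkl
    obtain ⟨σ, s1, s2⟩ := ex_perm hij hkl
    refine ⟨σ, s1, s2, ?_⟩
    rw [cv_comp, ← s1, ← s2, Equiv.symm_apply_apply, Equiv.symm_apply_apply]
  have hK : ∀ k l, k ≠ l → ζ (cv Λ δ k l) ∈ KK H (ζ (cv Λ δ i j)) := by
    intro k l hkl
    obtain ⟨σ, _, _, h3⟩ := hmv k l hkl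
    rw [← h3]
    exact s.ss σ
  have hadj : ∀ k l m, k ≠ l → l ≠ m → k ≠ m →
      Adj (FF H) (ζ (cv Λ δ k l)) (ζ (cv Λ δ l m)) := by
    intro k l m hkl hlm hkm
    obtain ⟨σ, s1, s2, h3⟩ := hmv k l hkl
    obtain ⟨h, hh, t1, t2⟩ := s.tp σ
    refine ⟨cj h f, ?_, ?_⟩
    · have := s.ff_cj hf hh
      rwa [t1, h3] at this
    · rw [cj_app, t2, f_zeta, cv_comp, Equiv.symm_symm, dt_cv _ hb1, hb, s2]
      have n1 : σ m ≠ j := fun h' => hlm (σ.injective (s2.trans h'.symm))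
      have n2 : σ m ≠ i := fun h' => hkm (σ.injective (s1.trans h'.symm))
      rw [Pi.add_apply, Pi.add_apply, Pi.single_eq_same, Pi.single_eq_of_ne hij.symm,
        Pi.single_eq_of_ne n1, Pi.single_eq_of_ne n2]
      decide
  have hne : ∀ k l, k ≠ l → cv Λ δ k l ≠ 0 := by
    intro k l hkl h
    have := s.kne (hK k l hkl)
    rw [h, map_zero] at this
    exact this rfl
  have hnon : ∀ k l m n, k ≠ l → m ≠ n → k ≠ m → k ≠ n → l ≠ m → l ≠ n →
      ¬ Adj (FF H) (ζ (cv Λ δ k l)) (ζ (cv Λ δ m n)) := by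
    rintro k l m n hkl hmn hkm hkn hlm hln ⟨g, hg, hg1⟩
    have g1 := s.one (hK k l hkl) hg
    have gb : dt (bt ζ g) 1 = 0 := by rw [← f_zeta, g1]
    have vm : cv Λ δ k l m = δ := by
      simp [cv, Pi.single_eq_of_ne hkm.symm, Pi.single_eq_of_ne hlm.symm]
    have vn : cv Λ δ k l n = δ := by
      simp [cv, Pi.single_eq_of_ne hkn.symm, Pi.single_eq_of_ne hln.symm]
    rw [f_zeta, dt_cv _ gb] at hg1
    rcases s.alt (hne k l hkl) hg g1 with h | ⟨h, -⟩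
    · rw [h] at hg1
      exact absurd hg1 (by simp)
    · rcases h with h | h
      · rw [← h, vm, vn, z2_add] at hg1
        exact absurd hg1 (by decide)
      · have h2 := congrFun h m
        have h3 := congrFun h n
        rw [vm, Pi.add_apply, Pi.one_apply] at h2
        rw [vn, h2, Pi.add_apply, Pi.one_apply] at h3
        rw [add_right_cancel h3, z2_add] at hg1
        exact absurd hg1 (by decide)
  have S := s.sys (ζ (cv Λ δ i j))
  have k0 : ∀ x, f0 (ζ x) = 0 := fun x => by rw [f_zeta, s.kill, zero_dt]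
  have step : ∀ k l m, k ≠ l → l ≠ m → k ≠ m → f0 ∈ FF H (ζ (cv Λ δ k l)) →
      f0 ∈ FF H (ζ (cv Λ δ l m)) := by
    intro k l m h1 h2 h3 h4
    exact S.le (hK l m h2) (hK k l h1) (S.sym (hK k l h1) (hK l m h2) (hadj k l m h1 h2 h3)) h4
      (k0 _)
  have hall : ∀ k l, k ≠ l → f0 ∈ FF H (ζ (cv Λ δ k l)) := by
    have hi : ∀ k, k ≠ i → f0 ∈ FF H (ζ (cv Λ δ i k)) := by
      intro k hk
      by_cases hj : k = j
      · subst hj; exact s.mem
      · refine step j i k hij.symm hk.symm (Ne.symm hj) ?_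
        rw [cv_comm]; exact s.mem
    intro k l hkl
    by_cases h1 : k = i
    · subst h1; exact hi l hkl.symm
    by_cases h2 : l = i
    · subst h2; rw [cv_comm]; exact hi k h1
    exact step i k l (Ne.symm h1) hkl (Ne.symm h2) (hi k h1)
  obtain ⟨d, hd, hfd⟩ := s.exd (k0 1) s.ne
  have h7 := s.seven
  obtain ⟨a0, -⟩ := ex_not ([] : List Λ) (by simp; omega)
  obtain ⟨a1, n1⟩ := ex_not [a0] (by simp; omega)
  obtain ⟨a2, n2⟩ := ex_not [a0, a1] (by simp; omega)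
  obtain ⟨a3, n3⟩ := ex_not [a0, a1, a2] (by simp; omega)
  obtain ⟨a4, n4⟩ := ex_not [a0, a1, a2, a3] (by simp; omega)
  simp only [List.mem_cons, List.not_mem_nil, or_false, forall_eq_or_imp, forall_eq] at n1 n2 n3 n4
  have A : ∀ k l, k ≠ l → Adj (FF H) (ζ (cv Λ δ k l)) d := fun k l h => ⟨f0, hall k l h, hfd⟩
  have key : ∀ g ∈ FF H d, g (ζ (cv Λ δ a3 a4)) = 0 := by
    intro g hg
    have e1 := S.nonadj (hK a0 a1 n1.symm) (hK a2 a3 n3.2.2.symm) hd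
      (hnon a0 a1 a2 a3 n1.symm n3.2.2.symm n2.1.symm n3.1.symm n2.2.symm n3.2.1.symm)
      (A _ _ n1.symm) (A _ _ n3.2.2.symm) hg
    have e2 := S.nonadj (hK a0 a1 n1.symm) (hK a2 a4 n4.2.2.1.symm) hd
      (hnon a0 a1 a2 a4 n1.symm n4.2.2.1.symm n2.1.symm n4.1.symm n2.2.symm n4.2.1.symm)
      (A _ _ n1.symm) (A _ _ n4.2.2.1.symm) hg
    have g1 := s.one hd hg
    have gb : dt (bt ζ g) 1 = 0 := by rw [← f_zeta, g1]
    rw [map_add, f_zeta, f_zeta, dt_cv _ gb, dt_cv _ gb] at e1 e2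
    rw [f_zeta, dt_cv _ gb]
    rcases z2 (bt ζ g a0) with h0 | h0 <;> rcases z2 (bt ζ g a1) with h1 | h1 <;>
      rcases z2 (bt ζ g a2) with h2 | h2 <;> rcases z2 (bt ζ g a3) with h3 | h3 <;>
      rcases z2 (bt ζ g a4) with h4 | h4 <;> rw [h0, h1, h2, h3] at e1 <;>
      rw [h0, h1, h2, h4] at e2 <;> rw [h3, h4] <;> revert e1 e2 <;> decide
  obtain ⟨g, hg, hg1⟩ := S.sym (hK _ _ n4.2.2.2.symm) hd (A _ _ n4.2.2.2.symm)
  rw [key g hg] at hg1
  exact absurd hg1 (by decide)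

/-- claim 1 for the conjugates of `γ` -/
theorem claim1' (s : Sit H ζ γ f0) (σ : Equiv.Perm Λ) :
    ∀ f ∈ FF H (ζ (γ ∘ σ)), ∀ x, f (ζ x) = 0 := by
  intro f hf x
  obtain ⟨h, hh, t1, t2⟩ := s.tp σ
  have h1 : cj h.symm f ∈ FF H (ζ γ) := by
    have h2 := s.ff_cj hf (s.sm h hh)
    rw [t2] at h2
    have h3 : (γ ∘ σ) ∘ σ.symm = γ := by funext k; simp
    rwa [h3] at h2
  have h2 := s.claim1 _ h1
  have h3 := f_zeta ζ (cj h.symm f) (x ∘ σ.symm)
  have h4 : (x ∘ σ.symm) ∘ σ = x := by funext k; simp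
  rwa [h2, zero_dt, cj_app, AddEquiv.symm_symm, t1, h4] at h3

/-- members of `SS` are not adjacent -/
theorem nad (s : Sit H ζ γ f0) (σ σ' : Equiv.Perm Λ) : ¬ Adj (FF H) (ζ (γ ∘ σ)) (ζ (γ ∘ σ')) := by
  rintro ⟨f, hf, h1⟩
  rw [s.claim1' σ f hf] at h1
  exact absurd h1 (by decide)

/-- claim 2 -/
theorem claim2 (s : Sit H ζ γ f0) {d : U} (hd : d ∈ KK H (ζ γ)) {g g' : U →+ ZMod 2}
    (hg : g ∈ FF H d) (hg' : g' ∈ FF H d) (h : bt ζ g ≠ 0) (h' : bt ζ g' ≠ 0) :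
    bt ζ g = bt ζ g' := by
  have S := s.sys (ζ γ)
  have key : ∀ g ∈ FF H d, ∀ g' ∈ FF H d, bt ζ g' ≠ 0 → ∀ σ : Equiv.Perm Λ,
      g (ζ (γ ∘ σ)) = 1 → g' (ζ (γ ∘ σ)) = 1 := by
    intro g hg g' hg' h' σ h1
    obtain ⟨τ, hτ⟩ : ∃ τ : Equiv.Perm Λ, g' (ζ (γ ∘ τ)) = 1 := by
      by_contra hc
      push Not at hc
      exact h' (s.sp (fun τ => z2_zero (hc τ)) (s.one hd hg'))
    have a1 := S.sym hd (s.ss σ) ⟨g, hg, h1⟩
    have a2 := S.sym hd (s.ss τ) ⟨g', hg', hτ⟩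
    have a3 := S.nonadj (s.ss σ) (s.ss τ) hd (s.nad σ τ) a1 a2 hg'
    rw [map_add, hτ] at a3
    rcases z2 (g' (ζ (γ ∘ σ))) with h2 | h2
    · rw [h2] at a3; exact absurd a3 (by decide)
    · exact h2
  have h3 : bt ζ (g + g') = 0 := by
    refine s.sp (fun σ => ?_) ?_
    · rw [AddMonoidHom.add_apply]
      rcases z2 (g (ζ (γ ∘ σ))) with h1 | h1
      · rcases z2 (g' (ζ (γ ∘ σ))) with h2 | h2
        · rw [h1, h2, add_zero]
        · rw [key g' hg' g hg h σ h2] at h1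
          exact absurd h1 (by decide)
      · rw [h1, key g hg g' hg' h' σ h1]; decide
    · rw [AddMonoidHom.add_apply, s.one hd hg, s.one hd hg', add_zero]
  rw [bt_add] at h3
  funext k
  have h4 := congrFun h3 k
  rw [Pi.add_apply, Pi.zero_apply] at h4
  rcases z2 (bt ζ g k) with h1 | h1 <;> rcases z2 (bt ζ g' k) with h2 | h2 <;>
    rw [h1, h2] at h4 ⊢ <;> exact absurd h4 (by decide)

/-- adjacency of `d` with the members of `SS` -/
theorem adj_iff (s : Sit H ζ γ f0) {d : U} (hd : d ∈ KK H (ζ γ)) {g : U →+ ZMod 2}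
    (hg : g ∈ FF H d) (h : bt ζ g ≠ 0) (σ : Equiv.Perm Λ) :
    Adj (FF H) (ζ (γ ∘ σ)) d ↔ dt (bt ζ g) (γ ∘ σ) = 1 := by
  have S := s.sys (ζ γ)
  constructor
  · intro h1
    obtain ⟨g', hg', h2⟩ := S.sym (s.ss σ) hd h1
    have h3 : bt ζ g' ≠ 0 := by
      intro h3
      rw [f_zeta, h3, zero_dt] at h2
      exact absurd h2 (by decide)
    rw [s.claim2 hd hg hg' h h3, ← f_zeta, h2]
  · intro h1
    rw [← f_zeta] at h1
    exact S.sym hd (s.ss σ) ⟨g, hg, h1⟩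

/-- there is a `d` with `b_d ≠ 0` -/
theorem exb (s : Sit H ζ γ f0) : ∃ d ∈ KK H (ζ γ), ∃ g ∈ FF H d, bt ζ g ≠ 0 := by
  obtain ⟨d, hd, h1⟩ := s.exd (by rw [f_zeta, s.kill, zero_dt]) s.ne
  obtain ⟨g, hg, h2⟩ := (s.sys (ζ γ)).sym (s.kk_self _) hd ⟨f0, s.mem, h1⟩
  refine ⟨d, hd, g, hg, fun h3 => ?_⟩
  rw [f_zeta, h3, zero_dt] at h2
  exact absurd h2 (by decide)

/-- the kill lemma -/
theorem kl (s : Sit H ζ γ f0) {d : U} (hd : d ∈ KK H (ζ γ)) {g : U →+ ZMod 2}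
    (hg : g ∈ FF H d) (h : bt ζ g ≠ 0) {σ τ : Equiv.Perm Λ} (hne : γ ∘ σ ≠ γ ∘ τ)
    (h1 : dt (bt ζ g) (γ ∘ σ) = 1) (h2 : dt (bt ζ g) (γ ∘ τ) = 1) :
    (γ ∘ σ + γ ∘ τ = bt ζ g ∨ γ ∘ σ + γ ∘ τ = bt ζ g + 1) ∧
      ∃ i j, i ≠ j ∧ bt ζ g = Pi.single i 1 + Pi.single j 1 := by
  obtain ⟨f, hf, fd⟩ := (s.adj_iff hd hg h σ).2 h1
  obtain ⟨f', hf', fd'⟩ := (s.adj_iff hd hg h τ).2 h2
  have k1 : d + ζ (γ ∘ σ) ∈ KK H (ζ γ) := s.move hd hf fd
  have g1 : g + f ∈ FF H (d + ζ (γ ∘ σ)) := s.move_ff hf fd hg (by rw [f_zeta, h1])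
  have e1 : f' (d + ζ (γ ∘ σ)) = 1 := by rw [map_add, s.claim1' τ f' hf', add_zero, fd']
  have g2 : g + f + f' ∈ FF H (d + ζ (γ ∘ σ) + ζ (γ ∘ τ)) := s.move_ff hf' e1 g1 (by
    rw [AddMonoidHom.add_apply, s.claim1' σ f hf, add_zero, f_zeta, h2])
  obtain ⟨gd, t, ht, ht1⟩ := hg
  obtain ⟨-, t', ht', ht1'⟩ := g2
  have hc : γ ∘ σ + γ ∘ τ ≠ 0 := by
    intro h0
    apply hne
    funext k
    have h4 := congrFun h0 k
    rw [Pi.add_apply, Pi.zero_apply] at h4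
    rcases z2 ((γ ∘ σ) k) with h1 | h1 <;> rcases z2 ((γ ∘ τ) k) with h2 | h2 <;>
      rw [h1, h2] at h4 ⊢ <;> exact absurd h4 (by decide)
  refine (s.oneb _ (s.tr t ht t' ht') (bt ζ g) (γ ∘ σ + γ ∘ τ) ?_ hc fun x => ?_).resolve_left h
  · rw [← dt_one, ← f_zeta, s.one hd ⟨gd, t, ht, ht1⟩]
  · have e2 : (g + f + f') (ζ x + g (ζ x) • d) = g (ζ x) := by
      rw [map_add, f_sm, AddMonoidHom.add_apply, AddMonoidHom.add_apply, AddMonoidHom.add_apply,
        AddMonoidHom.add_apply, s.claim1' σ f hf, s.claim1' τ f' hf', gd, fd, fd']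
      have : (0 : ZMod 2) + 1 + 1 = 0 := by decide
      rw [this, mul_zero, add_zero, add_zero, add_zero]
    rw [AddEquiv.trans_apply, ht1, ht1', e2, f_zeta]
    rcases z2 (dt (bt ζ g) x) with h3 | h3 <;> rw [h3]
    · simp
    · rw [one_smul, one_smul, one_smul, map_add, map_add, add_assoc d, ← add_assoc (ζ x + d),
        add_assoc (ζ x) d d, two, add_zero]

/-- two elements of `b` on which `γ ∘ σ` takes different values -/
theorem two_vals {b x : Λ → ZMod 2} (hb : dt b 1 = 0) (hx : dt b x = 1) :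
    ∃ k l, b k = 1 ∧ b l = 1 ∧ x k = 1 ∧ x l = 0 := by
  by_contra hc
  push Not at hc
  by_cases h1 : ∃ k, b k = 1 ∧ x k = 1
  · obtain ⟨k, hk, hk'⟩ := h1
    have h2 : ∀ l, b l * x l = b l * 1 := by
      intro l
      rcases z2 (b l) with h | h
      · rw [h, zero_mul, zero_mul]
      · rw [z2_one (hc k l hk h hk')]
    unfold dt at hb hx
    rw [Finset.sum_congr rfl fun l _ => h2 l] at hx
    have h3 : ∑ k, b k * (1 : Λ → ZMod 2) k = ∑ k, b k * 1 := rfl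
    rw [h3, hx] at hb
    exact absurd hb (by decide)
  · push Not at h1
    have h2 : ∀ l, b l * x l = 0 := by
      intro l
      rcases z2 (b l) with h | h
      · rw [h, zero_mul]
      · rw [z2_zero (h1 l h), mul_zero]
    unfold dt at hx
    rw [Finset.sum_congr rfl fun l _ => h2 l, Finset.sum_const_zero] at hx
    exact absurd hx (by decide)

/-- the nonzero `b_d` are pairs -/
theorem pair (s : Sit H ζ γ f0) {d : U} (hd : d ∈ KK H (ζ γ)) {g : U →+ ZMod 2}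
    (hg : g ∈ FF H d) (h : bt ζ g ≠ 0) :
    ∃ i j, i ≠ j ∧ bt ζ g = Pi.single i 1 + Pi.single j 1 := by
  have hb1 : dt (bt ζ g) 1 = 0 := by rw [← f_zeta, s.one hd hg]
  obtain ⟨σ, hσ⟩ : ∃ σ : Equiv.Perm Λ, g (ζ (γ ∘ σ)) = 1 := by
    by_contra hc
    push Not at hc
    exact h (s.sp (fun σ => z2_zero (hc σ)) (s.one hd hg))
  rw [f_zeta] at hσ
  obtain ⟨k, l, bk, bl, xk, xl⟩ := two_vals hb1 hσ
  have e : γ ∘ ((Equiv.swap k l).trans σ) = (γ ∘ σ) ∘ Equiv.swap k l := rfl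
  refine (s.kl hd hg h (σ := σ) (τ := (Equiv.swap k l).trans σ) ?_ hσ ?_).2
  · rw [e]
    intro h0
    have := congrFun h0 k
    rw [Function.comp_apply (f := γ ∘ σ), Equiv.swap_apply_left, xk, xl] at this
    exact absurd this (by decide)
  · rw [e, swp xk xl, dt_add, hσ, dt_add, dt_single, dt_single, bk, bl]
    decide

/-- **TL0**: a transvection group with a member killing `V_12` has a centre `v` or `v + r_12`,
`v` a point -/
theorem tl0 (s : Sit H ζ γ f0) {a : Fin 4 → Λ} (ha : Function.Injective a) (h0 : γ (a 0) = 1)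
    (h1 : γ (a 1) = 0) (h2 : γ (a 2) = 1) (h3 : γ (a 3) = 0) : False := by
  obtain ⟨d, hd, g, hg, hb⟩ := s.exb
  obtain ⟨i, j, hij, hbe⟩ := s.pair hd hg hb
  have h7 := s.seven
  obtain ⟨k, hk⟩ := ex_not [i, j] (by simp; omega)
  obtain ⟨l, hl⟩ := ex_not [i, j, k] (by simp; omega)
  obtain ⟨m, hm⟩ := ex_not [i, j, k, l] (by simp; omega)
  simp only [List.mem_cons, List.not_mem_nil, or_false, forall_eq_or_imp, forall_eq] at hk hl hm
  obtain ⟨σ, hσ⟩ := ex_perm4 (a := ![i, j, k, l]) (b := a) (by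
    intro x y hxy
    fin_cases x <;> fin_cases y <;> simp_all) ha
  have s0 : (γ ∘ σ) i = 1 := by
    have := hσ 0
    simp only [Matrix.cons_val_zero] at this
    rw [Function.comp_apply, this, h0]
  have s1 : (γ ∘ σ) j = 0 := by
    have := hσ 1
    simp only [Matrix.cons_val_one, Matrix.cons_val_zero] at this
    rw [Function.comp_apply, this, h1]
  have s2 : (γ ∘ σ) k = 1 := by
    have : σ k = a 2 := hσ 2
    rw [Function.comp_apply, this, h2]
  have s3 : (γ ∘ σ) l = 0 := by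
    have : σ l = a 3 := hσ 3
    rw [Function.comp_apply, this, h3]
  have e : γ ∘ ((Equiv.swap k l).trans σ) = (γ ∘ σ) ∘ Equiv.swap k l := rfl
  have bk : ∀ m, m ≠ i → m ≠ j → bt ζ g m = 0 := by
    intro m h1 h2
    rw [hbe, Pi.add_apply, Pi.single_eq_of_ne h1, Pi.single_eq_of_ne h2, add_zero]
  have b1 : dt (bt ζ g) (γ ∘ σ) = 1 := by
    rw [hbe, add_dt, single_dt, single_dt, s0, s1, add_zero]
  have b2 : dt (bt ζ g) (γ ∘ ((Equiv.swap k l).trans σ)) = 1 := by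
    rw [e, swp s2 s3, dt_add, b1, dt_add, dt_single, dt_single, bk k hk.1 hk.2,
      bk l hl.1 hl.2.1]
    decide
  have hne : γ ∘ σ ≠ γ ∘ ((Equiv.swap k l).trans σ) := by
    rw [e]
    intro h0
    have := congrFun h0 k
    rw [Function.comp_apply (f := γ ∘ σ), Equiv.swap_apply_left, s2, s3] at this
    exact absurd this (by decide)
  have h4 := (s.kl hd hg hb hne b1 b2).1
  have h5 : γ ∘ σ + γ ∘ ((Equiv.swap k l).trans σ) = Pi.single k 1 + Pi.single l 1 := by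
    rw [e, swp s2 s3]
    funext m
    simp only [Pi.add_apply]
    rw [← add_assoc, z2_add, zero_add]
  rw [h5] at h4
  rcases h4 with h4 | h4
  · have := congrFun h4 k
    rw [bk k hk.1 hk.2, Pi.add_apply, Pi.single_eq_same, Pi.single_eq_of_ne hl.2.2.symm] at this
    exact absurd this (by decide)
  · have := congrFun h4 m
    rw [Pi.add_apply, Pi.add_apply, bk m hm.1 hm.2.1, Pi.single_eq_of_ne hm.2.2.1,
      Pi.single_eq_of_ne hm.2.2.2, Pi.one_apply] at this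
    exact absurd this (by decide)

end Sit

/-- the vector `e_p + δ` -/
def pv (Λ : Type*) [DecidableEq Λ] (δ : ZMod 2) (p : Λ) : Λ → ZMod 2 := Pi.single p 1 + δ • 1

theorem dt_pv (b : Λ → ZMod 2) (hb : dt b 1 = 0) (δ : ZMod 2) (p : Λ) : dt b (pv Λ δ p) = b p := by
  have h : dt b (δ • 1) = 0 := by
    rcases z2 δ with h | h <;> rw [h]
    · rw [zero_smul, dt_zero]
    · rw [one_smul, hb]
  rw [pv, dt_add, dt_single, h, add_zero]

theorem pv_comp (δ : ZMod 2) (p : Λ) (σ : Equiv.Perm Λ) : pv Λ δ p ∘ σ = pv Λ δ (σ.symm p) := by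
  have h : ∀ k : Λ, (Pi.single k 1 : Λ → ZMod 2) ∘ σ = Pi.single (σ.symm k) 1 := fun k =>
    Pi.single_comp_equiv σ k 1
  funext m
  have h1 := congrFun (h p) m
  simp only [Function.comp_apply] at h1
  simp only [pv, Function.comp_apply, Pi.add_apply, Pi.smul_apply, Pi.one_apply, h1]

/-- the result of TL -/
structure Frm (H : Set (U ≃+ U)) (ζ : (Λ → ZMod 2) →+ U) (c : U) (B : U →+ U →+ ZMod 2) : Prop where
  mem : ∀ d ∈ KK H c, B d ∈ FF H d
  ne : ∀ d ∈ KK H c, B d ≠ 0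
  symm : ∀ u v, B u v = B v u
  alt : ∀ u, B u u = 0
  inv : ∀ h ∈ H, ∀ u v, B (h u) (h v) = B u v
  iso : ∀ x y, B (ζ x) (ζ y) = 0

namespace Sit

variable {H : Set (U ≃+ U)} {ζ : (Λ → ZMod 2) →+ U} {γ : Λ → ZMod 2} {f0 : U →+ ZMod 2}

theorem points (s : Sit H ζ γ f0) : ∃ δ p, γ = pv Λ δ p := by
  obtain ⟨i, hi⟩ := s.i0
  obtain ⟨j, hj⟩ := s.j0
  have hij : i ≠ j := by rintro rfl; rw [hi] at hj; exact absurd hj (by decide)
  by_cases hA : ∀ k, γ k = 1 → k = i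
  · refine ⟨0, i, ?_⟩
    funext k
    rw [pv, zero_smul, add_zero]
    by_cases hk : k = i
    · subst hk; rw [hi, Pi.single_eq_same]
    · rw [Pi.single_eq_of_ne hk, z2_zero fun h => hk (hA k h)]
  by_cases hB : ∀ l, γ l = 0 → l = j
  · refine ⟨1, j, ?_⟩
    funext k
    rw [pv, one_smul, Pi.add_apply, Pi.one_apply]
    by_cases hk : k = j
    · subst hk; rw [hj, Pi.single_eq_same]; decide
    · rw [Pi.single_eq_of_ne hk, zero_add, z2_one fun h => hk (hB k h)]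
  exfalso
  push Not at hA hB
  obtain ⟨k, hk, hki⟩ := hA
  obtain ⟨l, hl, hlj⟩ := hB
  have e : ∀ x y, γ x = 1 → γ y = 0 → x ≠ y := by
    rintro x y h1 h2 rfl
    rw [h1] at h2
    exact absurd h2 (by decide)
  have e1 := e i l hi hl
  have e2 := e k j hk hj
  have e3 := e k l hk hl
  refine s.tl0 (a := ![i, j, k, l]) ?_ hi hj hk hl
  intro x y hxy
  fin_cases x <;> fin_cases y <;> simp_all

variable {δ : ZMod 2} {p : Λ}

theorem ck (s : Sit H ζ (pv Λ δ p) f0) (k : Λ) : ζ (pv Λ δ k) ∈ KK H (ζ (pv Λ δ p)) := by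
  have h := s.ss (Equiv.swap p k)
  rwa [pv_comp, Equiv.symm_swap, Equiv.swap_apply_left] at h

theorem sck (s : Sit H ζ (pv Λ δ p) f0) (k : Λ) {f : U →+ ZMod 2} (hf : f ∈ FF H (ζ (pv Λ δ k)))
    (x : Λ → ZMod 2) : f (ζ x) = 0 := by
  have h := s.claim1' (Equiv.swap p k) f
  rw [pv_comp, Equiv.symm_swap, Equiv.swap_apply_left] at h
  exact h hf x

theorem adj_pt (s : Sit H ζ (pv Λ δ p) f0) {d : U} (hd : d ∈ KK H (ζ (pv Λ δ p)))
    {g : U →+ ZMod 2} (hg : g ∈ FF H d) (h : bt ζ g ≠ 0) (k : Λ) :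
    Adj (FF H) (ζ (pv Λ δ k)) d ↔ bt ζ g k = 1 := by
  have h1 := s.adj_iff hd hg h (Equiv.swap p k)
  rwa [pv_comp, Equiv.symm_swap, Equiv.swap_apply_left, dt_pv] at h1
  rw [← f_zeta, s.one hd hg]

/-- all pairs occur -/
theorem all_pairs (s : Sit H ζ (pv Λ δ p) f0) {i j : Λ} (hij : i ≠ j) :
    ∃ d ∈ KK H (ζ (pv Λ δ p)), ∃ g ∈ FF H d, bt ζ g = Pi.single i 1 + Pi.single j 1 := by
  obtain ⟨d, hd, g, hg, hb⟩ := s.exb
  obtain ⟨k, l, hkl, hbe⟩ := s.pair hd hg hb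
  obtain ⟨σ, s1, s2⟩ := ex_perm hkl hij
  obtain ⟨h, hh, t1, t2⟩ := s.tp σ
  refine ⟨h d, s.kk_mv hd hh, _, s.ff_cj hg hh, ?_⟩
  funext m
  have e : ∀ k : Λ, (Pi.single k 1 : Λ → ZMod 2) ∘ σ.symm = Pi.single (σ k) 1 := fun k =>
    Pi.single_comp_equiv σ.symm k 1
  change cj h g (ζ (Pi.single m 1)) = _
  rw [cj_app, t2, e, f_zeta, hbe, add_dt, single_dt, single_dt, Pi.add_apply]
  have e2 : ∀ x y : Λ, (Pi.single (σ x) 1 : Λ → ZMod 2) (σ y) = (Pi.single y 1 : Λ → ZMod 2) x := by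
    intro x y
    by_cases h : x = y
    · subst h; rw [Pi.single_eq_same, Pi.single_eq_same]
    · rw [Pi.single_eq_of_ne h, Pi.single_eq_of_ne fun h' => h (σ.injective h').symm]
  rw [← s1, ← s2, e2, e2]

theorem inter (s : Sit H ζ (pv Λ δ p) f0) {k l : Λ} (hkl : k ≠ l) {f : U →+ ZMod 2}
    (h1 : f ∈ FF H (ζ (pv Λ δ k))) (h2 : f ∈ FF H (ζ (pv Λ δ l))) : f = 0 := by
  by_contra hne
  have S := s.sys (ζ (pv Λ δ p))
  obtain ⟨d, hd, hfd⟩ := s.exd (s.sck k h1 1) hne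
  have ak : Adj (FF H) (ζ (pv Λ δ k)) d := ⟨f, h1, hfd⟩
  have al : Adj (FF H) (ζ (pv Λ δ l)) d := ⟨f, h2, hfd⟩
  have key : ∀ g ∈ FF H (ζ (pv Λ δ k)), g d = 0 → g ∈ FF H (ζ (pv Λ δ l)) := by
    intro g hg hgd
    have h3 : g ∈ FF H d := S.le hd (s.ck k) (S.sym (s.ck k) hd ak) hg hgd
    exact S.le (s.ck l) hd al h3 (s.sck k hg _)
  have key2 : ∀ g ∈ FF H (ζ (pv Λ δ k)), g ∈ FF H (ζ (pv Λ δ l)) := by
    intro g hg
    rcases z2 (g d) with h | h
    · exact key g hg h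
    · have h3 := key (g + f) (s.ff_add hg h1) (by rw [AddMonoidHom.add_apply, h, hfd]; decide)
      have h4 := s.ff_add h3 h2
      have h5 : g + f + f = g := by
        ext u
        rw [AddMonoidHom.add_apply, AddMonoidHom.add_apply, add_assoc, z2_add, add_zero]
      rwa [h5] at h4
  have h7 := s.seven
  obtain ⟨m, hm⟩ := ex_not [k, l] (by simp; omega)
  simp only [List.mem_cons, List.not_mem_nil, or_false, forall_eq_or_imp, forall_eq] at hm
  obtain ⟨d', hd', g, hg, hb⟩ := s.all_pairs hm.1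
  have hb0 : bt ζ g ≠ 0 := by
    intro h
    rw [h] at hb
    have := congrFun hb m
    rw [Pi.add_apply, Pi.single_eq_same, Pi.single_eq_of_ne hm.1] at this
    exact absurd this (by simp)
  obtain ⟨f', hf', h3⟩ := (s.adj_pt hd' hg hb0 k).2 (by
    rw [hb, Pi.add_apply, Pi.single_eq_same, Pi.single_eq_of_ne hm.1.symm, zero_add])
  have h4 := (s.adj_pt hd' hg hb0 l).1 ⟨f', key2 f' hf', h3⟩
  rw [hb, Pi.add_apply, Pi.single_eq_of_ne hm.2.symm, Pi.single_eq_of_ne hkl.symm] at h4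
  exact absurd h4 (by decide)

theorem uniq (s : Sit H ζ (pv Λ δ p) f0) {f f' : U →+ ZMod 2}
    (h1 : f ∈ FF H (ζ (pv Λ δ p))) (h2 : f' ∈ FF H (ζ (pv Λ δ p))) (hf : f ≠ 0) (hf' : f' ≠ 0) :
    f = f' := by
  have S := s.sys (ζ (pv Λ δ p))
  have h7 := s.seven
  obtain ⟨l, hl⟩ := ex_not [p] (by simp; omega)
  simp only [List.mem_cons, List.not_mem_nil, or_false, forall_eq] at hl
  obtain ⟨d, hd, g, hg, hb⟩ := s.all_pairs hl
  have hb0 : bt ζ g ≠ 0 := by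
    intro h
    rw [h] at hb
    have := congrFun hb l
    rw [Pi.add_apply, Pi.single_eq_same, Pi.single_eq_of_ne hl] at this
    exact absurd this (by simp)
  have ap := (s.adj_pt hd hg hb0 p).2 (by
    rw [hb, Pi.add_apply, Pi.single_eq_same, Pi.single_eq_of_ne hl.symm, zero_add])
  have al := (s.adj_pt hd hg hb0 l).2 (by
    rw [hb, Pi.add_apply, Pi.single_eq_same, Pi.single_eq_of_ne hl, add_zero])
  have key : ∀ g ∈ FF H (ζ (pv Λ δ p)), g d = 0 → g = 0 := by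
    intro g hg hgd
    have h3 : g ∈ FF H d := S.le hd (s.ck p) (S.sym (s.ck p) hd ap) hg hgd
    exact s.inter hl.symm hg (S.le (s.ck l) hd al h3 (s.sck p hg _))
  have e1 := z2_one fun h => hf (key f h1 h)
  have e2 := z2_one fun h => hf' (key f' h2 h)
  have e3 := key (f + f') (s.ff_add h1 h2) (by rw [AddMonoidHom.add_apply, e1, e2]; decide)
  ext u
  have e4 := DFunLike.congr_fun e3 u
  rw [AddMonoidHom.add_apply, AddMonoidHom.zero_apply] at e4
  rcases z2 (f u) with h1 | h1 <;> rcases z2 (f' u) with h2 | h2 <;>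
    rw [h1, h2] at e4 ⊢ <;> exact absurd e4 (by decide)

theorem uniq' (s : Sit H ζ (pv Λ δ p) f0) {d : U} (hd : d ∈ KK H (ζ (pv Λ δ p)))
    {f f' : U →+ ZMod 2} (h1 : f ∈ FF H d) (h2 : f' ∈ FF H d) (hf : f ≠ 0) (hf' : f' ≠ 0) :
    f = f' := by
  obtain ⟨h, hh, rfl⟩ := hd
  have e1 := s.ff_cj h1 (s.sm h hh)
  have e2 := s.ff_cj h2 (s.sm h hh)
  rw [AddEquiv.symm_apply_apply] at e1 e2
  have z : ∀ f : U →+ ZMod 2, f ≠ 0 → cj h.symm f ≠ 0 := by
    intro f hf h0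
    exact hf (Dat.cj_inj h.symm (h0.trans (by ext u; rfl)))
  exact Dat.cj_inj h.symm (s.uniq e1 e2 (z f hf) (z f' hf'))

theorem ex_ne (s : Sit H ζ (pv Λ δ p) f0) {d : U} (hd : d ∈ KK H (ζ (pv Λ δ p))) :
    ∃ f ∈ FF H d, f ≠ 0 := by
  obtain ⟨h, hh, rfl⟩ := hd
  refine ⟨_, s.ff_cj s.mem hh, fun h0 => s.ne (Dat.cj_inj h (h0.trans (by ext u; rfl)))⟩

/-- induction: `K` and `ζ 1` generate `U` -/
theorem ind (s : Sit H ζ (pv Λ δ p) f0) {P : U → Prop} (h0 : P 0)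
    (hadd : ∀ u v, P u → P v → P (u + v)) (hK : ∀ d ∈ KK H (ζ (pv Λ δ p)), P d)
    (h1 : P (ζ 1)) (u : U) : P u := by
  have key : ∀ h ∈ H, ∀ x, P (h (ζ x)) := by
    intro h hh x
    have e : x = ∑ k, Pi.single k (x k) := (Finset.univ_sum_single x).symm
    rw [e, map_sum, map_sum]
    refine Finset.sum_induction _ P hadd h0 fun k _ => ?_
    rcases z2 (x k) with hx | hx <;> rw [hx]
    · rw [Pi.single_zero, map_zero, map_zero]; exact h0
    · have e1 : (Pi.single k 1 : Λ → ZMod 2) = pv Λ δ k + δ • 1 := by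
        rw [pv, add_assoc, ← add_smul, z2_add, zero_smul, add_zero]
      rw [e1, map_add, map_add]
      refine hadd _ _ (hK _ (s.kk_mv (s.ck k) hh)) ?_
      rcases z2 δ with hx | hx <;> rw [hx]
      · rw [zero_smul, map_zero, map_zero]; exact h0
      · rw [one_smul, s.fix h hh]; exact h1
  refine AddSubgroup.closure_induction ?_ h0 (fun a b _ _ ha hb => hadd a b ha hb) ?_ (s.gen u)
  · rintro _ ⟨a, ha, x, rfl⟩
    exact key a ha x
  · intro a _ ha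
    rwa [neg_eq_of_add_eq_zero_left (two a)]

/-- **TL** -/
theorem frm (s : Sit H ζ (pv Λ δ p) f0) :
    ∃ B : U →+ U →+ ZMod 2, Frm H ζ (ζ (pv Λ δ p)) B := by
  have S := s.sys (ζ (pv Λ δ p))
  have ex : ∀ u, ∃ φ : U →+ ZMod 2, (∀ d ∈ KK H (ζ (pv Λ δ p)), ∀ f ∈ FF H d, f ≠ 0 → φ d = f u) ∧
      φ (ζ 1) = 0 := by
    refine s.ind ⟨0, fun d _ f _ _ => by rw [map_zero]; rfl, rfl⟩ ?_ ?_ ?_
    · rintro u v ⟨φ, h1, h2⟩ ⟨ψ, h3, h4⟩
      exact ⟨φ + ψ, fun d hd f hf hn => by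
        rw [AddMonoidHom.add_apply, h1 d hd f hf hn, h3 d hd f hf hn, map_add], by
        rw [AddMonoidHom.add_apply, h2, h4, add_zero]⟩
    · intro e he
      obtain ⟨φ, hφ, hn⟩ := s.ex_ne he
      refine ⟨φ, fun d hd f hf hfn => ?_, s.one he hφ⟩
      rcases z2 (φ d) with h1 | h1 <;> rcases z2 (f e) with h2 | h2
      · rw [h1, h2]
      · obtain ⟨g, hg, hg1⟩ := S.sym hd he ⟨f, hf, h2⟩
        have h3 : g ≠ 0 := by rintro rfl; exact absurd hg1 (by simp)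
        rw [s.uniq' he hg hφ h3 hn, h1] at hg1
        exact absurd hg1 (by decide)
      · obtain ⟨g, hg, hg1⟩ := S.sym he hd ⟨φ, hφ, h1⟩
        have h3 : g ≠ 0 := by rintro rfl; exact absurd hg1 (by simp)
        rw [s.uniq' hd hg hf h3 hfn, h2] at hg1
        exact absurd hg1 (by decide)
      · rw [h1, h2]
    · exact ⟨0, fun d hd f hf hn => by rw [s.one hd hf]; rfl, rfl⟩
  choose φ hφ1 hφ2 using ex
  have un : ∀ u ψ, (∀ d ∈ KK H (ζ (pv Λ δ p)), ∀ f ∈ FF H d, f ≠ 0 → ψ d = f u) →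
      ψ (ζ 1) = 0 → φ u = ψ := by
    intro u ψ h1 h2
    have h3 : φ u + ψ = 0 := by
      refine s.sep (fun d hd => ?_) ?_
      · obtain ⟨f, hf, hn⟩ := s.ex_ne hd
        rw [AddMonoidHom.add_apply, hφ1 u d hd f hf hn, h1 d hd f hf hn, z2_add]
      · rw [AddMonoidHom.add_apply, hφ2, h2, add_zero]
    ext v
    have e4 := DFunLike.congr_fun h3 v
    rw [AddMonoidHom.add_apply, AddMonoidHom.zero_apply] at e4
    rcases z2 (φ u v) with h1 | h1 <;> rcases z2 (ψ v) with h2 | h2 <;>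
      rw [h1, h2] at e4 ⊢ <;> exact absurd e4 (by decide)
  have hadd : ∀ u v, φ (u + v) = φ u + φ v := fun u v => un _ _
    (fun d hd f hf hn => by
      rw [AddMonoidHom.add_apply, hφ1 u d hd f hf hn, hφ1 v d hd f hf hn, map_add])
    (by rw [AddMonoidHom.add_apply, hφ2, hφ2, add_zero])
  have hmem : ∀ d ∈ KK H (ζ (pv Λ δ p)), φ d ∈ FF H d ∧ φ d ≠ 0 := by
    intro e he
    obtain ⟨ψ, hψ, hn⟩ := s.ex_ne he
    have : φ e = ψ := by
      refine un _ _ (fun d hd f hf hfn => ?_) (s.one he hψ)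
      rcases z2 (ψ d) with h1 | h1 <;> rcases z2 (f e) with h2 | h2
      · rw [h1, h2]
      · obtain ⟨g, hg, hg1⟩ := S.sym hd he ⟨f, hf, h2⟩
        have h3 : g ≠ 0 := by rintro rfl; exact absurd hg1 (by simp)
        rw [s.uniq' he hg hψ h3 hn, h1] at hg1
        exact absurd hg1 (by decide)
      · obtain ⟨g, hg, hg1⟩ := S.sym he hd ⟨ψ, hψ, h1⟩
        have h3 : g ≠ 0 := by rintro rfl; exact absurd hg1 (by simp)
        rw [s.uniq' hd hg hf h3 hfn, h2] at hg1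
        exact absurd hg1 (by decide)
      · rw [h1, h2]
    rw [this]
    exact ⟨hψ, hn⟩
  have hz : φ (ζ 1) = 0 := un _ _ (fun d hd f hf _ => by rw [s.one hd hf]; rfl) rfl
  let B : U →+ U →+ ZMod 2 := AddMonoidHom.mk' φ hadd
  have Bv : ∀ u, B u = φ u := fun u => rfl
  have B0 : B 0 = 0 := map_zero B
  have hsymK : ∀ u, ∀ d ∈ KK H (ζ (pv Λ δ p)), B u d = B d u := fun u d hd =>
    hφ1 u d hd _ (hmem d hd).1 (hmem d hd).2
  have hB1 : ∀ u, B u (ζ 1) = 0 := hφ2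
  have hB1' : B (ζ 1) = 0 := hz
  have hsym : ∀ v u, B u v = B v u := by
    refine s.ind (fun u => ?_) ?_ (fun d hd u => hsymK u d hd) (fun u => ?_)
    · rw [map_zero, B0]; rfl
    · intro u v h1 h2 w
      rw [map_add, map_add, AddMonoidHom.add_apply, h1, h2]
    · rw [hB1, hB1']; rfl
  refine ⟨B, fun d hd => (hmem d hd).1, fun d hd => (hmem d hd).2, fun u v => hsym v u, ?_, ?_, ?_⟩
  · refine s.ind ?_ ?_ ?_ ?_
    · rw [map_zero]
    · intro u v h1 h2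
      rw [map_add, map_add, AddMonoidHom.add_apply, AddMonoidHom.add_apply, h1, h2, hsym u v,
        zero_add, add_zero, z2_add]
    · intro d hd
      exact (hmem d hd).1.1
    · exact hB1 _
  · intro h hh
    have : ∀ v u, B (h u) (h v) = B u v := by
      refine s.ind (fun u => ?_) ?_ (fun d hd u => ?_) (fun u => ?_)
      · rw [map_zero, map_zero, map_zero]
      · intro u v h1 h2 w
        rw [map_add, map_add, map_add, h1, h2]
      · rw [hsym (h d) (h u), hsym d u]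
        have e1 : cj h (B d) = B (h d) := by
          refine s.uniq' (s.kk_mv hd hh) (s.ff_cj (hmem d hd).1 hh) (hmem _ (s.kk_mv hd hh)).1
            (fun h0 => (hmem d hd).2 (Dat.cj_inj h (h0.trans (by ext u; rfl))))
            (hmem _ (s.kk_mv hd hh)).2
        rw [← e1, cj_app']
      · rw [s.fix h hh, hB1, hB1]
    exact fun u v => this v u
  · intro x y
    have h1 : bt ζ (B (ζ x)) = 0 := by
      refine s.sp (fun σ => ?_) (hB1 _)
      rw [hsymK _ _ (s.ss σ)]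
      exact s.claim1' σ _ (hmem _ (s.ss σ)).1 x
    rw [f_zeta, h1, zero_dt]

end Sit

end Cfsg.Agent.Omega.NSix.TL
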