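import Cfsg.Agent.Mrg.Omega.NSix.TvEnd
import Cfsg.Agent.Mrg.Omega.NSix.Zero
import Cfsg.Agent.Mrg.Omega.IId.ThmJFull


/-!
# OMEGA N6, #16862 (helper556) / #16318 (helper324) (2): TV inside a group  (helper537)

* `chain_of` : `O₂(X / C_X(N)) = 1` for `N = ⟨z^X⟩`, `z` centralised by a Sylow 2-subgroup of `X`;
* `eq_of_tv` : `V ≤ U` the even-subset module of `P ≤ X`, `U = ⟨r^X⟩` elementary abelian (`TV.GSys`), `t ∈ X` a
  transvection of `U` with centre `r = r_ij`, acting on `V` as `(i j)`, `z_0` not conjugate to `r` in `X`,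
  `C_U(S) ≤ V` for a 2-subgroup `S` of `P`: then `U = V`.
-/

set_option autoImplicit false

namespace Cfsg.Agent.Omega.NSix.TvGroup

open Subgroup Cfsg
open Cfsg.Agent.Omega.TV
open Cfsg.Agent.Omega.S5.Def
open Cfsg.Agent.Omega.NSix.Base Cfsg.Agent.Omega.NSix.Basic
open Cfsg.Agent.Omega.NSix.TvEnd (pr Dat)
open Cfsg.Agent.Omega.IId.ThmJ (exists_mem_sylow_of_sq)

universe u

variable {G : Type u} [Group G]

/-- `O₂(X / C_X(N)) = 1`. -/
theorem chain_of [Finite G] {X N T : Subgroup G} {z : G} (hsqN : ∀ x ∈ N, x * x = 1)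
    (hnor : ∀ c ∈ X, ∀ n ∈ N, c * n * c⁻¹ ∈ N) (hzN : z ∈ N)
    (hgen : N ≤ closure {x | ∃ c ∈ X, x = c * z * c⁻¹}) (hTX : T ≤ X) (hT : IsPGroup 2 T)
    (hi : ¬ 2 ∣ T.relIndex X) (hTz : ∀ t ∈ T, t * z * t⁻¹ = z) :
    ∀ U : Subgroup G, U ≤ N → (∀ c ∈ X, ∀ u ∈ U, c * u * c⁻¹ ∈ U) →
      ∀ c ∈ X, (∀ u ∈ U, c * u * c⁻¹ = u) → (∀ n ∈ N, c * n * c⁻¹ * n⁻¹ ∈ U) →
        ∀ n ∈ N, c * n * c⁻¹ = n := by
  have : Fact (Nat.Prime 2) := ⟨Nat.prime_two⟩
  intro U hUN hU c hc hcU hcN n hn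
  -- the kernel of the action and the stabilizer of the chain, inside `X`
  let F : Subgroup X :=
    { carrier := {c | ∀ n ∈ N, (c : G) * n * (c : G)⁻¹ = n}
      one_mem' := fun n _ => by simp
      mul_mem' := by
        intro a b ha hb n hn
        have e : ((a * b : X) : G) * n * ((a * b : X) : G)⁻¹
            = (a : G) * ((b : G) * n * (b : G)⁻¹) * (a : G)⁻¹ := by
          rw [Subgroup.coe_mul]; group
        rw [e, hb n hn, ha n hn]
      inv_mem' := by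
        intro a ha n hn
        have e : ((a⁻¹ : X) : G) * n * ((a⁻¹ : X) : G)⁻¹
            = (a : G)⁻¹ * n * (a : G) := by
          rw [Subgroup.coe_inv]; group
        rw [e]
        nth_rewrite 1 [← ha n hn]
        group }
  let K : Subgroup X :=
    { carrier := {c | (∀ u ∈ U, (c : G) * u * (c : G)⁻¹ = u) ∧
        ∀ n ∈ N, (c : G) * n * (c : G)⁻¹ * n⁻¹ ∈ U}
      one_mem' := ⟨fun u _ => by simp, fun n _ => by simp⟩
      mul_mem' := by
        rintro a b ⟨ha, ha'⟩ ⟨hb, hb'⟩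
        refine ⟨fun u hu => ?_, fun n hn => ?_⟩
        · have e : ((a * b : X) : G) * u * ((a * b : X) : G)⁻¹
              = (a : G) * ((b : G) * u * (b : G)⁻¹) * (a : G)⁻¹ := by
            rw [Subgroup.coe_mul]; group
          rw [e, hb u hu, ha u hu]
        · have h1 := hb' n hn
          have h2 := ha' n hn
          have e : ((a * b : X) : G) * n * ((a * b : X) : G)⁻¹ * n⁻¹
              = (a : G) * ((b : G) * n * (b : G)⁻¹ * n⁻¹) * (a : G)⁻¹ *
                ((a : G) * n * (a : G)⁻¹ * n⁻¹) := by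
            rw [Subgroup.coe_mul]; group
          rw [e]
          exact mul_mem (hU a a.2 _ h1) h2
      inv_mem' := by
        rintro a ⟨ha, ha'⟩
        have hinv : ∀ u ∈ U, (a : G)⁻¹ * u * (a : G) = u := by
          intro u hu
          nth_rewrite 1 [← ha u hu]
          group
        refine ⟨fun u hu => ?_, fun n hn => ?_⟩
        · have e : ((a⁻¹ : X) : G) * u * ((a⁻¹ : X) : G)⁻¹
              = (a : G)⁻¹ * u * (a : G) := by
            rw [Subgroup.coe_inv]; group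
          rw [e, hinv u hu]
        · have h1 := ha' n hn
          have e : ((a⁻¹ : X) : G) * n * ((a⁻¹ : X) : G)⁻¹ * n⁻¹
              = (a : G)⁻¹ * ((a : G) * n * (a : G)⁻¹ * n⁻¹)⁻¹ * (a : G) := by
            rw [Subgroup.coe_inv]; group
          rw [e, hinv _ (inv_mem h1)]
          exact inv_mem h1 }
  have hFn : F.Normal := by
    constructor
    intro a ha g n hn
    have hn' : (g : G)⁻¹ * n * (g : G) ∈ N := by
      have := hnor _ (inv_mem g.2) n hn
      simpa using this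
    have e : ((g * a * g⁻¹ : X) : G) * n * ((g * a * g⁻¹ : X) : G)⁻¹
        = (g : G) * ((a : G) * ((g : G)⁻¹ * n * (g : G)) * (a : G)⁻¹) * (g : G)⁻¹ := by
      simp only [Subgroup.coe_mul, Subgroup.coe_inv]; group
    rw [e, ha _ hn']
    group
  have hKn : K.Normal := by
    constructor
    rintro a ⟨ha, ha'⟩ g
    refine ⟨fun u hu => ?_, fun n hn => ?_⟩
    · have hu' : (g : G)⁻¹ * u * (g : G) ∈ U := by
        have := hU _ (inv_mem g.2) u hu
        simpa using this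
      have e : ((g * a * g⁻¹ : X) : G) * u * ((g * a * g⁻¹ : X) : G)⁻¹
          = (g : G) * ((a : G) * ((g : G)⁻¹ * u * (g : G)) * (a : G)⁻¹) * (g : G)⁻¹ := by
        simp only [Subgroup.coe_mul, Subgroup.coe_inv]; group
      rw [e, ha _ hu']
      group
    · have hn' : (g : G)⁻¹ * n * (g : G) ∈ N := by
        have := hnor _ (inv_mem g.2) n hn
        simpa using this
      have h1 := hU g g.2 _ (ha' _ hn')
      have e : ((g * a * g⁻¹ : X) : G) * n * ((g * a * g⁻¹ : X) : G)⁻¹ * n⁻¹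
          = (g : G) * ((a : G) * ((g : G)⁻¹ * n * (g : G)) * (a : G)⁻¹ *
            ((g : G)⁻¹ * n * (g : G))⁻¹) * (g : G)⁻¹ := by
        simp only [Subgroup.coe_mul, Subgroup.coe_inv]; group
      rw [e]
      exact h1
  have hsqK : ∀ k ∈ K, k * k ∈ F := by
    rintro k ⟨hk, hk'⟩ n hn
    have h1 := hk' n hn
    have h2 := hsqN _ (hUN h1)
    have e1 : (k : G) * n * (k : G)⁻¹ = (k : G) * n * (k : G)⁻¹ * n⁻¹ * n := by group
    have e2 : ((k * k : X) : G) * n * ((k * k : X) : G)⁻¹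
        = (k : G) * ((k : G) * n * (k : G)⁻¹) * (k : G)⁻¹ := by
      rw [Subgroup.coe_mul]; group
    rw [e2, e1]
    have e3 : (k : G) * ((k : G) * n * (k : G)⁻¹ * n⁻¹ * n) * (k : G)⁻¹
        = (k : G) * ((k : G) * n * (k : G)⁻¹ * n⁻¹) * (k : G)⁻¹ *
          ((k : G) * n * (k : G)⁻¹ * n⁻¹) * n := by group
    rw [e3, hk _ h1, h2, one_mul]
  have hTS : IsPGroup 2 (T.subgroupOf X) := hT.of_equiv (subgroupOfEquivOfLe hTX).symm
  -- `K` centralizes `z`
  have hKq : ∀ k ∈ K, (k : G) * z * (k : G)⁻¹ = z := by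
    intro k hk
    obtain ⟨t, ht, hf⟩ := exists_mem_sylow_of_sq (hTS.toSylow hi) hKn hFn hsqK hk
    have ht' : (t : G) ∈ T := ht
    have htq := hTz _ ht'
    have h1 := hf z hzN
    have e : (k : G) * z * (k : G)⁻¹
        = (t : G) * (((t⁻¹ * k : X) : G) * z * ((t⁻¹ * k : X) : G)⁻¹) * (t : G)⁻¹ := by
      simp only [Subgroup.coe_mul, Subgroup.coe_inv]; group
    rw [e, h1, htq]
  -- hence all conjugates of `z`, hence `N`
  have hKall : ∀ x ∈ closure {x | ∃ c ∈ X, x = c * z * c⁻¹}, ∀ k ∈ K,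
      (k : G) * x * (k : G)⁻¹ = x := by
    intro x hx
    induction hx using closure_induction with
    | mem x hx =>
      obtain ⟨d, hd, rfl⟩ := hx
      intro k hk
      have h1 := hKq _ (hKn.conj_mem k hk (⟨d, hd⟩⁻¹ : X))
      have e : (k : G) * (d * z * d⁻¹) * (k : G)⁻¹
          = d * ((((⟨d, hd⟩⁻¹ * k * ((⟨d, hd⟩ : X)⁻¹)⁻¹ : X)) : G) * z *
            (((⟨d, hd⟩⁻¹ * k * ((⟨d, hd⟩ : X)⁻¹)⁻¹ : X)) : G)⁻¹) * d⁻¹ := by
        simp only [Subgroup.coe_mul, Subgroup.coe_inv]; group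
      rw [e, h1]
    | one => intro k _; simp
    | mul x y _ _ hx hy =>
      intro k hk
      have e : (k : G) * (x * y) * (k : G)⁻¹
          = (k : G) * x * (k : G)⁻¹ * ((k : G) * y * (k : G)⁻¹) := by group
      rw [e, hx k hk, hy k hk]
    | inv x _ hx =>
      intro k hk
      have e : (k : G) * x⁻¹ * (k : G)⁻¹ = ((k : G) * x * (k : G)⁻¹)⁻¹ := by group
      rw [e, hx k hk]
  exact hKall n (hgen hn) ⟨c, hc⟩ ⟨hcU, hcN⟩

/-- **TV in the group.** -/
theorem eq_of_tv [Finite G] {n : ℕ} [NeZero n] (hn : Odd n) (hn3 : 3 ≤ n) {V P X U : Subgroup G}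
    {ε : (Fin n → ZMod 2) → G} (ev : EvenSet n V P ε) (hPX : P ≤ X) (hVU : V ≤ U) {i₀ j₀ : Fin n}
    (hij : i₀ ≠ j₀) (gs : GSys X U (rr ε i₀ j₀)) {t : G} (ht : t ∈ X)
    (htU : ∀ u ∈ U, t * u * t⁻¹ = u ∨ t * u * t⁻¹ = u * rr ε i₀ j₀)
    (htV : Acts ε t (Equiv.swap i₀ j₀)) (hz : ¬ ∃ c ∈ X, zz ε 0 = c * rr ε i₀ j₀ * c⁻¹)
    {S : Subgroup G} (hS2 : IsPGroup 2 S) (hSP : S ≤ P)
    (hfix : ∀ u ∈ U, (∀ s ∈ S, s * u * s⁻¹ = u) → u ∈ V) : U ≤ V := by
  classical
  let e' : (Fin n → ZMod 2) →+ EA U gs.sq :=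
    { toFun := fun x => EA.mk gs.sq (ε x) (hVU (ev.mem x))
      map_zero' := EA.ext (by rw [EA.val_mk, EA.val_zero]; exact ev.zero)
      map_add' := fun x y => EA.ext (by rw [EA.val_add, EA.val_mk, EA.val_mk, EA.val_mk]; exact ev.add x y) }
  let e : (Fin n → ZMod 2) →ₗ[ZMod 2] EA U gs.sq := AddMonoidHom.toZModLinearMap 2 e'
  have he : ∀ x, (e x).val = ε x := fun x => rfl
  have hrr : ∀ i j, ε (pr i j) = rr ε i j := fun i j => ev.add _ _
  have hone : e 1 = 0 := EA.ext (by rw [he, EA.val_zero]; exact (ev.ker 1).2 (Or.inr rfl))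
  have hne : ∃ u ∈ U, t * u * t⁻¹ ≠ u := by
    refine ⟨zz ε i₀, hVU (zz_mem ev i₀), fun h1 => ?_⟩
    have h2 := zz_conj htV i₀
    rw [h1, Equiv.swap_apply_left] at h2
    exact hij (ev.single_inj hn3 h2)
  have sys := gs.toSys ht htU hne
  obtain ⟨φ₀, hφ₀, hfn₀⟩ := gs.exists_fn gs.mem gs.ne ht htU
  have hr0 : EA.mk gs.sq (rr ε i₀ j₀) gs.mem ≠ 0 := fun h0 => gs.ne (EA.val_eq_one.2 h0)
  have her : e (pr i₀ j₀) = EA.mk gs.sq (rr ε i₀ j₀) gs.mem := EA.ext (by
    rw [he, EA.val_mk]; exact hrr _ _)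
  -- the functional of `t` on `V`
  have hφV : ∀ x, φ₀ (e x) = x i₀ + x j₀ := by
    intro x
    have h1 := hφ₀ (e x)
    have h2 : gs.rep ⟨t, ht⟩ (e x) = e (x ∘ (Equiv.swap i₀ j₀).symm) := EA.ext (by
      rw [gs.val_rep, he, he]; exact htV x)
    have h3 : x ∘ (Equiv.swap i₀ j₀).symm = x + (x i₀ + x j₀) • pr i₀ j₀ := by
      funext k
      rw [Function.comp_apply, Equiv.symm_swap, Pi.add_apply, Pi.smul_apply, TvEnd.pr_apply, smul_eq_mul]
      by_cases c1 : k = i₀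
      · rw [c1, Equiv.swap_apply_left, if_pos rfl, if_neg hij, add_zero, mul_one, ← add_assoc,
          z2_add_self, zero_add]
      by_cases c2 : k = j₀
      · rw [c2, Equiv.swap_apply_right, if_neg hij.symm, if_pos rfl, zero_add, mul_one, add_comm (x i₀),
          ← add_assoc, z2_add_self, zero_add]
      · rw [Equiv.swap_apply_of_ne_of_ne c1 c2, if_neg c1, if_neg c2, add_zero, mul_zero, add_zero]
    rw [h2, h3, map_add, map_smul, her] at h1
    have h4 := add_left_cancel h1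
    rcases z2 (φ₀ (e x)) with a | a <;> rcases z2 (x i₀ + x j₀) with b | b
    · rw [a, b]
    · rw [a, b, one_smul, zero_smul] at h4; exact absurd h4 hr0
    · rw [a, b, one_smul, zero_smul] at h4; exact absurd h4.symm hr0
    · rw [a, b]
  have hexp : ∀ i j, i ≠ j → ∃ (g : G) (_ : g ∈ P) (σ : Equiv.Perm (Fin n)), Acts ε g σ ∧ σ i₀ = i ∧
      σ j₀ = j := by
    intro i j hij'
    obtain ⟨σ, h1, h2, -⟩ := exists_perm hij hij'
    obtain ⟨g, hg, hσ⟩ := ev.full σ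
    exact ⟨g, hg, σ, hσ, h1, h2⟩
  have dat : Dat gs.rep gs.pts e := by
    refine ⟨sys, hone, fun i j hij' => ?_, fun i j hij' => ?_⟩
    · obtain ⟨g, hg, σ, hσ, h1, h2⟩ := hexp i j hij'
      refine ⟨g, hPX hg, ?_⟩
      rw [he, hrr, ← h1, ← h2, rr_conj hσ]
    · obtain ⟨g, hg, σ, hσ, h1, h2⟩ := hexp i j hij'
      have h3 := hfn₀.conj (⟨g, hPX hg⟩ : X)
      have h4 : gs.rep ⟨g, hPX hg⟩ (EA.mk gs.sq (rr ε i₀ j₀) gs.mem) = e (pr i j) := EA.ext (by
        rw [gs.val_rep, he, hrr, ← h1, ← h2, ← rr_conj hσ, EA.val_mk])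
      rw [h4] at h3
      refine ⟨_, h3, fun x => ?_⟩
      have h5 : gs.rep (⟨g, hPX hg⟩ : X)⁻¹ (e x) = e (x ∘ σ) := EA.ext (by
        rw [gs.val_rep, he, he]
        have h6 := hσ.inv x
        exact h6)
      rw [LinearMap.comp_apply]
      change φ₀ (gs.rep (⟨g, hPX hg⟩ : X)⁻¹ (e x)) = _
      rw [h5, hφV, Function.comp_apply, Function.comp_apply, h1, h2]
  rcases sys.small_or_big with hs | hb
  · intro u hu
    have hA : ∀ u : EA U gs.sq, (∀ s ∈ S.subgroupOf X, gs.rep s u = u) → ∃ x, e x = u := by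
      intro u hu
      have h1 : u.val ∈ V := hfix u.val u.val_mem (fun s hs => by
        have h2 := congrArg EA.val (hu ⟨s, hPX (hSP hs)⟩ (mem_subgroupOf.2 hs))
        rwa [gs.val_rep] at h2)
      obtain ⟨x, hx⟩ := ev.surj _ h1
      exact ⟨x, EA.ext (by rw [he, hx])⟩
    have hB : ∀ s ∈ S.subgroupOf X, ∀ x, ∃ y, gs.rep s (e x) = e y := by
      intro s hs x
      have hs' : (s : G) ∈ S := mem_subgroupOf.1 hs
      obtain ⟨σ, hσ⟩ := ev.perm _ (hSP hs')
      exact ⟨x ∘ σ.symm, EA.ext (by rw [gs.val_rep, he, he]; exact hσ x)⟩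
    obtain ⟨x, hx⟩ := dat.small_mem hn hs (S := S.subgroupOf X)
      (hS2.comap_of_injective X.subtype X.subtype_injective) hA hB (EA.mk gs.sq u hu)
    have h1 := congrArg EA.val hx
    rw [he, EA.val_mk] at h1
    rw [← h1]
    exact ev.mem x
  · exfalso
    apply hz
    have h1 : e (1 + Pi.single 0 1) ∈ gs.pts := by
      refine dat.big_mem hn hb _ _ rfl ?_ ?_
      · simp only [Pi.add_apply, Pi.one_apply, Finset.sum_add_distrib, TvEnd.sum_one hn]
        rw [Finset.sum_pi_single' 0 (1 : ZMod 2) Finset.univ, if_pos (Finset.mem_univ _)]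
        decide
      · intro h0
        have h2 := congrFun h0 ⟨1, by omega⟩
        have h3 : (⟨1, by omega⟩ : Fin n) ≠ 0 := by
          intro h; simp [Fin.ext_iff] at h
        rw [Pi.add_apply, Pi.one_apply, Pi.single_eq_of_ne h3, add_zero, Pi.zero_apply] at h2
        exact one_ne_zero h2
    rw [map_add, hone, zero_add] at h1
    obtain ⟨c, hc, h2⟩ := h1
    exact ⟨c, hc, h2⟩

end Cfsg.Agent.Omega.NSix.TvGroup
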